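import Mathlib

set_option autoImplicit false

/-! Torsion subgroups of finite abelian groups (the first three results follow
`Cfsg.Agent.Lib.Helper70.Abelian`, restated here so that this file stands alone). -/

namespace Cfsg.Agent.Lib.Helper97

open Subgroup

/-- the `n`-torsion subgroup of a commutative group -/
def tors (G : Type*) [CommGroup G] (n : ℕ) : Subgroup G := (powMonoidHom n : G →* G).ker

theorem mem_tors {G : Type*} [CommGroup G] (n : ℕ) (g : G) : g ∈ tors G n ↔ g ^ n = 1 := by
  rw [tors, MonoidHom.mem_ker]; rfl

theorem card_tors_mul_le {G : Type*} [CommGroup G] [Finite G] (p m : ℕ) :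
    Nat.card (tors G (p * m)) ≤ Nat.card (tors G p) * Nat.card (tors G m) := by
  let ψ : tors G (p * m) →* G := (powMonoidHom p).comp (tors G (p * m)).subtype
  have h1 : Nat.card ψ.ker * Nat.card ψ.range = Nat.card (tors G (p * m)) := by
    rw [← Subgroup.index_ker, Subgroup.card_mul_index]
  have h2 : Nat.card ψ.range ≤ Nat.card (tors G m) := by
    apply Subgroup.card_le_of_le
    rintro _ ⟨a, rfl⟩
    rw [mem_tors]
    show ((a : G) ^ p) ^ m = 1
    rw [← pow_mul]
    exact (mem_tors _ _).mp a.2
  have h3 : Nat.card ψ.ker ≤ Nat.card (tors G p) := by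
    let f : ψ.ker → tors G p := fun a => ⟨a.1.1, by
      rw [mem_tors]
      exact MonoidHom.mem_ker.mp a.2⟩
    apply Nat.card_le_card_of_injective f
    intro a b hab
    apply Subtype.ext
    apply Subtype.ext
    exact congrArg (fun t : tors G p => (t : G)) hab
  calc Nat.card (tors G (p * m)) = Nat.card ψ.ker * Nat.card ψ.range := h1.symm
    _ ≤ Nat.card (tors G p) * Nat.card (tors G m) := Nat.mul_le_mul h3 h2

/-- A finite abelian group all of whose `p`-torsion subgroups (p prime) have at most `p`
elements is cyclic. -/
theorem isCyclic_of_card_tors_prime_le {G : Type*} [CommGroup G] [Finite G]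
    (h : ∀ p : ℕ, p.Prime → Nat.card (tors G p) ≤ p) : IsCyclic G := by
  have key : ∀ n : ℕ, 0 < n → Nat.card (tors G n) ≤ n := by
    intro n
    induction n using Nat.strong_induction_on with
    | _ n ih =>
      intro hn
      rcases Nat.lt_or_ge 1 n with h1 | h1
      · set p := n.minFac with hp
        have hpp : p.Prime := Nat.minFac_prime (by omega)
        obtain ⟨m, hm⟩ := Nat.minFac_dvd n
        rw [← hp] at hm
        have hm0 : 0 < m := by
          rcases Nat.eq_zero_or_pos m with h0 | h0
          · rw [h0] at hm; omega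
          · exact h0
        have hmn : m < n := by
          rw [hm]
          have := hpp.two_le
          nlinarith
        calc Nat.card (tors G n) = Nat.card (tors G (p * m)) := by rw [← hm]
          _ ≤ Nat.card (tors G p) * Nat.card (tors G m) := card_tors_mul_le p m
          _ ≤ p * m := Nat.mul_le_mul (h p hpp) (ih m hmn hm0)
          _ = n := hm.symm
      · have : n = 1 := by omega
        subst this
        have : tors G 1 = ⊥ := by
          rw [eq_bot_iff]
          intro g hg
          rw [mem_tors, pow_one] at hg
          rw [Subgroup.mem_bot]; exact hg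
        rw [this]
        simp
  cases nonempty_fintype G
  classical
  apply isCyclic_of_card_pow_eq_one_le
  intro n hn
  have := key n hn
  rw [Nat.card_eq_fintype_card] at this
  convert this using 1
  rw [Fintype.card_subtype]
  congr 1

/-- A finite commutative non-cyclic `p`-group has more than `p` elements of order dividing `p`. -/
theorem lt_card_tors_of_not_isCyclic {G : Type*} [CommGroup G] [Finite G] {p : ℕ}
    [hp : Fact p.Prime] (hG : IsPGroup p G) (h : ¬ IsCyclic G) : p < Nat.card (tors G p) := by
  by_contra hcon
  push Not at hcon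
  apply h
  apply isCyclic_of_card_tors_prime_le
  intro q hq
  by_cases hqp : q = p
  · rw [hqp]; exact hcon
  · have hbot : tors G q = ⊥ := by
      rw [eq_bot_iff]
      intro g hg
      rw [mem_tors] at hg
      rw [Subgroup.mem_bot]
      obtain ⟨k, hk⟩ := hG g
      have h1 : orderOf g ∣ q := orderOf_dvd_of_pow_eq_one hg
      have h2 : orderOf g ∣ p ^ k := orderOf_dvd_of_pow_eq_one hk
      have hcop : Nat.Coprime q (p ^ k) :=
        Nat.Coprime.pow_right k ((Nat.coprime_primes hq hp.out).mpr hqp)
      have : orderOf g = 1 := Nat.eq_one_of_dvd_coprimes hcop h1 h2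
      exact orderOf_eq_one_iff.mp this
    rw [hbot]
    simp only [Subgroup.card_bot]
    exact hq.one_lt.le

/-- A finite non-cyclic `p`-group in which all elements commute has a subgroup of order `p ^ 2`
and exponent `p`. -/
theorem exists_exp_p_sq_of_comm {R : Type*} [Group R] [Finite R] {p : ℕ} [hp : Fact p.Prime]
    (hR : IsPGroup p R) (hcomm : ∀ a b : R, a * b = b * a) (hnc : ¬ IsCyclic R) :
    ∃ A : Subgroup R, (∀ a ∈ A, a ^ p = 1) ∧ Nat.card A = p ^ 2 := by
  letI : CommGroup R := { ‹Group R› with mul_comm := hcomm }
  have hlt : p < Nat.card (tors R p) := lt_card_tors_of_not_isCyclic hR hnc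
  have hΩp : IsPGroup p (tors R p) := hR.to_subgroup _
  obtain ⟨k, hk⟩ := IsPGroup.iff_card.mp hΩp
  have hk2 : 2 ≤ k := by
    by_contra hk2
    push Not at hk2
    have : p ^ k ≤ p ^ 1 := Nat.pow_le_pow_right hp.out.pos (by omega)
    rw [pow_one] at this
    omega
  have hdvd : p ^ 2 ∣ Nat.card (tors R p) := by
    rw [hk]; exact pow_dvd_pow p hk2
  obtain ⟨K, hK⟩ := Sylow.exists_subgroup_card_pow_prime p hdvd
  refine ⟨K.map (tors R p).subtype, ?_, ?_⟩
  · rintro _ ⟨a, -, rfl⟩
    exact (mem_tors p _).mp a.2
  · rw [Subgroup.card_map_of_injective (Subgroup.subtype_injective _)]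
    exact hK

end Cfsg.Agent.Lib.Helper97
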