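import Mathlib
import Cfsg.Agent.Lib.Helper97.AbelianTors

set_option autoImplicit false

/-! A non-cyclic `p`-group, `p` odd, has a normal subgroup of order `p ^ 2` and exponent `p`. -/

namespace Cfsg.Agent.Lib.Helper97

open scoped commutatorElement

section ClassTwo

variable {G : Type*} [Group G]

/-- If `z = ⁅v, u⁆` commutes with `v` then `v ^ n * u = z ^ n * u * v ^ n`. -/
theorem pow_mul_comm_of_central' (u v : G)
    (hzv : Commute ⁅v, u⁆ v) (n : ℕ) :
    v ^ n * u = ⁅v, u⁆ ^ n * u * v ^ n := by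
  induction n with
  | zero => simp
  | succ n ih =>
    have h1 : v * u = ⁅v, u⁆ * u * v := by simp [commutatorElement_def]
    calc v ^ (n + 1) * u = v ^ n * (v * u) := by rw [pow_succ, mul_assoc]
      _ = v ^ n * (⁅v, u⁆ * u * v) := by rw [h1]
      _ = ⁅v, u⁆ * (v ^ n * u) * v := by
        rw [mul_assoc ⁅v, u⁆ u v, ← mul_assoc (v ^ n), ← (hzv.pow_right n).eq]
        group
      _ = ⁅v, u⁆ * (⁅v, u⁆ ^ n * u * v ^ n) * v := by rw [ih]
      _ = ⁅v, u⁆ ^ (n + 1) * u * v ^ (n + 1) := by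
        rw [pow_succ' ⁅v, u⁆, pow_succ v]
        group

theorem mul_pow_aux_rearrange' (u v z : G) (n k : ℕ) (hzu : Commute z u)
    (hzv : Commute z v) :
    u ^ n * (z ^ n * u * v ^ n) * v * z ^ k = u ^ (n + 1) * v ^ (n + 1) * z ^ (k + n) := by
  have e3 : u ^ n * z ^ n = z ^ n * u ^ n := ((hzu.pow_left n).pow_right n).eq.symm
  have e5 : Commute (z ^ n) (u ^ (n + 1) * v ^ (n + 1)) :=
    ((hzu.pow_left n).pow_right _).mul_right ((hzv.pow_left n).pow_right _)
  calc u ^ n * (z ^ n * u * v ^ n) * v * z ^ k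
      = (u ^ n * z ^ n) * u * v ^ n * v * z ^ k := by group
    _ = z ^ n * u ^ n * u * v ^ n * v * z ^ k := by rw [e3]
    _ = z ^ n * (u ^ (n + 1) * v ^ (n + 1)) * z ^ k := by rw [pow_succ u, pow_succ v]; group
    _ = u ^ (n + 1) * v ^ (n + 1) * z ^ n * z ^ k := by rw [e5.eq]
    _ = u ^ (n + 1) * v ^ (n + 1) * z ^ (k + n) := by rw [mul_assoc, ← pow_add, add_comm n k]

/-- In class 2: `(u v)^n = u^n v^n ⁅v,u⁆^(n(n-1)/2)`. -/
theorem mul_pow_of_central' (u v : G)
    (hzu : Commute ⁅v, u⁆ u) (hzv : Commute ⁅v, u⁆ v) (n : ℕ) :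
    (u * v) ^ n = u ^ n * v ^ n * ⁅v, u⁆ ^ (n * (n - 1) / 2) := by
  induction n with
  | zero => simp
  | succ n ih =>
    have h1 := pow_mul_comm_of_central' u v hzv n
    have hz1 : ∀ k : ℕ, Commute (⁅v, u⁆ ^ k) u := fun k => hzu.pow_left k
    have hz2 : ∀ k : ℕ, Commute (⁅v, u⁆ ^ k) v := fun k => hzv.pow_left k
    have htri : (n + 1) * (n + 1 - 1) / 2 = n * (n - 1) / 2 + n := Nat.triangle_succ n
    rw [htri, pow_succ, ih]
    calc u ^ n * v ^ n * ⁅v, u⁆ ^ (n * (n - 1) / 2) * (u * v)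
        = u ^ n * (v ^ n * u) * v * ⁅v, u⁆ ^ (n * (n - 1) / 2) := by
          have e1 := (hz1 (n * (n - 1) / 2)).eq
          have e2 := (hz2 (n * (n - 1) / 2)).eq
          rw [mul_assoc (u ^ n * v ^ n), ← mul_assoc (⁅v, u⁆ ^ (n * (n - 1) / 2)) u v, e1,
            mul_assoc u, e2]
          group
      _ = u ^ n * (⁅v, u⁆ ^ n * u * v ^ n) * v * ⁅v, u⁆ ^ (n * (n - 1) / 2) := by rw [h1]
      _ = u ^ (n + 1) * v ^ (n + 1) * ⁅v, u⁆ ^ (n * (n - 1) / 2 + n) :=
          mul_pow_aux_rearrange' u v ⁅v, u⁆ n _ hzu hzv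

/-- For `p` odd, in class 2 with `⁅v,u⁆^p = 1`: `(u v)^p = u^p v^p`. -/
theorem mul_pow_prime_of_central' (u v : G) (p : ℕ) (hodd : Odd p)
    (hzu : Commute ⁅v, u⁆ u) (hzv : Commute ⁅v, u⁆ v) (hz : ⁅v, u⁆ ^ p = 1) :
    (u * v) ^ p = u ^ p * v ^ p := by
  rw [mul_pow_of_central' u v hzu hzv p]
  obtain ⟨k, hk⟩ := hodd
  have : p * (p - 1) / 2 = p * k := by
    have : p - 1 = 2 * k := by omega
    rw [this, ← mul_assoc, mul_comm p 2, mul_assoc, Nat.mul_div_cancel_left _ (by norm_num)]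
  rw [this, pow_mul, hz, one_pow, mul_one]

end ClassTwo

/-- A nontrivial normal subgroup of a finite `p`-group contains a central element of order `p`. -/
theorem exists_central_orderOf_eq_prime {G : Type*} [Group G] [Finite G] {p : ℕ}
    [hp : Fact p.Prime] (hG : IsPGroup p G) (N : Subgroup G) [N.Normal] (hN : N ≠ ⊥) :
    ∃ z : G, z ∈ N ∧ z ∈ Subgroup.center G ∧ orderOf z = p := by
  have hNp : IsPGroup p N := hG.to_subgroup N
  have hNnt : Nontrivial N := (Subgroup.nontrivial_iff_ne_bot N).mpr hN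
  have dvd : p ∣ Nat.card N := by
    obtain ⟨n, hn0, hn⟩ := hNp.nontrivial_iff_card.mp hNnt
    exact hn.symm ▸ dvd_pow_self _ (ne_of_gt hn0)
  have h1 : (1 : N) ∈ MulAction.fixedPoints (ConjAct G) N := by
    intro g
    exact smul_one g
  obtain ⟨b, hb, hb1⟩ :=
    (hG.of_equiv ConjAct.toConjAct).exists_fixed_point_of_prime_dvd_card_of_fixed_point N dvd h1
  have hbc : (b : G) ∈ Subgroup.center G := by
    rw [Subgroup.mem_center_iff]
    intro g
    have := hb (ConjAct.toConjAct g)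
    have h2 := congrArg Subtype.val this
    rw [ConjAct.Subgroup.val_conj_smul, ConjAct.toConjAct_smul] at h2
    calc g * b = g * b * g⁻¹ * g := by group
      _ = b * g := by rw [h2]
  have hb1' : (b : G) ≠ 1 := by
    intro h
    apply hb1
    ext
    simpa using h.symm
  -- a suitable power of `b` has order `p`
  obtain ⟨k, hk⟩ := (IsPGroup.iff_orderOf.mp hG) (b : G)
  have hk0 : k ≠ 0 := by
    intro h0
    rw [h0, pow_zero, orderOf_eq_one_iff] at hk
    exact hb1' hk
  obtain ⟨j, rfl⟩ := Nat.exists_eq_succ_of_ne_zero hk0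
  refine ⟨(b : G) ^ (p ^ j), N.pow_mem b.2 _, Subgroup.pow_mem _ hbc _, ?_⟩
  have hdvd : p ^ j ∣ orderOf (b : G) := by rw [hk]; exact pow_dvd_pow p (Nat.le_succ j)
  rw [orderOf_pow_of_dvd (pow_ne_zero _ hp.out.ne_zero) hdvd, hk, pow_succ,
    Nat.mul_div_cancel_left _ (pow_pos hp.out.pos j)]


/-- card of a preimage under the quotient map -/
theorem card_comap_mk' {R : Type*} [Group R] [Finite R] (Z : Subgroup R) [Z.Normal]
    (H : Subgroup (R ⧸ Z)) :
    Nat.card (H.comap (QuotientGroup.mk' Z)) = Nat.card H * Nat.card Z := by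
  have h1 : (H.comap (QuotientGroup.mk' Z)).index = H.index :=
    Subgroup.index_comap_of_surjective H (QuotientGroup.mk'_surjective Z)
  have h2 := Subgroup.card_mul_index (H.comap (QuotientGroup.mk' Z))
  have h3 := Subgroup.card_mul_index H
  have h4 := Subgroup.card_eq_card_quotient_mul_card_subgroup Z
  have hpos : 0 < H.index := Nat.pos_of_ne_zero Subgroup.index_ne_zero_of_finite
  rw [h1] at h2
  have : Nat.card (H.comap (QuotientGroup.mk' Z)) * H.index
      = (Nat.card H * Nat.card Z) * H.index := by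
    rw [h2, h4, ← h3]; ring
  exact Nat.eq_of_mul_eq_mul_right hpos this

theorem odd_step {R : Type*} [Group R] [Finite R] {p : ℕ} [hp : Fact p.Prime] (hp2 : p ≠ 2)
    (hR : IsPGroup p R) (Z : Subgroup R) [hZn : Z.Normal] (hZc : Z ≤ Subgroup.center R)
    (hZ : Nat.card Z = p) (Nb : Subgroup (R ⧸ Z)) (hNn : Nb.Normal)
    (hNcomm : ∀ a ∈ Nb, ∀ b ∈ Nb, a * b = b * a) (hNexp : ∀ a ∈ Nb, a ^ p = 1)
    (hNcard : Nat.card Nb = p ^ 2) :
    ∃ A : Subgroup R, A.Normal ∧ (∀ a ∈ A, a ^ p = 1) ∧ Nat.card A = p ^ 2 := by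
  classical
  have hodd : Odd p := hp.out.odd_of_ne_two hp2
  set π := QuotientGroup.mk' Z with hπ
  have hπs : Function.Surjective π := QuotientGroup.mk'_surjective Z
  set N : Subgroup R := Nb.comap π with hN
  have hNnorm : N.Normal := hNn.comap π
  have hpowZ : ∀ x ∈ N, x ^ p ∈ Z := by
    intro x hx
    have h1 := hNexp (π x) hx
    rw [← map_pow] at h1
    exact (QuotientGroup.eq_one_iff _).mp h1
  have hcommZ : ∀ x ∈ N, ∀ y ∈ N, ⁅x, y⁆ ∈ Z := by
    intro x hx y hy
    have h1 := hNcomm (π x) hx (π y) hy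
    rw [← QuotientGroup.eq_one_iff]
    show π ⁅x, y⁆ = 1
    rw [map_commutatorElement, commutatorElement_eq_one_iff_mul_comm]
    exact h1
  have hZpow : ∀ z ∈ Z, z ^ p = 1 := by
    intro z hz
    have h1 : (⟨z, hz⟩ : Z) ^ Nat.card Z = 1 := pow_card_eq_one'
    rw [hZ] at h1
    exact congrArg Subtype.val h1
  have hZN : Z ≤ N := by
    intro z hz
    show π z ∈ Nb
    have : π z = 1 := (QuotientGroup.eq_one_iff z).mpr hz
    rw [this]; exact Nb.one_mem
  have hcent : ∀ z ∈ Z, ∀ g : R, Commute z g := by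
    intro z hz g
    exact ((Subgroup.mem_center_iff.mp (hZc hz)) g).symm
  -- the `p`-th power map
  let φ : N →* R := MonoidHom.mk' (fun x => (x : R) ^ p) (by
    intro x y
    simp only [Subgroup.coe_mul]
    have hc := hcommZ y y.2 x x.2
    exact mul_pow_prime_of_central' (x : R) (y : R) p hodd (hcent _ hc _) (hcent _ hc _)
      (hZpow _ hc))
  have hφ : ∀ x : N, φ x = (x : R) ^ p := fun x => rfl
  have hrange : φ.range ≤ Z := by
    rintro _ ⟨x, rfl⟩
    exact hpowZ x x.2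
  set Ω : Subgroup R := φ.ker.map N.subtype with hΩ
  have hΩmem : ∀ x : R, x ∈ Ω ↔ x ∈ N ∧ x ^ p = 1 := by
    intro x
    constructor
    · rintro ⟨y, hy, rfl⟩
      exact ⟨y.2, MonoidHom.mem_ker.mp hy⟩
    · rintro ⟨hx, hx1⟩
      exact ⟨⟨x, hx⟩, MonoidHom.mem_ker.mpr hx1, rfl⟩
  have hΩnorm : Ω.Normal := by
    constructor
    intro x hx g
    rw [hΩmem] at hx ⊢
    refine ⟨hNnorm.conj_mem x hx.1 g, ?_⟩
    rw [conj_pow, hx.2]; group
  have hZΩ : Z ≤ Ω := fun z hz => (hΩmem z).mpr ⟨hZN hz, hZpow z hz⟩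
  have hΩN : Ω ≤ N := fun x hx => ((hΩmem x).mp hx).1
  -- cardinalities
  have hNcard' : Nat.card N = p ^ 2 * p := by
    rw [hN, hπ, card_comap_mk', hNcard, hZ]
  have hΩcard : Nat.card Ω = Nat.card φ.ker :=
    Subgroup.card_map_of_injective (Subgroup.subtype_injective _)
  have hker : Nat.card φ.ker * Nat.card φ.range = Nat.card N := by
    rw [← Subgroup.index_ker, Subgroup.card_mul_index]
  have hrle : Nat.card φ.range ≤ p := hZ ▸ Subgroup.card_le_of_le hrange
  have hppos : 0 < p := hp.out.pos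
  have hΩge : p ^ 2 ≤ Nat.card Ω := by
    rw [hΩcard]
    have h1 : p ^ 2 * p ≤ Nat.card φ.ker * p := by
      rw [← hNcard', ← hker]
      exact Nat.mul_le_mul_left _ hrle
    exact Nat.le_of_mul_le_mul_right h1 hppos
  -- the image of Ω in the quotient is a nontrivial normal subgroup
  set Ωb : Subgroup (R ⧸ Z) := Ω.map π with hΩb
  have hΩbn : Ωb.Normal := hΩnorm.map π hπs
  have hΩbne : Ωb ≠ ⊥ := by
    intro hbot
    have h1 : Ω ≤ Z := by
      intro x hx
      have : π x ∈ Ωb := ⟨x, hx, rfl⟩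
      rw [hbot, Subgroup.mem_bot] at this
      exact (QuotientGroup.eq_one_iff x).mp this
    have h2 := Subgroup.card_le_of_le h1
    rw [hZ] at h2
    have : p < p ^ 2 := by
      have := hp.out.one_lt
      nlinarith
    omega
  obtain ⟨w, hwΩ, hwc, hwo⟩ := exists_central_orderOf_eq_prime (hR.to_quotient Z) Ωb hΩbne
  set Wb : Subgroup (R ⧸ Z) := Subgroup.zpowers w with hWb
  have hWbc : Wb ≤ Subgroup.center (R ⧸ Z) := by
    rw [hWb, Subgroup.zpowers_le]; exact hwc
  have hWbΩ : Wb ≤ Ωb := by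
    rw [hWb, Subgroup.zpowers_le]; exact hwΩ
  have hWbn : Wb.Normal := by
    constructor
    intro x hx g
    have := Subgroup.mem_center_iff.mp (hWbc hx) g
    have h2 : g * x * g⁻¹ = x := by rw [this]; group
    rw [h2]; exact hx
  have hWbcard : Nat.card Wb = p := by rw [hWb, Nat.card_zpowers, hwo]
  refine ⟨Wb.comap π, hWbn.comap π, ?_, ?_⟩
  · intro a ha
    have h1 : π a ∈ Ωb := hWbΩ ha
    have h2 : a ∈ Ωb.comap π := h1
    rw [hΩb, Subgroup.comap_map_eq, hπ, QuotientGroup.ker_mk', sup_eq_left.mpr hZΩ] at h2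
    exact ((hΩmem a).mp h2).2
  · rw [hπ, card_comap_mk', hWbcard, hZ, sq]


universe u

theorem exists_normal_exp_p_sq_aux (p : ℕ) [hp : Fact p.Prime] (hp2 : p ≠ 2) :
    ∀ (n : ℕ) (R : Type u) [Group R] [Finite R], Nat.card R = n → IsPGroup p R → ¬ IsCyclic R →
      ∃ A : Subgroup R, A.Normal ∧ (∀ a ∈ A, a ^ p = 1) ∧ Nat.card A = p ^ 2 := by
  intro n
  induction n using Nat.strong_induction_on with
  | _ n ih =>
    intro R _ _ hn hR hnc
    have hnt : Nontrivial R := by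
      by_contra h
      rw [not_nontrivial_iff_subsingleton] at h
      exact hnc inferInstance
    obtain ⟨z, -, hzc, hzo⟩ := exists_central_orderOf_eq_prime hR ⊤ top_ne_bot
    set Z := Subgroup.zpowers z with hZdef
    have hZc : Z ≤ Subgroup.center R := by
      rw [hZdef, Subgroup.zpowers_le]; exact hzc
    have hZn : Z.Normal := by
      constructor
      intro x hx g
      have := Subgroup.mem_center_iff.mp (hZc hx) g
      have h2 : g * x * g⁻¹ = x := by rw [this]; group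
      rw [h2]; exact hx
    have hZ : Nat.card Z = p := by rw [hZdef, Nat.card_zpowers, hzo]
    by_cases hcyc : IsCyclic (R ⧸ Z)
    · have hcomm : IsMulCommutative R :=
        MonoidHom.isMulCommutative_of_isCyclic_of_ker_le_center (QuotientGroup.mk' Z)
          (by rw [QuotientGroup.ker_mk']; exact hZc)
      obtain ⟨A, hA1, hA2⟩ := exists_exp_p_sq_of_comm hR (fun a b => mul_comm' a b) hnc
      exact ⟨A, Subgroup.normal_of_isMulCommutative A, hA1, hA2⟩
    · have hlt : Nat.card (R ⧸ Z) < n := by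
        rw [← hn, Subgroup.card_eq_card_quotient_mul_card_subgroup Z, hZ]
        have h1 : 0 < Nat.card (R ⧸ Z) := Nat.card_pos
        have h2 := hp.out.one_lt
        nlinarith
      obtain ⟨Nb, hNn, hNexp, hNcard⟩ := ih _ hlt (R ⧸ Z) rfl (hR.to_quotient Z) hcyc
      have hNcomm : ∀ a ∈ Nb, ∀ b ∈ Nb, a * b = b * a := by
        have hc : IsMulCommutative Nb := IsPGroup.isMulCommutative_of_card_eq_prime_sq hNcard
        intro a ha b hb
        have := mul_comm' (⟨a, ha⟩ : Nb) ⟨b, hb⟩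
        exact congrArg Subtype.val this
      exact odd_step hp2 hR Z hZc hZ Nb hNn hNcomm hNexp hNcard

/-- For odd `p`, every non-cyclic finite `p`-group has a normal subgroup of order `p ^ 2` which is
commutative of exponent `p`. -/
theorem exists_normal_elementary_sq {R : Type*} [Group R] [Finite R] {p : ℕ} [Fact p.Prime]
    (hp2 : p ≠ 2) (hR : IsPGroup p R) (hnc : ¬ IsCyclic R) :
    ∃ A : Subgroup R, A.Normal ∧ (IsMulCommutative A ∧ ∀ a ∈ A, a ^ p = 1) ∧
      Nat.card A = p ^ 2 := by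
  obtain ⟨A, hA1, hA2, hA3⟩ := exists_normal_exp_p_sq_aux p hp2 _ R rfl hR hnc
  exact ⟨A, hA1, ⟨IsPGroup.isMulCommutative_of_card_eq_prime_sq hA3, hA2⟩, hA3⟩

end Cfsg.Agent.Lib.Helper97
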