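import Mathlib

set_option autoImplicit false

/-! Recognition of generalized quaternion groups (text of `Cfsg.Agent.Lib.Helper59.QuaternionIso`,
restated in this namespace so that the files depending on it stand alone). -/

namespace Cfsg.Agent.Lib.Helper97

open QuaternionGroup

section

variable {G : Type*} [Group G]

/-- `i ↦ c ^ i.val` -/
def zpw (m : ℕ) (c : G) (i : ZMod m) : G := c ^ i.val

theorem zpw_add {m : ℕ} [NeZero m] (c : G) (hc : c ^ m = 1) (i j : ZMod m) :
    zpw m c (i + j) = zpw m c i * zpw m c j := by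
  unfold zpw
  rw [ZMod.val_add, ← pow_add, ← pow_eq_pow_mod _ hc]

theorem zpw_zero {m : ℕ} [NeZero m] (c : G) : zpw m c 0 = 1 := by
  unfold zpw; simp

theorem zpw_neg {m : ℕ} [NeZero m] (c : G) (hc : c ^ m = 1) (i : ZMod m) :
    zpw m c (-i) = (zpw m c i)⁻¹ := by
  have := zpw_add c hc i (-i)
  rw [add_neg_cancel, zpw_zero] at this
  exact eq_inv_of_mul_eq_one_right this.symm

theorem zpw_sub {m : ℕ} [NeZero m] (c : G) (hc : c ^ m = 1) (i j : ZMod m) :
    zpw m c (i - j) = zpw m c i * (zpw m c j)⁻¹ := by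
  rw [sub_eq_add_neg, zpw_add c hc, zpw_neg c hc]

theorem zpw_natCast {m : ℕ} [NeZero m] (c : G) (hc : c ^ m = 1) (k : ℕ) :
    zpw m c (k : ZMod m) = c ^ k := by
  unfold zpw
  rw [ZMod.val_natCast, ← pow_eq_pow_mod _ hc]

theorem zpw_mem_zpowers {m : ℕ} (c : G) (i : ZMod m) : zpw m c i ∈ Subgroup.zpowers c :=
  Subgroup.pow_mem _ (Subgroup.mem_zpowers c) _

/-- conjugation by `b` inverts `zpw` when it inverts `c` -/
theorem conj_zpw {m : ℕ} (c b : G) (hcb : b * c * b⁻¹ = c⁻¹) (i : ZMod m) :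
    b * zpw m c i * b⁻¹ = (zpw m c i)⁻¹ := by
  unfold zpw
  rw [← conj_pow, hcb, inv_pow]

/-- The hom `QuaternionGroup n →* G` given by `a 1 ↦ c`, `xa 0 ↦ b`. -/
noncomputable def quatHom (n : ℕ) [NeZero n] (c b : G) (hc : c ^ (2 * n) = 1) (hb : b * b = c ^ n)
    (hcb : b * c * b⁻¹ = c⁻¹) : QuaternionGroup n →* G where
  toFun g := match g with
    | a i => zpw (2 * n) c i
    | xa i => b * zpw (2 * n) c i
  map_one' := by
    rw [one_def]; exact zpw_zero c
  map_mul' := by
    have hinv : ∀ i : ZMod (2 * n), zpw (2 * n) c i * b = b * (zpw (2 * n) c i)⁻¹ := by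
      intro i
      have := conj_zpw (m := 2 * n) c b hcb i
      have h1 : b * (zpw (2 * n) c i)⁻¹ * b⁻¹ = zpw (2 * n) c i := by
        calc b * (zpw (2 * n) c i)⁻¹ * b⁻¹ = (b * zpw (2 * n) c i * b⁻¹)⁻¹ := by group
          _ = ((zpw (2 * n) c i)⁻¹)⁻¹ := by rw [this]
          _ = zpw (2 * n) c i := inv_inv _
      calc zpw (2 * n) c i * b = (b * (zpw (2 * n) c i)⁻¹ * b⁻¹) * b := by rw [h1]
        _ = b * (zpw (2 * n) c i)⁻¹ := by group
    rintro (i | i) (j | j)
    · simp only [a_mul_a]; exact zpw_add c hc i j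
    · simp only [a_mul_xa]
      have hcomm : (zpw (2 * n) c i)⁻¹ * zpw (2 * n) c j = zpw (2 * n) c j * (zpw (2 * n) c i)⁻¹ := by
        rw [← zpw_neg c hc, ← zpw_add c hc, ← zpw_add c hc, add_comm]
      rw [zpw_sub c hc, ← mul_assoc (zpw (2 * n) c i) b, hinv i, mul_assoc, hcomm]
    · simp only [xa_mul_a]; rw [zpw_add c hc, mul_assoc]
    · simp only [xa_mul_xa]
      rw [zpw_sub c hc, zpw_add c hc, zpw_natCast c hc, ← hb]
      calc b * b * zpw (2 * n) c j * (zpw (2 * n) c i)⁻¹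
          = b * (b * (zpw (2 * n) c i)⁻¹) * zpw (2 * n) c j := by
            have hcomm : zpw (2 * n) c j * (zpw (2 * n) c i)⁻¹ = (zpw (2 * n) c i)⁻¹ * zpw (2 * n) c j := by
              rw [← zpw_neg c hc, ← zpw_add c hc, ← zpw_add c hc, add_comm]
            rw [mul_assoc (b * b), hcomm]; group
        _ = b * (zpw (2 * n) c i * b) * zpw (2 * n) c j := by rw [hinv i]
        _ = b * zpw (2 * n) c i * (b * zpw (2 * n) c j) := by group

theorem quatHom_a (n : ℕ) [NeZero n] (c b : G) (hc : c ^ (2 * n) = 1) (hb : b * b = c ^ n)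
    (hcb : b * c * b⁻¹ = c⁻¹) (i : ZMod (2 * n)) : quatHom n c b hc hb hcb (a i) = zpw (2 * n) c i := rfl

theorem quatHom_xa (n : ℕ) [NeZero n] (c b : G) (hc : c ^ (2 * n) = 1) (hb : b * b = c ^ n)
    (hcb : b * c * b⁻¹ = c⁻¹) (i : ZMod (2 * n)) : quatHom n c b hc hb hcb (xa i) = b * zpw (2 * n) c i := rfl

theorem quatHom_injective (n : ℕ) [NeZero n] (c b : G) (hord : orderOf c = 2 * n) (hb : b * b = c ^ n)
    (hcb : b * c * b⁻¹ = c⁻¹) (hbn : b ∉ Subgroup.zpowers c) :
    Function.Injective (quatHom n c b (by rw [← hord]; exact pow_orderOf_eq_one c) hb hcb) := by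
  have hc : c ^ (2 * n) = 1 := by rw [← hord]; exact pow_orderOf_eq_one c
  have hinj : ∀ i j : ZMod (2 * n), zpw (2 * n) c i = zpw (2 * n) c j → i = j := by
    intro i j hij
    unfold zpw at hij
    have hi : i.val < orderOf c := by rw [hord]; exact ZMod.val_lt i
    have hj : j.val < orderOf c := by rw [hord]; exact ZMod.val_lt j
    have := pow_injOn_Iio_orderOf (Set.mem_Iio.mpr hi) (Set.mem_Iio.mpr hj) hij
    exact ZMod.val_injective _ this
  rintro (i | i) (j | j) hij
  · rw [quatHom_a, quatHom_a] at hij; rw [hinj i j hij]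
  · exfalso; rw [quatHom_a, quatHom_xa] at hij
    apply hbn
    have : b = zpw (2 * n) c i * (zpw (2 * n) c j)⁻¹ := by rw [hij]; group
    rw [this]
    exact Subgroup.mul_mem _ (zpw_mem_zpowers c i) (Subgroup.inv_mem _ (zpw_mem_zpowers c j))
  · exfalso; rw [quatHom_a, quatHom_xa] at hij
    apply hbn
    have : b = zpw (2 * n) c j * (zpw (2 * n) c i)⁻¹ := by rw [← hij]; group
    rw [this]
    exact Subgroup.mul_mem _ (zpw_mem_zpowers c j) (Subgroup.inv_mem _ (zpw_mem_zpowers c i))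
  · rw [quatHom_xa, quatHom_xa] at hij
    rw [hinj i j (mul_left_cancel hij)]

/-- Recognition of generalized quaternion groups. -/
theorem nonempty_mulEquiv_quaternion [Finite G] (n : ℕ) [NeZero n] (c b : G) (hcard : Nat.card G = 4 * n)
    (hord : orderOf c = 2 * n) (hb : b * b = c ^ n) (hcb : b * c * b⁻¹ = c⁻¹)
    (hbn : b ∉ Subgroup.zpowers c) : Nonempty (G ≃* QuaternionGroup n) := by
  have hinj := quatHom_injective n c b hord hb hcb hbn
  have hbij : Function.Bijective (quatHom n c b (by rw [← hord]; exact pow_orderOf_eq_one c) hb hcb) := by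
    rw [Nat.bijective_iff_injective_and_card]
    refine ⟨hinj, ?_⟩
    rw [hcard, Nat.card_eq_fintype_card, QuaternionGroup.card]
  exact ⟨(MulEquiv.ofBijective _ hbij).symm⟩

end

end Cfsg.Agent.Lib.Helper97
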