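import Mathlib
import Cfsg.Agent.Lib.Helper97.OddPGroup
import Cfsg.Agent.Lib.Helper97.QuatRecog

set_option autoImplicit false

/-! `p`-groups with only one subgroup of order `p` are cyclic or generalized quaternion. -/

namespace Cfsg.Agent.Lib.Helper97

/-- "At most one subgroup of order `p`", in element form. -/
def UniqueOrderP (p : ℕ) (G : Type*) [Group G] : Prop :=
  ∀ x y : G, orderOf x = p → orderOf y = p → y ∈ Subgroup.zpowers x

theorem uniqueOrderP_of_subgroups {G : Type*} [Group G] (p : ℕ)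
    (huniq : ∀ H K : Subgroup G, Nat.card H = p → Nat.card K = p → H = K) :
    UniqueOrderP p G := by
  intro x y hx hy
  have := huniq (Subgroup.zpowers x) (Subgroup.zpowers y) (by rw [Nat.card_zpowers, hx])
    (by rw [Nat.card_zpowers, hy])
  rw [this]
  exact Subgroup.mem_zpowers y

theorem UniqueOrderP.subgroup {G : Type*} [Group G] {p : ℕ} (h : UniqueOrderP p G)
    (H : Subgroup G) : UniqueOrderP p H := by
  intro x y hx hy
  have := h (x : G) (y : G) (by rw [Subgroup.orderOf_coe, hx]) (by rw [Subgroup.orderOf_coe, hy])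
  obtain ⟨k, hk⟩ := Subgroup.mem_zpowers_iff.mp this
  exact Subgroup.mem_zpowers_iff.mpr ⟨k, Subtype.ext (by simpa using hk)⟩

/-- A commutative finite `p`-group with at most one subgroup of order `p` is cyclic. -/
theorem isCyclic_of_comm_of_uniqueOrderP {G : Type*} [Group G] [Finite G] {p : ℕ}
    [hp : Fact p.Prime] (hG : IsPGroup p G) (hcomm : ∀ a b : G, a * b = b * a)
    (hU : UniqueOrderP p G) : IsCyclic G := by
  by_contra hnc
  let _ : CommGroup G := { ‹Group G› with mul_comm := hcomm }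
  have hlt : p < Nat.card (tors G p) := lt_card_tors_of_not_isCyclic hG hnc
  have hnt : Nontrivial (tors G p) := by
    rw [← Finite.one_lt_card_iff_nontrivial]; exact lt_trans hp.out.one_lt hlt
  obtain ⟨x, hx1⟩ := exists_ne (1 : tors G p)
  have hxo : orderOf (x : G) = p := by
    apply orderOf_eq_prime ((mem_tors p _).mp x.2)
    intro h
    apply hx1
    ext
    exact h
  have hnle : ¬ (tors G p ≤ Subgroup.zpowers (x : G)) := by
    intro hle
    have := Subgroup.card_le_of_le hle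
    rw [Nat.card_zpowers, hxo] at this
    omega
  obtain ⟨y, hyT, hyx⟩ := SetLike.not_le_iff_exists.mp hnle
  have hyo : orderOf y = p := by
    apply orderOf_eq_prime ((mem_tors p _).mp hyT)
    rintro rfl
    exact hyx (Subgroup.one_mem _)
  exact hyx (hU _ _ hxo hyo)

/-- In a finite cyclic group, any element with `z ^ n = 1` is a power of any element of
order `n` (after `Cfsg.Agent.Lib.Helper03.CyclicPGroup`). -/
theorem mem_zpowers_of_pow_eq_one_of_isCyclic' {P : Type*} [Group P] [Finite P] [IsCyclic P]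
    {p : ℕ} (hp : 0 < p) (d z : P) (hd : orderOf d = p) (hz : z ^ p = 1) :
    z ∈ Subgroup.zpowers d := by
  classical
  have : Fintype P := Fintype.ofFinite P
  have h1 : (Finset.univ.filter (fun a : P => a ^ p = 1)).card ≤ p :=
    IsCyclic.card_pow_eq_one_le hp
  let T : Finset P := (Finset.range p).image (fun i => d ^ i)
  have hTcard : T.card = p := by
    rw [Finset.card_image_of_injOn, Finset.card_range]
    intro i hi j hj hij
    apply pow_injOn_Iio_orderOf (x := d)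
    · simpa [hd] using hi
    · simpa [hd] using hj
    · exact hij
  have hTS : T ⊆ Finset.univ.filter (fun a : P => a ^ p = 1) := by
    intro y hy
    obtain ⟨i, -, rfl⟩ := Finset.mem_image.mp hy
    rw [Finset.mem_filter]
    refine ⟨Finset.mem_univ _, ?_⟩
    rw [← pow_mul, mul_comm, pow_mul, ← hd, pow_orderOf_eq_one, one_pow]
  have hEq : T = Finset.univ.filter (fun a : P => a ^ p = 1) :=
    Finset.eq_of_subset_of_card_le hTS (by rw [hTcard]; exact h1)
  have hzT : z ∈ T := by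
    rw [hEq, Finset.mem_filter]; exact ⟨Finset.mem_univ _, hz⟩
  obtain ⟨i, -, rfl⟩ := Finset.mem_image.mp hzT
  exact Subgroup.npow_mem_zpowers d i

/-- The subgroups of a cyclic `p`-group form a chain (element form). -/
theorem mem_zpowers_or_mem_zpowers_of_isCyclic {P : Type*} [Group P] [Finite P] [IsCyclic P]
    {p : ℕ} [hp : Fact p.Prime] (hP : IsPGroup p P) (x y : P) :
    x ∈ Subgroup.zpowers y ∨ y ∈ Subgroup.zpowers x := by
  obtain ⟨i, hi⟩ := (IsPGroup.iff_orderOf.mp hP) x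
  obtain ⟨j, hj⟩ := (IsPGroup.iff_orderOf.mp hP) y
  have key : ∀ (u v : P) (i j : ℕ), orderOf u = p ^ i → orderOf v = p ^ j → i ≤ j →
      u ∈ Subgroup.zpowers v := by
    intro u v i j hu hv hij
    apply mem_zpowers_of_pow_eq_one_of_isCyclic' (pow_pos hp.out.pos j) v u hv
    obtain ⟨k, rfl⟩ := Nat.exists_eq_add_of_le hij
    rw [pow_add, pow_mul, ← hu, pow_orderOf_eq_one, one_pow]
  rcases le_total i j with h | h
  · exact Or.inl (key x y i j hi hj h)
  · exact Or.inr (key y x j i hj hi h)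

/-- Chain property for elements of a cyclic subgroup of a `p`-group. -/
theorem mem_zpowers_or_mem_zpowers {G : Type*} [Group G] [Finite G] {p : ℕ} [hp : Fact p.Prime]
    (hG : IsPGroup p G) (A : Subgroup G) [IsCyclic A] {x y : G} (hx : x ∈ A) (hy : y ∈ A) :
    x ∈ Subgroup.zpowers y ∨ y ∈ Subgroup.zpowers x := by
  rcases mem_zpowers_or_mem_zpowers_of_isCyclic (hG.to_subgroup A) (⟨x, hx⟩ : A) ⟨y, hy⟩ with h | h
  · left
    obtain ⟨k, hk⟩ := Subgroup.mem_zpowers_iff.mp h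
    exact Subgroup.mem_zpowers_iff.mpr ⟨k, by simpa using congrArg Subtype.val hk⟩
  · right
    obtain ⟨k, hk⟩ := Subgroup.mem_zpowers_iff.mp h
    exact Subgroup.mem_zpowers_iff.mpr ⟨k, by simpa using congrArg Subtype.val hk⟩

theorem sq_mul_pow {G : Type*} [Group G] (g a : G) (hc : Commute (g⁻¹ * a * g) a) (i : ℕ) :
    (g * a ^ i) ^ 2 = g ^ 2 * ((g⁻¹ * a * g) * a) ^ i := by
  have h1 : (g⁻¹ * a * g) ^ i = g⁻¹ * a ^ i * g := by
    have := conj_pow (a := g⁻¹) (b := a) (i := i)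
    rwa [inv_inv] at this
  rw [hc.mul_pow, h1, sq, sq]
  group


section TwoGroup

variable {G : Type*} [Group G] [Finite G]

theorem inverts_of_sq_mem (hG : IsPGroup 2 G) (hU : UniqueOrderP 2 G) (a : G)
    (hAn : (Subgroup.zpowers a).Normal)
    (hCA : Subgroup.centralizer (Subgroup.zpowers a : Set G) ≤ Subgroup.zpowers a)
    (z₀ : G) (hz₀A : z₀ ∈ Subgroup.zpowers a) (hz₀ : orderOf z₀ = 2)
    (g : G) (hg : g ∉ Subgroup.zpowers a) (hg2 : g ^ 2 ∈ Subgroup.zpowers a) :
    (∀ x ∈ Subgroup.zpowers a, g⁻¹ * x * g = x⁻¹) ∧ orderOf (g ^ 2) = 2 := by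
  set A := Subgroup.zpowers a with hA
  have haA : a ∈ A := Subgroup.mem_zpowers a
  have hAcomm : ∀ x ∈ A, ∀ y ∈ A, x * y = y * x := by
    intro x hx y hy
    obtain ⟨i, rfl⟩ := Subgroup.mem_zpowers_iff.mp hx
    obtain ⟨j, rfl⟩ := Subgroup.mem_zpowers_iff.mp hy
    exact ((Commute.refl a).zpow_zpow i j).eq
  have hinvA : ∀ x : G, orderOf x = 2 → x ∈ A := fun x hx =>
    (Subgroup.zpowers_le.mpr hz₀A) (hU z₀ x hz₀ hx)
  have hconj : ∀ x ∈ A, g⁻¹ * x * g ∈ A := by
    intro x hx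
    have := hAn.conj_mem x hx g⁻¹
    rwa [inv_inv] at this
  set y := g ^ 2 with hy
  set b := g⁻¹ * a * g with hb
  have hbA : b ∈ A := hconj a haA
  set w := b * a with hw
  have hwA : w ∈ A := A.mul_mem hbA haA
  have hgy : g⁻¹ * y * g = y := by rw [hy]; group
  have hne : ∀ i : ℕ, y * w ^ i ≠ 1 := by
    intro i h1
    have hsq : (g * a ^ i) ^ 2 = 1 := by
      rw [sq_mul_pow g a (hAcomm b hbA a haA) i]; exact h1
    have hne1 : g * a ^ i ≠ 1 := by
      intro h
      apply hg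
      have : g = (a ^ i)⁻¹ := eq_inv_of_mul_eq_one_left h
      rw [this]; exact A.inv_mem (A.pow_mem haA i)
    have ho : orderOf (g * a ^ i) = 2 := orderOf_eq_prime hsq hne1
    have := hinvA _ ho
    apply hg
    have h2 : g = (g * a ^ i) * (a ^ i)⁻¹ := by group
    rw [h2]; exact A.mul_mem this (A.inv_mem (A.pow_mem haA i))
  have hyw : y ∉ Subgroup.zpowers w := by
    intro hmem
    have h1 : y⁻¹ ∈ Subgroup.zpowers w := Subgroup.inv_mem _ hmem
    obtain ⟨i, hi⟩ := (Submonoid.mem_powers_iff _ _).mp (mem_powers_iff_mem_zpowers.mpr h1)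
    exact hne i (by rw [hi]; simp)
  -- chain: w is a power of y
  have hwy : w ∈ Subgroup.zpowers y := by
    rcases mem_zpowers_or_mem_zpowers hG A hwA hg2 with h | h
    · exact h
    · exact absurd h hyw
  obtain ⟨s, hs⟩ := (Submonoid.mem_powers_iff _ _).mp (mem_powers_iff_mem_zpowers.mpr hwy)
  -- s is even
  have hseven : Even s := by
    by_contra hodd
    rw [Nat.not_even_iff_odd] at hodd
    obtain ⟨e, he⟩ := (IsPGroup.iff_orderOf.mp hG) y
    have hcop : Nat.Coprime s (orderOf y) := by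
      rw [he]; exact Nat.Coprime.pow_right e (Nat.coprime_two_right.mpr hodd)
    obtain ⟨m, hm⟩ := exists_pow_eq_self_of_coprime hcop
    apply hyw
    rw [← hm, hs]
    exact Subgroup.npow_mem_zpowers w m
  obtain ⟨t, ht⟩ := hseven
  -- a' = a * (y^t)⁻¹ is inverted by g
  set a' := a * (y ^ t)⁻¹ with ha'
  have hytA : y ^ t ∈ A := A.pow_mem hg2 t
  have ha'A : a' ∈ A := A.mul_mem haA (A.inv_mem hytA)
  have hgyt : g⁻¹ * (y ^ t)⁻¹ * g = (y ^ t)⁻¹ := by rw [hy]; group
  have hinv' : g⁻¹ * a' * g = a'⁻¹ := by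
    have h1 : g⁻¹ * a' * g = b * (y ^ t)⁻¹ := by
      rw [ha', hb]
      calc g⁻¹ * (a * (y ^ t)⁻¹) * g = (g⁻¹ * a * g) * (g⁻¹ * (y ^ t)⁻¹ * g) := by group
        _ = (g⁻¹ * a * g) * (y ^ t)⁻¹ := by rw [hgyt]
    rw [h1]
    -- b * (y^t)⁻¹ * a' = 1
    apply eq_inv_of_mul_eq_one_left
    have h2 : w = y ^ t * y ^ t := by rw [← hs, ht, pow_add]
    have h3 : (y ^ t)⁻¹ * a = a * (y ^ t)⁻¹ := hAcomm _ (A.inv_mem hytA) _ haA
    calc b * (y ^ t)⁻¹ * a' = b * ((y ^ t)⁻¹ * a) * (y ^ t)⁻¹ := by rw [ha']; group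
      _ = b * (a * (y ^ t)⁻¹) * (y ^ t)⁻¹ := by rw [h3]
      _ = w * (y ^ t)⁻¹ * (y ^ t)⁻¹ := by rw [hw]; group
      _ = 1 := by rw [h2]; group
  have hinvpow : ∀ x ∈ Subgroup.zpowers a', g⁻¹ * x * g = x⁻¹ := by
    intro x hx
    obtain ⟨k, rfl⟩ := Subgroup.mem_zpowers_iff.mp hx
    have := conj_zpow (a := g⁻¹) (b := a') (i := k)
    rw [inv_inv] at this
    rw [← this, hinv', inv_zpow]
  have hat : a = a' * y ^ t := by rw [ha']; group
  -- chain on a' and y
  have hAa' : A ≤ Subgroup.zpowers a' := by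
    rcases mem_zpowers_or_mem_zpowers hG A hg2 ha'A with h | h
    · -- y ∈ zpowers a'
      rw [hA, Subgroup.zpowers_le, hat]
      exact Subgroup.mul_mem _ (Subgroup.mem_zpowers a') (Subgroup.pow_mem _ h t)
    · -- a' ∈ zpowers y : contradiction
      exfalso
      have haY : a ∈ Subgroup.zpowers y := by
        rw [hat]
        exact Subgroup.mul_mem _ h (Subgroup.pow_mem _ (Subgroup.mem_zpowers y) t)
      have hAY : A ≤ Subgroup.zpowers y := by
        rw [hA, Subgroup.zpowers_le]; exact haY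
      apply hg
      apply hCA
      rw [Subgroup.mem_centralizer_iff]
      intro x hx
      obtain ⟨k, rfl⟩ := Subgroup.mem_zpowers_iff.mp (hAY hx)
      rw [hy]
      group
  have hall : ∀ x ∈ A, g⁻¹ * x * g = x⁻¹ := fun x hx => hinvpow x (hAa' hx)
  refine ⟨hall, ?_⟩
  have h1 := hall y hg2
  rw [hgy] at h1
  have hy2 : y ^ 2 = 1 := by
    rw [sq]
    nth_rewrite 1 [h1]
    exact inv_mul_cancel y
  apply orderOf_eq_prime hy2
  intro hy1
  have hgne : g ≠ 1 := by
    rintro rfl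
    exact hg (Subgroup.one_mem _)
  exact hg (hinvA g (orderOf_eq_prime hy1 hgne))

end TwoGroup


/-- A finite `p`-group has a normal abelian subgroup containing its own centralizer
(after `Cfsg.Agent.Lib.Helper33.PGroupBasic`). -/
theorem exists_normal_abelian_self_centralizing' {G : Type*} [Group G] {p : ℕ} [Fact p.Prime]
    [Finite G] (hG : IsPGroup p G) :
    ∃ A : Subgroup G, A.Normal ∧ (∀ x ∈ A, ∀ y ∈ A, x * y = y * x) ∧
      Subgroup.centralizer (A : Set G) ≤ A := by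
  classical
  let P : Subgroup G → Prop := fun A => A.Normal ∧ ∀ a ∈ A, ∀ b ∈ A, a * b = b * a
  have hP0 : P ⊥ := ⟨inferInstance, by
    intro a ha b hb
    rw [Subgroup.mem_bot] at ha hb
    rw [ha, hb]⟩
  obtain ⟨A, -, hAmax⟩ := Finite.exists_le_maximal (p := P) hP0
  have hAn : A.Normal := hAmax.prop.1
  have hAc : ∀ a ∈ A, ∀ b ∈ A, a * b = b * a := hAmax.prop.2
  refine ⟨A, hAn, hAc, ?_⟩
  by_contra hCA
  -- the image of the centralizer in the quotient
  let N : Subgroup (G ⧸ A) := (Subgroup.centralizer (A : Set G)).map (QuotientGroup.mk' A)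
  have hNn : N.Normal := Subgroup.Normal.map inferInstance _ (QuotientGroup.mk'_surjective A)
  have hNne : N ≠ ⊥ := by
    intro h
    apply hCA
    intro c hc
    have : QuotientGroup.mk' A c ∈ N := Subgroup.mem_map_of_mem _ hc
    rw [h, Subgroup.mem_bot] at this
    exact (QuotientGroup.eq_one_iff c).mp this
  obtain ⟨z, hzN, hzc, hzo⟩ := exists_central_orderOf_eq_prime (hG.to_quotient A) N hNne
  have hz1 : z ≠ 1 := by
    intro h
    rw [h, orderOf_one] at hzo
    exact (Fact.out : p.Prime).one_lt.ne hzo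
  obtain ⟨x, hxC, hxz⟩ := hzN
  have hxA : x ∉ A := by
    intro hx
    apply hz1
    rw [← hxz]
    exact (QuotientGroup.eq_one_iff x).mpr hx
  let B : Subgroup G := (Subgroup.zpowers z).comap (QuotientGroup.mk' A)
  have hzn : (Subgroup.zpowers z).Normal := by
    constructor
    intro n hn g
    have : g * n * g⁻¹ = n := by
      have hnc : n ∈ Subgroup.center (G ⧸ A) := by
        obtain ⟨k, rfl⟩ := hn
        exact Subgroup.zpow_mem _ hzc k
      rw [Subgroup.mem_center_iff] at hnc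
      rw [hnc g]; group
    rw [this]; exact hn
  have hBn : B.Normal := Subgroup.Normal.comap hzn _
  have hAB : A ≤ B := by
    intro a ha
    change QuotientGroup.mk' A a ∈ Subgroup.zpowers z
    have : QuotientGroup.mk' A a = 1 := (QuotientGroup.eq_one_iff a).mpr ha
    rw [this]
    exact Subgroup.one_mem _
  have hxB : x ∈ B := by
    change QuotientGroup.mk' A x ∈ Subgroup.zpowers z
    rw [hxz]; exact Subgroup.mem_zpowers z
  have hBform : ∀ b ∈ B, ∃ k : ℤ, ∃ a ∈ A, b = x ^ k * a := by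
    intro b hb
    obtain ⟨k, hk⟩ := hb
    refine ⟨k, (x ^ k)⁻¹ * b, ?_, by group⟩
    have : QuotientGroup.mk' A ((x ^ k)⁻¹ * b) = 1 := by
      rw [map_mul, map_inv, map_zpow, hxz]
      change (z ^ k)⁻¹ * (QuotientGroup.mk' A) b = 1
      rw [← hk]
      simp
    exact (QuotientGroup.eq_one_iff _).mp this
  have hxcomm : ∀ a ∈ A, a * x = x * a := by
    intro a ha
    have hxC' : x ∈ Subgroup.centralizer (A : Set G) := hxC
    rw [Subgroup.mem_centralizer_iff] at hxC'
    exact hxC' a ha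
  have hxkcomm : ∀ (k : ℤ), ∀ a ∈ A, a * x ^ k = x ^ k * a := by
    intro k a ha
    exact ((Commute.zpow_right (hxcomm a ha) k : Commute a (x ^ k))).eq
  have hBc : ∀ b₁ ∈ B, ∀ b₂ ∈ B, b₁ * b₂ = b₂ * b₁ := by
    intro b₁ hb₁ b₂ hb₂
    obtain ⟨k₁, a₁, ha₁, rfl⟩ := hBform b₁ hb₁
    obtain ⟨k₂, a₂, ha₂, rfl⟩ := hBform b₂ hb₂
    have e1 : a₁ * a₂ = a₂ * a₁ := hAc a₁ ha₁ a₂ ha₂
    calc x ^ k₁ * a₁ * (x ^ k₂ * a₂) = x ^ k₁ * (a₁ * x ^ k₂) * a₂ := by group
      _ = x ^ k₁ * (x ^ k₂ * a₁) * a₂ := by rw [hxkcomm k₂ a₁ ha₁]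
      _ = (x ^ k₁ * x ^ k₂) * (a₁ * a₂) := by group
      _ = (x ^ k₂ * x ^ k₁) * (a₂ * a₁) := by rw [e1, ← zpow_add, ← zpow_add, add_comm]
      _ = x ^ k₂ * (x ^ k₁ * a₂) * a₁ := by group
      _ = x ^ k₂ * (a₂ * x ^ k₁) * a₁ := by rw [hxkcomm k₁ a₂ ha₂]
      _ = x ^ k₂ * a₂ * (x ^ k₁ * a₁) := by group
  have := hAmax.le_of_ge (show P B from ⟨hBn, hBc⟩) hAB
  exact hxA (this hxB)

theorem four_not_dvd_sq_add_one (k : ℕ) : ¬ 4 ∣ k * k + 1 := by
  intro h
  have h1 : (k * k + 1) % 4 = 0 := Nat.mod_eq_zero_of_dvd h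
  rw [Nat.add_mod, Nat.mul_mod] at h1
  have h2 : k % 4 < 4 := Nat.mod_lt k (by norm_num)
  interval_cases (k % 4) <;> simp at h1

theorem not_sq_inverts {G : Type*} [Group G] [Finite G] (a : G)
    (hAn : (Subgroup.zpowers a).Normal) (h4 : 4 ∣ orderOf a) (h : G) :
    ¬ ((h ^ 2)⁻¹ * a * h ^ 2 = a⁻¹) := by
  intro hinv
  have h1 : h⁻¹ * a * h ∈ Subgroup.zpowers a := by
    have := hAn.conj_mem a (Subgroup.mem_zpowers a) h⁻¹
    rwa [inv_inv] at this
  obtain ⟨k, hk⟩ := (Submonoid.mem_powers_iff _ _).mp (mem_powers_iff_mem_zpowers.mpr h1)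
  have h2 : (h ^ 2)⁻¹ * a * h ^ 2 = a ^ (k * k) := by
    calc (h ^ 2)⁻¹ * a * h ^ 2 = h⁻¹ * (h⁻¹ * a * h) * h := by
          rw [sq, mul_inv_rev]; simp only [mul_assoc]
      _ = h⁻¹ * a ^ k * h := by rw [← hk]
      _ = (h⁻¹ * a * h) ^ k := by
        have := conj_pow (a := h⁻¹) (b := a) (i := k)
        rw [inv_inv] at this
        exact this.symm
      _ = a ^ (k * k) := by rw [← hk, ← pow_mul]
  rw [h2] at hinv
  have h3 : a ^ (k * k + 1) = 1 := by
    rw [pow_succ, hinv, inv_mul_cancel]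
  exact four_not_dvd_sq_add_one k (dvd_trans h4 (orderOf_dvd_of_pow_eq_one h3))

/-- In a `2`-group, an element outside a subgroup has a `2`-power power that is outside the subgroup
but whose square is inside. -/
theorem exists_pow_not_mem_sq_mem {G : Type*} [Group G] [Finite G] (hG : IsPGroup 2 G)
    (A : Subgroup G) (h : G) (hh : h ∉ A) :
    ∃ k : ℕ, h ^ (2 ^ k) ∉ A ∧ h ^ (2 ^ (k + 1)) ∈ A := by
  classical
  have hex : ∃ k : ℕ, h ^ (2 ^ k) ∈ A := by
    obtain ⟨e, he⟩ := hG h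
    exact ⟨e, he ▸ A.one_mem⟩
  have hk0 : Nat.find hex ≠ 0 := by
    intro h0
    have := Nat.find_spec hex
    rw [h0, pow_zero, pow_one] at this
    exact hh this
  obtain ⟨k, hk⟩ := Nat.exists_eq_succ_of_ne_zero hk0
  refine ⟨k, ?_, ?_⟩
  · exact Nat.find_min hex (by rw [hk]; exact Nat.lt_succ_self k)
  · have := Nat.find_spec hex
    rwa [hk] at this


theorem quaternion_of_uniqueOrderP_two {G : Type*} [Group G] [Finite G] (hG : IsPGroup 2 G)
    (hU : UniqueOrderP 2 G) (hnc : ¬ IsCyclic G) :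
    ∃ n : ℕ, Nonempty (G ≃* QuaternionGroup (2 ^ n)) := by
  classical
  obtain ⟨A, hAn, hAc, hCA⟩ := exists_normal_abelian_self_centralizing' hG
  have hAcyc : IsCyclic A :=
    isCyclic_of_comm_of_uniqueOrderP (hG.to_subgroup A)
      (fun x y => Subtype.ext (hAc x x.2 y y.2)) (hU.subgroup A)
  obtain ⟨⟨a, haA⟩, hagen⟩ := hAcyc.exists_generator
  have hAeq : A = Subgroup.zpowers a := by
    apply le_antisymm
    · intro x hx
      obtain ⟨k, hk⟩ := Subgroup.mem_zpowers_iff.mp (hagen ⟨x, hx⟩)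
      exact Subgroup.mem_zpowers_iff.mpr ⟨k, by simpa using congrArg Subtype.val hk⟩
    · rw [Subgroup.zpowers_le]; exact haA
  subst hAeq
  -- A is proper
  have hAtop : Subgroup.zpowers a ≠ ⊤ := by
    intro htop
    apply hnc
    exact ⟨⟨a, fun x => (htop ▸ Subgroup.mem_top x : x ∈ Subgroup.zpowers a)⟩⟩
  obtain ⟨h₀, -, hh₀⟩ := SetLike.exists_of_lt (lt_top_iff_ne_top.mpr hAtop)
  -- an element g ∉ A with g ^ 2 ∈ A
  obtain ⟨k₀, hk₀, hk₀'⟩ := exists_pow_not_mem_sq_mem hG _ h₀ hh₀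
  set g := h₀ ^ (2 ^ k₀) with hgdef
  have hg : g ∉ Subgroup.zpowers a := hk₀
  have hg2 : g ^ 2 ∈ Subgroup.zpowers a := by
    rw [hgdef, ← pow_mul, ← pow_succ]; exact hk₀'
  -- the involution of A
  have ha1 : a ≠ 1 := by
    rintro rfl
    apply hg
    apply hCA
    rw [Subgroup.mem_centralizer_iff]
    intro x hx
    rw [Subgroup.zpowers_one_eq_bot] at hx
    have : x = 1 := hx
    rw [this, one_mul, mul_one]
  obtain ⟨m, hm⟩ := (IsPGroup.iff_orderOf.mp hG) a
  have hm0 : m ≠ 0 := by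
    intro h0
    rw [h0, pow_zero, orderOf_eq_one_iff] at hm
    exact ha1 hm
  obtain ⟨m', rfl⟩ : ∃ m', m = m' + 1 := ⟨m - 1, by omega⟩
  set z₀ := a ^ (2 ^ m') with hz₀def
  have hz₀A : z₀ ∈ Subgroup.zpowers a := Subgroup.npow_mem_zpowers a _
  have hz₀ : orderOf z₀ = 2 := by
    have hdvd : 2 ^ m' ∣ orderOf a := by rw [hm]; exact pow_dvd_pow 2 (Nat.le_succ m')
    rw [hz₀def, orderOf_pow_of_dvd (pow_ne_zero _ (by norm_num)) hdvd, hm, pow_succ,
      Nat.mul_div_cancel_left _ (pow_pos (by norm_num) m')]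
  obtain ⟨hginv, hg2o⟩ := inverts_of_sq_mem hG hU a hAn hCA z₀ hz₀A hz₀ g hg hg2
  -- |A| ≥ 4
  have hm'0 : m' ≠ 0 := by
    intro h0
    apply hg
    apply hCA
    rw [Subgroup.mem_centralizer_iff]
    intro x hx
    have ha2 : a ^ 2 = 1 := by
      have := pow_orderOf_eq_one a
      rwa [hm, h0] at this
    have hainv : a⁻¹ = a := by
      rw [inv_eq_iff_mul_eq_one, ← sq]; exact ha2
    have h1 := hginv a (Subgroup.mem_zpowers a)
    rw [hainv] at h1
    have hga : Commute g a := by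
      show g * a = a * g
      calc g * a = g * (g⁻¹ * a * g) := by rw [h1]
        _ = a * g := by group
    obtain ⟨k, rfl⟩ := Subgroup.mem_zpowers_iff.mp hx
    exact ((hga.zpow_right k).eq).symm
  have h4 : 4 ∣ orderOf a := by
    obtain ⟨m'', rfl⟩ : ∃ m'', m' = m'' + 1 := ⟨m' - 1, by omega⟩
    rw [hm]
    exact ⟨2 ^ m'', by ring⟩
  -- every element outside A inverts A
  have hout : ∀ h : G, h ∉ Subgroup.zpowers a →
      ∀ x ∈ Subgroup.zpowers a, h⁻¹ * x * h = x⁻¹ := by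
    intro h hh
    obtain ⟨k, hk, hk'⟩ := exists_pow_not_mem_sq_mem hG _ h hh
    have hk2 : (h ^ (2 ^ k)) ^ 2 ∈ Subgroup.zpowers a := by
      rw [← pow_mul, ← pow_succ]; exact hk'
    obtain ⟨hinv, -⟩ := inverts_of_sq_mem hG hU a hAn hCA z₀ hz₀A hz₀ _ hk hk2
    rcases Nat.eq_zero_or_pos k with h0 | hpos
    · rw [h0, pow_zero, pow_one] at hinv
      exact hinv
    · exfalso
      obtain ⟨j, rfl⟩ := Nat.exists_eq_succ_of_ne_zero (Nat.pos_iff_ne_zero.mp hpos)
      have h1 := hinv a (Subgroup.mem_zpowers a)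
      have h2 : h ^ (2 ^ (j + 1)) = (h ^ (2 ^ j)) ^ 2 := by rw [← pow_mul, ← pow_succ]
      rw [h2] at h1
      exact not_sq_inverts a hAn h4 (h ^ (2 ^ j)) h1
  -- index two
  have hidx : (Subgroup.zpowers a).index = 2 := by
    rw [Subgroup.index_eq_two_iff]
    refine ⟨g, fun b => ?_⟩
    by_cases hb : b ∈ Subgroup.zpowers a
    · right
      refine ⟨hb, fun hbg => hg ?_⟩
      have : g = b⁻¹ * (b * g) := by group
      rw [this]
      exact Subgroup.mul_mem _ (Subgroup.inv_mem _ hb) hbg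
    · left
      refine ⟨?_, hb⟩
      apply hCA
      rw [Subgroup.mem_centralizer_iff]
      intro x hx
      have h1 := hout b hb x hx
      have h2 := hginv x⁻¹ (Subgroup.inv_mem _ hx)
      rw [inv_inv] at h2
      -- b⁻¹ x b = x⁻¹, g⁻¹ x⁻¹ g = x
      calc x * (b * g) = b * (b⁻¹ * x * b) * g := by group
        _ = b * x⁻¹ * g := by rw [h1]
        _ = b * g * (g⁻¹ * x⁻¹ * g) := by group
        _ = b * g * x := by rw [h2]
  have hcard : Nat.card G = 4 * 2 ^ m' := by
    rw [← Subgroup.card_mul_index (Subgroup.zpowers a), hidx, Nat.card_zpowers, hm]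
    ring
  have hord : orderOf a = 2 * 2 ^ m' := by
    rw [hm]
    ring
  have hb : g * g = a ^ (2 ^ m') := by
    rw [← sq, ← hz₀def]
    have h1 : g ^ 2 ∈ Subgroup.zpowers z₀ := hU z₀ (g ^ 2) hz₀ hg2o
    obtain ⟨k, hk⟩ := (Submonoid.mem_powers_iff _ _).mp (mem_powers_iff_mem_zpowers.mpr h1)
    rw [← pow_mod_orderOf, hz₀] at hk
    rcases Nat.mod_two_eq_zero_or_one k with h0 | h0
    · exfalso
      rw [h0, pow_zero] at hk
      rw [← hk, orderOf_one] at hg2o
      omega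
    · rw [h0, pow_one] at hk
      exact hk.symm
  have hcb : g * a * g⁻¹ = a⁻¹ := by
    have h2 := hginv a⁻¹ (Subgroup.inv_mem _ (Subgroup.mem_zpowers a))
    rw [inv_inv] at h2
    calc g * a * g⁻¹ = g * (g⁻¹ * a⁻¹ * g) * g⁻¹ := by rw [h2]
      _ = a⁻¹ := by group
  have : NeZero (2 ^ m') := ⟨pow_ne_zero _ (by norm_num)⟩
  exact ⟨m', nonempty_mulEquiv_quaternion (2 ^ m') a g hcard hord hb hcb hg⟩


/-- A finite `p`-group with only one subgroup of order `p` is cyclic or generalized quaternion. -/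
theorem cyclic_or_quaternion_of_unique {G : Type*} [Group G] [Finite G] (p : ℕ) [hp : Fact p.Prime]
    (hG : IsPGroup p G)
    (huniq : ∀ H K : Subgroup G, Nat.card H = p → Nat.card K = p → H = K) :
    IsCyclic G ∨ (p = 2 ∧ ∃ n : ℕ, Nonempty (G ≃* QuaternionGroup (2 ^ n))) := by
  have hU := uniqueOrderP_of_subgroups p huniq
  by_cases hc : IsCyclic G
  · exact Or.inl hc
  · right
    by_cases hp2 : p = 2
    · subst hp2
      exact ⟨rfl, quaternion_of_uniqueOrderP_two hG hU hc⟩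
    · exfalso
      obtain ⟨A, -, ⟨hAc, hAe⟩, hAcard⟩ := exists_normal_elementary_sq hp2 hG hc
      have hAcyc : IsCyclic A :=
        isCyclic_of_comm_of_uniqueOrderP (hG.to_subgroup A) (fun x y => mul_comm' x y)
          (hU.subgroup A)
      obtain ⟨x, hx⟩ := hAcyc.exists_generator
      have h1 : orderOf x = Nat.card A := orderOf_eq_card_of_forall_mem_zpowers hx
      have h2 : x ^ p = 1 := Subtype.ext (by simpa using hAe x x.2)
      have h3 := orderOf_dvd_of_pow_eq_one h2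
      rw [h1, hAcard] at h3
      have h4 := Nat.le_of_dvd hp.out.pos h3
      have h5 := hp.out.one_lt
      nlinarith

end Cfsg.Agent.Lib.Helper97
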