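import Mathlib
import Cfsg.Prelude.Def_Transfer
import Cfsg.Prelude.Def_Solvable

set_option autoImplicit false

/-! Transport of `Cfsg.HasNormalPComplement` along homomorphisms (keystone K1-III, signatures from
`notes/ThompsonSpec.lean.txt`). -/

namespace Cfsg.Agent.Lib.Helper97

open Cfsg

section PartIII
variable {G : Type*} [Group G] [Finite G] {p : ℕ} [Fact p.Prime]

/-- `HasNormalPComplement` = existence of a normal subgroup of order prime to `p` and index a
power of `p`. -/
theorem pn_iff : HasNormalPComplement p G ↔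
    ∃ N : Subgroup G, N.Normal ∧ (Nat.card N).Coprime p ∧ ∃ k : ℕ, N.index = p ^ k := by
  have hp : p.Prime := Fact.out
  constructor
  · rintro ⟨P, N, hN, hc⟩
    refine ⟨N, hN, ?_, ?_⟩
    · rw [← hc.index_eq_card]
      exact (Nat.Coprime.symm ((Nat.Prime.coprime_iff_not_dvd hp).mpr P.not_dvd_index))
    · obtain ⟨k, hk⟩ := IsPGroup.iff_card.mp P.2
      exact ⟨k, by rw [hc.symm.index_eq_card, hk]⟩
  · rintro ⟨N, hN, hcop, k, hk⟩
    obtain ⟨P⟩ := (Sylow.nonempty : Nonempty (Sylow p G))
    refine ⟨P, N, hN, ?_⟩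
    obtain ⟨j, hj⟩ := IsPGroup.iff_card.mp P.2
    have h1 := Subgroup.card_mul_index N
    have h2 := Subgroup.card_mul_index (P : Subgroup G)
    rw [hk] at h1
    rw [hj] at h2
    have hnd : ¬ p ∣ (P : Subgroup G).index := P.not_dvd_index
    have hcopi : (p ^ k).Coprime (P : Subgroup G).index :=
      Nat.Coprime.pow_left k ((Nat.Prime.coprime_iff_not_dvd hp).mpr hnd)
    have hcopn : (p ^ j).Coprime (Nat.card N) := Nat.Coprime.pow_left j hcop.symm
    have hjk : p ^ j = p ^ k := by
      apply Nat.dvd_antisymm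
      · apply hcopn.dvd_of_dvd_mul_left
        rw [h1, ← h2]
        exact Dvd.intro _ rfl
      · apply hcopi.dvd_of_dvd_mul_right
        rw [h2, ← h1]
        exact Dvd.intro_left _ rfl
    apply Subgroup.isComplement'_of_coprime
    · rw [hj, hjk, h1]
    · rw [hj]
      exact hcopn.symm

theorem pn_of_injective {H : Type*} [Group H] (f : H →* G) (hf : Function.Injective f)
    (h : HasNormalPComplement p G) : HasNormalPComplement p H := by
  have hp : p.Prime := Fact.out
  have : Finite H := Finite.of_injective f hf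
  obtain ⟨N, hN, hcop, k, hk⟩ := pn_iff.mp h
  refine pn_iff.mpr ⟨N.comap f, hN.comap f, ?_, ?_⟩
  · exact Nat.Coprime.coprime_dvd_left (Subgroup.card_comap_dvd_of_injective N f hf) hcop
  · have h1 : (N.comap f).index ∣ p ^ k := by
      rw [Subgroup.index_comap, ← hk]
      exact Subgroup.relIndex_dvd_index_of_normal N f.range
    obtain ⟨j, -, hj⟩ := (Nat.dvd_prime_pow hp).mp h1
    exact ⟨j, hj⟩

theorem pn_of_surjective {H : Type*} [Group H] (f : G →* H) (hf : Function.Surjective f)
    (h : HasNormalPComplement p G) : HasNormalPComplement p H := by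
  have hp : p.Prime := Fact.out
  have : Finite H := Finite.of_surjective f hf
  obtain ⟨N, hN, hcop, k, hk⟩ := pn_iff.mp h
  refine pn_iff.mpr ⟨N.map f, hN.map f hf, ?_, ?_⟩
  · exact Nat.Coprime.coprime_dvd_left (Subgroup.card_map_dvd N f) hcop
  · have h1 : (N.map f).index ∣ p ^ k := by
      rw [← hk]
      exact Subgroup.index_map_dvd N hf
    obtain ⟨j, -, hj⟩ := (Nat.dvd_prime_pow hp).mp h1
    exact ⟨j, hj⟩

theorem pn_of_le {A B : Subgroup G} (hAB : A ≤ B) (h : HasNormalPComplement p ↥B) :
    HasNormalPComplement p ↥A :=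
  pn_of_injective (Subgroup.inclusion hAB) (Subgroup.inclusion_injective hAB) h

theorem pn_of_map_le {H : Type*} [Group H] (f : H →* G) (hf : Function.Injective f)
    (A : Subgroup H) (B : Subgroup G) (hAB : A.map f ≤ B) (h : HasNormalPComplement p ↥B) :
    HasNormalPComplement p ↥A := by
  let g : ↥A →* ↥B := (f.comp A.subtype).codRestrict B
    (fun a => hAB (Subgroup.mem_map_of_mem f a.2))
  have hg : Function.Injective g := by
    intro x y hxy
    have h1 : f x = f y := congrArg Subtype.val hxy
    exact Subtype.ext (hf h1)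
  exact pn_of_injective g hg h

theorem pn_map {H : Type*} [Group H] (f : G →* H) (A : Subgroup G)
    (h : HasNormalPComplement p ↥A) : HasNormalPComplement p ↥(A.map f) :=
  pn_of_surjective (f.subgroupMap A) (f.subgroupMap_surjective A) h

theorem pn_top_iff : HasNormalPComplement p ↥(⊤ : Subgroup G) ↔ HasNormalPComplement p G := by
  constructor
  · intro h
    exact pn_of_injective (Subgroup.topEquiv (G := G)).symm.toMonoidHom
      (Subgroup.topEquiv (G := G)).symm.injective h
  · intro h
    exact pn_of_injective (⊤ : Subgroup G).subtype (Subgroup.subtype_injective _) h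

theorem pn_of_coprime_card (h : (Nat.card G).Coprime p) : HasNormalPComplement p G := by
  refine pn_iff.mpr ⟨⊤, inferInstance, ?_, 0, ?_⟩
  · rw [Subgroup.card_top]; exact h
  · rw [Subgroup.index_top, pow_zero]

theorem pn_of_quotient_coprime (N : Subgroup G) [N.Normal] (hN : (Nat.card N).Coprime p)
    (h : HasNormalPComplement p (G ⧸ N)) : HasNormalPComplement p G := by
  obtain ⟨M, hM, hcop, k, hk⟩ := pn_iff.mp h
  refine pn_iff.mpr ⟨M.comap (QuotientGroup.mk' N), hM.comap _, ?_, k, ?_⟩
  · have h1 : (M.comap (QuotientGroup.mk' N)).index = M.index :=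
      Subgroup.index_comap_of_surjective M (QuotientGroup.mk'_surjective N)
    have h2 := Subgroup.card_mul_index (M.comap (QuotientGroup.mk' N))
    have h3 := Subgroup.card_mul_index M
    have h4 := Subgroup.card_eq_card_quotient_mul_card_subgroup N
    have hpos : 0 < M.index := Nat.pos_of_ne_zero Subgroup.index_ne_zero_of_finite
    rw [h1] at h2
    have h5 : Nat.card (M.comap (QuotientGroup.mk' N)) * M.index
        = (Nat.card M * Nat.card N) * M.index := by
      rw [h2, h4, ← h3]; ring
    rw [Nat.eq_of_mul_eq_mul_right hpos h5]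
    exact Nat.Coprime.mul_left hcop hN
  · rw [Subgroup.index_comap_of_surjective M (QuotientGroup.mk'_surjective N), hk]

omit [Finite G] [Fact (Nat.Prime p)] in
/-- elements of order prime to `p` lie in every normal subgroup of `p`-power index -/
theorem mem_of_coprime_of_index_pow (N : Subgroup G) [N.Normal] {k : ℕ} (hk : N.index = p ^ k)
    (x : G) (hx : (orderOf x).Coprime p) : x ∈ N := by
  have h1 : orderOf (QuotientGroup.mk' N x) ∣ orderOf x := orderOf_map_dvd _ x
  have h2 : orderOf (QuotientGroup.mk' N x) ∣ p ^ k := by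
    rw [← hk, Subgroup.index_eq_card]
    exact orderOf_dvd_natCard _
  have h3 : orderOf (QuotientGroup.mk' N x) = 1 :=
    Nat.eq_one_of_dvd_coprimes (Nat.Coprime.pow_right k hx) h1 h2
  rw [orderOf_eq_one_iff] at h3
  exact (QuotientGroup.eq_one_iff x).mp h3

/-- a normal subgroup with a normal p-complement, in a group with O_{p'} = 1, is a p-group -/
theorem isPGroup_of_pn_of_normal (C : Subgroup G) [hC : C.Normal] (h : HasNormalPComplement p ↥C)
    (hO : pPrimeCore p G = ⊥) : IsPGroup p C := by
  obtain ⟨L, hL, hcop, k, hk⟩ := pn_iff.mp h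
  have hLn : (L.map C.subtype).Normal := by
    refine ⟨fun x hx g => ?_⟩
    obtain ⟨y, hy, rfl⟩ := Subgroup.mem_map.mp hx
    have hmem : g * (C.subtype y) * g⁻¹ ∈ C := hC.conj_mem _ y.2 g
    refine Subgroup.mem_map.mpr ⟨⟨g * (C.subtype y) * g⁻¹, hmem⟩, ?_, rfl⟩
    apply mem_of_coprime_of_index_pow L hk
    have h1 : orderOf (⟨g * (C.subtype y) * g⁻¹, hmem⟩ : ↥C) = orderOf y := by
      rw [← Subgroup.orderOf_coe, ← Subgroup.orderOf_coe]
      have : g * (C.subtype y) * g⁻¹ = MulAut.conj g (y : G) := by simp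
      show orderOf (g * (C.subtype y) * g⁻¹) = orderOf (y : G)
      rw [this]
      exact MulEquiv.orderOf_eq (MulAut.conj g) (y : G)
    rw [h1]
    have h2 : orderOf y ∣ Nat.card L := by
      have := orderOf_dvd_natCard (⟨y, hy⟩ : ↥L)
      rwa [Subgroup.orderOf_mk] at this
    exact Nat.Coprime.coprime_dvd_left h2 hcop
  have hLcard : Nat.card (L.map C.subtype) = Nat.card L :=
    Subgroup.card_map_of_injective C.subtype_injective
  have hle : L.map C.subtype ≤ pPrimeCore p G := by
    apply le_sSup
    exact ⟨hLn, by rw [hLcard]; exact hcop⟩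
  rw [hO, le_bot_iff] at hle
  have hLbot : L = ⊥ := by
    rw [← Subgroup.card_eq_one] at hle ⊢
    rw [← hLcard]; exact hle
  rw [hLbot, Subgroup.index_bot] at hk
  exact IsPGroup.of_card hk

end PartIII

end Cfsg.Agent.Lib.Helper97
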