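import Mathlib
import Cfsg.Agent.S1350
import Cfsg.Agent.S1417
import Cfsg.Agent.S1418
import Cfsg.Agent.S1423
import Cfsg.Agent.Lib.Helper58.BG1217
import Cfsg.Agent.Lib.Helper12.CNMaxSub
import Cfsg.Agent.Lib.Helper13.BG12B
import Cfsg.Agent.Lib.Helper29.Sup
import Cfsg.Agent.Lib.Helper31.BG134Defs
import Cfsg.Agent.Lib.Helper31.BG12a
import Cfsg.Agent.Lib.Helper55.SylowIn

/-!
# K-S1428-G4 (keystone 142804): BG 13.1(a) for `s ∈ τ₂(H)`, via Lemma K (`no_sigma_overgroup`)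
-/

set_option autoImplicit false

namespace Cfsg.Agent.Lib.Helper97.BG134

open Cfsg Cfsg.Agent.Lib.Helper55 Cfsg.Agent.Lib.Helper31.BG134

variable {G : Type*} [Group G] [Finite G]

theorem centralizes_of_mem_tau2 (hG : IsMinSimpleOddOrder G) {M H : Subgroup G}
    (hM : IsCoatom M) (hH : IsCoatom H) (hnc : ∀ g : G, cj g M ≠ H)
    {s : ℕ} [Fact s.Prime] (hsM : s ∉ sigma M) (hsH : s ∈ tau2 H) {X : Subgroup G}
    (hXs : IsPGroup s X) (hXM : X ≤ M) (hXH : X ≤ H) :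
    X ≤ Subgroup.centralizer ((sigmaCore M ⊓ H : Subgroup G) : Set G) := by
  by_contra hne
  have hsp : s.Prime := Fact.out
  -- `X` normalizes `K = M_σ ∩ H`
  have hXK : X ≤ Subgroup.normalizer ((sigmaCore M ⊓ H : Subgroup G) : Set G) := by
    intro x hx
    have h1 := Cfsg.Agent.Lib.Helper71.BG11.le_normalizer_sigmaCore M (hXM hx)
    rw [Subgroup.mem_normalizer_iff] at h1 ⊢
    intro k
    rw [Subgroup.mem_inf, Subgroup.mem_inf, ← h1 k]
    have h2 : k ∈ H ↔ x * k * x⁻¹ ∈ H := by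
      constructor
      · intro hk
        exact H.mul_mem (H.mul_mem (hXH hx) hk) (H.inv_mem (hXH hx))
      · intro hk
        have : k = x⁻¹ * (x * k * x⁻¹) * x := by group
        rw [this]
        exact H.mul_mem (H.mul_mem (H.inv_mem (hXH hx)) hk) (hXH hx)
    rw [h2]
  have hne' : ¬ (sigmaCore M ⊓ H : Subgroup G) ≤ Subgroup.centralizer (X : Set G) := by
    intro h
    exact hne (Subgroup.le_centralizer_iff.1 h)
  -- `A ≤ H` elementary abelian of order `s ^ 2`; `H_σ` nilpotent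
  obtain ⟨A, hAH, hAe, hAc⟩ := Cfsg.Agent.Lib.Helper13.BG12.exists_elemAb_sq_of_tau2 hsH
  have hnil : Group.IsNilpotent (sigmaCore H) :=
    (Cfsg.Agent.S1417.result hG H hH s hsH A ⟨hAH, hAe, hAc⟩).1
  have hnc' : ∀ g : G, cj g H ≠ M := by
    intro g hg
    apply hnc g⁻¹
    rw [← hg, cj_inv_cj]
  have hdisj : ∀ q : ℕ, q ∈ sigma H → q ∈ sigma M → False := fun q hqH hqM =>
    Cfsg.Agent.Lib.Helper31.BG12.sigma_sigma_disjoint hG hH hM hnc' hnil hqH hqM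
  -- `K X` is a `σ(H)'`-group
  have hKXH : (sigmaCore M ⊓ H : Subgroup G) ⊔ X ≤ H := sup_le inf_le_right hXH
  have hKXpi : ∀ q : ℕ, q.Prime → q ∣ Nat.card ↥((sigmaCore M ⊓ H : Subgroup G) ⊔ X) →
      q ∉ sigma H := by
    intro q hq hqd hqH
    have h1 := hqd.trans
      (Cfsg.Agent.Lib.Helper29.card_sup_dvd_of_le_normalizer (sigmaCore M ⊓ H) X hXK)
    rcases (Nat.Prime.dvd_mul hq).1 h1 with h | h
    · have hqM : q ∈ sigma M := Cfsg.Agent.Lib.Helper71.BG11.sigmaCore_pi hG hM hq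
        (h.trans (Subgroup.card_dvd_of_le inf_le_left))
      exact hdisj q hqH hqM
    · obtain ⟨k, hk⟩ := hXs.exists_card_eq
      rw [hk] at h
      have : q = s := (Nat.prime_dvd_prime_iff_eq hq hsp).1 (hq.dvd_of_dvd_pow h)
      rw [this] at hqH
      exact hsH.2.1 hqH
  have hHallH := (Cfsg.Agent.S1350.result hG H hH).1
  obtain ⟨E₁, hE₁, hKXE⟩ :=
    Cfsg.Agent.Lib.Helper13.BG12.exists_complIn_ge hG hH hHallH hKXH hKXpi
  obtain ⟨A', hA'E, hA'e, hA'c⟩ :=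
    Cfsg.Agent.Lib.Helper13.BG12.exists_elemAb_sq_le_compl hG hH hHallH hsH hE₁
  have hEN : E₁ ≤ Subgroup.normalizer (A' : Set G) :=
    (Cfsg.Agent.S1418.result hG H hH E₁ hE₁ s hsH A' ⟨hA'E, hA'e, hA'c⟩).1.1
  have hA'1 : A' ≠ ⊥ := by
    intro h
    rw [h, Subgroup.card_bot] at hA'c
    have := hsp.two_le
    have : 2 ^ 2 ≤ s ^ 2 := Nat.pow_le_pow_left this 2
    omega
  have hA'top : A' ≠ ⊤ := by
    intro h
    have : (⊤ : Subgroup G) ≤ H := h ▸ hA'E.trans hE₁.1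
    exact hH.1 (top_le_iff.1 this)
  obtain ⟨M₃, hM₃, hNM₃⟩ :=
    Cfsg.Agent.Lib.Helper12.CNMaxSub.exists_coatom_normalizer_le hG hA'1 hA'top
  have hs3 : s ∈ sigma M₃ :=
    Cfsg.Agent.Lib.Helper58.BG12.mem_sigma_of_normalizer_elemAb_le hG hM₃
      (fun p _ hp B hB => Cfsg.Agent.S1417.result hG M₃ hM₃ p hp B hB) hA'e hA'c hNM₃
  have h23 : Cfsg.Agent.Lib.Helper58.BG12.Hyp23 M₃ := fun q _ hq Y hYL hYc hY P =>
    (Cfsg.Agent.S1423.result hG M₃ hM₃ q hq Y hYL hYc P (Or.inr hY)).2.1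
  have hKXM₃ : (sigmaCore M ⊓ H : Subgroup G) ⊔ X ≤ M₃ := hKXE.trans (hEN.trans hNM₃)
  exact Cfsg.Agent.Lib.Helper58.BG12.no_sigma_overgroup hG hM hsM
    (C := (sigmaCore M ⊓ H : Subgroup G)) (S := X) inf_le_left hXs hXK hne' hM₃ h23
    (le_sup_left.trans hKXM₃) (le_sup_right.trans hKXM₃) hs3

end Cfsg.Agent.Lib.Helper97.BG134
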