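import Mathlib
import Cfsg.Agent.S0176
import Cfsg.Agent.Lib.Helper80.Monomial
import Cfsg.Agent.Lib.Helper85.CliffordCorr
import Cfsg.Agent.Lib.Helper34.GenChar
import Cfsg.Agent.Lib.Helper83.SecondOrth
import Cfsg.Agent.Lib.Helper83.Linear
import Cfsg.Agent.Lib.Helper83.Quotient

/-!
# Groups with two character degrees: monomial / nilpotent part

`TwoDeg G m`: every irreducible character of `G` has degree `1` or `m`.
The lemmas `td_mem_of_indFun_one_eq` and `td_perm_const_degree` are copies of auxiliary lemmas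
from the proof of Taketa's theorem (S0175, helper80), restated here under fresh names.
-/

set_option autoImplicit false

namespace Cfsg.Agent.Lib.Helper97

open Cfsg Cfsg.Agent.Lib.Helper80 Cfsg.Agent.Lib.Helper85 Cfsg.Agent.Lib.Helper83
open scoped ComplexConjugate commutatorElement

/-- If the permutation character of `G` on `G/H` takes at `x` its value at `1`, then `x ∈ H`. -/
theorem td_mem_of_indFun_one_eq {G : Type*} [Group G] [Fintype G] (H : Subgroup G) (x : G)
    (hx : Cfsg.indFun H (fun _ => (1 : ℂ)) x = Cfsg.indFun H (fun _ => (1 : ℂ)) 1) : x ∈ H := by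
  classical
  rw [Cfsg.Agent.Lib.Helper04.indFun_apply, Cfsg.Agent.Lib.Helper04.indFun_apply] at hx
  have hH0 : (Nat.card H : ℂ)⁻¹ ≠ 0 := by
    have : 0 < Nat.card H := Nat.card_pos
    have h : (Nat.card H : ℂ) ≠ 0 := by exact_mod_cast this.ne'
    exact inv_ne_zero h
  have hx' := mul_left_cancel₀ hH0 hx
  have hext : ∀ y : G, Cfsg.extendByZero H (fun _ => (1 : ℂ)) y = if y ∈ H then 1 else 0 := by
    intro y
    split_ifs with hy
    · rw [Cfsg.Agent.Lib.Helper04.extendByZero_apply_of_mem _ _ y hy]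
    · rw [Cfsg.Agent.Lib.Helper04.extendByZero_apply_not_mem _ _ y hy]
  simp only [hext] at hx'
  rw [Finset.sum_boole, Finset.sum_boole] at hx'
  have h2 : (Finset.univ.filter fun g : G => g⁻¹ * x * g ∈ H).card =
      (Finset.univ.filter fun g : G => g⁻¹ * 1 * g ∈ H).card := by exact_mod_cast hx'
  have h3 : (Finset.univ.filter fun g : G => g⁻¹ * 1 * g ∈ H) = Finset.univ := by
    ext g; simp
  rw [h3] at h2
  have h4 := (Finset.card_eq_iff_eq_univ _).1 h2
  have h5 : (1 : G) ∈ Finset.univ.filter fun g : G => g⁻¹ * x * g ∈ H := by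
    rw [h4]; exact Finset.mem_univ _
  simpa using h5


/-- Constituents of the permutation character on `G/H`, of index `d + 1` with `d ≥ 1`, have degree
at most `d`. -/
theorem td_perm_const_degree {G : Type*} [Group G] [Fintype G] [Fintype (IrrCharacter G)]
    (H : Subgroup G) (d : ℕ) (hd : 1 ≤ d) (hidx : H.index = d + 1) (ψ : IrrCharacter G)
    (hm : irrMult (Cfsg.indFun H fun _ => (1 : ℂ)) ψ ≠ 0) (k : ℕ) (hk : ψ.1 1 = k) : k ≤ d := by
  classical
  letI : Fintype H := Fintype.ofFinite _
  set Φ : G → ℂ := Cfsg.indFun H fun _ => (1 : ℂ) with hΦdef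
  have hΦ : IsCharacter G Φ := Cfsg.Agent.Lib.Helper34.isCharacter_indFun H isCharacter_one
  have hdec := char_eq_sum_irrMult hΦ
  have h1 : Φ 1 = ((d + 1 : ℕ) : ℂ) := by
    rw [hΦdef, indFun_apply_one, hidx, mul_one]
  have hsum : (d + 1 : ℕ) = ∑ φ : IrrCharacter G, irrMult Φ φ * charDegree (φ : G → ℂ) := by
    have h2 := congrFun hdec 1
    rw [h1] at h2
    simp only [Finset.sum_apply, Pi.smul_apply, smul_eq_mul] at h2
    have h3 : ∀ φ : IrrCharacter G, (irrMult Φ φ : ℂ) * (φ : G → ℂ) 1 =
        ((irrMult Φ φ * charDegree (φ : G → ℂ) : ℕ) : ℂ) := by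
      intro φ
      rw [Nat.cast_mul, charDegree_cast (IrrCharacter_isCharacter φ)]
    rw [Finset.sum_congr rfl fun φ _ => h3 φ, ← Nat.cast_sum] at h2
    exact_mod_cast h2
  -- the trivial character has multiplicity one
  have hτ : irrMult Φ (trivChar G) = 1 := by
    have h4 := irrMult_cast hΦ (trivChar G)
    rw [hΦdef, Cfsg.Agent.Lib.Helper04.frobenius_reciprocity H _ _
      (char_isClassFunction (IrrCharacter_isCharacter (trivChar G)))] at h4
    have h5 : Cfsg.classInner (fun _ : H => (1 : ℂ)) (fun h : H => (trivChar G : G → ℂ) h) = 1 := by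
      unfold Cfsg.classInner
      simp only [trivChar_apply, map_one, mul_one, Finset.sum_const, Finset.card_univ,
        nsmul_eq_mul]
      rw [Nat.card_eq_fintype_card]
      have : (Fintype.card H : ℂ) ≠ 0 := by
        have : 0 < Fintype.card H := Fintype.card_pos
        exact_mod_cast this.ne'
      field_simp
    rw [h5] at h4
    exact_mod_cast h4
  have hdegτ : charDegree ((trivChar G : IrrCharacter G) : G → ℂ) = 1 := by
    have := charDegree_cast (IrrCharacter_isCharacter (trivChar G))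
    rw [trivChar_apply] at this
    exact_mod_cast this
  have hkdeg : charDegree (ψ : G → ℂ) = k := by
    have := charDegree_cast (IrrCharacter_isCharacter ψ)
    rw [hk] at this
    exact_mod_cast this
  by_cases hψτ : ψ = trivChar G
  · rw [hψτ, hdegτ] at hkdeg
    omega
  · have h6 : ∑ φ ∈ ({ψ, trivChar G} : Finset (IrrCharacter G)),
        irrMult Φ φ * charDegree (φ : G → ℂ) ≤
        ∑ φ : IrrCharacter G, irrMult Φ φ * charDegree (φ : G → ℂ) :=
      Finset.sum_le_sum_of_subset (Finset.subset_univ _)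
    rw [Finset.sum_pair hψτ, ← hsum, hτ, hdegτ, hkdeg] at h6
    have h7 : 1 ≤ irrMult Φ ψ := Nat.one_le_iff_ne_zero.2 hm
    nlinarith


/-- every irreducible character of `G` has degree `1` or `m`. -/
def TwoDeg (G : Type*) [Group G] (m : ℕ) : Prop :=
  ∀ χ : IrrCharacter G, charDegree (χ : G → ℂ) = 1 ∨ charDegree (χ : G → ℂ) = m

/-- `TwoDeg` passes to quotients. -/
theorem TwoDeg.quotient {G : Type*} [Group G] [Finite G] {m : ℕ} (h : TwoDeg G m)
    (N : Subgroup G) [N.Normal] : TwoDeg (G ⧸ N) m := by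
  intro ψ
  have hirr : IsIrrCharacter G (fun g : G => (ψ : G ⧸ N → ℂ) (QuotientGroup.mk g)) :=
    isIrrCharacter_inflate N ψ.2
  have h1 := h ⟨_, hirr⟩
  have hdeg : charDegree (fun g : G => (ψ : G ⧸ N → ℂ) (QuotientGroup.mk g)) =
      charDegree (ψ : G ⧸ N → ℂ) := rfl
  rw [hdeg] at h1
  exact h1

/-- In a group with `TwoDeg G m`, `m ≥ 2`, a subgroup of index `m` contains the commutator
subgroup. -/
theorem TwoDeg.mem_of_index_eq {G : Type*} [Group G] [Fintype G] {m : ℕ} (h : TwoDeg G m)
    (hm : 2 ≤ m) (H : Subgroup G) (hidx : H.index = m) : ∀ y ∈ commutator G, y ∈ H := by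
  classical
  letI : Fintype (IrrCharacter G) := Fintype.ofFinite _
  intro y hy
  apply td_mem_of_indFun_one_eq
  have hΦ : IsCharacter G (Cfsg.indFun H fun _ => (1 : ℂ)) :=
    Cfsg.Agent.Lib.Helper34.isCharacter_indFun H isCharacter_one
  have hdec := char_eq_sum_irrMult hΦ
  rw [congrFun hdec y, congrFun hdec 1]
  simp only [Finset.sum_apply, Pi.smul_apply, smul_eq_mul]
  apply Finset.sum_congr rfl
  intro ψ _
  by_cases hmψ : irrMult (Cfsg.indFun H fun _ => (1 : ℂ)) ψ = 0
  · rw [hmψ]; simp
  · obtain ⟨k, hk⟩ := char_one_eq_nat (IrrCharacter_isCharacter ψ)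
    have hkd := td_perm_const_degree H (m - 1) (by omega) (by omega) ψ hmψ k hk
    have hkdeg : charDegree (ψ : G → ℂ) = k := by
      have := charDegree_cast (IrrCharacter_isCharacter ψ)
      rw [hk] at this
      exact_mod_cast this
    have hk1 : k = 1 := by
      rcases h ψ with h1 | h1 <;> omega
    have hψ1 : (ψ : G → ℂ) 1 = 1 := by rw [hk, hk1]; simp
    rw [char_deg_one_commutator (IrrCharacter_isCharacter ψ) hψ1 hy, hψ1]

/-- Taketa step: a monomial irreducible character of a `TwoDeg` group has the second derived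
subgroup in its kernel. -/
theorem TwoDeg.monomial_ker {G : Type*} [Group G] [Fintype G] {m : ℕ} (h : TwoDeg G m)
    (χ : G → ℂ) (hχ : IsIrrCharacter G χ) (H : Subgroup G) (lam : H →* ℂˣ)
    (hχind : χ = Cfsg.indFun H (fun h => (lam h : ℂ))) :
    ∀ x ∈ ⁅commutator G, commutator G⁆, χ x = χ 1 := by
  classical
  have hχc := isCharacter_of_irr hχ
  have hle : ⁅commutator G, commutator G⁆ ≤ commutator G := by
    rw [commutator_def]
    exact Subgroup.commutator_mono le_top le_top
  have hcast := charDegree_cast hχc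
  by_cases hd1 : charDegree χ = 1
  · intro x hx
    have h1 : χ 1 = 1 := by rw [← hcast, hd1]; simp
    rw [char_deg_one_commutator hχc h1 (hle hx), h1]
  · have hdm : charDegree χ = m := by
      rcases h ⟨χ, hχ⟩ with h1 | h1
      · exact absurd h1 hd1
      · exact h1
    have hpos : 0 < charDegree χ := by
      have := Cfsg.Agent.Lib.Helper83.irr_charDegree_pos (⟨χ, hχ⟩ : IrrCharacter G)
      exact this
    have hm2 : 2 ≤ m := by omega
    have hidx : H.index = m := by
      have h2 : χ 1 = (H.index : ℂ) * ((lam 1 : ℂˣ) : ℂ) := by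
        rw [hχind, indFun_apply_one]
      rw [map_one, Units.val_one, mul_one, ← hcast, hdm] at h2
      exact_mod_cast h2.symm
    have hsub : ∀ y ∈ commutator G, y ∈ H := h.mem_of_index_eq hm2 H hidx
    have hN : (commutator G).Normal := inferInstance
    have hker : ⁅commutator G, commutator G⁆ ≤ charKer hχc := by
      rw [Subgroup.commutator_le]
      intro y₁ hy₁ y₂ hy₂
      rw [mem_charKer]
      have hval : ∀ c : G, (∀ g : G, ∃ hc : g⁻¹ * c * g ∈ H, lam ⟨g⁻¹ * c * g, hc⟩ = 1) →
          χ c = (Nat.card H : ℂ)⁻¹ * (Fintype.card G : ℂ) := by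
        intro c hc
        rw [hχind, Cfsg.Agent.Lib.Helper04.indFun_apply]
        congr 1
        have : ∀ g : G, Cfsg.extendByZero H (fun h => ((lam h : ℂˣ) : ℂ)) (g⁻¹ * c * g) = 1 := by
          intro g
          obtain ⟨hc1, hc2⟩ := hc g
          rw [Cfsg.Agent.Lib.Helper04.extendByZero_apply_of_mem _ _ _ hc1, hc2]
          rfl
        rw [Finset.sum_congr rfl fun g _ => this g]
        simp
      rw [hval ⁅y₁, y₂⁆, hval 1]
      · intro g
        refine ⟨by simp, ?_⟩
        have : (⟨g⁻¹ * 1 * g, by simp⟩ : H) = 1 := by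
          apply Subtype.ext; simp
        rw [this, map_one]
      · intro g
        have h1 : g⁻¹ * y₁ * g ∈ H := by
          apply hsub
          have := hN.conj_mem y₁ hy₁ g⁻¹
          simpa using this
        have h2 : g⁻¹ * y₂ * g ∈ H := by
          apply hsub
          have := hN.conj_mem y₂ hy₂ g⁻¹
          simpa using this
        have heq : g⁻¹ * ⁅y₁, y₂⁆ * g = ⁅g⁻¹ * y₁ * g, g⁻¹ * y₂ * g⁆ := by
          simp only [commutatorElement_def]; group
        have hmem : g⁻¹ * ⁅y₁, y₂⁆ * g ∈ H := by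
          rw [heq, commutatorElement_def]
          exact H.mul_mem (H.mul_mem (H.mul_mem h1 h2) (H.inv_mem h1)) (H.inv_mem h2)
        refine ⟨hmem, ?_⟩
        have h3 : (⟨g⁻¹ * ⁅y₁, y₂⁆ * g, hmem⟩ : H) =
            ⁅(⟨g⁻¹ * y₁ * g, h1⟩ : H), (⟨g⁻¹ * y₂ * g, h2⟩ : H)⁆ := by
          apply Subtype.ext
          show g⁻¹ * ⁅y₁, y₂⁆ * g = _
          rw [heq]
          simp [commutatorElement_def]
        rw [h3, map_commutatorElement, commutatorElement_def]
        rw [mul_comm (lam _) (lam _), mul_assoc, mul_assoc, mul_inv_cancel_left,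
          mul_inv_cancel]
    intro x hx
    exact (mem_charKer hχc x).1 (hker hx)

/-- A finite nilpotent group with `TwoDeg` has commutative derived subgroup. -/
theorem TwoDeg.comm_of_nilpotent {G : Type*} [Group G] [Fintype G] [Group.IsNilpotent G] {m : ℕ}
    (h : TwoDeg G m) : ∀ a ∈ commutator G, ∀ b ∈ commutator G, a * b = b * a := by
  classical
  letI : Fintype (IrrCharacter G) := Fintype.ofFinite _
  intro a ha b hb
  have hx : ⁅a, b⁆ ∈ ⁅commutator G, commutator G⁆ := Subgroup.commutator_mem_commutator ha hb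
  have hall : ∀ χ : IrrCharacter G, χ.1 ⁅a, b⁆ = χ.1 1 := by
    intro χ
    obtain ⟨H, lam, hind⟩ := Cfsg.Agent.S0176.result χ.1 χ.2
    exact h.monomial_ker χ.1 χ.2 H lam hind _ hx
  have h1 := second_orthogonality ⁅a, b⁆ (1 : G)
  have h2 := second_orthogonality (1 : G) (1 : G)
  have h3 : ∑ χ : IrrCharacter G, (χ : G → ℂ) ⁅a, b⁆ * conj ((χ : G → ℂ) 1) =
      ∑ χ : IrrCharacter G, (χ : G → ℂ) 1 * conj ((χ : G → ℂ) 1) :=
    Finset.sum_congr rfl fun χ _ => by rw [hall χ]
  rw [h3, h2, if_pos (IsConj.refl _)] at h1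
  have hone : ⁅a, b⁆ = 1 := by
    by_contra hcon
    rw [if_neg (fun h => hcon (isConj_one_left.1 h))] at h1
    have hpos : 0 < Nat.card (Subgroup.centralizer ({(1 : G)} : Set G)) := Nat.card_pos
    have : (Nat.card (Subgroup.centralizer ({(1 : G)} : Set G)) : ℂ) ≠ 0 := by
      exact_mod_cast hpos.ne'
    exact this h1
  exact commutatorElement_eq_one_iff_mul_comm.mp hone

end Cfsg.Agent.Lib.Helper97
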