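import Mathlib
import Cfsg.Agent.Lib.Helper97.TwoDeg
import Cfsg.Agent.Lib.Helper04.ThompsonDeg
import Cfsg.Agent.Lib.Helper79.ItoSolvable
import Cfsg.Agent.Lib.Helper80.DetCoprime
import Cfsg.Agent.Lib.Helper84.Clifford
import Cfsg.Agent.Lib.Helper85.CliffordAbelian

/-!
# Groups with two character degrees: the derived subgroup is abelian (Isaacs 12.6)

For `TwoDeg G m`, `m ≥ 2`, let `M` be the intersection of the residuals `O^p(G)` over the primes
`p ∣ m`.  By Thompson's theorem each `O^p(G)` is a `p'`-group, so `M` is a normal Hall subgroup,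
abelian, with nilpotent quotient.  Stabilizers of the (linear) characters of `M` have index `1` or
`m` and therefore contain `G'`; hence `G'` centralizes `M`, and `G'` is central-by-abelian with
coprime orders, hence abelian.
-/

set_option autoImplicit false

namespace Cfsg.Agent.Lib.Helper97

open Cfsg Cfsg.Agent.Lib.Helper85 Cfsg.Agent.Lib.Helper83
open Cfsg.Agent.Lib.Helper04 (OpRes OpRes_normal OpRes_index card_OpRes_coprime)
open scoped ComplexConjugate commutatorElement

universe u

theorem mul_comm_of_conj_eq {G : Type*} [Group G] {g x : G} (h : g * x * g⁻¹ = x) :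
    x * g = g * x := by
  have := congrArg (· * g) h
  simpa using this.symm

theorem commutatorElement_pow_left_of_commute {G : Type*} [Group G] (a b : G)
    (h : Commute ⁅a, b⁆ a) (k : ℕ) : ⁅a ^ k, b⁆ = ⁅a, b⁆ ^ k := by
  induction k with
  | zero => simp
  | succ k ih =>
    have key : ∀ x : G, ⁅x * a, b⁆ = x * ⁅a, b⁆ * x⁻¹ * ⁅x, b⁆ := by
      intro x
      simp only [commutatorElement_def]
      group
    rw [pow_succ a k, key, ih]
    have hc : a ^ k * ⁅a, b⁆ * (a ^ k)⁻¹ = ⁅a, b⁆ := by
      rw [← (h.pow_right k).eq, mul_inv_cancel_right]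
    rw [hc, pow_succ' ⁅a, b⁆ k]

section General

variable {G : Type u} [Group G] [Finite G] {m : ℕ}

/-- a normal subgroup of order prime to `m` in a `TwoDeg G m` group is commutative. -/
theorem TwoDeg.comm_of_hall (h : TwoDeg G m) (M : Subgroup G) [hM : M.Normal]
    (hcopm : (Nat.card M).Coprime m) : ∀ a b : M, a * b = b * a := by
  classical
  letI : Fintype G := Fintype.ofFinite G
  apply Cfsg.Agent.Lib.Helper79.comm_of_all_linear
  intro θ
  obtain ⟨χ, e, hχ⟩ := Cfsg.Agent.Lib.Helper79.exists_irr_over M hM θ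
  have hdvd : charDegree (θ : M → ℂ) ∣ charDegree (χ : G → ℂ) := Dvd.intro_left _ hχ.symm
  have hdvdM : charDegree (θ : M → ℂ) ∣ Nat.card M := irr_charDegree_dvd_card θ
  rcases h χ with h1 | h1
  · rw [h1] at hdvd
    exact Nat.dvd_one.mp hdvd
  · rw [h1] at hdvd
    exact Nat.eq_one_of_dvd_coprimes hcopm hdvdM hdvd

/-- the stabilizer of a linear character of a normal Hall subgroup has index `1` or `m`. -/
theorem TwoDeg.stab_index (h : TwoDeg G m) (M : Subgroup G) [hM : M.Normal]
    (hcop : (Nat.card M).Coprime M.index) (θ : M → ℂ) (hθ : IsIrrCharacter M θ) (hθ1 : θ 1 = 1) :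
    (conjStab hM θ).index = 1 ∨ (conjStab hM θ).index = m := by
  classical
  letI : Fintype G := Fintype.ofFinite G
  have hθc := isCharacter_of_irr hθ
  have hMT : M ≤ conjStab hM θ := le_conjStab hM (char_isClassFunction hθc)
  have hinv : ∀ g : G, g ∈ conjStab hM θ → ∀ n : M,
      θ ⟨g * n * g⁻¹, hM.conj_mem (n : G) n.2 g⟩ = θ n := by
    intro g hg n
    exact congrFun ((mem_conjStab hM θ g).mp hg) n
  have hrel : M.relIndex (conjStab hM θ) ∣ M.index := Subgroup.relIndex_dvd_index_of_le hMT
  have hcop' : (Nat.card M).Coprime (M.relIndex (conjStab hM θ)) := hcop.coprime_dvd_right hrel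
  obtain ⟨η, hη, hηres⟩ :=
    Cfsg.Agent.Lib.Helper80.exists_ext_subgroup_of_coprime M (conjStab hM θ) hMT θ hθ hinv hcop'
  letI : Fintype M := Fintype.ofFinite _
  letI : Fintype (conjStab hM θ) := Fintype.ofFinite _
  have hT : ∀ g : G, g ∈ conjStab hM θ ↔
      ∀ n : M, Cfsg.Agent.Lib.Helper84.conjFun M g θ n = θ n := by
    intro g
    rw [mem_conjStab]
    constructor
    · intro hg n
      exact congrFun hg n
    · intro hg
      funext n
      exact hg n
  have hres : Cfsg.Agent.Lib.Helper84.resFun M (conjStab hM θ) hMT η = θ := by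
    funext n
    exact hηres n
  have h0 : classInner θ θ = 1 := irr_inner_self (⟨θ, hθ⟩ : IrrCharacter M)
  have h1 : classInner (Cfsg.Agent.Lib.Helper84.resFun M (conjStab hM θ) hMT η) θ ≠ 0 := by
    rw [hres, h0]
    exact one_ne_zero
  have hirr : IsIrrCharacter G (indFun (conjStab hM θ) η) :=
    Cfsg.Agent.Lib.Helper84.isIrrCharacter_indFun_inertia M (conjStab hM θ) hMT hθ hT hη h1
  have hη1 : η 1 = 1 := by
    have h2 := hηres 1
    rw [hθ1] at h2
    rw [← h2]
    rfl
  have hdeg : indFun (conjStab hM θ) η 1 = ((conjStab hM θ).index : ℂ) := by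
    rw [indFun_apply_one, hη1, mul_one]
  have hcd : charDegree (indFun (conjStab hM θ) η) = (conjStab hM θ).index := by
    have h2 := charDegree_cast (isCharacter_of_irr hirr)
    rw [hdeg] at h2
    exact_mod_cast h2
  have h3 := h ⟨_, hirr⟩
  change charDegree (indFun (conjStab hM θ) η) = 1 ∨ charDegree (indFun (conjStab hM θ) η) = m at h3
  rw [hcd] at h3
  exact h3

/-- the derived subgroup stabilizes every linear character of a normal Hall subgroup. -/
theorem TwoDeg.commutator_le_stab (h : TwoDeg G m) (hm : 2 ≤ m) (M : Subgroup G) [hM : M.Normal]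
    (hcop : (Nat.card M).Coprime M.index) (θ : M → ℂ) (hθ : IsIrrCharacter M θ) (hθ1 : θ 1 = 1) :
    ∀ g ∈ commutator G, g ∈ conjStab hM θ := by
  classical
  letI : Fintype G := Fintype.ofFinite G
  rcases h.stab_index M hcop θ hθ hθ1 with h1 | h1
  · intro g _
    rw [Subgroup.index_eq_one.mp h1]
    exact Subgroup.mem_top g
  · exact h.mem_of_index_eq hm _ h1

/-- the derived subgroup centralizes a commutative normal Hall subgroup. -/
theorem TwoDeg.commutator_centralizes (h : TwoDeg G m) (hm : 2 ≤ m) (M : Subgroup G)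
    [hM : M.Normal] (hcop : (Nat.card M).Coprime M.index) (hab : ∀ a b : M, a * b = b * a) :
    ∀ g ∈ commutator G, ∀ x ∈ M, g * x * g⁻¹ = x := by
  intro g hg x hx
  have key : (⟨g * x * g⁻¹, hM.conj_mem x hx g⟩ : M) = ⟨x, hx⟩ := by
    apply Cfsg.Agent.Lib.Helper79.eq_of_forall_irr_eq hab
    intro θ
    have hθ1 : (θ : M → ℂ) 1 = 1 := irr_apply_one_of_comm hab θ.2
    have hmem := h.commutator_le_stab hm M hcop θ.1 θ.2 hθ1 g hg
    exact congrFun ((mem_conjStab hM θ.1 g).mp hmem) ⟨x, hx⟩
  exact congrArg Subtype.val key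

end General

section HallCore

variable {G : Type u} [Group G] [Finite G] {m : ℕ}

/-- the intersection of the residuals `O^p(G)` over the primes `p` dividing `m`. -/
def hallCore (G : Type*) [Group G] (m : ℕ) : Subgroup G :=
  ⨅ p : {p : ℕ // p ∈ m.primeFactors}, OpRes G p.1

omit [Finite G] in
theorem opRes_normal97 (p : ℕ) : (OpRes G p).Normal := OpRes_normal p

attribute [local instance] opRes_normal97

omit [Finite G] in
instance hallCore_normal (m : ℕ) : (hallCore G m).Normal :=
  Subgroup.normal_iInf_normal (fun p => OpRes_normal p.1)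

omit [Finite G] in
theorem exists_hallCore_hom (m : ℕ) :
    ∃ φ : G →* (∀ p : {p : ℕ // p ∈ m.primeFactors}, G ⧸ OpRes G p.1),
      φ.ker = hallCore G m := by
  refine ⟨MonoidHom.pi (fun p => QuotientGroup.mk' (OpRes G p.1)), ?_⟩
  ext g
  rw [MonoidHom.mem_ker, hallCore, Subgroup.mem_iInf]
  constructor
  · intro hg p
    have := congrFun hg p
    exact (QuotientGroup.eq_one_iff g).mp this
  · intro hg
    funext p
    exact (QuotientGroup.eq_one_iff g).mpr (hg p)

theorem hallCore_quotient_isNilpotent (m : ℕ) : Group.IsNilpotent (G ⧸ hallCore G m) := by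
  classical
  obtain ⟨φ, hker⟩ := exists_hallCore_hom (G := G) m
  have hnil : ∀ p : {p : ℕ // p ∈ m.primeFactors}, Group.IsNilpotent (G ⧸ OpRes G p.1) := by
    intro p
    haveI : Fact p.1.Prime := ⟨Nat.prime_of_mem_primeFactors p.2⟩
    obtain ⟨k, hk⟩ := OpRes_index (G := G) p.1
    have hpg : IsPGroup p.1 (G ⧸ OpRes G p.1) :=
      IsPGroup.of_card (n := k) (by rw [← Subgroup.index_eq_card]; exact hk)
    exact hpg.isNilpotent
  haveI := hnil
  haveI : Group.IsNilpotent φ.range := inferInstance
  exact Group.nilpotent_of_mulEquiv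
    ((QuotientGroup.quotientMulEquivOfEq hker.symm).trans
      (QuotientGroup.quotientKerEquivRange φ)).symm

theorem mem_primeFactors_of_dvd_hallCore_index (m q : ℕ) (hq : q.Prime)
    (hdvd : q ∣ (hallCore G m).index) : q ∈ m.primeFactors := by
  classical
  obtain ⟨φ, hker⟩ := exists_hallCore_hom (G := G) m
  have h1 : (hallCore G m).index = Nat.card φ.range := by rw [← hker, Subgroup.index_ker]
  have h2 : Nat.card φ.range ∣
      Nat.card (∀ p : {p : ℕ // p ∈ m.primeFactors}, G ⧸ OpRes G p.1) :=
    Subgroup.card_subgroup_dvd_card _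
  rw [Nat.card_pi] at h2
  rw [h1] at hdvd
  obtain ⟨p, -, hp⟩ := (Nat.Prime.prime hq).exists_mem_finset_dvd (hdvd.trans h2)
  haveI : Fact p.1.Prime := ⟨Nat.prime_of_mem_primeFactors p.2⟩
  obtain ⟨k, hk⟩ := OpRes_index (G := G) p.1
  rw [← Subgroup.index_eq_card, hk] at hp
  have hqp : q = p.1 :=
    (Nat.prime_dvd_prime_iff_eq hq (Nat.prime_of_mem_primeFactors p.2)).mp
      (hq.dvd_of_dvd_pow hp)
  rw [hqp]
  exact p.2

theorem TwoDeg.card_hallCore_coprime_prime (h : TwoDeg G m) {p : ℕ} (hp : p ∈ m.primeFactors) :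
    (Nat.card (hallCore G m)).Coprime p := by
  haveI : Fact p.Prime := ⟨Nat.prime_of_mem_primeFactors hp⟩
  have hdeg : ∀ χ : IrrCharacter G, charDegree (χ : G → ℂ) ≠ 1 →
      p ∣ charDegree (χ : G → ℂ) := by
    intro χ h1
    rcases h χ with h2 | h2
    · exact absurd h2 h1
    · rw [h2]
      exact Nat.dvd_of_mem_primeFactors hp
  have h1 := card_OpRes_coprime p hdeg
  have hle : hallCore G m ≤ OpRes G p :=
    iInf_le (fun p : {p : ℕ // p ∈ m.primeFactors} => OpRes G p.1) ⟨p, hp⟩
  exact Nat.Coprime.coprime_dvd_left (Subgroup.card_dvd_of_le hle) h1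

theorem TwoDeg.card_hallCore_coprime (h : TwoDeg G m) (hm : m ≠ 0) :
    (Nat.card (hallCore G m)).Coprime m := by
  apply Nat.coprime_of_dvd
  intro k hk hk1 hk2
  have hmem : k ∈ m.primeFactors := Nat.mem_primeFactors.mpr ⟨hk, hk2, hm⟩
  have := h.card_hallCore_coprime_prime hmem
  exact (Nat.Prime.coprime_iff_not_dvd hk).mp this.symm hk1

theorem TwoDeg.card_hallCore_coprime_index (h : TwoDeg G m) :
    (Nat.card (hallCore G m)).Coprime (hallCore G m).index := by
  apply Nat.coprime_of_dvd
  intro k hk hk1 hk2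
  have hmem := mem_primeFactors_of_dvd_hallCore_index (G := G) m k hk hk2
  have := h.card_hallCore_coprime_prime hmem
  exact (Nat.Prime.coprime_iff_not_dvd hk).mp this.symm hk1

/-- **Isaacs 12.6**: a finite group with irreducible character degrees in `{1, m}` has
commutative derived subgroup. -/
theorem TwoDeg.comm_commutator (h : TwoDeg G m) (hm : 2 ≤ m) :
    ∀ a ∈ commutator G, ∀ b ∈ commutator G, a * b = b * a := by
  classical
  have hcopm : (Nat.card (hallCore G m)).Coprime m := h.card_hallCore_coprime (by omega)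
  have hcop : (Nat.card (hallCore G m)).Coprime (hallCore G m).index :=
    h.card_hallCore_coprime_index
  have hab := h.comm_of_hall (hallCore G m) hcopm
  have hcent := h.commutator_centralizes hm (hallCore G m) hcop hab
  haveI hnil : Group.IsNilpotent (G ⧸ hallCore G m) := hallCore_quotient_isNilpotent m
  letI : Fintype (G ⧸ hallCore G m) := Fintype.ofFinite _
  have hq := (h.quotient (hallCore G m)).comm_of_nilpotent
  have hmap : (commutator G).map (QuotientGroup.mk' (hallCore G m)) ≤
      commutator (G ⧸ hallCore G m) := by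
    rw [commutator_def, commutator_def, Subgroup.map_commutator]
    exact Subgroup.commutator_mono le_top le_top
  intro a ha b hb
  have hcM : ⁅a, b⁆ ∈ hallCore G m := by
    rw [← QuotientGroup.eq_one_iff]
    have ha' : (QuotientGroup.mk' (hallCore G m)) a ∈ commutator (G ⧸ hallCore G m) :=
      hmap (Subgroup.mem_map_of_mem _ ha)
    have hb' : (QuotientGroup.mk' (hallCore G m)) b ∈ commutator (G ⧸ hallCore G m) :=
      hmap (Subgroup.mem_map_of_mem _ hb)
    have hcomm := hq _ ha' _ hb'
    have h1 : ((⁅a, b⁆ : G) : G ⧸ hallCore G m) =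
        ⁅(QuotientGroup.mk' (hallCore G m)) a, (QuotientGroup.mk' (hallCore G m)) b⁆ :=
      map_commutatorElement (QuotientGroup.mk' (hallCore G m)) a b
    rw [h1]
    exact commutatorElement_eq_one_iff_mul_comm.mpr hcomm
  have hca : Commute ⁅a, b⁆ a := mul_comm_of_conj_eq (hcent a ha _ hcM)
  have hpow := commutatorElement_pow_left_of_commute a b hca (hallCore G m).index
  have han : a ^ (hallCore G m).index ∈ hallCore G m := Subgroup.pow_index_mem _ a
  have h1 : ⁅a, b⁆ ^ (hallCore G m).index = 1 := by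
    rw [← hpow, commutatorElement_eq_one_iff_mul_comm]
    exact mul_comm_of_conj_eq (hcent b hb _ han)
  have h2 : ⁅a, b⁆ ^ Nat.card (hallCore G m) = 1 := by
    have h3 : (⟨⁅a, b⁆, hcM⟩ : hallCore G m) ^ Nat.card (hallCore G m) = 1 := pow_card_eq_one'
    have h4 := congrArg Subtype.val h3
    simpa only [Subgroup.coe_pow, Subgroup.coe_one] using h4
  have h3 : orderOf ⁅a, b⁆ = 1 :=
    Nat.eq_one_of_dvd_coprimes hcop (orderOf_dvd_of_pow_eq_one h2) (orderOf_dvd_of_pow_eq_one h1)
  exact commutatorElement_eq_one_iff_mul_comm.mp (orderOf_eq_one_iff.mp h3)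

end HallCore

end Cfsg.Agent.Lib.Helper97
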