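import Mathlib
import Cfsg.Agent.Lib.Helper41.InvBDefs

/-!
# K-IB-4a (392804): `Gen` passes to quotients
-/

set_option autoImplicit false
set_option linter.unusedSectionVars false

namespace Cfsg.Agent.Lib.Helper97.InvB

open Cfsg.Agent.Lib.Helper41.InvB

variable {Γ : Type*} [Group Γ] [Finite Γ]

/-- the image of a member of `TG a` lies in `TG (mk a)` -/
theorem mk_mem_TG (a : Γ) (N : Subgroup Γ) [N.Normal] {g : Γ} (hg : g ∈ TG a) :
    (QuotientGroup.mk g : Γ ⧸ N) ∈ TG (QuotientGroup.mk a : Γ ⧸ N) := by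
  obtain ⟨h1, h2⟩ := hg
  refine ⟨?_, ?_⟩
  · exact Odd.of_dvd_nat h1 (orderOf_map_dvd (QuotientGroup.mk' N) g)
  · rw [← QuotientGroup.mk_inv, ← QuotientGroup.mk_mul, ← QuotientGroup.mk_mul, h2,
      QuotientGroup.mk_inv]

/-- **LEAF 4a (392804).** -/
theorem gen_quot (a : Γ) (hg : Gen a) (N : Subgroup Γ) [N.Normal] :
    Gen (QuotientGroup.mk a : Γ ⧸ N) := by
  obtain ⟨ha, hcl⟩ := hg
  refine ⟨?_, ?_⟩
  · rw [← QuotientGroup.mk_mul, ha, QuotientGroup.mk_one]
  · rw [eq_top_iff]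
    have h1 : (⊤ : Subgroup (Γ ⧸ N)) = (Subgroup.closure (TG a ∪ {a})).map (QuotientGroup.mk' N) := by
      rw [hcl, ← MonoidHom.range_eq_map]
      exact (MonoidHom.range_eq_top.2 (QuotientGroup.mk'_surjective N)).symm
    rw [h1, MonoidHom.map_closure]
    apply Subgroup.closure_mono
    rintro _ ⟨g, hg | hg, rfl⟩
    · exact Or.inl (mk_mem_TG a N hg)
    · rw [Set.mem_singleton_iff] at hg
      rw [hg]
      exact Or.inr rfl

end Cfsg.Agent.Lib.Helper97.InvB
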