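import Mathlib
import Cfsg.Prelude.Def_OddOrderLocal
import Cfsg.Agent.Lib.Helper54.BG134A3a
import Cfsg.Agent.Lib.Helper32.CoprimeHall

/-!
# K-1366-O (keystone 136616): a `π`-subgroup of a solvable `M` lies in an `M`-conjugate of a given Hall
`π`-subgroup of `M`.
-/

set_option autoImplicit false

namespace Cfsg.Agent.Lib.Helper97.BG1366

open Cfsg Subgroup
open scoped Pointwise

variable {G : Type*} [Group G] [Finite G]

theorem card_mul_relIndex_of_le {H M : Subgroup G} (h : H ≤ M) :
    Nat.card H * H.relIndex M = Nat.card M := by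
  have := Subgroup.relIndex_mul_relIndex ⊥ H M bot_le h
  rwa [Subgroup.relIndex_bot_left, Subgroup.relIndex_bot_left] at this

/-- two Hall `π`-subgroups of `M` have the same order -/
theorem card_eq_of_isPiHallOf {M H K : Subgroup G} {π : Set ℕ} (hH : IsPiHallOf π H M)
    (hK : IsPiHallOf π K M) : Nat.card H = Nat.card K := by
  have key : ∀ {A B : Subgroup G}, IsPiHallOf π A M → IsPiHallOf π B M →
      Nat.card A ∣ Nat.card B := by
    intro A B hA hB
    have h1 : Nat.card A ∣ Nat.card B * B.relIndex M := by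
      rw [card_mul_relIndex_of_le hB.1]
      exact Subgroup.card_dvd_of_le hA.1
    have hcop : (Nat.card A).Coprime (B.relIndex M) := by
      apply Nat.coprime_of_dvd
      intro p hp hpA hpB
      exact hB.2.2 p hp (hA.2.1 p hp hpA) hpB
    exact hcop.dvd_of_dvd_mul_right h1
  exact Nat.dvd_antisymm (key hH hK) (key hK hH)

/-- KEYSTONE 136616  K-1366-O. -/
theorem exists_cj_ge_of_hall {M K A : Subgroup G} (hs : Group.IsSolvable ↥M) {π : Set ℕ}
    (hK : IsPiHallOf π K M) (hAM : A ≤ M) (hA : ∀ p : ℕ, p.Prime → p ∣ Nat.card A → p ∈ π) :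
    ∃ m ∈ M, A ≤ K.map (MulAut.conj m).toMonoidHom := by
  obtain ⟨H, hH, hAH⟩ := Cfsg.Agent.Lib.Helper54.BG134.exists_isPiHallOf_ge hs π hAM hA
  have hcard : Nat.card H = Nat.card K := card_eq_of_isPiHallOf hH hK
  have hcop : (Nat.card K).Coprime (K.relIndex M) := by
    apply Nat.coprime_of_dvd
    intro p hp hpK hpi
    exact hK.2.2 p hp (hK.2.1 p hp hpK) hpi
  obtain ⟨g, hg, hgK⟩ := Cfsg.Agent.Lib.Helper32.hall_conj_in M hs (Nat.card K)
    (K.relIndex M) (card_mul_relIndex_of_le hK.1).symm hcop hK.1 hH.1 rfl hcard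
  refine ⟨g, hg, ?_⟩
  have : K.map (MulAut.conj g).toMonoidHom = MulAut.conj g • K := rfl
  rw [this, hgK]
  exact hAH

end Cfsg.Agent.Lib.Helper97.BG1366
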