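import Mathlib
import Cfsg.Agent.Lib.Helper06.Hall4.Defs

/-!
# K-H4-BR2 (keystone 422102): the stabilizer of an embedding `Fin 4 ↪ α` is the pointwise stabilizer
of its four values.
-/

set_option autoImplicit false
open Equiv

namespace Cfsg.Agent.Lib.Helper97.Hall4
open Cfsg.Agent.Lib.Helper06.Hall4

variable {α : Type*} [Fintype α] [DecidableEq α]

theorem mem_stabilizer_iff_mem_FS (G : Subgroup (Perm α)) (x : Fin 4 ↪ α) (g : G) :
    g ∈ MulAction.stabilizer G x ↔ (g : Perm α) ∈ FS G {x 0, x 1, x 2, x 3} := by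
  rw [MulAction.mem_stabilizer_iff, mem_FS]
  constructor
  · intro h
    refine ⟨g.2, ?_⟩
    have h' : ∀ i, (g : Perm α) (x i) = x i := fun i => by
      have := congrArg (fun e : Fin 4 ↪ α => e i) h
      simpa [Function.Embedding.smul_apply, Subgroup.smul_def] using this
    intro s hs
    simp only [Set.mem_insert_iff, Set.mem_singleton_iff] at hs
    rcases hs with rfl | rfl | rfl | rfl <;> exact h' _
  · rintro ⟨_, h⟩
    ext i
    have : (g : Perm α) (x i) = x i := by
      apply h
      fin_cases i <;> simp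
    simpa [Function.Embedding.smul_apply, Subgroup.smul_def] using this

/-- LEAF BR2 (422102). -/
theorem card_stabilizer_eq (G : Subgroup (Perm α)) (x : Fin 4 ↪ α) :
    Nat.card (MulAction.stabilizer G x) = Nat.card (FS G {x 0, x 1, x 2, x 3}) :=
  Nat.card_congr
    { toFun := fun g => ⟨(g.1 : Perm α), (mem_stabilizer_iff_mem_FS G x g.1).1 g.2⟩
      invFun := fun g => ⟨⟨g.1, g.2.1⟩, (mem_stabilizer_iff_mem_FS G x ⟨g.1, g.2.1⟩).2 g.2⟩
      left_inv := fun g => rfl
      right_inv := fun g => rfl }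

end Cfsg.Agent.Lib.Helper97.Hall4
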