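import Mathlib

/-!
# K-S0688-5d: no two independent commuting elements of order `r` modulo `A`
when all abelian subgroups are cyclic.
-/

set_option autoImplicit false

namespace Cfsg.Agent.Lib.Helper97.NF

/-- in a finite cyclic group `C`: if `x ^ r, y ^ r ∈ A` and `x ∉ A` (`r` prime) then `y ∈ A ⊔ ⟨x⟩`. -/
theorem mem_sup_zpowers_of_cyclic {C : Type*} [CommGroup C] [Finite C] [IsCyclic C]
    (A : Subgroup C) (r : ℕ) (hr : r.Prime) (x y : C) (hxr : x ^ r ∈ A) (hyr : y ^ r ∈ A)
    (hxA : x ∉ A) : y ∈ A ⊔ Subgroup.zpowers x := by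
  have : Fact r.Prime := ⟨hr⟩
  -- the cyclic quotient
  have : IsCyclic (C ⧸ A) :=
    isCyclic_of_surjective (QuotientGroup.mk' A) (QuotientGroup.mk'_surjective A)
  set xb : C ⧸ A := QuotientGroup.mk x with hxb
  set yb : C ⧸ A := QuotientGroup.mk y with hyb
  have hxb1 : xb ≠ 1 := fun h => hxA ((QuotientGroup.eq_one_iff x).1 h)
  have hxbr : xb ^ r = 1 := by
    rw [hxb, ← QuotientGroup.mk_pow]; exact (QuotientGroup.eq_one_iff _).2 hxr
  have hybr : yb ^ r = 1 := by
    rw [hyb, ← QuotientGroup.mk_pow]; exact (QuotientGroup.eq_one_iff _).2 hyr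
  have hord : orderOf xb = r := orderOf_eq_prime hxbr hxb1
  -- kernel of the r-th power map
  have hKcard : Nat.card (powMonoidHom r : (C ⧸ A) →* (C ⧸ A)).ker ≤ r := by
    rw [IsCyclic.card_powMonoidHom_ker]
    exact Nat.gcd_le_right _ hr.pos
  have hle : Subgroup.zpowers xb ≤ (powMonoidHom r : (C ⧸ A) →* (C ⧸ A)).ker := by
    rw [Subgroup.zpowers_le, MonoidHom.mem_ker, powMonoidHom_apply]
    exact hxbr
  have heq : Subgroup.zpowers xb = (powMonoidHom r : (C ⧸ A) →* (C ⧸ A)).ker :=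
    Subgroup.eq_of_le_of_card_ge hle (by rw [Nat.card_zpowers, hord]; exact hKcard)
  have hyK : yb ∈ Subgroup.zpowers xb := by
    rw [heq, MonoidHom.mem_ker, powMonoidHom_apply]; exact hybr
  obtain ⟨k, hk⟩ := Subgroup.mem_zpowers_iff.1 hyK
  -- y = (y x^-k) x^k
  have hmem : (x ^ k)⁻¹ * y ∈ A := by
    rw [← QuotientGroup.eq, QuotientGroup.mk_zpow]
    exact hk
  have : y = ((x ^ k)⁻¹ * y) * x ^ k := by
    rw [mul_comm ((x ^ k)⁻¹) y, inv_mul_cancel_right]
  rw [this]
  exact Subgroup.mul_mem_sup hmem (Subgroup.zpow_mem_zpowers x k)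

variable {H : Type*} [Group H] [Finite H]

/-- **K-S0688-5d** -/
theorem no_two_independent
    (hcyc : ∀ M : Subgroup H, (∀ a ∈ M, ∀ b ∈ M, a * b = b * a) → IsCyclic M)
    (A : Subgroup H) (hAc : ∀ a ∈ A, ∀ b ∈ A, a * b = b * a) (r : ℕ) (hr : r.Prime)
    (x y : H) (hx : x ∈ Subgroup.centralizer (A : Set H)) (hy : y ∈ Subgroup.centralizer (A : Set H))
    (hxy : x * y = y * x) (hxr : x ^ r ∈ A) (hyr : y ^ r ∈ A) (hxA : x ∉ A)
    (hyA : y ∉ A ⊔ Subgroup.zpowers x) : False := by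
  -- M = ⟨A, x, y⟩ is commutative
  set T : Set H := (A : Set H) ∪ {x, y} with hT
  have hxc : ∀ a ∈ A, a * x = x * a := fun a ha => (Subgroup.mem_centralizer_iff.1 hx) a ha
  have hyc : ∀ a ∈ A, a * y = y * a := fun a ha => (Subgroup.mem_centralizer_iff.1 hy) a ha
  have hTT : ∀ s ∈ T, ∀ t ∈ T, s * t = t * s := by
    rintro s (hs | rfl | rfl) t (ht | rfl | rfl)
    · exact hAc s hs t ht
    · exact hxc s hs
    · exact hyc s hs
    · exact (hxc t ht).symm
    · rfl
    · exact hxy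
    · exact (hyc t ht).symm
    · exact hxy.symm
    · rfl
  have h2 : Subgroup.closure T ≤ Subgroup.centralizer T := by
    rw [Subgroup.closure_le]
    intro s hs
    exact Subgroup.mem_centralizer_iff.2 (fun t ht => hTT t ht s hs)
  have h4 : Subgroup.closure T ≤ Subgroup.centralizer (Subgroup.closure T : Set H) := by
    rw [Subgroup.closure_le]
    intro t ht
    refine Subgroup.mem_centralizer_iff.2 (fun m hm => ?_)
    exact ((Subgroup.mem_centralizer_iff.1 (h2 hm)) t ht).symm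
  have hMc : ∀ a ∈ Subgroup.closure T, ∀ b ∈ Subgroup.closure T, a * b = b * a :=
    fun a ha b hb => ((Subgroup.mem_centralizer_iff.1 (h4 hb)) a ha)
  have hcycM : IsCyclic (Subgroup.closure T) := hcyc _ hMc
  let : CommGroup (Subgroup.closure T) := IsCyclic.commGroup
  have hAM : A ≤ Subgroup.closure T := fun a ha => Subgroup.subset_closure (Or.inl ha)
  have hxM : x ∈ Subgroup.closure T := Subgroup.subset_closure (Or.inr (Or.inl rfl))
  have hyM : y ∈ Subgroup.closure T := Subgroup.subset_closure (Or.inr (Or.inr rfl))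
  have key := mem_sup_zpowers_of_cyclic (C := Subgroup.closure T)
    (A.subgroupOf (Subgroup.closure T)) r hr ⟨x, hxM⟩ ⟨y, hyM⟩
    (by rw [Subgroup.mem_subgroupOf]; exact hxr) (by rw [Subgroup.mem_subgroupOf]; exact hyr)
    (by rw [Subgroup.mem_subgroupOf]; exact hxA)
  apply hyA
  -- push forward along the inclusion
  have hmap := Subgroup.mem_map_of_mem (Subgroup.closure T).subtype key
  rw [Subgroup.map_sup, Subgroup.map_subgroupOf_eq_of_le hAM, MonoidHom.map_zpowers] at hmap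
  exact hmap
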