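import Mathlib
import Cfsg.Agent.Lib.Helper78.SL23Section

/-!
# K-S3361-P: a group of order 120 with a binary tetrahedral triple and a central element of order 5
is `SL(2,3) × C₅`.
-/

set_option autoImplicit false

namespace Cfsg.Agent.Lib.Helper97.NF

open Cfsg.Agent.Lib.Helper78

variable {H : Type*} [Group H] [Finite H]

/-- **K-S3361-P** -/
theorem iso_SL23_prod_C5 (hcard : Nat.card H = 120) (i j w c : H) (h : BTTriple i j w)
    (hc : orderOf c = 5) (hcz : ∀ x : H, c * x = x * c) :
    Nonempty (H ≃* Matrix.SpecialLinearGroup (Fin 2) (ZMod 3) × Multiplicative (ZMod 5)) := by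
  -- L = ⟨i, j, w⟩
  set L : Subgroup H := Subgroup.closure ({i, j, w} : Set H) with hL
  have hiL : i ∈ L := Subgroup.subset_closure (by simp)
  have hjL : j ∈ L := Subgroup.subset_closure (by simp)
  have hwL : w ∈ L := Subgroup.subset_closure (by simp)
  have hT : BTTriple (⟨i, hiL⟩ : L) ⟨j, hjL⟩ ⟨w, hwL⟩ := by
    refine ⟨?_, ?_, ?_, ?_, ?_, ?_⟩
    · rw [← h.hi]; exact Subgroup.orderOf_mk i hiL
    · exact Subtype.ext h.hjj
    · exact Subtype.ext h.hji
    · exact Subtype.ext h.hwi
    · exact Subtype.ext h.hwj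
    · exact Subtype.ext h.hw3
  have hgen : Subgroup.closure ({⟨i, hiL⟩, ⟨j, hjL⟩, ⟨w, hwL⟩} : Set L) = ⊤ := by
    have := Subgroup.closure_closure_coe_preimage (k := ({i, j, w} : Set H))
    convert this using 2
    ext x
    simp only [Set.mem_insert_iff, Set.mem_singleton_iff, Set.mem_preimage]
    constructor
    · rintro (rfl | rfl | rfl) <;> simp
    · rintro (hx | hx | hx)
      · left; exact Subtype.ext hx
      · right; left; exact Subtype.ext hx
      · right; right; exact Subtype.ext hx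
  obtain ⟨e1⟩ := hT.nonempty_mulEquiv_of_closure hgen
  have hcardL : Nat.card L = 24 := by
    rw [Nat.card_congr e1.toEquiv, Nat.card_eq_fintype_card]
    exact Cfsg.Agent.S2427.card24
  -- P = ⟨c⟩
  set P : Subgroup H := Subgroup.zpowers c with hP
  have hcardP : Nat.card P = 5 := by rw [Nat.card_zpowers, hc]
  have hPc : ∀ x ∈ P, ∀ y : H, x * y = y * x := by
    intro x hx y
    obtain ⟨k, rfl⟩ := Subgroup.mem_zpowers_iff.1 hx
    have : Commute c y := hcz y
    exact (this.zpow_left k).eq
  -- the product map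
  let φ : L × P →* H := MonoidHom.noncommCoprod L.subtype P.subtype
    (fun l x => (hPc x.1 x.2 l.1).symm)
  have hφ : ∀ lx : L × P, φ lx = (lx.1 : H) * (lx.2 : H) := fun lx => rfl
  have hinj : Function.Injective φ := by
    rw [injective_iff_map_eq_one]
    rintro ⟨l, x⟩ hlx
    rw [hφ] at hlx
    simp only at hlx
    -- l = x⁻¹ ∈ L ⊓ P
    have hlP : (l : H) ∈ P := by
      have : (l : H) = (x : H)⁻¹ := eq_inv_of_mul_eq_one_left hlx
      rw [this]; exact P.inv_mem x.2
    have h1 : orderOf (l : H) ∣ 24 := by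
      rw [← hcardL, Subgroup.orderOf_coe]; exact orderOf_dvd_natCard l
    have h2 : orderOf (l : H) ∣ 5 := by
      have := orderOf_dvd_natCard (⟨(l : H), hlP⟩ : P)
      rw [hcardP, ← Subgroup.orderOf_coe] at this
      exact this
    have h3 : orderOf (l : H) ∣ Nat.gcd 24 5 := Nat.dvd_gcd h1 h2
    have h4 : orderOf (l : H) = 1 := Nat.dvd_one.1 (by simpa using h3)
    have hl1 : (l : H) = 1 := orderOf_eq_one_iff.1 h4
    rw [hl1, one_mul] at hlx
    exact Prod.ext (Subtype.ext hl1) (Subtype.ext hlx)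
  have hbij : Function.Bijective φ := by
    rw [Nat.bijective_iff_injective_and_card]
    refine ⟨hinj, ?_⟩
    rw [Nat.card_prod, hcardL, hcardP, hcard]
  have e0 : L × P ≃* H := MulEquiv.ofBijective φ hbij
  have : Fact (Nat.Prime 5) := ⟨by norm_num⟩
  have e2 : P ≃* Multiplicative (ZMod 5) :=
    mulEquivOfPrimeCardEq (p := 5) hcardP (by
      rw [Nat.card_eq_fintype_card, Fintype.card_multiplicative, ZMod.card])
  exact ⟨e0.symm.trans (MulEquiv.prodCongr e1 e2)⟩

end Cfsg.Agent.Lib.Helper97.NF
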