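import Mathlib

/-!
# K-S2716-G1 (helper97): `D / I` cyclic of order 4, `y ∈ D \ P` generates `D` modulo `I`
-/

set_option autoImplicit false

namespace Cfsg.Agent.Lib.Helper97.S2716K

theorem zmod4_gen : ∀ b c : ZMod 4, b = 1 ∨ b = 3 → ∃ k : Fin 4, (k : ℕ) • b = c := by decide

theorem zmod4_two : ∀ a : ZMod 4, a ≠ 0 → a + a = 0 → a = 2 := by decide

theorem zmod4_cases : ∀ b : ZMod 4, b ≠ 0 → b - 2 ≠ 0 → b = 1 ∨ b = 3 := by decide

/-- K-S2716-G1 -/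
theorem cover_C4 {A : Type*} [Group A] (I P D : Subgroup A) (hIP : I ≤ P) (hPD : P ≤ D)
    (φ : ↥D →* Multiplicative (ZMod 4)) (hφ : Function.Surjective φ)
    (hker : φ.ker = I.subgroupOf D) (hrel : I.relIndex P = 2)
    (y : A) (hyD : y ∈ D) (hyP : y ∉ P) : D ≤ I ⊔ Subgroup.zpowers y := by
  have _ := hφ
  let ψ : ↥D → ZMod 4 := fun x => Multiplicative.toAdd (φ x)
  have hψmul : ∀ a b : ↥D, ψ (a * b) = ψ a + ψ b := by
    intro a b
    show Multiplicative.toAdd (φ (a * b)) = _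
    rw [map_mul, toAdd_mul]
  have hψinv : ∀ a : ↥D, ψ a⁻¹ = - ψ a := by
    intro a
    show Multiplicative.toAdd (φ a⁻¹) = _
    rw [map_inv, toAdd_inv]
  have hψpow : ∀ (a : ↥D) (k : ℕ), ψ (a ^ k) = k • ψ a := by
    intro a k
    show Multiplicative.toAdd (φ (a ^ k)) = _
    rw [map_pow, toAdd_pow]
  have hψ0 : ∀ a : ↥D, ψ a = 0 ↔ (a : A) ∈ I := by
    intro a
    have h1 : a ∈ φ.ker ↔ (a : A) ∈ I := by
      rw [hker, Subgroup.mem_subgroupOf]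
    rw [← h1, MonoidHom.mem_ker]
    show Multiplicative.toAdd (φ a) = 0 ↔ φ a = 1
    constructor
    · intro h
      have := congrArg Multiplicative.ofAdd h
      simpa using this
    · intro h
      rw [h]
      rfl
  -- an element of `P \ I`
  have hPI : ¬ P ≤ I := by
    intro h
    have := Subgroup.relIndex_eq_one.2 h
    rw [hrel] at this
    omega
  obtain ⟨p, hpP, hpI⟩ := SetLike.not_le_iff_exists.1 hPI
  have hpD : p ∈ D := hPD hpP
  have hpp : p * p ∈ I := by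
    have h1 : (I.subgroupOf P).index = 2 := hrel
    have h2 := Subgroup.mul_self_mem_of_index_two h1 (⟨p, hpP⟩ : ↥P)
    rw [Subgroup.mem_subgroupOf] at h2
    exact h2
  have hψp : ψ ⟨p, hpD⟩ = 2 := by
    apply zmod4_two
    · intro h
      exact hpI ((hψ0 _).1 h)
    · rw [← hψmul]
      exact (hψ0 _).2 hpp
  -- the image of `y`
  have hψy : ψ ⟨y, hyD⟩ = 1 ∨ ψ ⟨y, hyD⟩ = 3 := by
    apply zmod4_cases
    · intro h
      exact hyP (hIP ((hψ0 _).1 h))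
    · intro h
      have h1 : ψ (⟨y, hyD⟩ * ⟨p, hpD⟩⁻¹) = 0 := by
        rw [hψmul, hψinv, hψp, ← sub_eq_add_neg]
        exact h
      have h2 : y * p⁻¹ ∈ I := (hψ0 _).1 h1
      apply hyP
      have h3 : y = (y * p⁻¹) * p := by group
      rw [h3]
      exact P.mul_mem (hIP h2) hpP
  intro d hd
  obtain ⟨k, hk⟩ := zmod4_gen (ψ ⟨y, hyD⟩) (ψ ⟨d, hd⟩) hψy
  have h1 : ψ (⟨d, hd⟩ * (⟨y, hyD⟩ ^ (k : ℕ))⁻¹) = 0 := by
    rw [hψmul, hψinv, hψpow, hk, add_neg_cancel]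
  have h2 : d * (y ^ (k : ℕ))⁻¹ ∈ I := (hψ0 _).1 h1
  have h3 : d = (d * (y ^ (k : ℕ))⁻¹) * y ^ (k : ℕ) := by group
  rw [h3]
  exact Subgroup.mul_mem_sup h2 (Subgroup.pow_mem _ (Subgroup.mem_zpowers y) _)

end Cfsg.Agent.Lib.Helper97.S2716K
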