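import Mathlib
import Cfsg.Prelude.Def_GeometricClasses
import Cfsg.Agent.Lib.Helper46.AschODefs
import Cfsg.Agent.Lib.Helper63.AschB6

/-!
# K-S5673-B6b (helper97): tensor decomposition with forms, `a ≠ b`, gives class 4
-/

set_option autoImplicit false

namespace Cfsg.Agent.Lib.Helper97.AschO

open Cfsg Cfsg.Geo Cfsg.Agent.Lib.Helper46.AschO
open scoped Matrix Kronecker MatrixGroups

variable {F : Type*} [Field F]

/-- the bilinear form with Gram matrix `g` -/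
def gForm {k : ℕ} (g : Matrix (Fin k) (Fin k) F) (x y : Fin k → F) : F := x ⬝ᵥ (g *ᵥ y)

theorem gramMatrix_gForm {k : ℕ} (g : Matrix (Fin k) (Fin k) F) : gramMatrix (gForm g) = g := by
  ext a b
  simp [gramMatrix, gForm]

theorem gForm_symm {k : ℕ} (g : Matrix (Fin k) (Fin k) F) (hg : gᵀ = g) (x y : Fin k → F) :
    gForm g x y = gForm g y x := by
  unfold gForm
  rw [Matrix.dotProduct_mulVec, ← Matrix.mulVec_transpose, hg, dotProduct_comm]

theorem isSymmetricForm_gForm {k : ℕ} (g : Matrix (Fin k) (Fin k) F) (hg : gᵀ = g) (hu : IsUnit g) :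
    IsSymmetricForm (gForm g) := by
  have hnd : ∀ v : Fin k → F, v ≠ 0 → ∃ x, gForm g x v ≠ 0 := by
    intro v hv
    have h1 : g *ᵥ v ≠ 0 := by
      intro h0
      apply hv
      obtain ⟨u, rfl⟩ := hu
      have h2 : ((u⁻¹ : (Matrix (Fin k) (Fin k) F)ˣ) : Matrix (Fin k) (Fin k) F) *ᵥ
          ((u : Matrix (Fin k) (Fin k) F) *ᵥ v) = v := by
        rw [Matrix.mulVec_mulVec, Units.inv_mul, Matrix.one_mulVec]
      rw [← h2, h0, Matrix.mulVec_zero]
    obtain ⟨i, hi⟩ : ∃ i, (g *ᵥ v) i ≠ 0 := by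
      by_contra hcon
      push Not at hcon
      exact h1 (funext hcon)
    refine ⟨Pi.single i 1, ?_⟩
    unfold gForm
    simpa using hi
  refine ⟨⟨?_, ?_, ?_, ?_⟩, gForm_symm g hg, ?_⟩
  · intro x y v
    unfold gForm
    rw [add_dotProduct]
  · intro c x v
    unfold gForm
    rw [smul_dotProduct, smul_eq_mul]
  · intro v x y
    unfold gForm
    rw [Matrix.mulVec_add, dotProduct_add]
  · intro c v x
    unfold gForm
    rw [Matrix.mulVec_smul, dotProduct_smul, smul_eq_mul]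
  · intro v hv
    obtain ⟨x, hx⟩ := hnd v hv
    exact ⟨⟨x, hx⟩, ⟨x, by rwa [gForm_symm g hg]⟩⟩

theorem formOfGram_swap {a b : ℕ} (g₁ : Matrix (Fin a) (Fin a) F) (g₂ : Matrix (Fin b) (Fin b) F)
    (x y : Fin b × Fin a → F) :
    formOfGram id (g₁ ⊗ₖ g₂) (x ∘ Equiv.prodComm (Fin a) (Fin b)) (y ∘ Equiv.prodComm (Fin a) (Fin b)) =
      formOfGram id (g₂ ⊗ₖ g₁) x y := by
  unfold formOfGram
  rw [← Equiv.sum_comp (Equiv.prodComm (Fin a) (Fin b))]
  apply Finset.sum_congr rfl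
  intro u _
  rw [← Equiv.sum_comp (Equiv.prodComm (Fin a) (Fin b))]
  apply Finset.sum_congr rfl
  intro v _
  obtain ⟨i, j⟩ := u
  obtain ⟨k, l⟩ := v
  simp [Matrix.kroneckerMap_apply, mul_comm]

variable [Fintype F] {n : ℕ}

/-- K-S5673-B6b. -/
theorem ogeom_of_tensor_forms (hodd : Odd n) (Q : (Fin n → F) → F) (hQ : IsNondegenerateQuadraticForm Q)
    (K : Subgroup (GL (Fin n) F)) (a b : ℕ) (ha : 2 ≤ a) (hb : 2 ≤ b) (hab : a ≠ b)
    (e : Fin n ≃ Fin a × Fin b) (P : GL (Fin n) F) (hKT : K ≤ tensorProductSubgroup a b e P)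
    (g₁ : Matrix (Fin a) (Fin a) F) (g₂ : Matrix (Fin b) (Fin b) F) (h₁ : g₁ᵀ = g₁) (h₂ : g₂ᵀ = g₂)
    (hu₁ : IsUnit g₁) (hu₂ : IsUnit g₂)
    (hform : ∀ x y : Fin a × Fin b → F,
      QuadraticMap.polar Q ((P : Matrix (Fin n) (Fin n) F) *ᵥ (x ∘ e))
        ((P : Matrix (Fin n) (Fin n) F) *ᵥ (y ∘ e)) = formOfGram id (g₁ ⊗ₖ g₂) x y) :
    OGeom Q K := by
  have _ := hQ
  have hn : n = a * b := by
    have := Fintype.card_congr e
    rwa [Fintype.card_fin, Fintype.card_prod, Fintype.card_fin, Fintype.card_fin] at this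
  rw [hn, Nat.odd_mul] at hodd
  obtain ⟨hoa, hob⟩ := hodd
  have ha3 : 3 ≤ a := by
    obtain ⟨k, hk⟩ := hoa
    omega
  have hb3 : 3 ≤ b := by
    obtain ⟨k, hk⟩ := hob
    omega
  rcases lt_or_gt_of_ne hab with hlt | hgt
  · refine ⟨tensorProductSubgroup a b e P, ?_, hKT⟩
    refine Or.inr (Or.inr (Or.inr (Or.inr (Or.inr (Or.inl
      ⟨a, b, e, P, gForm g₁, gForm g₂, ha3, hlt, isSymmetricForm_gForm g₁ h₁ hu₁,
        isSymmetricForm_gForm g₂ h₂ hu₂, ⟨1, one_ne_zero, ?_⟩, rfl⟩)))))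
    intro x y
    rw [gramMatrix_gForm, gramMatrix_gForm, one_mul]
    exact hform x y
  · refine ⟨tensorProductSubgroup b a (e.trans (Equiv.prodComm _ _)) P, ?_,
      hKT.trans (Cfsg.Agent.Lib.Helper63.Asch.tensorProductSubgroup_le_swap e P)⟩
    refine Or.inr (Or.inr (Or.inr (Or.inr (Or.inr (Or.inl
      ⟨b, a, e.trans (Equiv.prodComm _ _), P, gForm g₂, gForm g₁, hb3, hgt,
        isSymmetricForm_gForm g₂ h₂ hu₂, isSymmetricForm_gForm g₁ h₁ hu₁, ⟨1, one_ne_zero, ?_⟩, rfl⟩)))))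
    intro x y
    rw [gramMatrix_gForm, gramMatrix_gForm, one_mul, ← formOfGram_swap]
    exact hform (x ∘ Equiv.prodComm (Fin a) (Fin b)) (y ∘ Equiv.prodComm (Fin a) (Fin b))

end Cfsg.Agent.Lib.Helper97.AschO
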