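import Mathlib
import Cfsg.Prelude.Def_GeometricClasses
import Cfsg.Agent.Lib.Helper61.AschDefs

/-!
# K-S5630-B5: the normalizer of `P (M_a(F) ⊗ 1_b) P⁻¹` lies in the Kronecker subgroup
`P (GL_a ⊗ GL_b) P⁻¹` (Skolem–Noether + centralizer of `M_a ⊗ 1`).
-/

set_option autoImplicit false
set_option linter.unusedSectionVars false

namespace Cfsg.Agent.Lib.Helper97.Asch

open Cfsg Cfsg.Geo Cfsg.Agent.Lib.Helper61.Asch
open scoped Matrix Kronecker MatrixGroups

variable {F : Type*} [Field F]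


theorem skolem_noether_matrix {m : Type*} [Fintype m] [DecidableEq m]
    (θ : Matrix m m F ≃ₐ[F] Matrix m m F) :
    ∃ u u' : Matrix m m F, u * u' = 1 ∧ u' * u = 1 ∧ ∀ x, θ x = u * x * u' := by
  let φ : Matrix m m F ≃ₐ[F] Module.End F (m → F) := Matrix.toLinAlgEquiv'
  let f : Module.End F (m → F) ≃ₐ[F] Module.End F (m → F) := φ.symm.trans (θ.trans φ)
  obtain ⟨T, hT⟩ := f.eq_linearEquivConjAlgEquiv
  refine ⟨LinearMap.toMatrix' T.toLinearMap, LinearMap.toMatrix' T.symm.toLinearMap, ?_, ?_, ?_⟩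
  · rw [← LinearMap.toMatrix'_comp]; simp
  · rw [← LinearMap.toMatrix'_comp]; simp
  · intro x
    have h1 : f (φ x) = φ (θ x) := by simp [f]
    have h2 : f (φ x) = T.toLinearMap ∘ₗ φ x ∘ₗ T.symm.toLinearMap := by
      rw [hT]; rfl
    have h3 : φ (θ x) = T.toLinearMap ∘ₗ (Matrix.toLin' x) ∘ₗ T.symm.toLinearMap := by
      rw [← h1, h2]; rfl
    have h4 : θ x = LinearMap.toMatrix' (φ (θ x)) := by
      show θ x = LinearMap.toMatrix' (Matrix.toLin' (θ x))
      rw [LinearMap.toMatrix'_toLin']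
    rw [h4, h3, LinearMap.toMatrix'_comp, LinearMap.toMatrix'_comp, LinearMap.toMatrix'_toLin',
      mul_assoc]

theorem kron_one_inj {a b : ℕ} (hb : 0 < b) {x y : Matrix (Fin a) (Fin a) F}
    (h : x ⊗ₖ (1 : Matrix (Fin b) (Fin b) F) = y ⊗ₖ (1 : Matrix (Fin b) (Fin b) F)) : x = y := by
  ext i j
  have := congrFun (congrFun h (i, ⟨0, hb⟩)) (j, ⟨0, hb⟩)
  simpa [Matrix.kroneckerMap_apply] using this

theorem centralizer_kron {a b : ℕ} (ha : 0 < a)
    (h : Matrix (Fin a × Fin b) (Fin a × Fin b) F)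
    (hc : ∀ x : Matrix (Fin a) (Fin a) F,
      h * (x ⊗ₖ (1 : Matrix (Fin b) (Fin b) F)) = (x ⊗ₖ (1 : Matrix (Fin b) (Fin b) F)) * h) :
    h = (1 : Matrix (Fin a) (Fin a) F) ⊗ₖ
      (Matrix.of fun k l => h (⟨0, ha⟩, k) (⟨0, ha⟩, l) : Matrix (Fin b) (Fin b) F) := by
  ext ⟨i, k⟩ ⟨p, l⟩
  have key := congrFun (congrFun (hc (Matrix.single p ⟨0, ha⟩ 1)) (i, k)) (⟨0, ha⟩, l)
  simp only [Matrix.mul_apply, Fintype.sum_prod_type, Matrix.kroneckerMap_apply, Matrix.single_apply,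
    Matrix.one_apply] at key
  have hL : (∑ x, ∑ r, h (i, k) (x, r) * ((if p = x ∧ True then (1:F) else 0) * if r = l then 1 else 0))
      = h (i, k) (p, l) := by
    rw [Finset.sum_eq_single p]
    · rw [Finset.sum_eq_single l]
      · simp
      · intro r _ hr; simp [hr]
      · simp
    · intro x _ hx; simp [Ne.symm hx]
    · simp
  have hR : (∑ x, ∑ r, ((if p = i ∧ (⟨0, ha⟩ : Fin a) = x then (1:F) else 0) * if k = r then 1 else 0) *
      h (x, r) (⟨0, ha⟩, l)) = if p = i then h (⟨0, ha⟩, k) (⟨0, ha⟩, l) else 0 := by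
    by_cases hpi : p = i
    · rw [Finset.sum_eq_single (⟨0, ha⟩ : Fin a)]
      · rw [Finset.sum_eq_single k]
        · simp [hpi]
        · intro r _ hr; simp [Ne.symm hr]
        · simp
      · intro x _ hx; simp [Ne.symm hx]
      · simp
    · simp [hpi]
  rw [hL, hR] at key
  rw [key]
  simp only [Matrix.kroneckerMap_apply, Matrix.one_apply, Matrix.of_apply]
  by_cases hpi : p = i
  · simp [hpi]
  · simp [hpi, Ne.symm hpi]

/-- the core statement about Kronecker products -/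
theorem kron_core {a b : ℕ} (ha : 0 < a) (hb : 0 < b)
    (G G' : Matrix (Fin a × Fin b) (Fin a × Fin b) F) (h1 : G * G' = 1) (h2 : G' * G = 1)
    (hN : ∀ x : Matrix (Fin a) (Fin a) F, ∃ y : Matrix (Fin a) (Fin a) F,
      G * (x ⊗ₖ (1 : Matrix (Fin b) (Fin b) F)) * G' = y ⊗ₖ (1 : Matrix (Fin b) (Fin b) F)) :
    ∃ (u : GL (Fin a) F) (v : GL (Fin b) F),
      G = (u : Matrix (Fin a) (Fin a) F) ⊗ₖ (v : Matrix (Fin b) (Fin b) F) := by
  choose θ hθ using hN
  have hadd : ∀ x y, θ (x + y) = θ x + θ y := by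
    intro x y
    apply kron_one_inj hb
    rw [← hθ, Matrix.add_kronecker, Matrix.add_kronecker, mul_add, add_mul, hθ, hθ]
  have hsmul : ∀ (c : F) x, θ (c • x) = c • θ x := by
    intro c x
    apply kron_one_inj hb
    rw [← hθ, Matrix.smul_kronecker, Matrix.smul_kronecker, Matrix.mul_smul, Matrix.smul_mul, hθ]
  have hone : θ 1 = 1 := by
    apply kron_one_inj hb
    rw [← hθ, Matrix.one_kronecker_one, mul_one, h1]
  have hmul : ∀ x y, θ (x * y) = θ x * θ y := by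
    intro x y
    apply kron_one_inj hb
    have e : (x * y) ⊗ₖ (1 : Matrix (Fin b) (Fin b) F) =
        (x ⊗ₖ (1 : Matrix (Fin b) (Fin b) F)) * (y ⊗ₖ (1 : Matrix (Fin b) (Fin b) F)) := by
      rw [← Matrix.mul_kronecker_mul, mul_one]
    have e' : (θ x * θ y) ⊗ₖ (1 : Matrix (Fin b) (Fin b) F) =
        (θ x ⊗ₖ (1 : Matrix (Fin b) (Fin b) F)) * (θ y ⊗ₖ (1 : Matrix (Fin b) (Fin b) F)) := by
      rw [← Matrix.mul_kronecker_mul, mul_one]
    rw [← hθ, e, e', ← hθ, ← hθ]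
    calc G * (x ⊗ₖ (1 : Matrix (Fin b) (Fin b) F) * y ⊗ₖ (1 : Matrix (Fin b) (Fin b) F)) * G'
        = G * x ⊗ₖ (1 : Matrix (Fin b) (Fin b) F) * 1 * (y ⊗ₖ (1 : Matrix (Fin b) (Fin b) F)) * G' := by
          simp only [mul_one, mul_assoc]
      _ = G * x ⊗ₖ (1 : Matrix (Fin b) (Fin b) F) * G' *
            (G * y ⊗ₖ (1 : Matrix (Fin b) (Fin b) F) * G') := by
          rw [← h2]; simp only [mul_assoc]
  have hinj : Function.Injective θ := by
    intro x y hxy
    apply kron_one_inj hb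
    have hx := hθ x
    have hy := hθ y
    rw [hxy, ← hy] at hx
    calc x ⊗ₖ (1 : Matrix (Fin b) (Fin b) F)
        = G' * G * x ⊗ₖ (1 : Matrix (Fin b) (Fin b) F) * (G' * G) := by rw [h2, one_mul, mul_one]
      _ = G' * (G * x ⊗ₖ (1 : Matrix (Fin b) (Fin b) F) * G') * G := by simp only [mul_assoc]
      _ = G' * (G * y ⊗ₖ (1 : Matrix (Fin b) (Fin b) F) * G') * G := by rw [hx]
      _ = G' * G * y ⊗ₖ (1 : Matrix (Fin b) (Fin b) F) * (G' * G) := by simp only [mul_assoc]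
      _ = y ⊗ₖ (1 : Matrix (Fin b) (Fin b) F) := by rw [h2, one_mul, mul_one]
  let θL : Matrix (Fin a) (Fin a) F →ₗ[F] Matrix (Fin a) (Fin a) F :=
    { toFun := θ, map_add' := hadd, map_smul' := hsmul }
  have hsurj : Function.Surjective θ := (LinearMap.injective_iff_surjective (f := θL)).1 hinj
  let θA : Matrix (Fin a) (Fin a) F →ₐ[F] Matrix (Fin a) (Fin a) F :=
    AlgHom.ofLinearMap θL hone hmul
  let θE : Matrix (Fin a) (Fin a) F ≃ₐ[F] Matrix (Fin a) (Fin a) F :=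
    AlgEquiv.ofBijective θA ⟨hinj, hsurj⟩
  obtain ⟨u, u', huu', hu'u, hθu⟩ := skolem_noether_matrix θE
  have hθu' : ∀ x, θ x = u * x * u' := fun x => hθu x
  -- h = (u' ⊗ 1) G centralizes M_a ⊗ 1
  have hGx : ∀ x, G * x ⊗ₖ (1 : Matrix (Fin b) (Fin b) F) =
      θ x ⊗ₖ (1 : Matrix (Fin b) (Fin b) F) * G := by
    intro x
    rw [← hθ]
    simp only [mul_assoc, h2, mul_one]
  have hcomm : ∀ x : Matrix (Fin a) (Fin a) F,
      (u' ⊗ₖ (1 : Matrix (Fin b) (Fin b) F) * G) * (x ⊗ₖ (1 : Matrix (Fin b) (Fin b) F)) =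
        (x ⊗ₖ (1 : Matrix (Fin b) (Fin b) F)) * (u' ⊗ₖ (1 : Matrix (Fin b) (Fin b) F) * G) := by
    intro x
    rw [mul_assoc, hGx, ← mul_assoc, ← mul_assoc, ← Matrix.mul_kronecker_mul,
      ← Matrix.mul_kronecker_mul, mul_one, hθu']
    congr 2
    rw [← mul_assoc, ← mul_assoc, hu'u, one_mul]
  have hcen := centralizer_kron ha _ hcomm
  set v₀ : Matrix (Fin b) (Fin b) F := Matrix.of fun k l =>
    (u' ⊗ₖ (1 : Matrix (Fin b) (Fin b) F) * G) (⟨0, ha⟩, k) (⟨0, ha⟩, l) with hv₀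
  have hG : G = u ⊗ₖ v₀ := by
    calc G = (u * u') ⊗ₖ (1 : Matrix (Fin b) (Fin b) F) * G := by
          rw [huu', Matrix.one_kronecker_one, one_mul]
      _ = u ⊗ₖ (1 : Matrix (Fin b) (Fin b) F) * (u' ⊗ₖ (1 : Matrix (Fin b) (Fin b) F) * G) := by
          rw [← mul_assoc, ← Matrix.mul_kronecker_mul, mul_one]
      _ = u ⊗ₖ (1 : Matrix (Fin b) (Fin b) F) * ((1 : Matrix (Fin a) (Fin a) F) ⊗ₖ v₀) := by
          rw [hcen]
      _ = u ⊗ₖ v₀ := by rw [← Matrix.mul_kronecker_mul, mul_one, one_mul]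
  have hdetG : G.det ≠ 0 := by
    have := congrArg Matrix.det h1
    rw [Matrix.det_mul, Matrix.det_one] at this
    exact left_ne_zero_of_mul_eq_one this
  have hdetv : v₀.det ≠ 0 := by
    intro h0
    apply hdetG
    rw [hG, Matrix.det_kronecker, h0]
    simp [ha.ne']
  refine ⟨⟨u, u', huu', hu'u⟩, Matrix.GeneralLinearGroup.mkOfDetNeZero v₀ hdetv, ?_⟩
  exact hG

variable [Fintype F] {n : ℕ}

/-- **K-S5630-B5** -/
theorem mem_tensorProductSubgroup_of_normalizes (A : Subalgebra F (Matrix (Fin n) (Fin n) F)) (a b : ℕ)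
    (e : Fin n ≃ Fin a × Fin b)
    (P : GL (Fin n) F) (ha : 0 < a) (hb : 0 < b) (hA : IsTensorLeft A a b e P) (g : GL (Fin n) F)
    (hg : ∀ x ∈ A, (g : Matrix (Fin n) (Fin n) F) * x *
      ((g⁻¹ : GL (Fin n) F) : Matrix (Fin n) (Fin n) F) ∈ A) :
    g ∈ tensorProductSubgroup a b e P := by
  set Q : GL (Fin n) F := P⁻¹ * g * P with hQ
  set k : GL (Fin a × Fin b) F := (glReindex e.symm).symm Q with hk
  have hkQ : glReindex e.symm k = Q := MulEquiv.apply_symm_apply _ _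
  have hval : ∀ w : GL (Fin a × Fin b) F, ((glReindex e.symm w : GL (Fin n) F) : Matrix (Fin n) (Fin n) F) =
      Matrix.reindexAlgEquiv F F e.symm (w : Matrix (Fin a × Fin b) (Fin a × Fin b) F) := fun w => rfl
  have hkmem : k ∈ kroneckerSubgroup a b F := by
    apply kron_core ha hb (k : Matrix (Fin a × Fin b) (Fin a × Fin b) F)
      ((k⁻¹ : GL (Fin a × Fin b) F) : Matrix (Fin a × Fin b) (Fin a × Fin b) F)
    · rw [← Units.val_mul, mul_inv_cancel, Units.val_one]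
    · rw [← Units.val_mul, inv_mul_cancel, Units.val_one]
    · intro x
      have hx : tensorLeft a b e P x ∈ A := (hA _).2 ⟨x, rfl⟩
      obtain ⟨y, hy⟩ := (hA _).1 (hg _ hx)
      refine ⟨y, ?_⟩
      apply (Matrix.reindexAlgEquiv F F e.symm).injective
      rw [map_mul, map_mul, ← hval, ← hval, map_inv, hkQ]
      have hQv : (Q : Matrix (Fin n) (Fin n) F) = ((P⁻¹ : GL (Fin n) F) : Matrix (Fin n) (Fin n) F) *
          (g : Matrix (Fin n) (Fin n) F) * (P : Matrix (Fin n) (Fin n) F) := by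
        rw [hQ, Units.val_mul, Units.val_mul]
      have hQiv : ((Q⁻¹ : GL (Fin n) F) : Matrix (Fin n) (Fin n) F) =
          ((P⁻¹ : GL (Fin n) F) : Matrix (Fin n) (Fin n) F) *
          ((g⁻¹ : GL (Fin n) F) : Matrix (Fin n) (Fin n) F) * (P : Matrix (Fin n) (Fin n) F) := by
        have : Q⁻¹ = P⁻¹ * g⁻¹ * P := by rw [hQ]; group
        rw [this, Units.val_mul, Units.val_mul]
      have hPP : ((P⁻¹ : GL (Fin n) F) : Matrix (Fin n) (Fin n) F) * (P : Matrix (Fin n) (Fin n) F) = 1 := by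
        rw [← Units.val_mul, inv_mul_cancel, Units.val_one]
      unfold tensorLeft at hy
      have hR : ∀ M : Matrix (Fin a × Fin b) (Fin a × Fin b) F,
          Matrix.reindexAlgEquiv F F e.symm M = Matrix.reindex e.symm e.symm M := fun M => rfl
      rw [hQv, hQiv, hR, hR]
      calc ((P⁻¹ : GL (Fin n) F) : Matrix (Fin n) (Fin n) F) * (g : Matrix (Fin n) (Fin n) F) *
            (P : Matrix (Fin n) (Fin n) F) *
            Matrix.reindex e.symm e.symm (x ⊗ₖ (1 : Matrix (Fin b) (Fin b) F)) *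
            (((P⁻¹ : GL (Fin n) F) : Matrix (Fin n) (Fin n) F) *
              ((g⁻¹ : GL (Fin n) F) : Matrix (Fin n) (Fin n) F) * (P : Matrix (Fin n) (Fin n) F))
          = ((P⁻¹ : GL (Fin n) F) : Matrix (Fin n) (Fin n) F) *
            ((g : Matrix (Fin n) (Fin n) F) * ((P : Matrix (Fin n) (Fin n) F) *
              Matrix.reindex e.symm e.symm (x ⊗ₖ (1 : Matrix (Fin b) (Fin b) F)) *
              ((P⁻¹ : GL (Fin n) F) : Matrix (Fin n) (Fin n) F)) *
              ((g⁻¹ : GL (Fin n) F) : Matrix (Fin n) (Fin n) F)) * (P : Matrix (Fin n) (Fin n) F) := by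
            simp only [mul_assoc]
        _ = ((P⁻¹ : GL (Fin n) F) : Matrix (Fin n) (Fin n) F) *
            ((P : Matrix (Fin n) (Fin n) F) *
              Matrix.reindex e.symm e.symm (y ⊗ₖ (1 : Matrix (Fin b) (Fin b) F)) *
              ((P⁻¹ : GL (Fin n) F) : Matrix (Fin n) (Fin n) F)) * (P : Matrix (Fin n) (Fin n) F) := by
            rw [hy]
        _ = (((P⁻¹ : GL (Fin n) F) : Matrix (Fin n) (Fin n) F) * (P : Matrix (Fin n) (Fin n) F)) *
              Matrix.reindex e.symm e.symm (y ⊗ₖ (1 : Matrix (Fin b) (Fin b) F)) *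
              (((P⁻¹ : GL (Fin n) F) : Matrix (Fin n) (Fin n) F) * (P : Matrix (Fin n) (Fin n) F)) := by
            simp only [mul_assoc]
        _ = Matrix.reindex e.symm e.symm (y ⊗ₖ (1 : Matrix (Fin b) (Fin b) F)) := by
            rw [hPP, one_mul, mul_one]
  unfold tensorProductSubgroup
  rw [Subgroup.mem_map]
  refine ⟨glReindex e.symm k, Subgroup.mem_map_of_mem _ hkmem, ?_⟩
  rw [hkQ]
  show P * Q * P⁻¹ = g
  rw [hQ]; group

end Cfsg.Agent.Lib.Helper97.Asch
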