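import Mathlib
import Cfsg.Prelude.Def_GeometricClasses
import Cfsg.Agent.Lib.Helper61.AschDefs
import Cfsg.Agent.Lib.Helper61.AschBasic
import Cfsg.Agent.Lib.Helper04.AschE3
import Cfsg.Agent.Lib.Helper46.AschOBasic

/-!
# K-OEven-E7b (helper97): a tensor power of alternating forms of dimension 2 gives a quadratic form of plus type
-/

set_option autoImplicit false
set_option linter.unusedSectionVars false

namespace Cfsg.Agent.Lib.Helper97.AschE

open Cfsg Cfsg.Geo Cfsg.Agent.Lib.Helper61.Asch Cfsg.Agent.Lib.Helper46.AschO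
open Cfsg.Agent.Lib.Helper04.Asch (pureAt PT ptGL permMat PT_apply pureAt_apply)
open scoped Matrix Kronecker MatrixGroups

variable {F : Type*} [Field F] [Fintype F] {n : ℕ}

/-- `Fin t → Fin 2` splits as the coordinate `i₀` times the functions vanishing at `i₀` -/
def splitEquivE7b (t : ℕ) (i₀ : Fin t) :
    (Fin t → Fin 2) ≃ Fin 2 × {a : Fin t → Fin 2 // a i₀ = 0} where
  toFun a := (a i₀, ⟨Function.update a i₀ 0, by simp⟩)
  invFun p := Function.update p.2.1 i₀ p.1
  left_inv a := by simp
  right_inv p := by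
    obtain ⟨c, a, ha⟩ := p
    simp only [Function.update_self, Function.update_idem, Prod.mk.injEq, Subtype.mk.injEq, true_and]
    rw [← ha, Function.update_eq_self]

theorem two_mul_card_zero (t : ℕ) (i₀ : Fin t) :
    2 * Fintype.card {a : Fin t → Fin 2 // a i₀ = 0} = 2 ^ t := by
  have h1 := Fintype.card_congr (splitEquivE7b t i₀)
  rw [Fintype.card_prod, Fintype.card_fin, Fintype.card_fun, Fintype.card_fin, Fintype.card_fin] at h1
  exact h1.symm

/-- a quadratic form vanishes on the span of a family of singular, pairwise orthogonal vectors -/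
theorem isTotallySingularQuad_span {ι : Type*} (Q : (Fin n → F) → F) (hQ : IsNondegenerateQuadraticForm Q)
    (w : ι → Fin n → F) (hw : ∀ a, Q (w a) = 0)
    (hB : ∀ a b, QuadraticMap.polar Q (w a) (w b) = 0) :
    IsTotallySingularQuad Q (Submodule.span F (Set.range w)) := by
  have hbl := hQ.polar_bilinear
  have hz_r : ∀ x, QuadraticMap.polar Q x 0 = 0 := by
    intro x
    have := hbl.smul_right 0 x 0
    rwa [zero_smul, zero_mul] at this
  have hz_l : ∀ x, QuadraticMap.polar Q 0 x = 0 := by
    intro x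
    have := hbl.smul_left 0 0 x
    rwa [zero_smul, zero_mul] at this
  have h1 : ∀ a, ∀ v ∈ Submodule.span F (Set.range w), QuadraticMap.polar Q (w a) v = 0 := by
    intro a v hv
    induction hv using Submodule.span_induction with
    | mem x hx =>
      obtain ⟨b, rfl⟩ := hx
      exact hB a b
    | zero => exact hz_r _
    | add x y _ _ hx hy => rw [hbl.add_right, hx, hy, add_zero]
    | smul c x _ hx => rw [hbl.smul_right, hx, mul_zero]
  have h2 : ∀ u ∈ Submodule.span F (Set.range w), ∀ v ∈ Submodule.span F (Set.range w),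
      QuadraticMap.polar Q u v = 0 := by
    intro u hu v hv
    induction hu using Submodule.span_induction with
    | mem x hx =>
      obtain ⟨a, rfl⟩ := hx
      exact h1 a v hv
    | zero => exact hz_l _
    | add x y _ _ hx hy => rw [hbl.add_left, hx, hy, add_zero]
    | smul c x _ hx => rw [hbl.smul_left, hx, mul_zero]
  have hQ0 : Q 0 = 0 := by
    have := hQ.smul 0 0
    rwa [zero_smul, zero_pow (by norm_num), zero_mul] at this
  intro v hv
  induction hv using Submodule.span_induction with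
  | mem x hx =>
    obtain ⟨a, rfl⟩ := hx
    exact hw a
  | zero => exact hQ0
  | add x y hx hy ihx ihy =>
    have h3 : QuadraticMap.polar Q x y = 0 := h2 x hx y hy
    unfold QuadraticMap.polar at h3
    rw [ihx, ihy] at h3
    simpa using h3
  | smul c x _ ihx => rw [hQ.smul, ihx, mul_zero]

/-- the characteristic 2 step: a 2-dimensional family on which the polar form vanishes and which is moved around by an
algebra generated by similarities consists of singular vectors -/
theorem Q_eq_zero_of_char_two (h2 : (2 : F) = 0) (Q : (Fin n → F) → F) (hQ : IsNondegenerateQuadraticForm Q)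
    (u : Fin 2 → Fin n → F) (hu : ∀ c c', QuadraticMap.polar Q (u c) (u c') = 0)
    (S : Set (Matrix (Fin n) (Fin n) F))
    (hS1 : ∀ s ∈ S, ∀ c, ∃ y0 y1 : F, s *ᵥ u c = y0 • u 0 + y1 • u 1)
    (hS2 : ∀ s ∈ S, ∃ cs : F, ∀ v, Q (s *ᵥ v) = cs * Q v)
    (hgen : ∀ x : Matrix (Fin 2) (Fin 2) F, ∃ M ∈ Algebra.adjoin F S,
      ∀ c, M *ᵥ u c = x 0 c • u 0 + x 1 c • u 1) :
    ∀ c, Q (u c) = 0 := by
  have hbl := hQ.polar_bilinear
  have hQ0 : Q 0 = 0 := by
    have := hQ.smul 0 0
    rwa [zero_smul, zero_pow (by norm_num), zero_mul] at this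
  have hQadd : ∀ x y, Q (x + y) = Q x + Q y + QuadraticMap.polar Q x y := by
    intro x y
    unfold QuadraticMap.polar
    ring
  let L : (Fin 2 → F) → (Fin n → F) := fun c => c 0 • u 0 + c 1 • u 1
  have hLadd : ∀ c c', L (c + c') = L c + L c' := by
    intro c c'
    simp only [L, Pi.add_apply, add_smul]
    abel
  have hLsmul : ∀ (r : F) c, L (r • c) = r • L c := by
    intro r c
    simp only [L, Pi.smul_apply, smul_eq_mul, mul_smul, smul_add]
  have hBL : ∀ c c', QuadraticMap.polar Q (L c) (L c') = 0 := by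
    intro c c'
    simp only [L, hbl.add_left, hbl.add_right, hbl.smul_left, hbl.smul_right, hu, mul_zero, add_zero]
  let N : Submodule F (Fin n → F) :=
    { carrier := {v | (∃ c, L c = v) ∧ Q v = 0}
      add_mem' := by
        rintro v v' ⟨⟨c, rfl⟩, hv⟩ ⟨⟨c', rfl⟩, hv'⟩
        refine ⟨⟨c + c', hLadd c c'⟩, ?_⟩
        rw [hQadd, hv, hv', hBL, add_zero, add_zero]
      zero_mem' := ⟨⟨0, by simp [L]⟩, hQ0⟩
      smul_mem' := by
        rintro r v ⟨⟨c, rfl⟩, hv⟩
        refine ⟨⟨r • c, hLsmul r c⟩, ?_⟩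
        rw [hQ.smul, hv, mul_zero] }
  have hNmem : ∀ v, v ∈ N ↔ (∃ c, L c = v) ∧ Q v = 0 := fun v => Iff.rfl
  have hpres : ∀ M ∈ Algebra.adjoin F S, ∀ v ∈ N, M *ᵥ v ∈ N := by
    intro M hM
    induction hM using Algebra.adjoin_induction with
    | mem s hs =>
      rintro v ⟨⟨c, rfl⟩, hv⟩
      obtain ⟨y0, y1, hy⟩ := hS1 s hs 0
      obtain ⟨z0, z1, hz⟩ := hS1 s hs 1
      obtain ⟨cs, hcs⟩ := hS2 s hs
      refine ⟨⟨![c 0 * y0 + c 1 * z0, c 0 * y1 + c 1 * z1], ?_⟩, ?_⟩
      · simp only [L, Matrix.mulVec_add, Matrix.mulVec_smul, hy, hz, Matrix.cons_val_zero,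
          Matrix.cons_val_one, smul_add, smul_smul, add_smul]
        abel
      · rw [hcs, hv, mul_zero]
    | algebraMap r =>
      intro v hv
      have : (algebraMap F (Matrix (Fin n) (Fin n) F) r) *ᵥ v = r • v := by
        rw [Algebra.algebraMap_eq_smul_one, Matrix.smul_mulVec, Matrix.one_mulVec]
      rw [this]
      exact N.smul_mem r hv
    | add x y _ _ hx hy =>
      intro v hv
      rw [Matrix.add_mulVec]
      exact N.add_mem (hx v hv) (hy v hv)
    | mul x y _ _ hx hy =>
      intro v hv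
      rw [← Matrix.mulVec_mulVec]
      exact hx _ (hy v hv)
  have hQL : ∀ c, Q (L c) = c 0 ^ 2 * Q (u 0) + c 1 ^ 2 * Q (u 1) := by
    intro c
    simp only [L]
    rw [hQadd, hQ.smul, hQ.smul, hbl.smul_left, hbl.smul_right, hu, mul_zero, mul_zero, add_zero]
  -- `Q (u 0) = 0`
  have hα : Q (u 0) = 0 := by
    by_contra hα
    have hchar : CharP F 2 := CharTwo.of_one_ne_zero_of_two_eq_zero one_ne_zero h2
    obtain ⟨r, hr⟩ := isSquare_of_charTwo' (Q (u 1) / Q (u 0))
    have hv₀ : L ![r, 1] ∈ N := by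
      refine ⟨⟨_, rfl⟩, ?_⟩
      rw [hQL]
      simp only [Matrix.cons_val_zero, Matrix.cons_val_one]
      rw [pow_two, ← hr, div_mul_cancel₀ _ hα, one_pow, one_mul, ← two_mul, h2, zero_mul]
    obtain ⟨M, hM, hMu⟩ := hgen (Matrix.of ![![0, 1], ![0, 0]])
    have h1 := hpres M hM _ hv₀
    have h3 : M *ᵥ L ![r, 1] = u 0 := by
      simp only [L, Matrix.mulVec_add, Matrix.mulVec_smul, hMu, Matrix.cons_val_zero, Matrix.cons_val_one,
        Matrix.of_apply]
      simp
    rw [h3] at h1
    exact hα h1.2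
  have hβ : Q (u 1) = 0 := by
    have hv₀ : L ![1, 0] ∈ N := by
      refine ⟨⟨_, rfl⟩, ?_⟩
      rw [hQL]
      simp [hα]
    obtain ⟨M, hM, hMu⟩ := hgen (Matrix.of ![![0, 0], ![1, 0]])
    have h1 := hpres M hM _ hv₀
    have h3 : M *ᵥ L ![1, 0] = u 1 := by
      simp only [L, Matrix.mulVec_add, Matrix.mulVec_smul, hMu, Matrix.cons_val_zero, Matrix.cons_val_one,
        Matrix.of_apply]
      simp
    rw [h3] at h1
    exact h1.2
  intro c
  fin_cases c
  · exact hα
  · exact hβ

/-- K-OEven-E7b. -/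
theorem plus_of_tensorPower_alternating (Q : (Fin n → F) → F) (hQ : IsNondegenerateQuadraticForm Q) (t : ℕ)
    (ht : 2 ≤ t)
    (e : Fin n ≃ (Fin t → Fin 2)) (P : GL (Fin n) F) (Qs : Fin t → Subgroup (GL (Fin n) F))
    (hQs : ∀ i, Qs i ≤ quadSimilarityGroup Q)
    (hmem : ∀ i, ∀ s ∈ Qs i, ∃ x : Matrix (Fin 2) (Fin 2) F,
      ((s : GL (Fin n) F) : Matrix (Fin n) (Fin n) F) =
        (P : Matrix (Fin n) (Fin n) F) * Matrix.reindex e.symm e.symm (pureAt 2 t i x) *
          ((P⁻¹ : GL (Fin n) F) : Matrix (Fin n) (Fin n) F))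
    (hgen : ∀ i (x : Matrix (Fin 2) (Fin 2) F),
      (P : Matrix (Fin n) (Fin n) F) * Matrix.reindex e.symm e.symm (pureAt 2 t i x) *
        ((P⁻¹ : GL (Fin n) F) : Matrix (Fin n) (Fin n) F) ∈ spanAlg (Qs i))
    (g : Fin t → Matrix (Fin 2) (Fin 2) F) (halt : ∀ i, (∀ a, g i a a = 0) ∧ (g i)ᵀ = -(g i))
    (hform : ∀ x y : (Fin t → Fin 2) → F,
      QuadraticMap.polar Q ((P : Matrix (Fin n) (Fin n) F) *ᵥ (x ∘ e))
        ((P : Matrix (Fin n) (Fin n) F) *ᵥ (y ∘ e)) = ∑ a, ∑ b, x a * PT g a b * y b) :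
    IsPlusTypeOn Q ⊤ := by
  classical
  have hbl := hQ.polar_bilinear
  let i₀ : Fin t := ⟨0, by omega⟩
  let i₁ : Fin t := ⟨1, by omega⟩
  have hi01 : i₁ ≠ i₀ := by
    intro h
    have := congrArg Fin.val h
    simp [i₀, i₁] at this
  -- the tensor basis
  let Φ : ((Fin t → Fin 2) → F) →ₗ[F] (Fin n → F) :=
    (Matrix.toLin' (P : Matrix (Fin n) (Fin n) F)).comp (LinearMap.funLeft F F e)
  have hΦ : ∀ x, Φ x = (P : Matrix (Fin n) (Fin n) F) *ᵥ (x ∘ e) := fun x => rfl
  let w : (Fin t → Fin 2) → (Fin n → F) := fun a => Φ (Pi.single a 1)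
  have hB : ∀ a b, QuadraticMap.polar Q (w a) (w b) = PT g a b := by
    intro a b
    show QuadraticMap.polar Q (Φ (Pi.single a 1)) (Φ (Pi.single b 1)) = _
    rw [hΦ, hΦ, hform]
    simp [Pi.single_apply]
  have hPT0 : ∀ (a b : Fin t → Fin 2) (i : Fin t), a i = b i → PT g a b = 0 := by
    intro a b i hab
    rw [PT_apply]
    apply Finset.prod_eq_zero (Finset.mem_univ i)
    rw [hab]
    exact (halt i).1 _
  -- action of `P (pureAt i₀ x) P⁻¹` on the tensor basis
  have hpure : ∀ (x : Matrix (Fin 2) (Fin 2) F) (a' : Fin t → Fin 2),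
      ((P : Matrix (Fin n) (Fin n) F) * Matrix.reindex e.symm e.symm (pureAt 2 t i₀ x) *
        ((P⁻¹ : GL (Fin n) F) : Matrix (Fin n) (Fin n) F)) *ᵥ w a' =
      x 0 (a' i₀) • w (Function.update a' i₀ 0) + x 1 (a' i₀) • w (Function.update a' i₀ 1) := by
    intro x a'
    have h1 : (pureAt 2 t i₀ x) *ᵥ (Pi.single a' 1 : (Fin t → Fin 2) → F) =
        x 0 (a' i₀) • (Pi.single (Function.update a' i₀ 0) 1 : (Fin t → Fin 2) → F) +
          x 1 (a' i₀) • (Pi.single (Function.update a' i₀ 1) 1 : (Fin t → Fin 2) → F) := by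
      rw [Matrix.mulVec_single_one]
      funext b
      simp only [Matrix.col_apply, pureAt_apply, Pi.add_apply, Pi.smul_apply, Pi.single_apply, smul_eq_mul,
        mul_ite, mul_one, mul_zero]
      by_cases hb : ∀ j, j ≠ i₀ → b j = a' j
      · rw [if_pos hb]
        have hbu : b = Function.update a' i₀ (b i₀) := by
          funext j
          by_cases hj : j = i₀
          · rw [hj, Function.update_self]
          · rw [Function.update_of_ne hj, hb j hj]
        have h01 : Function.update a' i₀ (0 : Fin 2) ≠ Function.update a' i₀ 1 := by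
          intro h
          have := congrFun h i₀
          simp at this
        rcases Fin.exists_fin_two.1 ⟨b i₀, rfl⟩ with h0 | h1'
        · rw [h0] at hbu
          rw [h0, if_pos hbu, if_neg (by rw [hbu]; exact h01), add_zero]
        · rw [h1'] at hbu
          rw [h1', if_neg (by rw [hbu]; exact h01.symm), if_pos hbu, zero_add]
      · rw [if_neg hb, if_neg, if_neg, add_zero]
        · intro h
          apply hb
          intro j hj
          rw [h, Function.update_of_ne hj]
        · intro h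
          apply hb
          intro j hj
          rw [h, Function.update_of_ne hj]
    show _ *ᵥ Φ (Pi.single a' 1) = _
    rw [hΦ, Matrix.mulVec_mulVec, mul_assoc, mul_assoc, ← Units.val_mul, inv_mul_cancel, Units.val_one,
      mul_one, ← Matrix.mulVec_mulVec, Matrix.reindex_apply, Matrix.submatrix_mulVec_equiv]
    simp only [Equiv.symm_symm]
    have hcomp : ((Pi.single a' 1 : (Fin t → Fin 2) → F) ∘ ⇑e) ∘ ⇑e.symm = Pi.single a' 1 := by
      funext z
      simp
    rw [hcomp, h1, ← hΦ, map_add, map_smul, map_smul]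
  -- (i) the tensor basis consists of singular vectors
  have hQw : ∀ a, Q (w a) = 0 := by
    intro a
    by_cases h2 : (2 : F) = 0
    · let u : Fin 2 → Fin n → F := fun c => w (Function.update a i₀ c)
      have hu : ∀ c c', QuadraticMap.polar Q (u c) (u c') = 0 := by
        intro c c'
        show QuadraticMap.polar Q (w _) (w _) = 0
        rw [hB]
        apply hPT0 _ _ i₁
        rw [Function.update_of_ne hi01, Function.update_of_ne hi01]
      have hpu : ∀ (x : Matrix (Fin 2) (Fin 2) F) (c : Fin 2),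
          ((P : Matrix (Fin n) (Fin n) F) * Matrix.reindex e.symm e.symm (pureAt 2 t i₀ x) *
            ((P⁻¹ : GL (Fin n) F) : Matrix (Fin n) (Fin n) F)) *ᵥ u c = x 0 c • u 0 + x 1 c • u 1 := by
        intro x c
        show _ *ᵥ w (Function.update a i₀ c) = _
        rw [hpure]
        simp only [Function.update_self, Function.update_idem]
        rfl
      have h := Q_eq_zero_of_char_two h2 Q hQ u hu (matrixSet (Qs i₀))
        (by
          rintro s ⟨s', hs', rfl⟩ c
          obtain ⟨x, hx⟩ := hmem i₀ s' hs'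
          refine ⟨x 0 c, x 1 c, ?_⟩
          simp only []
          rw [hx]
          exact hpu x c)
        (by
          rintro s ⟨s', hs', rfl⟩
          obtain ⟨cs, hcs⟩ := hQs i₀ hs'
          exact ⟨(cs : F), hcs⟩)
        (by
          intro x
          exact ⟨_, hgen i₀ x, hpu x⟩)
      have h3 := h (a i₀)
      show Q (w a) = 0
      have h4 : u (a i₀) = w a := by
        show w (Function.update a i₀ (a i₀)) = w a
        rw [Function.update_eq_self]
      rw [← h4]
      exact h3
    · have h3 := two_mul_Q hQ (w a)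
      rw [hB, hPT0 a a i₀ rfl] at h3
      rcases mul_eq_zero.1 h3 with h4 | h4
      · exact absurd h4 h2
      · exact h4
  -- (ii) the totally singular subspace
  let w' : {a : Fin t → Fin 2 // a i₀ = 0} → (Fin n → F) := fun a => w a.1
  refine ⟨Submodule.span F (Set.range w'), le_top, ?_, ?_⟩
  · apply isTotallySingularQuad_span Q hQ w' (fun a => hQw a.1)
    intro a b
    show QuadraticMap.polar Q (w a.1) (w b.1) = 0
    rw [hB]
    exact hPT0 _ _ i₀ (by rw [a.2, b.2])
  · have hΦinj : Function.Injective Φ := by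
      intro x y hxy
      rw [hΦ, hΦ] at hxy
      have h1 : ((P⁻¹ : GL (Fin n) F) : Matrix (Fin n) (Fin n) F) *ᵥ
          ((P : Matrix (Fin n) (Fin n) F) *ᵥ (x ∘ e)) =
          ((P⁻¹ : GL (Fin n) F) : Matrix (Fin n) (Fin n) F) *ᵥ
            ((P : Matrix (Fin n) (Fin n) F) *ᵥ (y ∘ e)) := congrArg _ hxy
      rw [Matrix.mulVec_mulVec, Matrix.mulVec_mulVec, ← Units.val_mul, inv_mul_cancel, Units.val_one,
        Matrix.one_mulVec, Matrix.one_mulVec] at h1
      funext z
      have := congrFun h1 (e.symm z)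
      simpa using this
    have hli : LinearIndependent F w := by
      have h1 : LinearIndependent F (fun a : Fin t → Fin 2 => (Pi.single a 1 : (Fin t → Fin 2) → F)) := by
        have := (Pi.basisFun F (Fin t → Fin 2)).linearIndependent
        convert this using 1
        funext a
        rw [Pi.basisFun_apply]
      exact h1.map' Φ (LinearMap.ker_eq_bot.2 hΦinj)
    have hli' : LinearIndependent F w' := hli.comp Subtype.val Subtype.val_injective
    rw [finrank_span_eq_card hli', finrank_top, Module.finrank_fin_fun, two_mul_card_zero]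
    have h1 := Fintype.card_congr e
    rw [Fintype.card_fin, Fintype.card_fun, Fintype.card_fin, Fintype.card_fin] at h1
    exact h1.symm

end Cfsg.Agent.Lib.Helper97.AschE
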