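import Mathlib
import Cfsg.Agent.Lib.Helper11.Syl22Defs

/-!
# K-S4346-B2 (keystone 434611): an even involution of a finite set has `card ≡ #fixed points mod 4`
-/

set_option autoImplicit false

namespace Cfsg.Agent.Lib.Helper97.Syl22

theorem cycleType_eq_replicate_of_sq_eq_one {α : Type*} [Fintype α] [DecidableEq α]
    (σ : Equiv.Perm α) (h2 : σ ^ 2 = 1) :
    σ.cycleType = Multiset.replicate (Multiset.card σ.cycleType) 2 := by
  rw [Multiset.eq_replicate_card]
  intro b hb
  have h1 : b ∣ 2 := (Equiv.Perm.dvd_of_mem_cycleType hb).trans (orderOf_dvd_of_pow_eq_one h2)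
  have h3 : 2 ≤ b := Equiv.Perm.two_le_of_mem_cycleType hb
  have h4 : b ≤ 2 := Nat.le_of_dvd (by norm_num) h1
  omega

theorem perm_fix_mod_four {α : Type*} [Fintype α] [DecidableEq α] (σ : Equiv.Perm α)
    (h2 : σ ^ 2 = 1) (hs : Equiv.Perm.sign σ = 1) :
    Fintype.card α ≡ Nat.card ↥(Function.fixedPoints σ) [MOD 4] := by
  classical
  have hct := cycleType_eq_replicate_of_sq_eq_one σ h2
  set k := Multiset.card σ.cycleType with hk
  -- `k` is even
  have hsign : Equiv.Perm.sign σ = (-1 : ℤˣ) ^ k := by
    rw [Equiv.Perm.sign_of_cycleType, hct, Multiset.sum_replicate, Multiset.card_replicate,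
      smul_eq_mul, pow_add, pow_mul, Int.units_sq, one_mul]
  have hkeven : Even k := by
    rw [hs] at hsign
    exact (neg_one_pow_eq_one_iff_even (by decide : (-1 : ℤˣ) ≠ 1)).1 hsign.symm
  -- the support has `2 k` elements
  have hsupp : σ.support.card = k * 2 := by
    rw [← Equiv.Perm.sum_cycleType, hct, Multiset.sum_replicate, smul_eq_mul]
  -- the fixed points are the complement of the support
  have hfix : Nat.card ↥(Function.fixedPoints σ) = σ.supportᶜ.card := by
    rw [Nat.card_eq_fintype_card]
    apply Fintype.card_of_subtype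
    intro x
    simp [Function.mem_fixedPoints, Function.IsFixedPt]
  have hcard : Fintype.card α = σ.support.card + σ.supportᶜ.card := by
    rw [Finset.card_add_card_compl]
  rw [hfix, hcard, hsupp]
  obtain ⟨j, hj⟩ := hkeven
  have : k * 2 = 4 * j := by omega
  rw [this]
  show (4 * j + σ.supportᶜ.card) % 4 = σ.supportᶜ.card % 4
  omega

end Cfsg.Agent.Lib.Helper97.Syl22
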