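import Mathlib

/-!
# K-S0690-1 (helper97): a common eigenvector of `X` and `S = XY + YX + X + Y + 1`
-/

set_option autoImplicit false

namespace Cfsg.Agent.Lib.Helper97.Zass

section LinAlg
variable {K : Type*} [Field K] [IsAlgClosed K]
variable {V : Type*} [AddCommGroup V] [Module K V] [FiniteDimensional K V]

/-- K-S0690-1 (id 69001). -/
theorem exists_plane [Nontrivial V] (X Y : Module.End K V)
    (hX : X * X + X + 1 = 0) (hY : Y * Y + Y + 1 = 0) :
    ∃ w : V, w ≠ 0 ∧ ∃ l a b : K, X w = l • w ∧ X (Y w) = a • w + b • Y w := by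
  have _ := hY
  set S : Module.End K V := X * Y + Y * X + X + Y + 1 with hS
  have hXX : X * X = -X - 1 := by
    have : X * X = (X * X + X + 1) - X - 1 := by abel
    rw [this, hX]; abel
  have hcomm : X * S = S * X := by
    have h1 : X * S - S * X = (X * X) * Y - Y * (X * X) + X * Y - Y * X := by
      rw [hS]; noncomm_ring
    have h2 : X * S - S * X = 0 := by
      rw [h1, hXX]; noncomm_ring
    exact sub_eq_zero.1 h2
  obtain ⟨s, hs⟩ := Module.End.exists_eigenvalue S
  set E := Module.End.eigenspace S s with hE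
  have hEbot : E ≠ ⊥ := hs
  have hEX : ∀ v ∈ E, X v ∈ E := by
    intro v hv
    rw [hE, Module.End.mem_eigenspace_iff] at hv ⊢
    have h1 : S (X v) = X (S v) := by
      rw [← Module.End.mul_apply, ← Module.End.mul_apply, hcomm]
    rw [h1, hv, map_smul]
  have hEnt : Nontrivial E := Submodule.nontrivial_iff_ne_bot.2 hEbot
  obtain ⟨l, hl⟩ := Module.End.exists_eigenvalue (X.restrict hEX)
  obtain ⟨w', hw'⟩ := hl.exists_hasEigenvector
  have hw'1 : (X.restrict hEX) w' = l • w' := Module.End.mem_eigenspace_iff.1 hw'.1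
  have hw'0 : w' ≠ 0 := hw'.2
  have hXw : X w'.1 = l • w'.1 := by
    have := congrArg Subtype.val hw'1
    simpa [LinearMap.restrict_apply] using this
  have hSw : S w'.1 = s • w'.1 := Module.End.mem_eigenspace_iff.1 w'.2
  refine ⟨w'.1, fun h => hw'0 (Subtype.ext h), l, s - l - 1, -(l + 1), hXw, ?_⟩
  have h1 : S w'.1 = X (Y w'.1) + Y (X w'.1) + X w'.1 + Y w'.1 + w'.1 := by
    rw [hS]
    simp [Module.End.mul_apply]
  rw [hSw, hXw, map_smul] at h1
  have h2 : X (Y w'.1) = s • w'.1 - (l • Y w'.1 + l • w'.1 + Y w'.1 + w'.1) := by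
    rw [h1]; abel
  rw [h2]
  module

end LinAlg

end Cfsg.Agent.Lib.Helper97.Zass
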