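import Mathlib

/-!
# K-S1301-GL-3c (helper97): `Ω₁(Z(R))` of a nontrivial finite 2-subgroup
-/

set_option autoImplicit false

namespace Cfsg.Agent.Lib.Helper97.GL

universe u

/-- the central involutions (and `1`) of a subgroup `R` -/
def omegaCenter {A : Type u} [Group A] (R : Subgroup A) : Subgroup A where
  carrier := {v | v ∈ R ∧ (∀ r ∈ R, v * r = r * v) ∧ v * v = 1}
  one_mem' := ⟨R.one_mem, fun r _ => by rw [one_mul, mul_one], by rw [mul_one]⟩
  mul_mem' := by
    rintro a b ⟨haR, hac, ha2⟩ ⟨hbR, hbc, hb2⟩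
    refine ⟨R.mul_mem haR hbR, ?_, ?_⟩
    · intro r hr
      rw [mul_assoc, hbc r hr, ← mul_assoc, hac r hr, mul_assoc]
    · have h1 : a * b * (a * b) = a * (b * a) * b := by group
      rw [h1, ← hac b hbR, mul_assoc, mul_assoc, hb2, mul_one, ha2]
  inv_mem' := by
    rintro a ⟨haR, hac, ha2⟩
    refine ⟨R.inv_mem haR, ?_, ?_⟩
    · intro r hr
      have h1 := hac r hr
      have h2 : a⁻¹ * r = a⁻¹ * (r * a) * a⁻¹ := by group
      rw [h2, ← h1]
      group
    · rw [← mul_inv_rev, ha2, inv_one]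

theorem mem_omegaCenter {A : Type u} [Group A] (R : Subgroup A) (v : A) :
    v ∈ omegaCenter R ↔ v ∈ R ∧ (∀ r ∈ R, v * r = r * v) ∧ v * v = 1 := Iff.rfl

theorem conj_mem_omegaCenter {A : Type u} [Group A] (R : Subgroup A) (a : A)
    (ha : a ∈ Subgroup.normalizer (R : Set A)) (n : A) (hn : n ∈ omegaCenter R) :
    a * n * a⁻¹ ∈ omegaCenter R := by
  obtain ⟨hnR, hnc, hn2⟩ := hn
  have ha' : a⁻¹ ∈ Subgroup.normalizer (R : Set A) := Subgroup.inv_mem _ ha
  refine ⟨(Subgroup.mem_normalizer_iff.1 ha n).1 hnR, ?_, ?_⟩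
  · intro r hr
    have hr' : a⁻¹ * r * a⁻¹⁻¹ ∈ R := (Subgroup.mem_normalizer_iff.1 ha' r).1 hr
    rw [inv_inv] at hr'
    have h1 := hnc _ hr'
    have h2 : a * n * a⁻¹ * r = a * (n * (a⁻¹ * r * a)) * a⁻¹ := by group
    rw [h2, h1]
    group
  · have h1 : a * n * a⁻¹ * (a * n * a⁻¹) = a * (n * n) * a⁻¹ := by group
    rw [h1, hn2]
    group

/-- K-S1301-GL-3c. -/
theorem exists_central_elementary {A : Type u} [Group A] [Finite A] (R : Subgroup A)
    (hR : IsPGroup 2 R) (hR1 : R ≠ ⊥) :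
    ∃ V : Subgroup A, V ≤ R ∧ V ≠ ⊥ ∧ (∀ v ∈ V, ∀ r ∈ R, v * r = r * v) ∧ (∀ v ∈ V, v * v = 1) ∧
      ∀ a ∈ Subgroup.normalizer (R : Set A), a ∈ Subgroup.normalizer (V : Set A) := by
  refine ⟨omegaCenter R, fun v hv => hv.1, ?_, fun v hv => hv.2.1, fun v hv => hv.2.2, ?_⟩
  · have hfact : Fact (Nat.Prime 2) := ⟨Nat.prime_two⟩
    have hnt : Nontrivial R := (Subgroup.nontrivial_iff_ne_bot R).2 hR1
    have hcnt : Nontrivial (Subgroup.center R) := hR.center_nontrivial
    have hpc : IsPGroup 2 (Subgroup.center R) := hR.to_subgroup _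
    obtain ⟨j, hj⟩ := IsPGroup.iff_card.1 hpc
    have hcard : 1 < Nat.card (Subgroup.center R) := Finite.one_lt_card
    have hj0 : j ≠ 0 := by
      rintro rfl
      rw [pow_zero] at hj
      omega
    have hdvd : 2 ∣ Nat.card (Subgroup.center R) := by
      rw [hj]
      exact dvd_pow_self 2 hj0
    obtain ⟨x, hx⟩ := exists_prime_orderOf_dvd_card' 2 hdvd
    intro hbot
    have hxmem : ((x : R) : A) ∈ omegaCenter R := by
      refine ⟨(x : R).2, ?_, ?_⟩
      · intro r hr
        have h1 := (Subgroup.mem_center_iff.1 x.2) ⟨r, hr⟩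
        have h2 := congrArg Subtype.val h1
        simpa using h2.symm
      · have h1 : x ^ 2 = 1 := by rw [← hx]; exact pow_orderOf_eq_one x
        have h2 : (((x ^ 2 : Subgroup.center R) : R) : A) = 1 := by rw [h1]; rfl
        rw [pow_two] at h2
        simpa using h2
    rw [hbot, Subgroup.mem_bot] at hxmem
    have hx1 : x = 1 := by
      apply Subtype.ext
      apply Subtype.ext
      simpa using hxmem
    rw [hx1, orderOf_one] at hx
    omega
  · intro a ha
    rw [Subgroup.mem_normalizer_iff]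
    intro n
    constructor
    · exact conj_mem_omegaCenter R a ha n
    · intro h
      have ha' : a⁻¹ ∈ Subgroup.normalizer (R : Set A) := Subgroup.inv_mem _ ha
      have h1 := conj_mem_omegaCenter R a⁻¹ ha' _ h
      have h2 : a⁻¹ * (a * n * a⁻¹) * a⁻¹⁻¹ = n := by group
      rw [h2] at h1
      exact h1

end Cfsg.Agent.Lib.Helper97.GL
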