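import Mathlib
import Cfsg.Agent.Lib.Helper48.StODefs

/-!
# K-StO-R1 (254704): positive root elements are upper triangular; value at `0`
-/

set_option autoImplicit false
set_option linter.unusedSectionVars false
set_option linter.unusedVariables false

namespace Cfsg.Agent.Lib.Helper97.StO

open Cfsg Cfsg.Agent.Lib.Helper48.StO Matrix

variable {m : ℕ} {F : Type*} [Field F]

theorem ofMat_one : ofMat (1 : Matrix (OI m) (OI m) F) = 1 := by
  apply mat_injective
  rw [mat_ofMat _ ⟨1, mat_one⟩, mat_one]

theorem ofMat_mem_B (M : Matrix (OI m) (OI m) F)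
    (hM : ∀ a b, pos m b < pos m a → M a b = 0) : ofMat M ∈ Bsub m F := by
  by_cases h : ∃ g : OG m F, mat g = M
  · rw [mem_Bsub_iff, mat_ofMat M h]
    exact hM
  · unfold ofMat
    rw [dif_neg h]
    exact one_mem _

theorem xPerm_mem_B (i j : Fin m) (hij : i < j) (t : F) : xPerm m F i j t ∈ Bsub m F := by
  apply ofMat_mem_B
  intro a b hab
  have hne : a ≠ b := fun h => by rw [h] at hab; exact lt_irrefl _ hab
  have hij' := Fin.lt_def.1 hij
  have hi := i.2
  have hj := j.2
  have h1 : ¬ (eI i = a ∧ eI j = b) := by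
    rintro ⟨rfl, rfl⟩
    simp only [pos] at hab
    omega
  have h2 : ¬ (fI j = a ∧ fI i = b) := by
    rintro ⟨rfl, rfl⟩
    simp only [pos] at hab
    omega
  unfold xPermMat
  rw [Matrix.sub_apply, Matrix.add_apply, Matrix.one_apply_ne hne, Matrix.single_apply,
    Matrix.single_apply, if_neg h1, if_neg h2, add_zero, sub_zero]

theorem xZ_mem_B (k : Fin m) (t : F) : xZ m F k t ∈ Bsub m F := by
  apply ofMat_mem_B
  intro a b hab
  have hne : a ≠ b := fun h => by rw [h] at hab; exact lt_irrefl _ hab
  have hk := k.2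
  have h1 : ¬ (zI = a ∧ fI k = b) := by
    rintro ⟨rfl, rfl⟩
    simp only [pos] at hab
    omega
  have h2 : ¬ (eI k = a ∧ zI = b) := by
    rintro ⟨rfl, rfl⟩
    simp only [pos] at hab
    omega
  have h3 : ¬ (eI k = a ∧ fI k = b) := by
    rintro ⟨rfl, rfl⟩
    simp only [pos] at hab
    omega
  unfold xZMat
  rw [Matrix.sub_apply, Matrix.sub_apply, Matrix.add_apply, Matrix.one_apply_ne hne,
    Matrix.single_apply, Matrix.single_apply, Matrix.single_apply, if_neg h1, if_neg h2,
    if_neg h3, add_zero, sub_zero, sub_zero]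

theorem xPerm_zero (i j : Fin m) (hij : i ≠ j) : xPerm m F i j 0 = 1 := by
  unfold xPerm xPermMat
  rw [Matrix.single_zero, Matrix.single_zero, add_zero, sub_zero]
  exact ofMat_one

theorem xZ_zero (k : Fin m) : xZ m F k 0 = 1 := by
  unfold xZ xZMat
  rw [mul_zero, zero_pow two_ne_zero, Matrix.single_zero, Matrix.single_zero,
    Matrix.single_zero, add_zero, sub_zero, sub_zero]
  exact ofMat_one

end Cfsg.Agent.Lib.Helper97.StO
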