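import Mathlib
import Cfsg.Agent.Lib.Helper97.QuatRecog

set_option autoImplicit false

/-! Recognition of dihedral groups from generators and relations. -/

namespace Cfsg.Agent.Lib.Helper97

open DihedralGroup

section

variable {G : Type*} [Group G]

/-- The hom `DihedralGroup n →* G` given by `r 1 ↦ c`, `sr 0 ↦ b`. -/
noncomputable def dihHom (n : ℕ) [NeZero n] (c b : G) (hc : c ^ n = 1) (hb : b * b = 1)
    (hcb : b * c * b⁻¹ = c⁻¹) : DihedralGroup n →* G where
  toFun g := match g with
    | r i => zpw n c i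
    | sr i => b * zpw n c i
  map_one' := by
    rw [one_def]; exact zpw_zero c
  map_mul' := by
    have hinv : ∀ i : ZMod n, zpw n c i * b = b * (zpw n c i)⁻¹ := by
      intro i
      have := conj_zpw (m := n) c b hcb i
      have h1 : b * (zpw n c i)⁻¹ * b⁻¹ = zpw n c i := by
        calc b * (zpw n c i)⁻¹ * b⁻¹ = (b * zpw n c i * b⁻¹)⁻¹ := by group
          _ = ((zpw n c i)⁻¹)⁻¹ := by rw [this]
          _ = zpw n c i := inv_inv _
      calc zpw n c i * b = (b * (zpw n c i)⁻¹ * b⁻¹) * b := by rw [h1]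
        _ = b * (zpw n c i)⁻¹ := by group
    rintro (i | i) (j | j)
    · simp only [r_mul_r]; exact zpw_add c hc i j
    · simp only [r_mul_sr]
      have hcomm : (zpw n c i)⁻¹ * zpw n c j = zpw n c j * (zpw n c i)⁻¹ := by
        rw [← zpw_neg c hc, ← zpw_add c hc, ← zpw_add c hc, add_comm]
      rw [zpw_sub c hc, ← mul_assoc (zpw n c i) b, hinv i, mul_assoc, hcomm]
    · simp only [sr_mul_r]; rw [zpw_add c hc, mul_assoc]
    · simp only [sr_mul_sr]
      rw [zpw_sub c hc]
      calc zpw n c j * (zpw n c i)⁻¹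
          = b * b * ((zpw n c i)⁻¹ * zpw n c j) := by
            have hcomm : zpw n c j * (zpw n c i)⁻¹ = (zpw n c i)⁻¹ * zpw n c j := by
              rw [← zpw_neg c hc, ← zpw_add c hc, ← zpw_add c hc, add_comm]
            rw [hb, one_mul, hcomm]
        _ = b * (b * (zpw n c i)⁻¹) * zpw n c j := by group
        _ = b * (zpw n c i * b) * zpw n c j := by rw [hinv i]
        _ = b * zpw n c i * (b * zpw n c j) := by group

theorem dihHom_r (n : ℕ) [NeZero n] (c b : G) (hc : c ^ n = 1) (hb : b * b = 1)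
    (hcb : b * c * b⁻¹ = c⁻¹) (i : ZMod n) : dihHom n c b hc hb hcb (r i) = zpw n c i := rfl

theorem dihHom_sr (n : ℕ) [NeZero n] (c b : G) (hc : c ^ n = 1) (hb : b * b = 1)
    (hcb : b * c * b⁻¹ = c⁻¹) (i : ZMod n) : dihHom n c b hc hb hcb (sr i) = b * zpw n c i := rfl

theorem dihHom_injective (n : ℕ) [NeZero n] (c b : G) (hord : orderOf c = n) (hb : b * b = 1)
    (hcb : b * c * b⁻¹ = c⁻¹) (hbn : b ∉ Subgroup.zpowers c) :
    Function.Injective (dihHom n c b (by rw [← hord]; exact pow_orderOf_eq_one c) hb hcb) := by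
  have hc : c ^ n = 1 := by rw [← hord]; exact pow_orderOf_eq_one c
  have hinj : ∀ i j : ZMod n, zpw n c i = zpw n c j → i = j := by
    intro i j hij
    unfold zpw at hij
    have hi : i.val < orderOf c := by rw [hord]; exact ZMod.val_lt i
    have hj : j.val < orderOf c := by rw [hord]; exact ZMod.val_lt j
    have := pow_injOn_Iio_orderOf (Set.mem_Iio.mpr hi) (Set.mem_Iio.mpr hj) hij
    exact ZMod.val_injective _ this
  rintro (i | i) (j | j) hij
  · rw [dihHom_r, dihHom_r] at hij; rw [hinj i j hij]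
  · exfalso; rw [dihHom_r, dihHom_sr] at hij
    apply hbn
    have : b = zpw n c i * (zpw n c j)⁻¹ := by rw [hij]; group
    rw [this]
    exact Subgroup.mul_mem _ (zpw_mem_zpowers c i) (Subgroup.inv_mem _ (zpw_mem_zpowers c j))
  · exfalso; rw [dihHom_r, dihHom_sr] at hij
    apply hbn
    have : b = zpw n c j * (zpw n c i)⁻¹ := by rw [← hij]; group
    rw [this]
    exact Subgroup.mul_mem _ (zpw_mem_zpowers c j) (Subgroup.inv_mem _ (zpw_mem_zpowers c i))
  · rw [dihHom_sr, dihHom_sr] at hij
    rw [hinj i j (mul_left_cancel hij)]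

/-- Recognition of dihedral groups. -/
theorem nonempty_mulEquiv_dihedral [Finite G] (n : ℕ) [NeZero n] (c b : G)
    (hcard : Nat.card G = 2 * n) (hord : orderOf c = n) (hb : b * b = 1)
    (hcb : b * c * b⁻¹ = c⁻¹) (hbn : b ∉ Subgroup.zpowers c) :
    Nonempty (G ≃* DihedralGroup n) := by
  have hinj := dihHom_injective n c b hord hb hcb hbn
  have hbij : Function.Bijective
      (dihHom n c b (by rw [← hord]; exact pow_orderOf_eq_one c) hb hcb) := by
    rw [Nat.bijective_iff_injective_and_card]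
    refine ⟨hinj, ?_⟩
    rw [hcard, DihedralGroup.nat_card]
  exact ⟨(MulEquiv.ofBijective _ hbij).symm⟩

end

end Cfsg.Agent.Lib.Helper97
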