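import Mathlib
import Cfsg.Agent.S0985
import Cfsg.Agent.Lib.Helper23.SylowEmbed
import Cfsg.Agent.Lib.Helper23.SylowInter

/-!
# K-S0496-T3 (helper97): `n_p ≢ 1 (mod p²)` gives a subgroup of small index
-/

set_option autoImplicit false

namespace Cfsg.Agent.Lib.Helper97.Small1092

open Subgroup MulAction

/-- K-S0496-T3. -/
theorem false_of_sylow_not_modEq_sq {G : Type*} [Group G] [Finite G] [IsSimpleGroup G] (hG : ¬ IsMulCommutative G)
    (p k m : ℕ) [Fact p.Prime] (hk : 2 ≤ k) (h : Nat.card G = p ^ k * m) (hm : ¬ p ∣ m)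
    (hmod : Nat.card (Sylow p G) % (p ^ 2) ≠ 1)
    (hcheck : ∀ i : ℕ, i ∣ m → i ≠ 1 → p + 1 ≤ m / i → ¬ Nat.card G ∣ i.factorial) : False := by
  have hp : p.Prime := Fact.out
  have hp2 : 1 < p ^ 2 := Nat.one_lt_pow (by norm_num) hp.one_lt
  have hm0 : m ≠ 0 := by rintro rfl; exact hm (dvd_zero p)
  have hnot : ¬ Nat.card (Sylow p G) ≡ 1 [MOD p ^ 2] := by
    intro hc
    apply hmod
    unfold Nat.ModEq at hc
    rw [hc, Nat.mod_eq_of_lt hp2]
  obtain ⟨P, R, hne, hidx⟩ := Cfsg.Agent.S0985.result p 2 hnot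
  have hidx' : ((R : Subgroup G).subgroupOf (P : Subgroup G)).index ≤ p := by simpa using hidx
  have hPcard := Cfsg.Agent.Lib.Helper23.sylow_card_of_card_eq p k m h hm P
  have hRcard := Cfsg.Agent.Lib.Helper23.sylow_card_of_card_eq p k m h hm R
  set D : Subgroup G := (P : Subgroup G) ⊓ (R : Subgroup G) with hD
  have hDP : D ≤ P := inf_le_left
  have hDR : D ≤ R := inf_le_right
  have hrelP : ((R : Subgroup G).subgroupOf (P : Subgroup G)).index = D.relIndex P := by
    rw [Subgroup.relIndex, hD, Subgroup.inf_subgroupOf_left]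
  have hmulP : Nat.card D * D.relIndex P = p ^ k := by
    have := Subgroup.relIndex_mul_relIndex ⊥ D P bot_le hDP
    rw [Subgroup.relIndex_bot_left, Subgroup.relIndex_bot_left, hPcard] at this
    exact this
  have hmulR : Nat.card D * D.relIndex R = p ^ k := by
    have := Subgroup.relIndex_mul_relIndex ⊥ D R bot_le hDR
    rw [Subgroup.relIndex_bot_left, Subgroup.relIndex_bot_left, hRcard] at this
    exact this
  -- the index is exactly `p`
  have hrel_ne_one : D.relIndex P ≠ 1 := by
    intro h1
    have hPD : (P : Subgroup G) ≤ D := Subgroup.relIndex_eq_one.1 h1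
    have hPR : (P : Subgroup G) ≤ R := hPD.trans hDR
    apply hne
    apply Sylow.ext
    apply Subgroup.eq_of_le_of_card_ge hPR
    rw [hPcard, hRcard]
  have hrel_dvd : D.relIndex P ∣ p ^ k := Dvd.intro_left _ hmulP
  obtain ⟨j, hjk, hj⟩ := (Nat.dvd_prime_pow hp).1 hrel_dvd
  have hrelp : D.relIndex P = p := by
    rw [hrelP] at hidx'
    rw [hj] at hidx' hrel_ne_one ⊢
    have hj0 : j ≠ 0 := by rintro rfl; exact hrel_ne_one (pow_zero p)
    have hj1 : j ≤ 1 := by
      by_contra hcon
      push Not at hcon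
      have : p ^ 2 ≤ p ^ j := Nat.pow_le_pow_right hp.pos hcon
      have : p < p ^ 2 := by
        calc p = p ^ 1 := (pow_one p).symm
          _ < p ^ 2 := Nat.pow_lt_pow_right hp.one_lt (by norm_num)
      omega
    have : j = 1 := by omega
    rw [this, pow_one]
  have hcardD : Nat.card D = p ^ (k - 1) := by
    rw [hrelp] at hmulP
    have hk' : p ^ k = p ^ (k - 1) * p := by
      rw [← pow_succ]
      congr 1
      omega
    rw [hk'] at hmulP
    exact Nat.eq_of_mul_eq_mul_right hp.pos hmulP
  have hrelR : D.relIndex R = p := by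
    rw [hcardD] at hmulR
    have hk' : p ^ k = p ^ (k - 1) * p := by
      rw [← pow_succ]
      congr 1
      omega
    rw [hk'] at hmulR
    exact Nat.eq_of_mul_eq_mul_left (pow_pos hp.pos _) hmulR
  -- `D` is normal in `P` and in `R`
  have hminP : (Nat.card (P : Subgroup G)).minFac = p := by
    rw [hPcard]
    exact Nat.Prime.pow_minFac hp (by omega)
  have hminR : (Nat.card (R : Subgroup G)).minFac = p := by
    rw [hRcard]
    exact Nat.Prime.pow_minFac hp (by omega)
  have hnP : (D.subgroupOf (P : Subgroup G)).Normal := by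
    apply Subgroup.normal_of_index_eq_minFac_card
    rw [hminP]
    exact hrelp
  have hnR : (D.subgroupOf (R : Subgroup G)).Normal := by
    apply Subgroup.normal_of_index_eq_minFac_card
    rw [hminR]
    exact hrelR
  have hPN : (P : Subgroup G) ≤ normalizer (D : Set G) :=
    (Subgroup.normal_subgroupOf_iff_le_normalizer hDP).1 hnP
  have hRN : (R : Subgroup G) ≤ normalizer (D : Set G) :=
    (Subgroup.normal_subgroupOf_iff_le_normalizer hDR).1 hnR
  obtain ⟨d, hd1, hd2, hd3⟩ := Cfsg.Agent.Lib.Helper23.exists_card_sylow_of_two_le p P R hne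
    (normalizer (D : Set G)) hPN hRN
  rw [hPcard] at hd3
  -- `d ≥ p + 1`
  have hdp : p + 1 ≤ d := by
    have h1 : d % p = 1 % p := hd1
    rw [Nat.mod_eq_of_lt hp.one_lt] at h1
    have h2 : d = p * (d / p) + 1 := by
      have := Nat.div_add_mod d p
      omega
    have h3 : d / p ≠ 0 := by
      intro h0
      rw [h0] at h2
      omega
    have h4 : p * 1 ≤ p * (d / p) := Nat.mul_le_mul_left p (Nat.pos_of_ne_zero h3)
    omega
  set N : Subgroup G := normalizer (D : Set G) with hN
  obtain ⟨e, he⟩ : p ^ k ∣ Nat.card N := (Dvd.intro _ rfl).trans hd3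
  have hde : d ∣ e := by
    rw [he] at hd3
    exact Nat.dvd_of_mul_dvd_mul_left (pow_pos hp.pos k) hd3
  have hNidx : Nat.card N * N.index = p ^ k * m := by rw [Subgroup.card_mul_index, h]
  have hem : e * N.index = m := by
    rw [he, mul_assoc] at hNidx
    exact Nat.eq_of_mul_eq_mul_left (pow_pos hp.pos k) hNidx
  have he0 : 0 < e := by
    rcases Nat.eq_zero_or_pos e with h0 | h0
    · rw [h0, zero_mul] at hem
      exact absurd hem.symm hm0
    · exact h0
  have hidvd : N.index ∣ m := Dvd.intro_left _ hem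
  have hmi : m / N.index = e := by
    have hi0 : 0 < N.index := by
      rcases Nat.eq_zero_or_pos N.index with h0 | h0
      · rw [h0, mul_zero] at hem
        exact absurd hem.symm hm0
      · exact h0
    rw [← hem]
    exact Nat.mul_div_cancel e hi0
  have hpe : p + 1 ≤ m / N.index := by
    rw [hmi]
    exact hdp.trans (Nat.le_of_dvd he0 hde)
  have hi1 : N.index ≠ 1 := by
    intro h1
    have hNtop : N = ⊤ := Subgroup.index_eq_one.1 h1
    have hDn : D.Normal := Subgroup.normalizer_eq_top_iff.1 hNtop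
    rcases hDn.eq_bot_or_eq_top with hb | ht
    · have : Nat.card D = 1 := by rw [hb]; exact Subgroup.card_bot
      rw [hcardD] at this
      have h2 : 1 < p ^ (k - 1) := Nat.one_lt_pow (by omega) hp.one_lt
      omega
    · have h1 : Nat.card D = Nat.card G := by rw [ht]; exact Subgroup.card_top
      rw [hcardD, h] at h1
      have h2 : p ^ (k - 1) < p ^ k := Nat.pow_lt_pow_right hp.one_lt (by omega)
      have h3 : p ^ k ≤ p ^ k * m := Nat.le_mul_of_pos_right _ (Nat.pos_of_ne_zero hm0)
      omega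
  have hNtop : N ≠ ⊤ := fun ht => hi1 (Subgroup.index_eq_one.2 ht)
  exact hcheck N.index hidvd hi1 hpe (Cfsg.Agent.Lib.Helper23.card_dvd_factorial_index hG N hNtop)

end Cfsg.Agent.Lib.Helper97.Small1092
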