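import Mathlib
import Cfsg.Agent.Lib.Helper17.PG7920Defs
import Cfsg.Agent.Lib.Helper23.SylowPerm
import Cfsg.Agent.Lib.Helper23.SylowCount
import Cfsg.Agent.S0496
import Cfsg.Agent.Lib.Helper17.PG7920Star
import Cfsg.Agent.Lib.Helper27.PG7920_SUCC
import Cfsg.Agent.Lib.Helper30.PG7920_1980
import Cfsg.Agent.Lib.Helper60.PG7920_FRAT
import Cfsg.Agent.Lib.Helper66.PG7920_Transfer
import Cfsg.Agent.Lib.Helper80.PG7920_3960
import Cfsg.Agent.Lib.Helper90.PG7920_A

/-!
# K-PG-B2 (keystone 249011): glue for a simple normal subgroup `N` with `11 ∣ |N|`, `N ≠ ⊤`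
in a group of order `7920`: the prime graph is connected.
-/

set_option autoImplicit false

namespace Cfsg.Agent.Lib.Helper97.PG7920

open Cfsg.Agent.Lib.Helper17.PG7920
open Cfsg.Agent.Lib.Helper27.PG7920 Cfsg.Agent.Lib.Helper30.PG7920 Cfsg.Agent.Lib.Helper60.PG7920
  Cfsg.Agent.Lib.Helper66.PG7920 Cfsg.Agent.Lib.Helper80.PG7920 Cfsg.Agent.Lib.Helper90.PG7920

theorem pg7920_n11_cases (n : ℕ) (h1 : n ∣ 720) (h2 : n % 11 = 1) :
    n = 1 ∨ n = 12 ∨ n = 45 ∨ n = 144 := by
  have hle : n ≤ 720 := Nat.le_of_dvd (by norm_num) h1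
  obtain ⟨k, rfl⟩ : ∃ k, n = 11 * k + 1 := ⟨n / 11, by omega⟩
  have : k ≤ 65 := by omega
  interval_cases k <;> omega

theorem pg7920_arith144 (h : ℕ) (h1 : 144 * h ∣ 7920) (h2 : 11 ∣ h) : h = 11 ∨ h = 55 := by
  obtain ⟨m, rfl⟩ := h2
  have hle : 144 * (11 * m) ≤ 7920 := Nat.le_of_dvd (by norm_num) h1
  have : m ≤ 5 := by omega
  interval_cases m <;> omega

theorem pg7920_arith45 (h : ℕ) (h1 : 45 * h ∣ 7920) (h2 : 11 ∣ h) :
    45 * h = 495 ∨ 45 * h = 990 ∨ 45 * h = 1980 ∨ 45 * h = 3960 ∨ 45 * h = 7920 := by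
  obtain ⟨m, rfl⟩ := h2
  have hle : 45 * (11 * m) ≤ 7920 := Nat.le_of_dvd (by norm_num) h1
  have : m ≤ 16 := by omega
  interval_cases m <;> omega

/-- 249011 K-PG-B2 (glue on 249003/4/5/6/8/9/10 + S0496). -/
theorem pgConn_of_normal_simple {G : Type*} [Group G] [Finite G] (hord : Nat.card G = 7920)
    (N : Subgroup G) [N.Normal] (hN : IsSimpleGroup N)
    (hnab : ¬ ∀ x ∈ N, ∀ y ∈ N, x * y = y * x) (h11 : 11 ∣ Nat.card N) (hne : N ≠ ⊤) :
    PGConn G := by
  classical
  have hp11 : Fact (Nat.Prime 11) := ⟨by norm_num⟩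
  -- a Sylow 11-subgroup inside `N`
  obtain ⟨x, hx⟩ := exists_prime_orderOf_dvd_card' (G := ↥N) 11 h11
  have hxG : orderOf (x : G) = 11 := by rw [Subgroup.orderOf_coe]; exact hx
  have hpg : IsPGroup 11 (Subgroup.zpowers (x : G)) :=
    IsPGroup.of_card (n := 1) (by rw [Nat.card_zpowers, hxG]; norm_num)
  obtain ⟨P, hP⟩ := hpg.exists_le_sylow
  have hPcard : Nat.card (P : Subgroup G) = 11 := by
    obtain ⟨k, hk⟩ := IsPGroup.iff_card.1 P.2
    have h1 : Nat.card (P : Subgroup G) ∣ 7920 := hord ▸ Subgroup.card_subgroup_dvd_card _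
    have h2 : 11 ∣ Nat.card (P : Subgroup G) := by
      have := Subgroup.card_dvd_of_le hP
      rw [Nat.card_zpowers, hxG] at this
      exact this
    rw [hk] at h1 h2 ⊢
    rcases k with _ | _ | k
    · norm_num at h2
    · norm_num
    · exfalso
      have : 11 ^ 2 ∣ 7920 := dvd_trans (pow_dvd_pow 11 (by omega)) h1
      norm_num at this
  have hPeq : Subgroup.zpowers (x : G) = (P : Subgroup G) :=
    Subgroup.eq_of_le_of_card_ge hP (by rw [hPcard, Nat.card_zpowers, hxG])
  have hPN : (P : Subgroup G) ≤ N := by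
    rw [← hPeq]
    exact (Subgroup.zpowers_le).2 x.2
  -- `P` is abelian
  have hPC : (P : Subgroup G) ≤ Subgroup.centralizer ((P : Subgroup G) : Set G) := by
    intro a ha
    rw [Subgroup.mem_centralizer_iff]
    intro b hb
    rw [SetLike.mem_coe, ← hPeq] at hb
    rw [← hPeq] at ha
    obtain ⟨i, rfl⟩ := Subgroup.mem_zpowers_iff.1 ha
    obtain ⟨j, rfl⟩ := Subgroup.mem_zpowers_iff.1 hb
    exact ((Commute.refl (x : G)).zpow_zpow j i).eq
  have hPne : (P : Subgroup G) ≠ ⊥ := by
    intro hb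
    rw [hb, Subgroup.card_bot] at hPcard
    omega
  -- nonabelian / nonsolvable
  have hnc : ¬ IsMulCommutative ↥N := by
    intro hc
    exact hnab (fun a ha b hb => congrArg Subtype.val (hc.is_comm.comm ⟨a, ha⟩ ⟨b, hb⟩))
  have hns : ¬ Group.IsSolvable ↥N := by
    intro hs
    exact hnab (fun a ha b hb =>
      congrArg Subtype.val ((IsSimpleGroup.comm_iff_isSolvable.2 hs) ⟨a, ha⟩ ⟨b, hb⟩))
  -- the number of Sylow 11-subgroups
  have hindex : (P : Subgroup G).index = 720 := by
    have := Subgroup.card_mul_index (P : Subgroup G)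
    rw [hPcard, hord] at this
    omega
  have hn_dvd : Nat.card (Sylow 11 G) ∣ 720 := hindex ▸ Sylow.card_dvd_index P
  have hn_mod : Nat.card (Sylow 11 G) % 11 = 1 := card_sylow_modEq_one 11 G
  have hNP := Cfsg.Agent.Lib.Helper23.card_normalizer_mul_card_sylow 11 P
  rw [hord] at hNP
  have hfrat := card_eq_card_sylow_mul_card_inf_normalizer 11 N P hPN
  have hNdvd : Nat.card ↥N ∣ 7920 := hord ▸ Subgroup.card_subgroup_dvd_card N
  have hPh : 11 ∣ Nat.card ↥(N ⊓ Subgroup.normalizer ((P : Subgroup G) : Set G)) := by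
    have := Subgroup.card_dvd_of_le (le_inf hPN (Subgroup.le_normalizer (H := (P : Subgroup G))))
    rwa [hPcard] at this
  have htop : Nat.card ↥N ≠ 7920 := by
    intro h
    exact hne ((Subgroup.card_eq_iff_eq_top N).1 (h.trans hord.symm))
  rcases pg7920_n11_cases _ hn_dvd hn_mod with hn | hn | hn | hn
  · -- `n = 1`: `P` is normal
    have : Subsingleton (Sylow 11 G) := (Nat.card_eq_one_iff_unique.1 hn).1
    have hnorm : (P : Subgroup G).Normal := Sylow.normal_of_subsingleton P
    exact pgConn_of_normal_pgroup hord (P : Subgroup G) 11 1 (by norm_num) one_pos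
      (by rw [hPcard]; norm_num)
  · -- `n = 12`
    rw [hn] at hNP
    have hNPc : Nat.card ↥(Subgroup.normalizer ((P : Subgroup G) : Set G)) = 660 := by omega
    have hd := Cfsg.Agent.Lib.Helper23.SylowPerm.relIndex_centralizer_normalizer_dvd_pred 11
      (P : Subgroup G) hPcard
    have hcd := Cfsg.Agent.Lib.Helper23.SylowPerm.card_centralizer_mul_relIndex (P : Subgroup G)
    rw [hNPc] at hcd
    have h3 : 3 ∣ Nat.card ↥(Subgroup.centralizer ((P : Subgroup G) : Set G)) := by
      have h660 : 3 ∣ Nat.card ↥(Subgroup.centralizer ((P : Subgroup G) : Set G)) *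
          (Subgroup.centralizer ((P : Subgroup G) : Set G)).relIndex
            (Subgroup.normalizer ((P : Subgroup G) : Set G)) := by
        rw [hcd]; norm_num
      rcases (Nat.Prime.dvd_mul Nat.prime_three).1 h660 with h | h
      · exact h
      · exfalso
        have := dvd_trans h hd
        norm_num at this
    obtain ⟨y, hy, hyN⟩ := exists_centralizing_of_card_sylow_eq_succ 11 N hN P hPcard hPN
      (by rw [hn]) 3 Nat.prime_three (by norm_num) h3
    exact pgConn_of_centralizing hord N h11 hns y 3 Nat.prime_three hy hyN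
  · -- `n = 45`
    exfalso
    rw [hn] at hfrat
    rw [hfrat] at hNdvd
    have : IsSimpleGroup ↥N := hN
    rcases pg7920_arith45 _ hNdvd hPh with h | h | h | h | h
    · have hc : Nat.card ↥N = 495 := by rw [hfrat, h]
      have := Cfsg.Agent.S0496.result (G := ↥N) hnc (by rw [hc]; norm_num)
      omega
    · have hc : Nat.card ↥N = 990 := by rw [hfrat, h]
      have := Cfsg.Agent.S0496.result (G := ↥N) hnc (by rw [hc]; norm_num)
      omega
    · have hc : Nat.card ↥N = 1980 := by rw [hfrat, h]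
      exact not_simple_of_card_1980 (H := ↥N) hc
    · have hc : Nat.card ↥N = 3960 := by rw [hfrat, h]
      exact not_simple_of_card_3960 (H := ↥N) hc
    · exact htop (by rw [hfrat, h])
  · -- `n = 144`
    exfalso
    rw [hn] at hfrat
    rw [hfrat] at hNdvd
    rcases pg7920_arith144 _ hNdvd hPh with h | h
    · -- `N ⊓ N_G(P) = P ≤ C_G(P)`
      have heq : (P : Subgroup G) = N ⊓ Subgroup.normalizer ((P : Subgroup G) : Set G) :=
        Subgroup.eq_of_le_of_card_ge
          (le_inf hPN (Subgroup.le_normalizer (H := (P : Subgroup G)))) (by rw [h, hPcard])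
      exact false_of_inf_normalizer_le_centralizer 11 N hN hnab P hPne hPN (by rw [← heq]; exact hPC)
    · exact htop (by rw [hfrat, h])

end Cfsg.Agent.Lib.Helper97.PG7920
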