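import Mathlib
import Cfsg.Agent.Lib.Helper97.UniqueOrderP

set_option autoImplicit false

/-! Non-abelian `2`-groups with a cyclic subgroup of index `2`. -/

namespace Cfsg.Agent.Lib.Helper97

/-- In a finite cyclic subgroup `⟨a⟩` containing an element `z` of order `2`, the only solutions
of `x ^ 2 = 1` are `1` and `z`. -/
theorem eq_one_or_eq_of_sq_eq_one {G : Type*} [Group G] [Finite G] (a x z : G)
    (hx : x ∈ Subgroup.zpowers a) (hz : z ∈ Subgroup.zpowers a) (hzo : orderOf z = 2)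
    (hx2 : x ^ 2 = 1) : x = 1 ∨ x = z := by
  have h1 : (⟨x, hx⟩ : Subgroup.zpowers a) ∈ Subgroup.zpowers (⟨z, hz⟩ : Subgroup.zpowers a) := by
    apply mem_zpowers_of_pow_eq_one_of_isCyclic' (by norm_num : 0 < 2)
    · rw [Subgroup.orderOf_mk]; exact hzo
    · exact Subtype.ext (by simpa using hx2)
  obtain ⟨k, hk⟩ := (Submonoid.mem_powers_iff _ _).mp (mem_powers_iff_mem_zpowers.mpr h1)
  have hk' : z ^ k = x := by simpa using congrArg Subtype.val hk
  rw [← pow_mod_orderOf, hzo] at hk'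
  rcases Nat.mod_two_eq_zero_or_one k with h0 | h0
  · left; rw [h0, pow_zero] at hk'; exact hk'.symm
  · right; rw [h0, pow_one] at hk'; exact hk'.symm

/-- If conjugation by `g` sends `x` to `x'`, it sends powers of `x` to the same powers of `x'`. -/
theorem conj_mem_zpowers_eq {G : Type*} [Group G] (g x x' : G) (h : g * x * g⁻¹ = x')
    {w : G} (hw : w ∈ Subgroup.zpowers x) :
    ∃ k : ℤ, w = x ^ k ∧ g * w * g⁻¹ = x' ^ k := by
  obtain ⟨k, rfl⟩ := Subgroup.mem_zpowers_iff.mp hw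
  exact ⟨k, rfl, by rw [← conj_zpow, h]⟩

theorem conj_fixes_zpowers {G : Type*} [Group G] (g x : G) (h : g * x * g⁻¹ = x)
    {w : G} (hw : w ∈ Subgroup.zpowers x) : g * w * g⁻¹ = w := by
  obtain ⟨k, rfl, hk⟩ := conj_mem_zpowers_eq g x x h hw
  exact hk

theorem conj_inverts_zpowers {G : Type*} [Group G] (g x : G) (h : g * x * g⁻¹ = x⁻¹)
    {w : G} (hw : w ∈ Subgroup.zpowers x) : g * w * g⁻¹ = w⁻¹ := by
  obtain ⟨k, rfl, hk⟩ := conj_mem_zpowers_eq g x x⁻¹ h hw
  rw [hk, inv_zpow]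

theorem sq_eq_one_of_eq_inv {G : Type*} [Group G] {x : G} (h : x = x⁻¹) : x ^ 2 = 1 := by
  rw [sq]
  nth_rewrite 1 [h]
  exact inv_mul_cancel x


theorem cyclic_max_classify {G : Type*} [Group G] [Finite G] (m : ℕ) (hG2 : IsPGroup 2 G)
    (a b₀ : G) (hao : orderOf a = 2 ^ (m + 2)) (hidx : (Subgroup.zpowers a).index = 2)
    (hb₀ : b₀ ∉ Subgroup.zpowers a) (hna : ∃ x y : G, x * y ≠ y * x) :
    ∃ b : G, b ∉ Subgroup.zpowers a ∧
      ((b ^ 2 = 1 ∧ b * a * b⁻¹ = a⁻¹) ∨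
       (b ^ 2 = a ^ (2 ^ (m + 1)) ∧ b * a * b⁻¹ = a⁻¹) ∨
       (1 ≤ m ∧ b ^ 2 = 1 ∧ b * a * b⁻¹ = a ^ (2 ^ (m + 1)) * a) ∨
       (1 ≤ m ∧ b ^ 2 = 1 ∧ b * a * b⁻¹ = a ^ (2 ^ (m + 1)) * a⁻¹)) := by
  classical
  set A := Subgroup.zpowers a with hA
  have hAn : A.Normal := Subgroup.normal_of_index_eq_two hidx
  have haA : a ∈ A := Subgroup.mem_zpowers a
  have hAcomm : ∀ x ∈ A, ∀ y ∈ A, x * y = y * x := by
    intro x hx y hy
    obtain ⟨i, rfl⟩ := Subgroup.mem_zpowers_iff.mp hx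
    obtain ⟨j, rfl⟩ := Subgroup.mem_zpowers_iff.mp hy
    exact ((Commute.refl a).zpow_zpow i j).eq
  set z := a ^ (2 ^ (m + 1)) with hz
  have hzA : z ∈ A := Subgroup.npow_mem_zpowers a _
  have hzo : orderOf z = 2 := by
    have hdvd : 2 ^ (m + 1) ∣ orderOf a := by rw [hao]; exact pow_dvd_pow 2 (Nat.le_succ _)
    rw [hz, orderOf_pow_of_dvd (pow_ne_zero _ (by norm_num)) hdvd, hao, pow_succ 2 (m + 1),
      Nat.mul_div_cancel_left _ (pow_pos (by norm_num) _)]
  have hz2 : z * z = 1 := by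
    rw [← sq, ← hzo]; exact pow_orderOf_eq_one z
  have hzinv : z⁻¹ = z := inv_eq_of_mul_eq_one_left hz2
  have hsq : ∀ x ∈ A, x ^ 2 = 1 → x = 1 ∨ x = z := fun x hx h =>
    eq_one_or_eq_of_sq_eq_one a x z hx hzA hzo h
  set t := b₀ * a * b₀⁻¹ with ht
  have htA : t ∈ A := hAn.conj_mem a haA b₀
  set y := b₀ * b₀ with hy
  have hyA : y ∈ A := Subgroup.mul_self_mem_of_index_two hidx b₀
  have hσy : b₀ * y * b₀⁻¹ = y := by rw [hy]; group
  -- σ t = a
  have hσt : b₀ * t * b₀⁻¹ = a := by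
    have h1 : b₀ * t * b₀⁻¹ = y * a * y⁻¹ := by rw [ht, hy]; group
    rw [h1, hAcomm y hyA a haA]; group
  set c := t * a⁻¹ with hc
  set d := t * a with hd
  have hcA : c ∈ A := A.mul_mem htA (A.inv_mem haA)
  have hdA : d ∈ A := A.mul_mem htA haA
  have hσc : b₀ * c * b₀⁻¹ = c⁻¹ := by
    have h1 : b₀ * c * b₀⁻¹ = (b₀ * t * b₀⁻¹) * (b₀ * a * b₀⁻¹)⁻¹ := by rw [hc]; group
    rw [h1, hσt, ← ht, hc]; group
  have hσd : b₀ * d * b₀⁻¹ = d := by
    have h1 : b₀ * d * b₀⁻¹ = (b₀ * t * b₀⁻¹) * (b₀ * a * b₀⁻¹) := by rw [hd]; group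
    rw [h1, hσt, ← ht, hd]
    exact hAcomm a haA t htA
  -- the four possibilities for t
  have ht4 : t = a ∨ t = a⁻¹ ∨ t = z * a ∨ t = z * a⁻¹ := by
    rcases mem_zpowers_or_mem_zpowers hG2 A hcA hdA with h | h
    · have h1 := conj_fixes_zpowers b₀ d hσd h
      rw [hσc] at h1
      rcases hsq c hcA (sq_eq_one_of_eq_inv h1.symm) with h2 | h2
      · left
        rw [hc] at h2
        exact mul_inv_eq_one.mp h2
      · right; right; left
        rw [hc] at h2
        exact mul_inv_eq_iff_eq_mul.mp h2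
    · have h1 := conj_inverts_zpowers b₀ c hσc h
      rw [hσd] at h1
      rcases hsq d hdA (sq_eq_one_of_eq_inv h1) with h2 | h2
      · right; left
        rw [hd] at h2
        exact eq_inv_of_mul_eq_one_left h2
      · right; right; right
        rw [hd] at h2
        exact eq_mul_inv_of_mul_eq h2
  -- t ≠ a since G is not abelian
  have hta : t ≠ a := by
    intro h
    obtain ⟨x, y', hxy⟩ := hna
    apply hxy
    have hba : b₀ * a = a * b₀ := by
      have : b₀ * a = t * b₀ := by rw [ht]; group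
      rw [this, h]
    -- a is central
    have hmem : ∀ g : G, g ∈ A ∨ b₀⁻¹ * g ∈ A := by
      intro g
      by_cases hg : g ∈ A
      · exact Or.inl hg
      · right
        have := (Subgroup.mul_mem_iff_of_index_two hidx (a := b₀⁻¹) (b := g))
        rw [this]
        constructor
        · intro h'; exact absurd (by simpa using A.inv_mem h') hb₀
        · intro h'; exact absurd h' hg
    have hb₀A : ∀ w ∈ A, b₀ * w = w * b₀ := by
      intro w hw
      obtain ⟨k, rfl⟩ := Subgroup.mem_zpowers_iff.mp hw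
      exact ((show Commute b₀ a from hba).zpow_right k).eq
    -- write x = b₀^e * u
    have key : ∀ g h : G, g * h = h * g := by
      intro g h
      rcases hmem g with hg | hg <;> rcases hmem h with hh | hh
      · exact hAcomm g hg h hh
      · have e1 : h = b₀ * (b₀⁻¹ * h) := by group
        rw [e1]
        have e2 := hAcomm g hg _ hh
        have e3 := hb₀A g hg
        calc g * (b₀ * (b₀⁻¹ * h)) = (g * b₀) * (b₀⁻¹ * h) := by group
          _ = (b₀ * g) * (b₀⁻¹ * h) := by rw [e3]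
          _ = b₀ * (g * (b₀⁻¹ * h)) := by group
          _ = b₀ * ((b₀⁻¹ * h) * g) := by rw [e2]
          _ = b₀ * (b₀⁻¹ * h) * g := by group
      · have e1 : g = b₀ * (b₀⁻¹ * g) := by group
        rw [e1]
        have e2 := hAcomm h hh _ hg
        have e3 := hb₀A h hh
        calc b₀ * (b₀⁻¹ * g) * h = b₀ * ((b₀⁻¹ * g) * h) := by group
          _ = b₀ * (h * (b₀⁻¹ * g)) := by rw [e2]
          _ = (b₀ * h) * (b₀⁻¹ * g) := by group
          _ = (h * b₀) * (b₀⁻¹ * g) := by rw [e3]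
          _ = h * (b₀ * (b₀⁻¹ * g)) := by group
      · have e1 : g = b₀ * (b₀⁻¹ * g) := by group
        have e1' : h = b₀ * (b₀⁻¹ * h) := by group
        rw [e1, e1']
        set u := b₀⁻¹ * g
        set v := b₀⁻¹ * h
        have e2 := hAcomm u hg v hh
        have e3 := hb₀A u hg
        have e4 := hb₀A v hh
        calc b₀ * u * (b₀ * v) = b₀ * (u * b₀) * v := by group
          _ = b₀ * (b₀ * u) * v := by rw [e3]
          _ = b₀ * b₀ * (u * v) := by group
          _ = b₀ * b₀ * (v * u) := by rw [e2]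
          _ = b₀ * (b₀ * v) * u := by group
          _ = b₀ * (v * b₀) * u := by rw [e4]
          _ = b₀ * v * (b₀ * u) := by group
    exact key x y'
  have hb₀mul : ∀ w ∈ A, b₀ * w ∉ A := by
    intro w hw h
    apply hb₀
    have : b₀ = (b₀ * w) * w⁻¹ := by group
    rw [this]; exact A.mul_mem h (A.inv_mem hw)
  have hσinv : b₀⁻¹ * a * b₀ = t := by
    rw [← hσt]; group
  have hconjb : ∀ k : ℕ, (b₀ * a ^ k) * a * (b₀ * a ^ k)⁻¹ = t := by
    intro k
    rw [ht]; group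
  have hsqb : ∀ k : ℕ, (b₀ * a ^ k) ^ 2 = y * (t * a) ^ k := by
    intro k
    have hcomm : Commute (b₀⁻¹ * a * b₀) a := by
      rw [hσinv]; exact hAcomm t htA a haA
    rw [sq_mul_pow b₀ a hcomm k, hσinv, sq]
  have ht3 : t = a⁻¹ ∨ (1 ≤ m ∧ t = z * a) ∨ (1 ≤ m ∧ t = z * a⁻¹) := by
    rcases ht4 with h | h | h | h
    · exact absurd h hta
    · exact Or.inl h
    · rcases Nat.eq_zero_or_pos m with h0 | hpos
      · left
        subst h0
        have ha4 : a ^ 4 = 1 := by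
          have := pow_orderOf_eq_one a
          rw [hao] at this
          simpa using this
        rw [h, hz]
        apply eq_inv_of_mul_eq_one_left
        have : a ^ 2 ^ (0 + 1) * a * a = a ^ 4 := by
          simp only [zero_add, pow_one]
          rw [mul_assoc, ← sq, ← pow_add]
        rw [this, ha4]
      · exact Or.inr (Or.inl ⟨hpos, h⟩)
    · rcases Nat.eq_zero_or_pos m with h0 | hpos
      · exfalso
        subst h0
        apply hta
        rw [h, hz]
        simp only [zero_add, pow_one]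
        rw [sq, mul_assoc, mul_inv_cancel, mul_one]
      · exact Or.inr (Or.inr ⟨hpos, h⟩)
  rcases ht3 with h | ⟨hm, h⟩ | ⟨hm, h⟩
  · -- inversion: dihedral or quaternion
    have h1 := conj_inverts_zpowers b₀ a h hyA
    rw [hσy] at h1
    rcases hsq y hyA (sq_eq_one_of_eq_inv h1) with h2 | h2
    · exact ⟨b₀, hb₀, Or.inl ⟨by rw [sq]; exact h2, h⟩⟩
    · exact ⟨b₀, hb₀, Or.inr (Or.inl ⟨by rw [sq]; exact h2, h⟩)⟩
  · -- t = z * a : modular
    set w := t * a with hw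
    have hwA : w ∈ A := A.mul_mem htA haA
    have hza : Commute z a := hAcomm z hzA a haA
    -- y is an even power of a
    obtain ⟨i, hi⟩ := (Submonoid.mem_powers_iff _ _).mp (mem_powers_iff_mem_zpowers.mpr hyA)
    have hzi : z ^ i = 1 := by
      have h1 : b₀ * y * b₀⁻¹ = t ^ i := by rw [← hi, ← conj_pow]
      rw [hσy, h, hza.mul_pow, hi] at h1
      exact (mul_eq_right.mp h1.symm)
    have h2i : 2 ∣ i := by
      rw [← hzo]; exact orderOf_dvd_of_pow_eq_one hzi
    obtain ⟨j, rfl⟩ := h2i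
    -- a * a is a power of w
    have hw2m : w ^ (2 ^ m) = z := by
      have hw' : w = z * (a * a) := by rw [hw, h, mul_assoc]
      have hc2 : Commute z (a * a) := hza.mul_right hza
      rw [hw', hc2.mul_pow]
      have h1 : z ^ (2 ^ m) = 1 := by
        obtain ⟨m', rfl⟩ : ∃ m', m = m' + 1 := ⟨m - 1, by omega⟩
        rw [pow_succ, mul_comm, pow_mul, sq, hz2, one_pow]
      have h2 : (a * a) ^ (2 ^ m) = z := by
        rw [← sq, ← pow_mul, hz, pow_succ 2 m, mul_comm]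
      rw [h1, h2, one_mul]
    have haaw : a * a ∈ Subgroup.zpowers w := by
      have : a * a = w * w ^ (2 ^ m) := by
        rw [hw2m, hw, h]
        calc a * a = z * z * (a * a) := by rw [hz2, one_mul]
          _ = z * a * a * z := by
            rw [mul_assoc z z, (hza.mul_right hza).eq]; group
      rw [this]
      exact Subgroup.mul_mem _ (Subgroup.mem_zpowers w) (Subgroup.npow_mem_zpowers w _)
    have hyw : y⁻¹ ∈ Subgroup.zpowers w := by
      apply Subgroup.inv_mem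
      rw [← hi, pow_mul, sq]
      exact Subgroup.pow_mem _ haaw j
    obtain ⟨k, hk⟩ := (Submonoid.mem_powers_iff _ _).mp (mem_powers_iff_mem_zpowers.mpr hyw)
    refine ⟨b₀ * a ^ k, hb₀mul _ (A.pow_mem haA k), Or.inr (Or.inr (Or.inl ⟨hm, ?_, ?_⟩))⟩
    · rw [hsqb k, hk, mul_inv_cancel]
    · rw [hconjb k, h]
  · -- t = z * a⁻¹ : semidihedral
    have hza : Commute z a⁻¹ := hAcomm z hzA a⁻¹ (A.inv_mem haA)
    have hσaa : b₀ * (a * a) * b₀⁻¹ = (a * a)⁻¹ := by
      have h1 : b₀ * (a * a) * b₀⁻¹ = t * t := by rw [ht]; group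
      rw [h1, h]
      calc z * a⁻¹ * (z * a⁻¹) = z * (a⁻¹ * z) * a⁻¹ := by group
        _ = z * (z * a⁻¹) * a⁻¹ := by rw [hza.eq]
        _ = (z * z) * (a⁻¹ * a⁻¹) := by group
        _ = (a * a)⁻¹ := by rw [hz2, one_mul, mul_inv_rev]
    have haaA : a * a ∈ A := A.mul_mem haA haA
    have hy1z : y = 1 ∨ y = z := by
      rcases mem_zpowers_or_mem_zpowers hG2 A hyA haaA with h1 | h1
      · have h2 := conj_inverts_zpowers b₀ (a * a) hσaa h1
        rw [hσy] at h2
        exact hsq y hyA (sq_eq_one_of_eq_inv h2)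
      · exfalso
        have h2 := conj_fixes_zpowers b₀ y hσy h1
        rw [hσaa] at h2
        have h3 : (a * a) ^ 2 = 1 := sq_eq_one_of_eq_inv h2.symm
        have h4 : a ^ 4 = 1 := by
          rw [← h3, ← sq, ← pow_mul]
        have h5 := orderOf_dvd_of_pow_eq_one h4
        rw [hao] at h5
        have h6 := Nat.le_of_dvd (by norm_num) h5
        have h7 : 2 ^ 3 ≤ 2 ^ (m + 2) := Nat.pow_le_pow_right (by norm_num) (by omega)
        omega
    rcases hy1z with h2 | h2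
    · exact ⟨b₀, hb₀, Or.inr (Or.inr (Or.inr ⟨hm, by rw [sq]; exact h2, h⟩))⟩
    · refine ⟨b₀ * a ^ 1, hb₀mul _ (A.pow_mem haA 1), Or.inr (Or.inr (Or.inr ⟨hm, ?_, ?_⟩))⟩
      · rw [hsqb 1, h2, h, pow_one, inv_mul_cancel_right, hz2]
      · rw [hconjb 1, h]

/-- Classification of non-abelian `2`-groups with a cyclic subgroup of index `2`. -/
theorem cyclic_max_two_group {G : Type*} [Group G] [Finite G] (n : ℕ) (hn : 3 ≤ n)
    (hG : Nat.card G = 2 ^ n) (C : Subgroup G) (hC : IsCyclic C) (hCi : C.index = 2)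
    (hna : ∃ x y : G, x * y ≠ y * x) :
    ∃ a b : G, orderOf a = 2 ^ (n - 1) ∧ b ∉ Subgroup.zpowers a ∧
      ((b ^ 2 = 1 ∧ b * a * b⁻¹ = a⁻¹) ∨ (b ^ 2 = a ^ (2 ^ (n - 2)) ∧ b * a * b⁻¹ = a⁻¹) ∨
        (4 ≤ n ∧ b ^ 2 = 1 ∧ b * a * b⁻¹ = a ^ (1 + 2 ^ (n - 2))) ∨
        (4 ≤ n ∧ b ^ 2 = 1 ∧ b * a * b⁻¹ = a ^ (2 ^ (n - 2) - 1))) := by
  obtain ⟨m, rfl⟩ : ∃ m, n = m + 3 := ⟨n - 3, by omega⟩
  have hG2 : IsPGroup 2 G := IsPGroup.of_card hG
  obtain ⟨⟨a, haC⟩, hagen⟩ := hC.exists_generator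
  have hCeq : C = Subgroup.zpowers a := by
    apply le_antisymm
    · intro x hx
      obtain ⟨k, hk⟩ := Subgroup.mem_zpowers_iff.mp (hagen ⟨x, hx⟩)
      exact Subgroup.mem_zpowers_iff.mpr ⟨k, by simpa using congrArg Subtype.val hk⟩
    · rw [Subgroup.zpowers_le]; exact haC
  subst hCeq
  have hao : orderOf a = 2 ^ (m + 2) := by
    have h1 := Subgroup.card_mul_index (Subgroup.zpowers a)
    rw [hCi, hG, Nat.card_zpowers] at h1
    have h2 : 2 ^ (m + 3) = 2 ^ (m + 2) * 2 := by ring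
    rw [h2] at h1
    exact Nat.eq_of_mul_eq_mul_right (by norm_num) h1
  have hne : Subgroup.zpowers a ≠ ⊤ := by
    intro h
    rw [← Subgroup.index_eq_one] at h
    omega
  obtain ⟨b₀, -, hb₀⟩ := SetLike.exists_of_lt (lt_top_iff_ne_top.mpr hne)
  obtain ⟨b, hb, hcases⟩ := cyclic_max_classify m hG2 a b₀ hao hCi hb₀ hna
  have e1 : m + 3 - 2 = m + 1 := by omega
  have e2 : m + 3 - 1 = m + 2 := by omega
  refine ⟨a, b, by rw [e2]; exact hao, hb, ?_⟩
  rw [e1]
  rcases hcases with h | h | ⟨hm, h1, h2⟩ | ⟨hm, h1, h2⟩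
  · exact Or.inl h
  · exact Or.inr (Or.inl h)
  · refine Or.inr (Or.inr (Or.inl ⟨by omega, h1, ?_⟩))
    rw [h2, add_comm 1]
    exact (pow_succ a _).symm
  · refine Or.inr (Or.inr (Or.inr ⟨by omega, h1, ?_⟩))
    rw [h2, mul_inv_eq_iff_eq_mul, ← pow_succ, Nat.sub_add_cancel Nat.one_le_two_pow]

end Cfsg.Agent.Lib.Helper97
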