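import Mathlib
import Cfsg.Agent.Lib.Helper97.CyclicMax
import Cfsg.Agent.Lib.Helper97.DihRecog

set_option autoImplicit false

/-! `p`-groups all of whose normal abelian subgroups are cyclic. -/

namespace Cfsg.Agent.Lib.Helper97

/-- General form of `cyclic_max_classify`: an element `b₀` outside the cyclic `2`-subgroup `⟨a⟩`,
normalizing it, with `b₀ ^ 2 ∈ ⟨a⟩` and not centralizing `a`. -/
theorem conj_classify {G : Type*} [Group G] [Finite G] (m : ℕ) (hG2 : IsPGroup 2 G)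
    (a b₀ : G) (hao : orderOf a = 2 ^ (m + 2))
    (hnorm : b₀ * a * b₀⁻¹ ∈ Subgroup.zpowers a) (hsqA : b₀ * b₀ ∈ Subgroup.zpowers a)
    (hb₀ : b₀ ∉ Subgroup.zpowers a) (hta' : b₀ * a * b₀⁻¹ ≠ a) :
    ∃ b : G, b ∉ Subgroup.zpowers a ∧ b₀⁻¹ * b ∈ Subgroup.zpowers a ∧
      b * a * b⁻¹ = b₀ * a * b₀⁻¹ ∧
      ((b ^ 2 = 1 ∧ b * a * b⁻¹ = a⁻¹) ∨
       (b ^ 2 = a ^ (2 ^ (m + 1)) ∧ b * a * b⁻¹ = a⁻¹) ∨
       (1 ≤ m ∧ b ^ 2 = 1 ∧ b * a * b⁻¹ = a ^ (2 ^ (m + 1)) * a) ∨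
       (1 ≤ m ∧ b ^ 2 = 1 ∧ b * a * b⁻¹ = a ^ (2 ^ (m + 1)) * a⁻¹)) := by
  classical
  set A := Subgroup.zpowers a with hA
  have haA : a ∈ A := Subgroup.mem_zpowers a
  have hAcomm : ∀ x ∈ A, ∀ y ∈ A, x * y = y * x := by
    intro x hx y hy
    obtain ⟨i, rfl⟩ := Subgroup.mem_zpowers_iff.mp hx
    obtain ⟨j, rfl⟩ := Subgroup.mem_zpowers_iff.mp hy
    exact ((Commute.refl a).zpow_zpow i j).eq
  set z := a ^ (2 ^ (m + 1)) with hz
  have hzA : z ∈ A := Subgroup.npow_mem_zpowers a _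
  have hzo : orderOf z = 2 := by
    have hdvd : 2 ^ (m + 1) ∣ orderOf a := by rw [hao]; exact pow_dvd_pow 2 (Nat.le_succ _)
    rw [hz, orderOf_pow_of_dvd (pow_ne_zero _ (by norm_num)) hdvd, hao, pow_succ 2 (m + 1),
      Nat.mul_div_cancel_left _ (pow_pos (by norm_num) _)]
  have hz2 : z * z = 1 := by
    rw [← sq, ← hzo]; exact pow_orderOf_eq_one z
  have hzinv : z⁻¹ = z := inv_eq_of_mul_eq_one_left hz2
  have hsq : ∀ x ∈ A, x ^ 2 = 1 → x = 1 ∨ x = z := fun x hx h =>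
    eq_one_or_eq_of_sq_eq_one a x z hx hzA hzo h
  set t := b₀ * a * b₀⁻¹ with ht
  have htA : t ∈ A := hnorm
  set y := b₀ * b₀ with hy
  have hyA : y ∈ A := hsqA
  have hσy : b₀ * y * b₀⁻¹ = y := by rw [hy]; group
  -- σ t = a
  have hσt : b₀ * t * b₀⁻¹ = a := by
    have h1 : b₀ * t * b₀⁻¹ = y * a * y⁻¹ := by rw [ht, hy]; group
    rw [h1, hAcomm y hyA a haA]; group
  set c := t * a⁻¹ with hc
  set d := t * a with hd
  have hcA : c ∈ A := A.mul_mem htA (A.inv_mem haA)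
  have hdA : d ∈ A := A.mul_mem htA haA
  have hσc : b₀ * c * b₀⁻¹ = c⁻¹ := by
    have h1 : b₀ * c * b₀⁻¹ = (b₀ * t * b₀⁻¹) * (b₀ * a * b₀⁻¹)⁻¹ := by rw [hc]; group
    rw [h1, hσt, ← ht, hc]; group
  have hσd : b₀ * d * b₀⁻¹ = d := by
    have h1 : b₀ * d * b₀⁻¹ = (b₀ * t * b₀⁻¹) * (b₀ * a * b₀⁻¹) := by rw [hd]; group
    rw [h1, hσt, ← ht, hd]
    exact hAcomm a haA t htA
  -- the four possibilities for t
  have ht4 : t = a ∨ t = a⁻¹ ∨ t = z * a ∨ t = z * a⁻¹ := by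
    rcases mem_zpowers_or_mem_zpowers hG2 A hcA hdA with h | h
    · have h1 := conj_fixes_zpowers b₀ d hσd h
      rw [hσc] at h1
      rcases hsq c hcA (sq_eq_one_of_eq_inv h1.symm) with h2 | h2
      · left
        rw [hc] at h2
        exact mul_inv_eq_one.mp h2
      · right; right; left
        rw [hc] at h2
        exact mul_inv_eq_iff_eq_mul.mp h2
    · have h1 := conj_inverts_zpowers b₀ c hσc h
      rw [hσd] at h1
      rcases hsq d hdA (sq_eq_one_of_eq_inv h1) with h2 | h2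
      · right; left
        rw [hd] at h2
        exact eq_inv_of_mul_eq_one_left h2
      · right; right; right
        rw [hd] at h2
        exact eq_mul_inv_of_mul_eq h2
  have hta : t ≠ a := hta'
  have hb₀mul : ∀ w ∈ A, b₀ * w ∉ A := by
    intro w hw h
    apply hb₀
    have : b₀ = (b₀ * w) * w⁻¹ := by group
    rw [this]; exact A.mul_mem h (A.inv_mem hw)
  have hσinv : b₀⁻¹ * a * b₀ = t := by
    rw [← hσt]; group
  have hconjb : ∀ k : ℕ, (b₀ * a ^ k) * a * (b₀ * a ^ k)⁻¹ = t := by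
    intro k
    rw [ht]; group
  have hsqb : ∀ k : ℕ, (b₀ * a ^ k) ^ 2 = y * (t * a) ^ k := by
    intro k
    have hcomm : Commute (b₀⁻¹ * a * b₀) a := by
      rw [hσinv]; exact hAcomm t htA a haA
    rw [sq_mul_pow b₀ a hcomm k, hσinv, sq]
  have ht3 : t = a⁻¹ ∨ (1 ≤ m ∧ t = z * a) ∨ (1 ≤ m ∧ t = z * a⁻¹) := by
    rcases ht4 with h | h | h | h
    · exact absurd h hta
    · exact Or.inl h
    · rcases Nat.eq_zero_or_pos m with h0 | hpos
      · left
        subst h0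
        have ha4 : a ^ 4 = 1 := by
          have := pow_orderOf_eq_one a
          rw [hao] at this
          simpa using this
        rw [h, hz]
        apply eq_inv_of_mul_eq_one_left
        have : a ^ 2 ^ (0 + 1) * a * a = a ^ 4 := by
          simp only [zero_add, pow_one]
          rw [mul_assoc, ← sq, ← pow_add]
        rw [this, ha4]
      · exact Or.inr (Or.inl ⟨hpos, h⟩)
    · rcases Nat.eq_zero_or_pos m with h0 | hpos
      · exfalso
        subst h0
        apply hta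
        rw [h, hz]
        simp only [zero_add, pow_one]
        rw [sq, mul_assoc, mul_inv_cancel, mul_one]
      · exact Or.inr (Or.inr ⟨hpos, h⟩)
  rcases ht3 with h | ⟨hm, h⟩ | ⟨hm, h⟩
  · -- inversion: dihedral or quaternion
    have h1 := conj_inverts_zpowers b₀ a h hyA
    rw [hσy] at h1
    rcases hsq y hyA (sq_eq_one_of_eq_inv h1) with h2 | h2
    · exact ⟨b₀, hb₀, by rw [inv_mul_cancel]; exact A.one_mem, rfl, Or.inl ⟨by rw [sq]; exact h2, h⟩⟩
    · exact ⟨b₀, hb₀, by rw [inv_mul_cancel]; exact A.one_mem, rfl, Or.inr (Or.inl ⟨by rw [sq]; exact h2, h⟩)⟩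
  · -- t = z * a : modular
    set w := t * a with hw
    have hwA : w ∈ A := A.mul_mem htA haA
    have hza : Commute z a := hAcomm z hzA a haA
    -- y is an even power of a
    obtain ⟨i, hi⟩ := (Submonoid.mem_powers_iff _ _).mp (mem_powers_iff_mem_zpowers.mpr hyA)
    have hzi : z ^ i = 1 := by
      have h1 : b₀ * y * b₀⁻¹ = t ^ i := by rw [← hi, ← conj_pow]
      rw [hσy, h, hza.mul_pow, hi] at h1
      exact (mul_eq_right.mp h1.symm)
    have h2i : 2 ∣ i := by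
      rw [← hzo]; exact orderOf_dvd_of_pow_eq_one hzi
    obtain ⟨j, rfl⟩ := h2i
    -- a * a is a power of w
    have hw2m : w ^ (2 ^ m) = z := by
      have hw' : w = z * (a * a) := by rw [hw, h, mul_assoc]
      have hc2 : Commute z (a * a) := hza.mul_right hza
      rw [hw', hc2.mul_pow]
      have h1 : z ^ (2 ^ m) = 1 := by
        obtain ⟨m', rfl⟩ : ∃ m', m = m' + 1 := ⟨m - 1, by omega⟩
        rw [pow_succ, mul_comm, pow_mul, sq, hz2, one_pow]
      have h2 : (a * a) ^ (2 ^ m) = z := by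
        rw [← sq, ← pow_mul, hz, pow_succ 2 m, mul_comm]
      rw [h1, h2, one_mul]
    have haaw : a * a ∈ Subgroup.zpowers w := by
      have : a * a = w * w ^ (2 ^ m) := by
        rw [hw2m, hw, h]
        calc a * a = z * z * (a * a) := by rw [hz2, one_mul]
          _ = z * a * a * z := by
            rw [mul_assoc z z, (hza.mul_right hza).eq]; group
      rw [this]
      exact Subgroup.mul_mem _ (Subgroup.mem_zpowers w) (Subgroup.npow_mem_zpowers w _)
    have hyw : y⁻¹ ∈ Subgroup.zpowers w := by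
      apply Subgroup.inv_mem
      rw [← hi, pow_mul, sq]
      exact Subgroup.pow_mem _ haaw j
    obtain ⟨k, hk⟩ := (Submonoid.mem_powers_iff _ _).mp (mem_powers_iff_mem_zpowers.mpr hyw)
    refine ⟨b₀ * a ^ k, hb₀mul _ (A.pow_mem haA k), by rw [inv_mul_cancel_left]; exact A.pow_mem haA k, hconjb k, Or.inr (Or.inr (Or.inl ⟨hm, ?_, ?_⟩))⟩
    · rw [hsqb k, hk, mul_inv_cancel]
    · rw [hconjb k, h]
  · -- t = z * a⁻¹ : semidihedral
    have hza : Commute z a⁻¹ := hAcomm z hzA a⁻¹ (A.inv_mem haA)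
    have hσaa : b₀ * (a * a) * b₀⁻¹ = (a * a)⁻¹ := by
      have h1 : b₀ * (a * a) * b₀⁻¹ = t * t := by rw [ht]; group
      rw [h1, h]
      calc z * a⁻¹ * (z * a⁻¹) = z * (a⁻¹ * z) * a⁻¹ := by group
        _ = z * (z * a⁻¹) * a⁻¹ := by rw [hza.eq]
        _ = (z * z) * (a⁻¹ * a⁻¹) := by group
        _ = (a * a)⁻¹ := by rw [hz2, one_mul, mul_inv_rev]
    have haaA : a * a ∈ A := A.mul_mem haA haA
    have hy1z : y = 1 ∨ y = z := by
      rcases mem_zpowers_or_mem_zpowers hG2 A hyA haaA with h1 | h1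
      · have h2 := conj_inverts_zpowers b₀ (a * a) hσaa h1
        rw [hσy] at h2
        exact hsq y hyA (sq_eq_one_of_eq_inv h2)
      · exfalso
        have h2 := conj_fixes_zpowers b₀ y hσy h1
        rw [hσaa] at h2
        have h3 : (a * a) ^ 2 = 1 := sq_eq_one_of_eq_inv h2.symm
        have h4 : a ^ 4 = 1 := by
          rw [← h3, ← sq, ← pow_mul]
        have h5 := orderOf_dvd_of_pow_eq_one h4
        rw [hao] at h5
        have h6 := Nat.le_of_dvd (by norm_num) h5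
        have h7 : 2 ^ 3 ≤ 2 ^ (m + 2) := Nat.pow_le_pow_right (by norm_num) (by omega)
        omega
    rcases hy1z with h2 | h2
    · exact ⟨b₀, hb₀, by rw [inv_mul_cancel]; exact A.one_mem, rfl, Or.inr (Or.inr (Or.inr ⟨hm, by rw [sq]; exact h2, h⟩))⟩
    · refine ⟨b₀ * a ^ 1, hb₀mul _ (A.pow_mem haA 1), by rw [inv_mul_cancel_left]; exact A.pow_mem haA 1, hconjb 1, Or.inr (Or.inr (Or.inr ⟨hm, ?_, ?_⟩))⟩
      · rw [hsqb 1, h2, h, pow_one, inv_mul_cancel_right, hz2]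
      · rw [hconjb 1, h]


end Cfsg.Agent.Lib.Helper97
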