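import Mathlib
import Cfsg.Agent.Lib.Helper97.NormalAbelianCyclic

set_option autoImplicit false
set_option linter.unusedSectionVars false
set_option linter.unusedVariables false

namespace Cfsg.Agent.Lib.Helper97

/-- A central involution `z` and another involution `b` all of whose conjugates are `b` or `b z`
generate a normal, commutative, non-cyclic subgroup. -/
theorem exists_normal_comm_not_cyclic {P : Type*} [Group P] [Finite P] (z b : P)
    (hzc : ∀ g : P, g * z = z * g) (hz : orderOf z = 2) (hb : orderOf b = 2) (hbz : b ≠ z)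
    (hconj : ∀ g : P, g * b * g⁻¹ = b ∨ g * b * g⁻¹ = b * z) :
    ∃ V : Subgroup P, V.Normal ∧ IsMulCommutative V ∧ ¬ IsCyclic V := by
  refine ⟨Subgroup.normalClosure {z, b}, Subgroup.normalClosure_normal, ?_, ?_⟩
  · unfold Subgroup.normalClosure
    apply Subgroup.isMulCommutative_closure
    have hmem : ∀ x ∈ Group.conjugatesOfSet ({z, b} : Set P), x = z ∨ x = b ∨ x = b * z := by
      intro x hx
      rw [Group.mem_conjugatesOfSet_iff] at hx
      obtain ⟨y, hy, hconjxy⟩ := hx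
      rw [isConj_iff] at hconjxy
      obtain ⟨g, hg⟩ := hconjxy
      rcases hy with rfl | rfl
      · left
        rw [← hg, hzc g]; group
      · rcases hconj g with h | h
        · right; left; rw [← hg, h]
        · right; right; rw [← hg, h]
    have hcz : ∀ g : P, Commute g z := fun g => hzc g
    have hbb : Commute b b := Commute.refl b
    have hbbz : Commute b (b * z) := hbb.mul_right (hcz b)
    intro x hx y hy
    rcases hmem x hx with rfl | hx'
    · exact ((hcz y).symm).eq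
    · rcases hmem y hy with rfl | hy'
      · exact (hcz x).eq
      · rcases hx' with rfl | rfl <;> rcases hy' with rfl | rfl
        · rfl
        · exact hbbz.eq
        · exact hbbz.symm.eq
        · rfl
  · intro hcyc
    have hzV : z ∈ Subgroup.normalClosure ({z, b} : Set P) :=
      Subgroup.subset_normalClosure (by simp)
    have hbV : b ∈ Subgroup.normalClosure ({z, b} : Set P) :=
      Subgroup.subset_normalClosure (by simp)
    have h1 : (⟨b, hbV⟩ : Subgroup.normalClosure ({z, b} : Set P)) ∈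
        Subgroup.zpowers (⟨z, hzV⟩ : Subgroup.normalClosure ({z, b} : Set P)) := by
      apply mem_zpowers_of_pow_eq_one_of_isCyclic' (by norm_num : 0 < 2)
      · rw [Subgroup.orderOf_mk]; exact hz
      · apply Subtype.ext
        have : b ^ 2 = 1 := by rw [← hb]; exact pow_orderOf_eq_one b
        simpa using this
    obtain ⟨k, hk⟩ := (Submonoid.mem_powers_iff _ _).mp (mem_powers_iff_mem_zpowers.mpr h1)
    have hk' : z ^ k = b := by simpa using congrArg Subtype.val hk
    rw [← pow_mod_orderOf, hz] at hk'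
    rcases Nat.mod_two_eq_zero_or_one k with h0 | h0
    · rw [h0, pow_zero] at hk'
      rw [← hk', orderOf_one] at hb
      omega
    · rw [h0, pow_one] at hk'
      exact hbz hk'.symm

/-- the set-up shared by the lemmas below -/
structure CycSetup {P : Type*} [Group P] (a : P) (m : ℕ) : Prop where
  normal : (Subgroup.zpowers a).Normal
  cent : ∀ u : P, u * a * u⁻¹ = a → u ∈ Subgroup.zpowers a
  order : orderOf a = 2 ^ (m + 2)
  noV : ∀ V : Subgroup P, V.Normal → IsMulCommutative V → IsCyclic V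
  pgroup : IsPGroup 2 P

section

variable {P : Type*} [Group P] [Finite P] {a : P} {m : ℕ}

theorem CycSetup.comm (_h : CycSetup a m) :
    ∀ x ∈ Subgroup.zpowers a, ∀ y ∈ Subgroup.zpowers a, x * y = y * x := by
  intro x hx y hy
  obtain ⟨i, rfl⟩ := Subgroup.mem_zpowers_iff.mp hx
  obtain ⟨j, rfl⟩ := Subgroup.mem_zpowers_iff.mp hy
  exact ((Commute.refl a).zpow_zpow i j).eq

theorem CycSetup.z_order (h : CycSetup a m) : orderOf (a ^ (2 ^ (m + 1))) = 2 := by
  have hdvd : 2 ^ (m + 1) ∣ orderOf a := by rw [h.order]; exact pow_dvd_pow 2 (Nat.le_succ _)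
  rw [orderOf_pow_of_dvd (pow_ne_zero _ (by norm_num)) hdvd, h.order, pow_succ 2 (m + 1),
    Nat.mul_div_cancel_left _ (pow_pos (by norm_num) _)]

theorem CycSetup.z_sq (h : CycSetup a m) : a ^ (2 ^ (m + 1)) * a ^ (2 ^ (m + 1)) = 1 := by
  have := pow_orderOf_eq_one (a ^ (2 ^ (m + 1)))
  rw [h.z_order, sq] at this
  exact this

theorem CycSetup.z_central (h : CycSetup a m) (g : P) :
    g * a ^ (2 ^ (m + 1)) = a ^ (2 ^ (m + 1)) * g := by
  set z := a ^ (2 ^ (m + 1)) with hz
  have hzA : z ∈ Subgroup.zpowers a := Subgroup.npow_mem_zpowers a _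
  have hmem : g * z * g⁻¹ ∈ Subgroup.zpowers a := h.normal.conj_mem z hzA g
  have h2 : (g * z * g⁻¹) ^ 2 = 1 := by rw [conj_pow, sq, h.z_sq]; group
  rcases eq_one_or_eq_of_sq_eq_one a _ z hmem hzA h.z_order h2 with h' | h'
  · exfalso
    have h3 : z = 1 := by
      calc z = g⁻¹ * (g * z * g⁻¹) * g := by group
        _ = 1 := by rw [h']; group
    have h4 := h.z_order
    rw [← hz, h3, orderOf_one] at h4
    omega
  · calc g * z = (g * z * g⁻¹) * g := by group
      _ = z * g := by rw [h']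

theorem CycSetup.sq_ne_one (h : CycSetup a m) : a * a ≠ 1 := by
  intro h'
  have h5 := orderOf_dvd_of_pow_eq_one (show a ^ 2 = 1 by rw [sq]; exact h')
  rw [h.order] at h5
  have h6 := Nat.le_of_dvd (by norm_num) h5
  have h7 : 2 ^ 2 ≤ 2 ^ (m + 2) := Nat.pow_le_pow_right (by norm_num) (by omega)
  omega

theorem CycSetup.pow_four_ne_one (h : CycSetup a m) (hm : 1 ≤ m) : a ^ 4 ≠ 1 := by
  intro h1
  have h5 := orderOf_dvd_of_pow_eq_one h1
  rw [h.order] at h5
  have h6 := Nat.le_of_dvd (by norm_num) h5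
  have h7 : 2 ^ 3 ≤ 2 ^ (m + 2) := Nat.pow_le_pow_right (by norm_num) (by omega)
  omega

/-- conjugation by any two elements commutes on `⟨a⟩` -/
theorem CycSetup.comm_mod (h : CycSetup a m) (g k : P) :
    (k * g)⁻¹ * (g * k) ∈ Subgroup.zpowers a := by
  apply h.cent
  have hg := h.normal.conj_mem a (Subgroup.mem_zpowers a) g
  have hk := h.normal.conj_mem a (Subgroup.mem_zpowers a) k
  obtain ⟨i, hi⟩ := (Submonoid.mem_powers_iff _ _).mp (mem_powers_iff_mem_zpowers.mpr hg)
  obtain ⟨j, hj⟩ := (Submonoid.mem_powers_iff _ _).mp (mem_powers_iff_mem_zpowers.mpr hk)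
  have e1 : g * (k * a * k⁻¹) * g⁻¹ = k * (g * a * g⁻¹) * k⁻¹ := by
    rw [← hj, ← hi, ← conj_pow, ← conj_pow, ← hi, ← hj, ← pow_mul, ← pow_mul, mul_comm]
  calc (k * g)⁻¹ * (g * k) * a * ((k * g)⁻¹ * (g * k))⁻¹
      = (k * g)⁻¹ * (g * (k * a * k⁻¹) * g⁻¹) * (k * g) := by group
    _ = (k * g)⁻¹ * (k * (g * a * g⁻¹) * k⁻¹) * (k * g) := by rw [e1]
    _ = a := by group



theorem CycSetup.z_mem (_h : CycSetup a m) : a ^ (2 ^ (m + 1)) ∈ Subgroup.zpowers a :=
  Subgroup.npow_mem_zpowers a _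

theorem CycSetup.z_comm (h : CycSetup a m) : Commute (a ^ (2 ^ (m + 1))) a :=
  (Commute.refl a).pow_left _

/-- `z * a ≠ a⁻¹` when `m ≥ 1`. -/
theorem CycSetup.za_ne_inv (h : CycSetup a m) (hm : 1 ≤ m) : a ^ (2 ^ (m + 1)) * a ≠ a⁻¹ := by
  intro h1
  apply h.pow_four_ne_one hm
  have h2 : a * a = (a ^ (2 ^ (m + 1)))⁻¹ := by
    have : a ^ (2 ^ (m + 1)) * (a * a) = 1 := by
      rw [← mul_assoc, h1, inv_mul_cancel]
    exact eq_inv_of_mul_eq_one_right this
  have h3 : (a ^ (2 ^ (m + 1)))⁻¹ = a ^ (2 ^ (m + 1)) := inv_eq_of_mul_eq_one_left h.z_sq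
  calc a ^ 4 = (a * a) * (a * a) := by rw [← sq, ← sq, ← pow_mul]
    _ = 1 := by rw [h2, h3, h.z_sq]

theorem CycSetup.za_ne_zinv (h : CycSetup a m) :
    a ^ (2 ^ (m + 1)) * a ≠ a ^ (2 ^ (m + 1)) * a⁻¹ := by
  intro h1
  apply h.sq_ne_one
  have h2 : a = a⁻¹ := mul_left_cancel h1
  nth_rewrite 1 [h2]
  exact inv_mul_cancel a

/-- an element outside `⟨a⟩` whose square lies in `⟨a⟩` inverts `a` up to the central involution -/
theorem CycSetup.step1 (h : CycSetup a m) (x : P) (hx : x ∉ Subgroup.zpowers a)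
    (hxx : x * x ∈ Subgroup.zpowers a) :
    x * a * x⁻¹ = a⁻¹ ∨ (1 ≤ m ∧ x * a * x⁻¹ = a ^ (2 ^ (m + 1)) * a⁻¹) := by
  have hnorm := h.normal.conj_mem a (Subgroup.mem_zpowers a) x
  have hne : x * a * x⁻¹ ≠ a := fun h' => hx (h.cent x h')
  obtain ⟨b, hb, -, hbx, hcases⟩ := conj_classify m h.pgroup a x h.order hnorm hxx hx hne
  rw [← hbx]
  rcases hcases with ⟨-, h2⟩ | ⟨-, h2⟩ | ⟨hm, hb2, h2⟩ | ⟨hm, -, h2⟩
  · exact Or.inl h2
  · exact Or.inl h2
  · exfalso
    set z := a ^ (2 ^ (m + 1)) with hz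
    have hzA : z ∈ Subgroup.zpowers a := h.z_mem
    have hb1 : b ≠ 1 := fun h' => hb (h' ▸ Subgroup.one_mem _)
    have hbo : orderOf b = 2 := orderOf_eq_prime hb2 hb1
    have hbz : b ≠ z := fun h' => hb (h' ▸ hzA)
    have hbinv : b⁻¹ = b := by
      apply inv_eq_of_mul_eq_one_left
      rw [← sq]; exact hb2
    have hfix : b * (a * a) * b⁻¹ = a * a := by
      have h1 : b * (a * a) * b⁻¹ = (b * a * b⁻¹) * (b * a * b⁻¹) := by group
      rw [h1, h2]
      calc z * a * (z * a) = z * (a * z) * a := by group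
        _ = z * (z * a) * a := by rw [(h.z_comm).eq]
        _ = (z * z) * (a * a) := by group
        _ = a * a := by rw [h.z_sq, one_mul]
    have haaA : a * a ∈ Subgroup.zpowers a :=
      Subgroup.mul_mem _ (Subgroup.mem_zpowers a) (Subgroup.mem_zpowers a)
    have hconj : ∀ g : P, g * b * g⁻¹ = b ∨ g * b * g⁻¹ = b * z := by
      intro g
      set c := b⁻¹ * (g * b * g⁻¹) with hc
      have hcA : c ∈ Subgroup.zpowers a := by
        have := h.comm_mod b g⁻¹
        have e : (g⁻¹ * b)⁻¹ * (b * g⁻¹) = c := by rw [hc]; group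
        rwa [e] at this
      have hbc : g * b * g⁻¹ = b * c := by rw [hc]; group
      have hbc2 : (b * c) * (b * c) = 1 := by
        rw [← hbc]
        calc g * b * g⁻¹ * (g * b * g⁻¹) = g * (b * b) * g⁻¹ := by group
          _ = 1 := by rw [← sq, hb2]; group
      have hinv : b * c * b⁻¹ = c⁻¹ := by
        rw [hbinv]
        apply eq_inv_of_mul_eq_one_left
        rw [mul_assoc (b * c) b c]
        exact hbc2
      rw [hbc]
      rcases mem_zpowers_or_mem_zpowers h.pgroup (Subgroup.zpowers a) hcA haaA with h1 | h1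
      · have h3 := conj_fixes_zpowers b (a * a) hfix h1
        rw [hinv] at h3
        rcases eq_one_or_eq_of_sq_eq_one a c z hcA hzA h.z_order (sq_eq_one_of_eq_inv h3.symm)
          with h4 | h4
        · left; rw [h4, mul_one]
        · right; rw [h4]
      · exfalso
        have h3 := conj_inverts_zpowers b c hinv h1
        rw [hfix] at h3
        have h4 : (a * a) ^ 2 = 1 := sq_eq_one_of_eq_inv h3
        apply h.pow_four_ne_one hm
        rw [← h4, ← sq, ← pow_mul]
    obtain ⟨V, hVn, hVc, hVnc⟩ :=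
      exists_normal_comm_not_cyclic z b h.z_central h.z_order hbo hbz hconj
    exact hVnc (h.noV V hVn hVc)
  · exact Or.inr ⟨hm, h2⟩



/-- every square lies in `⟨a⟩` -/
theorem CycSetup.sq_mem (h : CycSetup a m) (u : P) : u * u ∈ Subgroup.zpowers a := by
  by_contra hu
  obtain ⟨k, hk1, hk2⟩ := exists_pow_not_mem_sq_mem h.pgroup (Subgroup.zpowers a) (u * u) hu
  set w := u ^ (2 ^ k) with hw
  set x := w * w with hx
  have hxe : x = (u * u) ^ (2 ^ k) := by
    rw [hx, hw, ← sq, ← sq, ← pow_mul, ← pow_mul, mul_comm]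
  have hxx : x * x = (u * u) ^ (2 ^ (k + 1)) := by
    rw [hxe, ← sq, ← pow_mul, ← pow_succ]
  rw [← hxe] at hk1
  rw [← hxx] at hk2
  have hwa := h.normal.conj_mem a (Subgroup.mem_zpowers a) w
  obtain ⟨i, hi⟩ := (Submonoid.mem_powers_iff _ _).mp (mem_powers_iff_mem_zpowers.mpr hwa)
  have hxa : x * a * x⁻¹ = a ^ (i * i) := by
    calc x * a * x⁻¹ = w * (w * a * w⁻¹) * w⁻¹ := by rw [hx]; group
      _ = w * a ^ i * w⁻¹ := by rw [← hi]
      _ = (w * a * w⁻¹) ^ i := by rw [conj_pow]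
      _ = a ^ (i * i) := by rw [← hi, ← pow_mul]
  have h4 : 4 ∣ orderOf a := by
    rw [h.order, pow_add]
    exact Dvd.intro_left _ rfl
  rcases h.step1 x hk1 hk2 with h1 | ⟨hm, h1⟩
  · rw [hxa] at h1
    have h3 : a ^ (i * i + 1) = 1 := by
      rw [pow_succ, h1, inv_mul_cancel]
    exact four_not_dvd_sq_add_one i (dvd_trans h4 (orderOf_dvd_of_pow_eq_one h3))
  · rw [hxa] at h1
    have h3 : a ^ (i * i + 1) = a ^ (2 ^ (m + 1)) := by
      rw [pow_succ, h1, inv_mul_cancel_right]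
    have h5 : a ^ (2 * (i * i + 1)) = 1 := by
      rw [mul_comm, pow_mul, h3, sq, h.z_sq]
    have h6 := orderOf_dvd_of_pow_eq_one h5
    rw [h.order] at h6
    have h7 : 2 * 4 ∣ 2 * (i * i + 1) := by
      refine dvd_trans ?_ h6
      obtain ⟨m', rfl⟩ : ∃ m', m = m' + 1 := ⟨m - 1, by omega⟩
      exact ⟨2 ^ m', by ring⟩
    exact four_not_dvd_sq_add_one i (Nat.dvd_of_mul_dvd_mul_left (by norm_num) h7)

/-- elements outside `⟨a⟩` invert `a * a` -/
theorem CycSetup.inverts_sq (h : CycSetup a m) (x : P) (hx : x ∉ Subgroup.zpowers a) :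
    x * (a * a) * x⁻¹ = (a * a)⁻¹ := by
  have h1 : x * (a * a) * x⁻¹ = (x * a * x⁻¹) * (x * a * x⁻¹) := by group
  rw [h1]
  rcases h.step1 x hx (h.sq_mem x) with h2 | ⟨-, h2⟩
  · rw [h2, mul_inv_rev]
  · rw [h2]
    set z := a ^ (2 ^ (m + 1)) with hz
    have hza : Commute z a⁻¹ := (h.z_comm).inv_right
    calc z * a⁻¹ * (z * a⁻¹) = z * (a⁻¹ * z) * a⁻¹ := by group
      _ = z * (z * a⁻¹) * a⁻¹ := by rw [hza.eq]
      _ = (z * z) * (a⁻¹ * a⁻¹) := by group
      _ = (a * a)⁻¹ := by rw [h.z_sq, one_mul, mul_inv_rev]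

theorem inv_of_three {G : Type*} [Group G] (x w t : G) (hx : x * t * x⁻¹ = t⁻¹)
    (hw : w * t * w⁻¹ = t⁻¹) (hxw : (x * w) * t * (x * w)⁻¹ = t⁻¹) : t = t⁻¹ := by
  have h1 : (x * w) * t * (x * w)⁻¹ = x * (w * t * w⁻¹) * x⁻¹ := by group
  rw [h1, hw] at hxw
  have h2 : x * t⁻¹ * x⁻¹ = (x * t * x⁻¹)⁻¹ := by group
  rw [h2, hx, inv_inv] at hxw
  exact hxw

/-- `⟨a⟩` has at most two cosets -/
theorem CycSetup.inv_mul_mem (h : CycSetup a m) (x y : P) (hx : x ∉ Subgroup.zpowers a)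
    (hy : y ∉ Subgroup.zpowers a) : x⁻¹ * y ∈ Subgroup.zpowers a := by
  by_contra hw
  have hy' : x * (x⁻¹ * y) ∉ Subgroup.zpowers a := by rwa [mul_inv_cancel_left]
  rcases Nat.eq_zero_or_pos m with h0 | hpos
  · have hinv : ∀ u : P, u ∉ Subgroup.zpowers a → u * a * u⁻¹ = a⁻¹ := by
      intro u hu
      rcases h.step1 u hu (h.sq_mem u) with h2 | ⟨h2, -⟩
      · exact h2
      · omega
    have := inv_of_three x (x⁻¹ * y) a (hinv x hx) (hinv _ hw) (hinv _ hy')
    apply h.sq_ne_one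
    nth_rewrite 1 [this]
    exact inv_mul_cancel a
  · have := inv_of_three x (x⁻¹ * y) (a * a) (h.inverts_sq x hx) (h.inverts_sq _ hw)
      (h.inverts_sq _ hy')
    apply h.pow_four_ne_one hpos
    have h4 : (a * a) ^ 2 = 1 := sq_eq_one_of_eq_inv this
    rw [← h4, ← sq, ← pow_mul]

theorem CycSetup.index_eq_two (h : CycSetup a m) (b₀ : P) (hb₀ : b₀ ∉ Subgroup.zpowers a) :
    (Subgroup.zpowers a).index = 2 := by
  rw [Subgroup.index_eq_two_iff]
  refine ⟨b₀, fun b => ?_⟩
  by_cases hb : b ∈ Subgroup.zpowers a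
  · refine Or.inr ⟨hb, fun h' => hb₀ ?_⟩
    have : b₀ = b⁻¹ * (b * b₀) := by group
    rw [this]
    exact Subgroup.mul_mem _ (Subgroup.inv_mem _ hb) h'
  · refine Or.inl ⟨?_, hb⟩
    have hb' : b⁻¹ ∉ Subgroup.zpowers a := fun h' => hb (by simpa using Subgroup.inv_mem _ h')
    have := h.inv_mul_mem b⁻¹ b₀ hb' hb₀
    rwa [inv_inv] at this



theorem CycSetup.classify (h : CycSetup a m) (b₀ : P) (hb₀ : b₀ ∉ Subgroup.zpowers a) :
    (∃ n : ℕ, Nonempty (P ≃* QuaternionGroup n)) ∨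
      (∃ n : ℕ, 8 ≤ n ∧ Nonempty (P ≃* DihedralGroup n)) ∨
      (∃ n : ℕ, 3 ≤ n ∧ Nat.card P = 2 ^ (n + 1) ∧
        ∃ x y : P, orderOf x = 2 ^ n ∧ orderOf y = 2 ∧ y * x * y⁻¹ = x ^ (2 ^ (n - 1) - 1)) := by
  have hidx := h.index_eq_two b₀ hb₀
  have hcard : Nat.card P = 2 ^ (m + 3) := by
    have h1 := Subgroup.card_mul_index (Subgroup.zpowers a)
    rw [hidx, Nat.card_zpowers, h.order] at h1
    rw [← h1]; ring
  have hna : ∃ x y : P, x * y ≠ y * x := by
    refine ⟨b₀, a, fun h' => hb₀ (h.cent b₀ ?_)⟩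
    rw [h', mul_inv_cancel_right]
  obtain ⟨b, hb, hcases⟩ := cyclic_max_classify m h.pgroup a b₀ h.order hidx hb₀ hna
  rcases hcases with ⟨h1, h2⟩ | ⟨h1, h2⟩ | ⟨hm, h1, h2⟩ | ⟨hm, h1, h2⟩
  · -- dihedral
    right; left
    rcases Nat.eq_zero_or_pos m with h0 | hpos
    · exfalso
      subst h0
      set z := a ^ (2 ^ (0 + 1)) with hz
      have hb1 : b ≠ 1 := fun h' => hb (h' ▸ Subgroup.one_mem _)
      have hbo : orderOf b = 2 := orderOf_eq_prime h1 hb1
      have hbz : b ≠ z := fun h' => hb (h' ▸ h.z_mem)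
      have hA : ∀ g ∈ Subgroup.zpowers a, g * b * g⁻¹ = b ∨ g * b * g⁻¹ = b * z := by
        intro g hg
        have h3 := conj_inverts_zpowers b a h2 (Subgroup.inv_mem _ hg)
        rw [inv_inv] at h3
        have h4 : g * b * g⁻¹ = b * (g⁻¹ * g⁻¹) := by
          calc g * b * g⁻¹ = (b * g⁻¹ * b⁻¹) * b * g⁻¹ := by rw [h3]
            _ = b * (g⁻¹ * g⁻¹) := by group
        have hcA : g⁻¹ * g⁻¹ ∈ Subgroup.zpowers a :=
          Subgroup.mul_mem _ (Subgroup.inv_mem _ hg) (Subgroup.inv_mem _ hg)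
        have hg4 : g ^ 4 = 1 := by
          have h5 := orderOf_dvd_of_mem_zpowers hg
          rw [h.order] at h5
          exact orderOf_dvd_iff_pow_eq_one.mp h5
        have hc2 : (g⁻¹ * g⁻¹) ^ 2 = 1 := by
          rw [← sq, ← pow_mul, inv_pow, hg4, inv_one]
        rw [h4]
        rcases eq_one_or_eq_of_sq_eq_one a _ z hcA h.z_mem h.z_order hc2 with h5 | h5
        · left; rw [h5, mul_one]
        · right; rw [h5]
      have hconj : ∀ g : P, g * b * g⁻¹ = b ∨ g * b * g⁻¹ = b * z := by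
        intro g
        by_cases hg : g ∈ Subgroup.zpowers a
        · exact hA g hg
        · obtain ⟨g', hg'A, rfl⟩ : ∃ g' ∈ Subgroup.zpowers a, g = b * g' :=
            ⟨b⁻¹ * g, h.inv_mul_mem b g hb hg, by group⟩
          have e : b * g' * b * (b * g')⁻¹ = b * (g' * b * g'⁻¹) * b⁻¹ := by group
          rw [e]
          rcases hA g' hg'A with h3 | h3
          · left; rw [h3]; group
          · right
            have hzc : b * z = z * b := h.z_central b
            have hzb : b * z * b⁻¹ = z := by rw [hzc, mul_inv_cancel_right]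
            calc b * (g' * b * g'⁻¹) * b⁻¹ = b * (b * z * b⁻¹) := by rw [h3]; group
              _ = b * z := by rw [hzb]
      obtain ⟨V, hVn, hVc, hVnc⟩ :=
        exists_normal_comm_not_cyclic z b h.z_central h.z_order hbo hbz hconj
      exact hVnc (h.noV V hVn hVc)
    · have : NeZero (2 ^ (m + 2)) := ⟨pow_ne_zero _ (by norm_num)⟩
      refine ⟨2 ^ (m + 2), ?_, nonempty_mulEquiv_dihedral (2 ^ (m + 2)) a b ?_ h.order
        (by rw [← sq]; exact h1) h2 hb⟩
      · have h7 : 2 ^ 3 ≤ 2 ^ (m + 2) := Nat.pow_le_pow_right (by norm_num) (by omega)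
        simpa using h7
      · rw [hcard]; ring
  · -- quaternion
    left
    have : NeZero (2 ^ (m + 1)) := ⟨pow_ne_zero _ (by norm_num)⟩
    exact ⟨2 ^ (m + 1), nonempty_mulEquiv_quaternion (2 ^ (m + 1)) a b (by rw [hcard]; ring)
      (by rw [h.order]; ring) (by rw [← sq]; exact h1) h2 hb⟩
  · -- modular: contradiction
    exfalso
    have hbb : b * b ∈ Subgroup.zpowers a := by rw [← sq, h1]; exact Subgroup.one_mem _
    rcases h.step1 b hb hbb with h3 | ⟨-, h3⟩
    · exact h.za_ne_inv hm (h2.symm.trans h3)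
    · exact h.za_ne_zinv (h2.symm.trans h3)
  · -- semidihedral
    right; right
    refine ⟨m + 2, by omega, hcard, a, b, h.order,
      orderOf_eq_prime h1 (fun h' => hb (h' ▸ Subgroup.one_mem _)), ?_⟩
    have e : m + 2 - 1 = m + 1 := by omega
    rw [h2, e, mul_inv_eq_iff_eq_mul, ← pow_succ, Nat.sub_add_cancel Nat.one_le_two_pow]

end

/-- `p`-groups in which every normal abelian subgroup is cyclic but which have a noncyclic abelian
subgroup. -/
theorem normal_abelian_cyclic_classify {P : Type*} [Group P] [Finite P] (p : ℕ) [Fact p.Prime]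
    (hP : IsPGroup p P) (hn : ∀ A : Subgroup P, A.Normal → IsMulCommutative A → IsCyclic A)
    (hm : ∃ B : Subgroup P, IsMulCommutative B ∧ ¬ IsCyclic B) :
    p = 2 ∧ ((∃ n : ℕ, Nonempty (P ≃* QuaternionGroup n)) ∨
      (∃ n : ℕ, 8 ≤ n ∧ Nonempty (P ≃* DihedralGroup n)) ∨
      (∃ n : ℕ, 3 ≤ n ∧ Nat.card P = 2 ^ (n + 1) ∧
        ∃ x y : P, orderOf x = 2 ^ n ∧ orderOf y = 2 ∧ y * x * y⁻¹ = x ^ (2 ^ (n - 1) - 1))) := by
  obtain ⟨B, hBc, hBnc⟩ := hm
  have hPnc : ¬ IsCyclic P := by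
    intro hc
    exact hBnc inferInstance
  have hp2 : p = 2 := by
    by_contra hp2
    obtain ⟨A, hAn, ⟨hAc, hAexp⟩, hAcard⟩ := exists_normal_elementary_sq hp2 hP hPnc
    have hcyc := hn A hAn hAc
    obtain ⟨g, hg⟩ := hcyc.exists_generator
    have h1 : orderOf g = Nat.card A := orderOf_eq_card_of_forall_mem_zpowers hg
    have h2 : g ^ p = 1 := Subtype.ext (by simpa using hAexp g g.2)
    have h3 := orderOf_dvd_of_pow_eq_one h2
    rw [h1, hAcard] at h3
    have hpp := (Fact.out : p.Prime)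
    have h4 := Nat.le_of_dvd hpp.pos h3
    nlinarith [hpp.two_le]
  subst hp2
  refine ⟨rfl, ?_⟩
  obtain ⟨A, hAn, hAcomm, hCA⟩ := exists_normal_abelian_self_centralizing' hP
  have hAc : IsMulCommutative A := ⟨⟨fun x y => Subtype.ext (hAcomm x x.2 y y.2)⟩⟩
  have hcyc := hn A hAn hAc
  obtain ⟨⟨a, haA⟩, hagen⟩ := hcyc.exists_generator
  have hAeq : A = Subgroup.zpowers a := by
    apply le_antisymm
    · intro x hx
      obtain ⟨k, hk⟩ := Subgroup.mem_zpowers_iff.mp (hagen ⟨x, hx⟩)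
      exact Subgroup.mem_zpowers_iff.mpr ⟨k, by simpa using congrArg Subtype.val hk⟩
    · rw [Subgroup.zpowers_le]; exact haA
  subst hAeq
  have hne : Subgroup.zpowers a ≠ ⊤ := by
    intro h
    exact hPnc ⟨a, fun x => by
      have hx : x ∈ Subgroup.zpowers a := by rw [h]; exact Subgroup.mem_top x
      exact hx⟩
  obtain ⟨b₀, -, hb₀⟩ := SetLike.exists_of_lt (lt_top_iff_ne_top.mpr hne)
  have hcent : ∀ u : P, u * a * u⁻¹ = a → u ∈ Subgroup.zpowers a := by
    intro u hu
    apply hCA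
    rw [Subgroup.mem_centralizer_iff]
    intro x hx
    obtain ⟨i, rfl⟩ := Subgroup.mem_zpowers_iff.mp hx
    have hc : Commute u a := by
      have : u * a = a * u := by
        calc u * a = (u * a * u⁻¹) * u := by group
          _ = a * u := by rw [hu]
      exact this
    exact ((hc.zpow_right i).eq).symm
  obtain ⟨k, hk⟩ := IsPGroup.iff_orderOf.mp hP a
  have hk2 : 2 ≤ k := by
    by_contra hlt
    apply hb₀
    apply hcent
    have hk01 : k = 0 ∨ k = 1 := by omega
    rcases hk01 with rfl | rfl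
    · rw [pow_zero, orderOf_eq_one_iff] at hk
      rw [hk]; group
    · rw [pow_one] at hk
      have hmem := hAn.conj_mem a (Subgroup.mem_zpowers a) b₀
      have h2 : (b₀ * a * b₀⁻¹) ^ 2 = 1 := by
        rw [conj_pow, ← hk, pow_orderOf_eq_one]; group
      rcases eq_one_or_eq_of_sq_eq_one a _ a hmem (Subgroup.mem_zpowers a) hk h2 with h' | h'
      · exfalso
        have h3 : a = 1 := by
          calc a = b₀⁻¹ * (b₀ * a * b₀⁻¹) * b₀ := by group
            _ = 1 := by rw [h']; group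
        rw [h3, orderOf_one] at hk
        omega
      · exact h'
  obtain ⟨m, rfl⟩ : ∃ m, k = m + 2 := ⟨k - 2, by omega⟩
  have hsetup : CycSetup a m := ⟨hAn, hcent, hk, hn, hP⟩
  exact hsetup.classify b₀ hb₀

end Cfsg.Agent.Lib.Helper97
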