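import Mathlib
import Cfsg.Prelude.Def_Characters
import Cfsg.Agent.S0176
import Cfsg.Agent.Lib.Helper01.PGroupMax
import Cfsg.Agent.Lib.Helper04.IndFun
import Cfsg.Agent.Lib.Helper05.CharBasic
import Cfsg.Agent.Lib.Helper34.GenChar
import Cfsg.Agent.Lib.Helper83.Berger1
import Cfsg.Agent.Lib.Helper85.CliffordCorr

/-!
# K-S4489-C: a nonlinear irreducible character of a finite `p`-group is induced from an irreducible
character of a normal subgroup of index `p`.
-/

set_option autoImplicit false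

namespace Cfsg.Agent.Lib.Helper97.PFaith

open Cfsg

universe u

/-- **K-S4489-C** -/
theorem exists_index_p_induced {P : Type u} [Group P] [Fintype P] (p : ℕ) [Fact p.Prime]
    (hP : IsPGroup p P) {χ : P → ℂ} (hχ : IsIrrCharacter P χ) (hnl : χ 1 ≠ 1) :
    ∃ (M : Subgroup P) (_ : M.Normal) (ψ : M → ℂ), M.index = p ∧ IsIrrCharacter M ψ ∧ indFun M ψ = χ := by
  classical
  have : Group.IsNilpotent P := hP.isNilpotent
  obtain ⟨H, lam, hχeq⟩ := Cfsg.Agent.S0176.result χ hχ
  -- H is proper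
  have hne : H ≠ ⊤ := by
    rintro rfl
    apply hnl
    rw [hχeq, Cfsg.Agent.Lib.Helper85.indFun_apply_one]
    simp
  obtain ⟨M, hM, hHM⟩ := (eq_top_or_exists_le_coatom H).resolve_left hne
  have hMn : M.Normal := Cfsg.Agent.Lib.Helper01.IsPGroup_coatom_normal hP hM
  have hMi : M.index = p := Cfsg.Agent.Lib.Helper01.IsPGroup_coatom_index hP hM
  -- the restriction of `lam` to `H.subgroupOf M`
  let incl : H.subgroupOf M →* H :=
    { toFun := fun x => ⟨((x : M) : P), Subgroup.mem_subgroupOf.mp x.2⟩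
      map_one' := rfl
      map_mul' := fun _ _ => rfl }
  have hlin : IsCharacter (H.subgroupOf M)
      (fun x => ((lam ⟨((x : M) : P), Subgroup.mem_subgroupOf.mp x.2⟩ : ℂˣ) : ℂ)) :=
    Cfsg.Agent.Lib.Helper05.IsIrrCharacter.isCharacter
      (Cfsg.Agent.Lib.Helper05.isIrrCharacter_of_hom (lam.comp incl))
  have hψ : IsCharacter M (indFun (H.subgroupOf M)
      (fun x => ((lam ⟨((x : M) : P), Subgroup.mem_subgroupOf.mp x.2⟩ : ℂˣ) : ℂ))) :=
    Cfsg.Agent.Lib.Helper34.isCharacter_indFun _ hlin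
  have htrans := Cfsg.Agent.Lib.Helper04.indFun_trans H M hHM (fun h => ((lam h : ℂˣ) : ℂ))
  have hind : IsIrrCharacter P (indFun M (indFun (H.subgroupOf M)
      (fun x => ((lam ⟨((x : M) : P), Subgroup.mem_subgroupOf.mp x.2⟩ : ℂˣ) : ℂ)))) := by
    rw [htrans, ← hχeq]; exact hχ
  refine ⟨M, hMn, _, hMi, Cfsg.Agent.Lib.Helper83.isIrr_of_indFun_isIrr M hψ hind, ?_⟩
  rw [htrans, ← hχeq]

end Cfsg.Agent.Lib.Helper97.PFaith
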