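import Mathlib
import Cfsg.Prelude.Def_Characters
import Cfsg.Prelude.Def_Blocks
import Cfsg.Agent.Lib.Helper34.PSLDefs

/-!
# K-S4472-7a : subadditivity of `v_p [X : cenQuot H (ker Φ ⊓ H)]` (helper97)
-/

set_option autoImplicit false

namespace Cfsg.Agent.Lib.Helper97.PSL

open Cfsg Cfsg.Agent.Lib.Helper34.PSL Cfsg.Agent.Lib.Helper83

universe u

/-- for normal `A`, `B` of a finite group: `[X : A ⊓ B] ∣ [X : A] [X : B]` -/
theorem index_inf_dvd_mul_of_normal {X : Type u} [Group X] (A B : Subgroup X) [B.Normal] :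
    (A ⊓ B).index ∣ A.index * B.index := by
  have h1 : (A ⊓ B).relIndex A * A.index = (A ⊓ B).index :=
    Subgroup.relIndex_mul_index inf_le_left
  have h2 : (A ⊓ B).relIndex A = B.relIndex A := by
    rw [inf_comm]
    exact Subgroup.inf_relIndex_right B A
  have h3 : B.relIndex A ∣ B.index := Subgroup.relIndex_dvd_index_of_normal B A
  rw [← h1, h2, mul_comm]
  exact Nat.mul_dvd_mul_left _ h3

theorem cenQuot_inf_le {X : Type u} [Group X] [Finite X]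
    (H : Subgroup X) [H.Normal] {Φ₁ Φ₂ : X → ℂ} (h₁ : IsCharacter X Φ₁) (h₂ : IsCharacter X Φ₂)
    (h₁₂ : IsCharacter X (Φ₁ + Φ₂)) :
    cenQuot H (charKer h₁ ⊓ H) ⊓ cenQuot H (charKer h₂ ⊓ H) ≤ cenQuot H (charKer h₁₂ ⊓ H) := by
  intro x hx
  obtain ⟨hx1, hx2⟩ := Subgroup.mem_inf.1 hx
  rw [mem_cenQuot] at hx1 hx2 ⊢
  intro h hh
  have e1 := Subgroup.mem_inf.1 (hx1 h hh)
  have e2 := Subgroup.mem_inf.1 (hx2 h hh)
  refine Subgroup.mem_inf.2 ⟨?_, e1.2⟩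
  have f1 : Φ₁ (h⁻¹ * x⁻¹ * h * x) = Φ₁ 1 := (mem_charKer h₁ _).1 e1.1
  have f2 : Φ₂ (h⁻¹ * x⁻¹ * h * x) = Φ₂ 1 := (mem_charKer h₂ _).1 e2.1
  rw [mem_charKer]
  simp only [Pi.add_apply, f1, f2]

/-- **K-S4472-7a** (subadditivity). -/
theorem factorization_index_cenQuot_add_le {X : Type u} [Group X] [Finite X] (p : ℕ) [Fact p.Prime]
    (H : Subgroup X) [H.Normal] {Φ₁ Φ₂ : X → ℂ} (h₁ : IsCharacter X Φ₁) (h₂ : IsCharacter X Φ₂)
    (h₁₂ : IsCharacter X (Φ₁ + Φ₂)) :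
    ((cenQuot H (charKer h₁₂ ⊓ H)).index).factorization p ≤
      ((cenQuot H (charKer h₁ ⊓ H)).index).factorization p +
        ((cenQuot H (charKer h₂ ⊓ H)).index).factorization p := by
  have hA0 : (cenQuot H (charKer h₁ ⊓ H)).index ≠ 0 := index_cenQuot_ne_zero _ _
  have hB0 : (cenQuot H (charKer h₂ ⊓ H)).index ≠ 0 := index_cenQuot_ne_zero _ _
  have hC0 : (cenQuot H (charKer h₁₂ ⊓ H)).index ≠ 0 := index_cenQuot_ne_zero _ _
  have hle := cenQuot_inf_le H h₁ h₂ h₁₂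
  have hd1 : (cenQuot H (charKer h₁₂ ⊓ H)).index ∣
      (cenQuot H (charKer h₁ ⊓ H) ⊓ cenQuot H (charKer h₂ ⊓ H)).index :=
    Subgroup.index_dvd_of_le hle
  have hd2 := index_inf_dvd_mul_of_normal (cenQuot H (charKer h₁ ⊓ H)) (cenQuot H (charKer h₂ ⊓ H))
  have hd : (cenQuot H (charKer h₁₂ ⊓ H)).index ∣
      (cenQuot H (charKer h₁ ⊓ H)).index * (cenQuot H (charKer h₂ ⊓ H)).index := hd1.trans hd2
  have hfac := (Nat.factorization_le_iff_dvd hC0 (Nat.mul_ne_zero hA0 hB0)).2 hd p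
  rw [Nat.factorization_mul hA0 hB0, Finsupp.add_apply] at hfac
  exact hfac

end Cfsg.Agent.Lib.Helper97.PSL
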