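import Mathlib
import Cfsg.Prelude.Def_HallClasses
import Cfsg.Agent.Lib.Helper38.HallAlt.Defs

/-!
# K-HB-L4 (keystone 253815): for `2 ∉ π`, a Hall `π`-subgroup of the alternating group is a Hall
`π`-subgroup of the symmetric group.
-/

set_option autoImplicit false
open Cfsg

namespace Cfsg.Agent.Lib.Helper97.HallAlt
open Cfsg.Agent.Lib.Helper38.HallAlt

/-- the alternating group has index dividing `2` -/
theorem altSub_index_dvd_two (α : Type) [Finite α] : (altSub α).index ∣ 2 := by
  classical
  let _ := Fintype.ofFinite α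
  rw [altSub_eq]
  rcases subsingleton_or_nontrivial α with h | h
  · have h1 : ∀ K : Subgroup (Equiv.Perm α), K.index ∣ 2 := fun K => by
      rw [Subgroup.index_eq_one.2 (Subsingleton.elim K ⊤)]
      exact one_dvd _
    exact h1 _
  · rw [alternatingGroup.index_eq_two]

/-- **K-HB-L4** (253815). -/
theorem isPiHall_of_altHall_of_two_not_mem (π : Set ℕ) (h2 : 2 ∉ π) {α : Type} [Finite α]
    (H : Subgroup (Equiv.Perm α)) (hH : AltHall π H) : IsPiHall π H := by
  obtain ⟨hle, hpi, hidx⟩ := hH
  refine ⟨hpi, ?_⟩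
  intro p hp hpπ hd
  rw [← Subgroup.relIndex_mul_index hle] at hd
  rcases (Nat.Prime.dvd_mul hp).1 hd with h | h
  · exact hidx p hp hpπ h
  · have h' : p ∣ 2 := h.trans (altSub_index_dvd_two α)
    have : p = 2 := (Nat.prime_dvd_prime_iff_eq hp Nat.prime_two).1 h'
    rw [this] at hpπ
    exact h2 hpπ

end Cfsg.Agent.Lib.Helper97.HallAlt
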