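import Mathlib
import Cfsg.Prelude.Def_Classical
import Cfsg.Prelude.Def_LieClassical
import Cfsg.Agent.Lib.Helper40.GUConj
import Cfsg.Agent.Lib.Helper08.SUCard

/-!
# K-SQ-PSUeven, part B: block matrices for the hyperbolic model and the transport to `SU_{2k}`
-/

set_option autoImplicit false
set_option linter.unusedSectionVars false
set_option linter.unusedVariables false

namespace Cfsg.Agent.Lib.Helper97.SQ

open Matrix

variable {F : Type*} [Field F]

section cstar

variable {m : Type*} [Fintype m] [DecidableEq m] (φ : F →+* F)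

/-- the `φ`-conjugate transpose -/
def cstar (M : Matrix m m F) : Matrix m m F := (M.map φ)ᵀ

theorem cstar_apply (M : Matrix m m F) (i j : m) : cstar φ M i j = φ (M j i) := rfl

theorem cstar_mul (M N : Matrix m m F) : cstar φ (M * N) = cstar φ N * cstar φ M := by
  unfold cstar
  rw [Matrix.map_mul, Matrix.transpose_mul]

theorem cstar_one : cstar φ (1 : Matrix m m F) = 1 := by
  unfold cstar
  rw [Matrix.map_one _ (map_zero φ) (map_one φ), Matrix.transpose_one]

theorem cstar_zero : cstar φ (0 : Matrix m m F) = 0 := by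
  ext i j
  rw [cstar_apply, Matrix.zero_apply, Matrix.zero_apply, map_zero]

theorem cstar_add (M N : Matrix m m F) : cstar φ (M + N) = cstar φ M + cstar φ N := by
  ext i j
  rw [cstar_apply, Matrix.add_apply, Matrix.add_apply, map_add, cstar_apply, cstar_apply]

theorem cstar_smul (a : F) (M : Matrix m m F) : cstar φ (a • M) = φ a • cstar φ M := by
  ext i j
  rw [cstar_apply, Matrix.smul_apply, Matrix.smul_apply, smul_eq_mul, smul_eq_mul, map_mul,
    cstar_apply]

theorem cstar_cstar (hφφ : ∀ x, φ (φ x) = x) (M : Matrix m m F) : cstar φ (cstar φ M) = M := by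
  ext i j
  rw [cstar_apply, cstar_apply, hφφ]

theorem det_cstar (M : Matrix m m F) : (cstar φ M).det = φ M.det := by
  unfold cstar
  rw [Matrix.det_transpose]
  exact (RingHom.map_det φ M).symm

end cstar

section blocks

variable {k : ℕ} (φ : F →+* F)

theorem cstar_fromBlocks (A B C D : Matrix (Fin k) (Fin k) F) :
    cstar φ (fromBlocks A B C D) = fromBlocks (cstar φ A) (cstar φ C) (cstar φ B) (cstar φ D) := by
  unfold cstar
  rw [Matrix.fromBlocks_map, Matrix.fromBlocks_transpose]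

/-- the hyperbolic Gram matrix -/
def JJ (k : ℕ) : Matrix (Fin k ⊕ Fin k) (Fin k ⊕ Fin k) F := fromBlocks 0 1 1 0

/-- `u_S` -/
def uB (S : Matrix (Fin k) (Fin k) F) : Matrix (Fin k ⊕ Fin k) (Fin k ⊕ Fin k) F :=
  fromBlocks 1 S 0 1

/-- `d_B` (`Bi` is meant to be the inverse of `B`) -/
def dB (B Bi : Matrix (Fin k) (Fin k) F) : Matrix (Fin k ⊕ Fin k) (Fin k ⊕ Fin k) F :=
  fromBlocks B 0 0 (cstar φ Bi)

theorem uB_mul (S T : Matrix (Fin k) (Fin k) F) : uB S * uB T = uB (S + T) := by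
  unfold uB
  rw [Matrix.fromBlocks_multiply]
  simp [add_comm]

theorem uB_zero : uB (0 : Matrix (Fin k) (Fin k) F) = 1 := by
  unfold uB
  exact Matrix.fromBlocks_one

theorem uB_det (S : Matrix (Fin k) (Fin k) F) : (uB S).det = 1 := by
  unfold uB
  rw [Matrix.det_fromBlocks_zero₂₁]
  simp

theorem uB_inj {S T : Matrix (Fin k) (Fin k) F} (h : uB S = uB T) : S = T := by
  unfold uB at h
  exact (Matrix.fromBlocks_inj.1 h).2.1

theorem uB_form (S : Matrix (Fin k) (Fin k) F) (hS : S + cstar φ S = 0) :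
    cstar φ (uB S) * JJ k * uB S = JJ k := by
  unfold uB JJ
  rw [cstar_fromBlocks, cstar_one, cstar_zero, Matrix.fromBlocks_multiply,
    Matrix.fromBlocks_multiply]
  simp only [mul_zero, mul_one, zero_add, add_zero, one_mul, zero_mul]
  rw [hS]

theorem dB_mul (B Bi C Ci : Matrix (Fin k) (Fin k) F) :
    dB φ B Bi * dB φ C Ci = dB φ (B * C) (Ci * Bi) := by
  unfold dB
  rw [Matrix.fromBlocks_multiply, cstar_mul]
  simp

theorem dB_one : dB φ (1 : Matrix (Fin k) (Fin k) F) 1 = 1 := by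
  unfold dB
  rw [cstar_one]
  exact Matrix.fromBlocks_one

theorem dB_det (B Bi : Matrix (Fin k) (Fin k) F) (hB : B.det = 1) (hBi : Bi.det = 1) :
    (dB φ B Bi).det = 1 := by
  unfold dB
  rw [Matrix.det_fromBlocks_zero₂₁, det_cstar, hB, hBi, map_one, mul_one]

theorem dB_form (hφφ : ∀ x, φ (φ x) = x) (B Bi : Matrix (Fin k) (Fin k) F) (h : Bi * B = 1) :
    cstar φ (dB φ B Bi) * JJ k * dB φ B Bi = JJ k := by
  unfold dB JJ
  rw [cstar_fromBlocks, cstar_zero, cstar_cstar φ hφφ, Matrix.fromBlocks_multiply,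
    Matrix.fromBlocks_multiply]
  simp only [mul_zero, mul_one, zero_add, add_zero, zero_mul]
  rw [h, ← cstar_mul, h, cstar_one]

theorem dB_uB (B Bi S : Matrix (Fin k) (Fin k) F) :
    dB φ B Bi * uB S = fromBlocks B (B * S) 0 (cstar φ Bi) := by
  unfold dB uB
  rw [Matrix.fromBlocks_multiply]
  simp

theorem dB_uB_dB (hφφ : ∀ x, φ (φ x) = x) (B Bi S : Matrix (Fin k) (Fin k) F) (h : B * Bi = 1) :
    dB φ B Bi * uB S * dB φ Bi B = uB (B * S * cstar φ B) := by
  rw [dB_uB]
  unfold dB uB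
  rw [Matrix.fromBlocks_multiply]
  simp only [mul_zero, zero_mul, add_zero, zero_add]
  rw [h, ← cstar_mul, h, cstar_one]

end blocks

section transport

variable {k : ℕ} (φ : F →+* F)

/-- the base change `[[1, a], [1, a + 1]]` -/
def PP (a : F) : Matrix (Fin k ⊕ Fin k) (Fin k ⊕ Fin k) F :=
  fromBlocks 1 (a • 1) 1 ((a + 1) • 1)

/-- its inverse `[[φ a, φ a + 1], [1, 1]]` -/
def PPi (a : F) : Matrix (Fin k ⊕ Fin k) (Fin k ⊕ Fin k) F :=
  fromBlocks (φ a • 1) ((φ a + 1) • 1) 1 1

variable [CharP F 2]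

theorem PPi_mul_PP (a : F) (ha : a + φ a = 1) : PPi (k := k) φ a * PP a = 1 := by
  unfold PPi PP
  rw [Matrix.fromBlocks_multiply]
  have h2 : (1 : Matrix (Fin k) (Fin k) F) + 1 = 0 := by
    ext i j
    rw [Matrix.add_apply, Matrix.zero_apply]
    exact CharTwo.add_self_eq_zero _
  have e11 : φ a • (1 : Matrix (Fin k) (Fin k) F) * 1 + (φ a + 1) • 1 * 1 = 1 := by
    rw [mul_one, mul_one, ← add_smul]
    have : φ a + (φ a + 1) = 1 := by
      rw [← add_assoc, CharTwo.add_self_eq_zero, zero_add]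
    rw [this, one_smul]
  have e12 : φ a • (1 : Matrix (Fin k) (Fin k) F) * a • 1 + (φ a + 1) • 1 * (a + 1) • 1 = 0 := by
    rw [Matrix.smul_mul, Matrix.mul_smul, Matrix.smul_mul, Matrix.mul_smul, mul_one, smul_smul,
      smul_smul, ← add_smul]
    have : φ a * a + (φ a + 1) * (a + 1) = 0 := by
      have h1 : (φ a + 1) * (a + 1) = φ a * a + ((a + φ a) + 1) := by ring
      rw [h1, ha, CharTwo.add_self_eq_zero (1 : F), add_zero, CharTwo.add_self_eq_zero]
    rw [this, zero_smul]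
  have e21 : (1 : Matrix (Fin k) (Fin k) F) * 1 + 1 * 1 = 0 := by rw [mul_one, h2]
  have e22 : (1 : Matrix (Fin k) (Fin k) F) * a • 1 + 1 * (a + 1) • 1 = 1 := by
    rw [one_mul, one_mul, ← add_smul]
    have : a + (a + 1) = 1 := by rw [← add_assoc, CharTwo.add_self_eq_zero, zero_add]
    rw [this, one_smul]
  rw [e11, e12, e21, e22]
  exact Matrix.fromBlocks_one

theorem PP_mul_PPi (a : F) (ha : a + φ a = 1) : PP (k := k) a * PPi φ a = 1 :=
  mul_eq_one_comm.mp (PPi_mul_PP φ a ha)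

theorem cstar_PP_mul (a : F) (ha : a + φ a = 1) :
    cstar φ (PP (k := k) a) * PP a = JJ k := by
  unfold PP JJ
  rw [cstar_fromBlocks, cstar_one, cstar_smul, cstar_smul, cstar_one, map_add, map_one,
    Matrix.fromBlocks_multiply]
  have h2 : (1 : Matrix (Fin k) (Fin k) F) + 1 = 0 := by
    ext i j
    rw [Matrix.add_apply, Matrix.zero_apply]
    exact CharTwo.add_self_eq_zero _
  have e11 : (1 : Matrix (Fin k) (Fin k) F) * 1 + 1 * 1 = 0 := by rw [mul_one, h2]
  have e12 : (1 : Matrix (Fin k) (Fin k) F) * a • 1 + 1 * (a + 1) • 1 = 1 := by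
    rw [one_mul, one_mul, ← add_smul]
    have : a + (a + 1) = 1 := by rw [← add_assoc, CharTwo.add_self_eq_zero, zero_add]
    rw [this, one_smul]
  have e21 : φ a • (1 : Matrix (Fin k) (Fin k) F) * 1 + (φ a + 1) • 1 * 1 = 1 := by
    rw [mul_one, mul_one, ← add_smul]
    have : φ a + (φ a + 1) = 1 := by
      rw [← add_assoc, CharTwo.add_self_eq_zero, zero_add]
    rw [this, one_smul]
  have e22 : φ a • (1 : Matrix (Fin k) (Fin k) F) * a • 1 + (φ a + 1) • 1 * (a + 1) • 1 = 0 := by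
    rw [Matrix.smul_mul, Matrix.mul_smul, Matrix.smul_mul, Matrix.mul_smul, mul_one, smul_smul,
      smul_smul, ← add_smul]
    have : φ a * a + (φ a + 1) * (a + 1) = 0 := by
      have h1 : (φ a + 1) * (a + 1) = φ a * a + ((a + φ a) + 1) := by ring
      rw [h1, ha, CharTwo.add_self_eq_zero (1 : F), add_zero, CharTwo.add_self_eq_zero]
    rw [this, zero_smul]
  rw [e11, e12, e21, e22]

/-- `P* J P⁻¹`-type identity: `(P⁻¹)* J P⁻¹ = 1` -/
theorem cstar_PPi_JJ (a : F) (ha : a + φ a = 1) :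
    cstar φ (PPi (k := k) φ a) * JJ k * PPi φ a = 1 := by
  rw [← cstar_PP_mul φ a ha]
  calc cstar φ (PPi (k := k) φ a) * (cstar φ (PP a) * PP a) * PPi φ a
      = (cstar φ (PPi (k := k) φ a) * cstar φ (PP a)) * (PP a * PPi φ a) := by
        simp only [mul_assoc]
    _ = 1 := by rw [← cstar_mul, PP_mul_PPi φ a ha, cstar_one, mul_one]

/-- the index equivalence -/
def eIdx (k : ℕ) : Fin k ⊕ Fin k ≃ Fin (2 * k) :=
  finSumFinEquiv.trans (finCongr (two_mul k).symm)

/-- the transport of matrices -/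
def rho (a : F) (M : Matrix (Fin k ⊕ Fin k) (Fin k ⊕ Fin k) F) :
    Matrix (Fin (2 * k)) (Fin (2 * k)) F :=
  (PP a * M * PPi φ a).submatrix (eIdx k).symm (eIdx k).symm

theorem rho_mul (a : F) (ha : a + φ a = 1) (M N : Matrix (Fin k ⊕ Fin k) (Fin k ⊕ Fin k) F) :
    rho φ a (M * N) = rho φ a M * rho φ a N := by
  unfold rho
  rw [Matrix.submatrix_mul_equiv]
  congr 1
  calc PP a * (M * N) * PPi φ a = PP a * M * 1 * N * PPi φ a := by
        rw [mul_one]; simp only [mul_assoc]
    _ = PP a * M * PPi φ a * (PP a * N * PPi φ a) := by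
        rw [← PPi_mul_PP φ a ha]; simp only [mul_assoc]

theorem rho_one (a : F) (ha : a + φ a = 1) : rho (k := k) φ a 1 = 1 := by
  unfold rho
  rw [mul_one, PP_mul_PPi φ a ha, Matrix.submatrix_one_equiv]

theorem rho_det (a : F) (ha : a + φ a = 1) (M : Matrix (Fin k ⊕ Fin k) (Fin k ⊕ Fin k) F) :
    (rho φ a M).det = M.det := by
  unfold rho
  rw [Matrix.det_submatrix_equiv_self, Matrix.det_mul, Matrix.det_mul, mul_comm (PP a).det,
    mul_assoc, ← Matrix.det_mul, PP_mul_PPi φ a ha, Matrix.det_one, mul_one]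

theorem rho_injective (a : F) (ha : a + φ a = 1) : Function.Injective (rho (k := k) φ a) := by
  intro M N h
  unfold rho at h
  have h1 : PP a * M * PPi φ a = PP a * N * PPi φ a := by
    ext i j
    have := congrFun (congrFun h (eIdx k i)) (eIdx k j)
    simpa using this
  calc M = PPi φ a * (PP a * M * PPi φ a) * PP a := by
        rw [← mul_assoc, ← mul_assoc, PPi_mul_PP φ a ha, one_mul, mul_assoc,
          PPi_mul_PP φ a ha, mul_one]
    _ = PPi φ a * (PP a * N * PPi φ a) * PP a := by rw [h1]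
    _ = N := by
        rw [← mul_assoc, ← mul_assoc, PPi_mul_PP φ a ha, one_mul, mul_assoc,
          PPi_mul_PP φ a ha, mul_one]

theorem adj_rho (a : F) (ha : a + φ a = 1) (M : Matrix (Fin k ⊕ Fin k) (Fin k ⊕ Fin k) F)
    (hM : cstar φ M * JJ k * M = JJ k) :
    Cfsg.Agent.Lib.Helper40.GUConj.adj φ (rho φ a M) * rho φ a M = 1 := by
  have h1 : Cfsg.Agent.Lib.Helper40.GUConj.adj φ (rho φ a M) =
      (cstar φ (PP a * M * PPi φ a)).submatrix (eIdx k).symm (eIdx k).symm := by
    ext i j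
    rfl
  rw [h1]
  unfold rho
  rw [Matrix.submatrix_mul_equiv, cstar_mul, cstar_mul]
  have h2 : cstar φ (PPi φ a) * (cstar φ M * cstar φ (PP a)) * (PP a * M * PPi φ a) =
      cstar φ (PPi (k := k) φ a) * (cstar φ M * (cstar φ (PP a) * PP a) * M) * PPi φ a := by
    simp only [mul_assoc]
  rw [h2, cstar_PP_mul φ a ha, hM, cstar_PPi_JJ φ a ha, Matrix.submatrix_one_equiv]

end transport

end Cfsg.Agent.Lib.Helper97.SQ
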