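import Mathlib
import Cfsg.Agent.Lib.Helper07.PSLnC

/-!
# The upper unitriangular group `UT_k(F)` in characteristic 2 is generated by involutions
(column factorisation `1 + N = (1 + N_{k-1}) ⋯ (1 + N_0)`, `N_j` the `j`-th column of `N`).
-/

set_option autoImplicit false

namespace Cfsg.Agent.Lib.Helper97.SQ

open Matrix Cfsg.Agent.Lib.Helper07

variable {k : ℕ} {F : Type*} [Field F]

/-- the `j`-th column of `N` (other columns zero) -/
def colPart (N : Matrix (Fin k) (Fin k) F) (j : Fin k) : Matrix (Fin k) (Fin k) F :=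
  Matrix.of fun a b => if b = j then N a b else 0

theorem colPart_apply (N : Matrix (Fin k) (Fin k) F) (j a b : Fin k) :
    colPart N j a b = if b = j then N a b else 0 := rfl

theorem colPart_mul_colPart (N : Matrix (Fin k) (Fin k) F)
    (hN : ∀ i j : Fin k, j ≤ i → N i j = 0) (j l : Fin k) (hlj : l ≤ j) :
    colPart N j * colPart N l = 0 := by
  ext a b
  rw [Matrix.mul_apply, Matrix.zero_apply]
  apply Finset.sum_eq_zero
  intro c _
  rw [colPart_apply, colPart_apply]
  by_cases hc : c = j
  · subst hc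
    by_cases hb : b = l
    · subst hb
      rw [if_pos rfl, if_pos rfl, hN c b hlj, mul_zero]
    · rw [if_neg hb, mul_zero]
  · rw [if_neg hc, zero_mul]

theorem sum_colPart (N : Matrix (Fin k) (Fin k) F) : ∑ j, colPart N j = N := by
  ext a b
  rw [Matrix.sum_apply]
  simp only [colPart_apply]
  rw [Finset.sum_ite_eq Finset.univ b (fun _ => N a b)]
  simp

/-- partial products -/
def partM (N : Matrix (Fin k) (Fin k) F) (m : ℕ) : Matrix (Fin k) (Fin k) F :=
  1 + ∑ j ∈ Finset.univ.filter (fun j : Fin k => (j : ℕ) < m), colPart N j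

theorem partM_zero (N : Matrix (Fin k) (Fin k) F) : partM N 0 = 1 := by
  unfold partM
  simp

theorem partM_top (N : Matrix (Fin k) (Fin k) F) : partM N k = 1 + N := by
  unfold partM
  have : Finset.univ.filter (fun j : Fin k => (j : ℕ) < k) = Finset.univ := by
    ext j
    simp [j.2]
  rw [this, sum_colPart]

theorem partM_succ (N : Matrix (Fin k) (Fin k) F) (hN : ∀ i j : Fin k, j ≤ i → N i j = 0)
    (m : ℕ) (hm : m < k) :
    partM N (m + 1) = (1 + colPart N ⟨m, hm⟩) * partM N m := by
  unfold partM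
  have hfilter : Finset.univ.filter (fun j : Fin k => (j : ℕ) < m + 1) =
      insert (⟨m, hm⟩ : Fin k) (Finset.univ.filter (fun j : Fin k => (j : ℕ) < m)) := by
    ext j
    simp only [Finset.mem_filter, Finset.mem_univ, true_and, Finset.mem_insert]
    constructor
    · intro h
      by_cases hj : (j : ℕ) = m
      · left
        exact Fin.ext hj
      · right
        omega
    · rintro (h | h)
      · rw [h]
        simp
      · omega
  have hnotin : (⟨m, hm⟩ : Fin k) ∉ Finset.univ.filter (fun j : Fin k => (j : ℕ) < m) := by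
    simp
  rw [hfilter, Finset.sum_insert hnotin]
  have hzero : colPart N ⟨m, hm⟩ *
      ∑ j ∈ Finset.univ.filter (fun j : Fin k => (j : ℕ) < m), colPart N j = 0 := by
    rw [Finset.mul_sum]
    apply Finset.sum_eq_zero
    intro j hj
    simp only [Finset.mem_filter, Finset.mem_univ, true_and] at hj
    apply colPart_mul_colPart N hN
    exact Fin.le_def.2 (by simpa using hj.le)
  rw [add_mul, one_mul, mul_add, mul_one, hzero]
  abel

theorem one_add_colPart_upper (N : Matrix (Fin k) (Fin k) F)
    (hN : ∀ i j : Fin k, j ≤ i → N i j = 0) (j : Fin k) :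
    (∀ a b : Fin k, b < a → (1 + colPart N j) a b = 0) ∧ ∀ a, (1 + colPart N j) a a = 1 := by
  constructor
  · intro a b hba
    rw [Matrix.add_apply, Matrix.one_apply_ne (ne_of_gt hba), colPart_apply, zero_add]
    split_ifs
    · exact hN a b hba.le
    · rfl
  · intro a
    rw [Matrix.add_apply, Matrix.one_apply_eq, colPart_apply]
    split_ifs
    · rw [hN a a le_rfl, add_zero]
    · rw [add_zero]

theorem det_eq_one_of_unitriangular (M : Matrix (Fin k) (Fin k) F)
    (h1 : ∀ a b : Fin k, b < a → M a b = 0) (h2 : ∀ a, M a a = 1) : M.det = 1 := by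
  have hu : M.IsUpperTriangular := fun a b hab => h1 a b hab
  rw [Matrix.det_of_upperTriangular hu]
  simp [h2]

/-- the column involution as an element of `SL_k` -/
def colSL (N : Matrix (Fin k) (Fin k) F) (hN : ∀ i j : Fin k, j ≤ i → N i j = 0) (j : Fin k) :
    SpecialLinearGroup (Fin k) F :=
  ⟨1 + colPart N j, det_eq_one_of_unitriangular _ (one_add_colPart_upper N hN j).1
    (one_add_colPart_upper N hN j).2⟩

theorem colSL_mem_UT (N : Matrix (Fin k) (Fin k) F) (hN : ∀ i j : Fin k, j ≤ i → N i j = 0)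
    (j : Fin k) : colSL N hN j ∈ UT k F :=
  mem_UT.2 (one_add_colPart_upper N hN j)

theorem colSL_sq [CharP F 2] (N : Matrix (Fin k) (Fin k) F)
    (hN : ∀ i j : Fin k, j ≤ i → N i j = 0) (j : Fin k) : colSL N hN j * colSL N hN j = 1 := by
  apply Subtype.ext
  show (1 + colPart N j) * (1 + colPart N j) = 1
  rw [add_mul, one_mul, mul_add, mul_one, colPart_mul_colPart N hN j j le_rfl, add_zero,
    add_assoc]
  have : colPart N j + colPart N j = 0 := by
    ext a b
    rw [Matrix.add_apply, Matrix.zero_apply]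
    exact CharTwo.add_self_eq_zero _
  rw [this, add_zero]

/-- **`UT_k(F)` is generated by involutions in characteristic 2.** -/
theorem UT_le_closure_involutions [CharP F 2] :
    UT k F ≤ Subgroup.closure {C : SpecialLinearGroup (Fin k) F | C ∈ UT k F ∧ C * C = 1} := by
  intro B hB
  obtain ⟨hB1, hB2⟩ := mem_UT.1 hB
  set N : Matrix (Fin k) (Fin k) F := (B : Matrix (Fin k) (Fin k) F) - 1 with hNdef
  have hN : ∀ i j : Fin k, j ≤ i → N i j = 0 := by
    intro i j hji
    rw [hNdef, Matrix.sub_apply]
    rcases lt_or_eq_of_le hji with h | h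
    · rw [hB1 i j h, Matrix.one_apply_ne (ne_of_gt h), sub_zero]
    · rw [h, hB2 i, Matrix.one_apply_eq, sub_self]
  have key : ∀ m : ℕ, m ≤ k → ∃ Bm : SpecialLinearGroup (Fin k) F,
      Bm ∈ Subgroup.closure {C : SpecialLinearGroup (Fin k) F | C ∈ UT k F ∧ C * C = 1} ∧
        (Bm : Matrix (Fin k) (Fin k) F) = partM N m := by
    intro m
    induction m with
    | zero =>
      intro _
      exact ⟨1, Subgroup.one_mem _, by rw [partM_zero]; rfl⟩
    | succ m ih =>
      intro hm
      obtain ⟨Bm, hBm, hBm'⟩ := ih (by omega)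
      refine ⟨colSL N hN ⟨m, by omega⟩ * Bm, Subgroup.mul_mem _ (Subgroup.subset_closure
        ⟨colSL_mem_UT N hN _, colSL_sq N hN _⟩) hBm, ?_⟩
      rw [Matrix.SpecialLinearGroup.coe_mul, hBm', partM_succ N hN m (by omega)]
      rfl
  obtain ⟨Bk, hBk, hBk'⟩ := key k le_rfl
  have : Bk = B := by
    apply Subtype.ext
    rw [hBk', partM_top, hNdef]
    abel
  rw [← this]
  exact hBk

end Cfsg.Agent.Lib.Helper97.SQ
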