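import Mathlib
import Cfsg.Prelude.Def_Classical
import Cfsg.Agent.Lib.Helper38.SQ.Defs
import Cfsg.Agent.Lib.Helper97.SQPSUeB
import Cfsg.Agent.Lib.Helper97.SQUTGen
import Cfsg.Agent.Lib.Helper42.UCK5
import Cfsg.Agent.S0278

/-!
# K-SQ-PSUeven (462503): `SylSq (PSU_{2k}(q))` for `q` even
-/

set_option autoImplicit false
set_option linter.unusedSectionVars false
set_option linter.unusedVariables false

namespace Cfsg.Agent.Lib.Helper97.SQ

open Matrix Cfsg Cfsg.Agent.Lib.Helper38.SQ Cfsg.Agent.Lib.Helper07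

/-- the fixed data: the Frobenius `φ` of order 2 and an element of trace 1 -/
structure HypCtx (F : Type) [Field F] (q : ℕ) where
  φ : F →+* F
  a : F
  hφ : ∀ x, φ x = x ^ q
  hφφ : ∀ x, φ (φ x) = x
  ha : a + φ a = 1

variable {F : Type} [Field F] [Fintype F] [CharP F 2] {q : ℕ}

theorem exists_hypCtx (hF : Fintype.card F = q ^ 2) : Nonempty (HypCtx F q) := by
  obtain ⟨φ, hφ, hφφ, -⟩ := Cfsg.Agent.Lib.Helper40.GUConj.exists_frob hF
  obtain ⟨⟨a, ha⟩, -⟩ := Cfsg.Agent.Lib.Helper42.UC.exists_trace_one_skew hF φ hφ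
  exact ⟨⟨φ, a, hφ, hφφ, ha⟩⟩

theorem mat_add_self {k : ℕ} (S : Matrix (Fin k) (Fin k) F) : S + S = 0 := by
  ext i j
  rw [Matrix.add_apply, Matrix.zero_apply]
  exact CharTwo.add_self_eq_zero _

variable (k : ℕ) (c : HypCtx F q)

/-- an element of `SU_{2k}` from a matrix of the hyperbolic model -/
def mkSU (M : Matrix (Fin k ⊕ Fin k) (Fin k ⊕ Fin k) F) (hdet : M.det = 1)
    (hJ : cstar c.φ M * JJ k * M = JJ k) : SU (2 * k) F q :=
  ⟨(⟨rho c.φ c.a M, by rw [rho_det c.φ c.a c.ha]; exact hdet⟩ :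
      Matrix.SpecialLinearGroup (Fin (2 * k)) F),
    (Cfsg.Agent.Lib.Helper08.toGL_mem_GU_iff _).mp
      ((Cfsg.Agent.Lib.Helper40.GUConj.mem_GU_iff_adj c.φ c.hφ _).mpr
        (adj_rho c.φ c.a c.ha M hJ))⟩

theorem mkSU_val (M : Matrix (Fin k ⊕ Fin k) (Fin k ⊕ Fin k) F) (hdet : M.det = 1)
    (hJ : cstar c.φ M * JJ k * M = JJ k) :
    ((mkSU k c M hdet hJ).1.1 : Matrix (Fin (2 * k)) (Fin (2 * k)) F) = rho c.φ c.a M := rfl

theorem SU_ext {x y : SU (2 * k) F q} (h : x.1.1 = y.1.1) : x = y :=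
  Subtype.ext (Subtype.ext h)

theorem sl_inv_mul (B : Matrix.SpecialLinearGroup (Fin k) F) :
    ((B⁻¹ : Matrix.SpecialLinearGroup (Fin k) F) : Matrix (Fin k) (Fin k) F) *
      (B : Matrix (Fin k) (Fin k) F) = 1 := by
  rw [← Matrix.SpecialLinearGroup.coe_mul, inv_mul_cancel, Matrix.SpecialLinearGroup.coe_one]

theorem sl_mul_inv (B : Matrix.SpecialLinearGroup (Fin k) F) :
    (B : Matrix (Fin k) (Fin k) F) *
      ((B⁻¹ : Matrix.SpecialLinearGroup (Fin k) F) : Matrix (Fin k) (Fin k) F) = 1 := by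
  rw [← Matrix.SpecialLinearGroup.coe_mul, mul_inv_cancel, Matrix.SpecialLinearGroup.coe_one]

/-- `B ↦ d_B` -/
def dSL : Matrix.SpecialLinearGroup (Fin k) F →* SU (2 * k) F q where
  toFun B := mkSU k c (dB c.φ (B : Matrix (Fin k) (Fin k) F)
      ((B⁻¹ : Matrix.SpecialLinearGroup (Fin k) F) : Matrix (Fin k) (Fin k) F))
    (dB_det c.φ _ _ B.2 (B⁻¹).2) (dB_form c.φ c.hφφ _ _ (sl_inv_mul k B))
  map_one' := by
    apply SU_ext
    rw [mkSU_val]
    show rho c.φ c.a (dB c.φ ((1 : Matrix.SpecialLinearGroup (Fin k) F) : Matrix (Fin k) (Fin k) F)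
      (((1 : Matrix.SpecialLinearGroup (Fin k) F)⁻¹ : Matrix.SpecialLinearGroup (Fin k) F) :
        Matrix (Fin k) (Fin k) F)) = 1
    rw [inv_one, Matrix.SpecialLinearGroup.coe_one, dB_one, rho_one c.φ c.a c.ha]
  map_mul' B C := by
    apply SU_ext
    rw [mkSU_val]
    show _ = rho c.φ c.a _ * rho c.φ c.a _
    rw [← rho_mul c.φ c.a c.ha, dB_mul, _root_.mul_inv_rev, Matrix.SpecialLinearGroup.coe_mul,
      Matrix.SpecialLinearGroup.coe_mul]

theorem dSL_val (B : Matrix.SpecialLinearGroup (Fin k) F) :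
    ((dSL k c B).1.1 : Matrix (Fin (2 * k)) (Fin (2 * k)) F) =
      rho c.φ c.a (dB c.φ (B : Matrix (Fin k) (Fin k) F)
        ((B⁻¹ : Matrix.SpecialLinearGroup (Fin k) F) : Matrix (Fin k) (Fin k) F)) := rfl

/-- `S ↦ S + S*` -/
def tauHom : Matrix (Fin k) (Fin k) F →+ Matrix (Fin k) (Fin k) F :=
  AddMonoidHom.mk' (fun S => S + cstar c.φ S) (by
    intro S T
    rw [cstar_add]
    abel)

theorem tauHom_apply (S : Matrix (Fin k) (Fin k) F) : tauHom k c S = S + cstar c.φ S := rfl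

/-- the (skew-)hermitian matrices -/
def HermA : AddSubgroup (Matrix (Fin k) (Fin k) F) := (tauHom k c).ker

theorem mem_HermA {S : Matrix (Fin k) (Fin k) F} : S ∈ HermA k c ↔ S + cstar c.φ S = 0 :=
  AddMonoidHom.mem_ker

/-- `S ↦ u_S` -/
def uSL : Multiplicative (HermA k c) →* SU (2 * k) F q where
  toFun S := mkSU k c (uB (Multiplicative.toAdd S).1) (uB_det _)
    (uB_form c.φ _ ((mem_HermA k c).1 (Multiplicative.toAdd S).2))
  map_one' := by
    apply SU_ext
    rw [mkSU_val]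
    show rho c.φ c.a (uB (0 : Matrix (Fin k) (Fin k) F)) = 1
    rw [uB_zero, rho_one c.φ c.a c.ha]
  map_mul' S T := by
    apply SU_ext
    rw [mkSU_val]
    show rho c.φ c.a (uB ((Multiplicative.toAdd S).1 + (Multiplicative.toAdd T).1)) =
      rho c.φ c.a _ * rho c.φ c.a _
    rw [← rho_mul c.φ c.a c.ha, uB_mul]

theorem uSL_val (S : Multiplicative (HermA k c)) :
    ((uSL k c S).1.1 : Matrix (Fin (2 * k)) (Fin (2 * k)) F) =
      rho c.φ c.a (uB (Multiplicative.toAdd S).1) := rfl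

theorem uSL_sq (S : Multiplicative (HermA k c)) : S ^ 2 = 1 := by
  rw [pow_two]
  apply Multiplicative.toAdd.injective
  apply Subtype.ext
  show (Multiplicative.toAdd S).1 + (Multiplicative.toAdd S).1 = 0
  exact mat_add_self _

/-- the unipotent radical times the unitriangular Levi part -/
def UU : Subgroup (SU (2 * k) F q) := (UT k F).map (dSL k c) ⊔ (uSL k c).range

theorem dSL_conj_uSL (B : Matrix.SpecialLinearGroup (Fin k) F) (S : Multiplicative (HermA k c)) :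
    ∃ T, dSL k c B * uSL k c S * (dSL k c B)⁻¹ = uSL k c T := by
  have hS := (mem_HermA k c).1 (Multiplicative.toAdd S).2
  have hmem : (B : Matrix (Fin k) (Fin k) F) * (Multiplicative.toAdd S).1 *
      cstar c.φ (B : Matrix (Fin k) (Fin k) F) ∈ HermA k c := by
    rw [mem_HermA, cstar_mul, cstar_mul, cstar_cstar c.φ c.hφφ]
    have : (B : Matrix (Fin k) (Fin k) F) * (Multiplicative.toAdd S).1 *
          cstar c.φ (B : Matrix (Fin k) (Fin k) F) +
        (B : Matrix (Fin k) (Fin k) F) * (cstar c.φ (Multiplicative.toAdd S).1 *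
          cstar c.φ (B : Matrix (Fin k) (Fin k) F)) =
        (B : Matrix (Fin k) (Fin k) F) *
          ((Multiplicative.toAdd S).1 + cstar c.φ (Multiplicative.toAdd S).1) *
          cstar c.φ (B : Matrix (Fin k) (Fin k) F) := by
      rw [mul_add, add_mul, mul_assoc, mul_assoc]
    rw [this, hS, mul_zero, zero_mul]
  refine ⟨Multiplicative.ofAdd ⟨_, hmem⟩, ?_⟩
  rw [← map_inv]
  apply SU_ext
  rw [uSL_val]
  show rho c.φ c.a _ * rho c.φ c.a _ * rho c.φ c.a _ = _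
  rw [← rho_mul c.φ c.a c.ha, ← rho_mul c.φ c.a c.ha, inv_inv,
    dB_uB_dB c.φ c.hφφ _ _ _ (sl_mul_inv k B)]
  rfl

theorem map_dSL_le_normalizer : (UT k F).map (dSL k c) ≤ Subgroup.normalizer ((uSL k c).range : Set (SU (2 * k) F q)) := by
  rintro _ ⟨B, -, rfl⟩
  rw [Subgroup.mem_normalizer_iff]
  intro h
  constructor
  · rintro ⟨S, rfl⟩
    obtain ⟨T, hT⟩ := dSL_conj_uSL k c B S
    exact ⟨T, hT.symm⟩
  · rintro ⟨S, hS⟩
    obtain ⟨T, hT⟩ := dSL_conj_uSL k c B⁻¹ S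
    refine ⟨T, ?_⟩
    rw [← hT, hS, map_inv, inv_inv]
    group

theorem isPGroup_UU : IsPGroup 2 (UU k c) := by
  have : Fact (Nat.Prime 2) := ⟨Nat.prime_two⟩
  obtain ⟨n, -, hn⟩ := FiniteField.card F 2
  apply IsPGroup.to_sup_of_normal_right'
  · exact (isPGroup_UT 2 hn).map (dSL k c)
  · rintro ⟨_, S, rfl⟩
    refine ⟨1, ?_⟩
    apply Subtype.ext
    show (uSL k c S) ^ (2 ^ 1) = 1
    rw [pow_one, ← map_pow, uSL_sq, map_one]
  · exact map_dSL_le_normalizer k c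

theorem UU_eq_closure : UU k c = Subgroup.closure
    ((dSL k c) '' {C : Matrix.SpecialLinearGroup (Fin k) F | C ∈ UT k F ∧ C * C = 1} ∪
      Set.range (uSL k c)) := by
  apply le_antisymm
  · apply sup_le
    · calc (UT k F).map (dSL k c)
          ≤ (Subgroup.closure
              {C : Matrix.SpecialLinearGroup (Fin k) F | C ∈ UT k F ∧ C * C = 1}).map (dSL k c) :=
            Subgroup.map_mono UT_le_closure_involutions
        _ = Subgroup.closure
              ((dSL k c) '' {C : Matrix.SpecialLinearGroup (Fin k) F | C ∈ UT k F ∧ C * C = 1}) :=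
            MonoidHom.map_closure _ _
        _ ≤ _ := Subgroup.closure_mono Set.subset_union_left
    · rintro _ ⟨S, rfl⟩
      exact Subgroup.subset_closure (Or.inr ⟨S, rfl⟩)
  · rw [Subgroup.closure_le]
    rintro x (⟨C, ⟨hC, -⟩, rfl⟩ | ⟨S, rfl⟩)
    · exact (le_sup_left : _ ≤ UU k c) ⟨C, hC, rfl⟩
    · exact (le_sup_right : _ ≤ UU k c) ⟨S, rfl⟩

theorem UU_sq : ∀ x ∈ UU k c, x ^ 2 ∈ ⁅UU k c, UU k c⁆ := by
  apply sq_mem_commutator_of_closure _ _ (UU_eq_closure k c)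
  rintro s (⟨C, ⟨-, hC⟩, rfl⟩ | ⟨S, rfl⟩)
  · rw [← map_pow, pow_two, hC, map_one]
    exact Subgroup.one_mem _
  · rw [← map_pow, uSL_sq, map_one]
    exact Subgroup.one_mem _

theorem card_UU_ge : Nat.card (UT k F) * Nat.card (HermA k c) ≤ Nat.card (UU k c) := by
  rw [← Nat.card_prod]
  let f : (UT k F) × (HermA k c) → UU k c := fun p =>
    ⟨dSL k c p.1.1 * uSL k c (Multiplicative.ofAdd p.2),
      mul_mem ((le_sup_left : _ ≤ UU k c) ⟨p.1.1, p.1.2, rfl⟩)
        ((le_sup_right : _ ≤ UU k c) ⟨_, rfl⟩)⟩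
  apply Nat.card_le_card_of_injective f
  rintro ⟨B, S⟩ ⟨B', S'⟩ h
  have h1 : (dSL k c B.1 * uSL k c (Multiplicative.ofAdd S)).1.1 =
      (dSL k c B'.1 * uSL k c (Multiplicative.ofAdd S')).1.1 :=
    congrArg (fun x : UU k c => x.1.1.1) h
  have h2 : rho c.φ c.a (dB c.φ (B.1 : Matrix (Fin k) (Fin k) F)
        ((B.1⁻¹ : Matrix.SpecialLinearGroup (Fin k) F) : Matrix (Fin k) (Fin k) F) * uB S.1) =
      rho c.φ c.a (dB c.φ (B'.1 : Matrix (Fin k) (Fin k) F)
        ((B'.1⁻¹ : Matrix.SpecialLinearGroup (Fin k) F) : Matrix (Fin k) (Fin k) F) * uB S'.1) := by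
    rw [rho_mul c.φ c.a c.ha, rho_mul c.φ c.a c.ha]
    exact h1
  have h3 := rho_injective c.φ c.a c.ha h2
  rw [dB_uB, dB_uB] at h3
  obtain ⟨hB, hBS, -, -⟩ := Matrix.fromBlocks_inj.1 h3
  have hBB : B = B' := Subtype.ext (Subtype.ext hB)
  subst hBB
  have hSS : S.1 = S'.1 := by
    calc S.1 = ((B.1⁻¹ : Matrix.SpecialLinearGroup (Fin k) F) : Matrix (Fin k) (Fin k) F) *
          ((B.1 : Matrix (Fin k) (Fin k) F) * S.1) := by
            rw [← mul_assoc, sl_inv_mul, one_mul]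
      _ = ((B.1⁻¹ : Matrix.SpecialLinearGroup (Fin k) F) : Matrix (Fin k) (Fin k) F) *
          ((B.1 : Matrix (Fin k) (Fin k) F) * S'.1) := by rw [hBS]
      _ = S'.1 := by rw [← mul_assoc, sl_inv_mul, one_mul]
  exact Prod.ext rfl (Subtype.ext hSS)

theorem card_HermA_ge (hF : Fintype.card F = q ^ 2) : q ^ (k * k) ≤ Nat.card (HermA k c) := by
  have h1 : Nat.card (HermA k c) * (HermA k c).index = Nat.card (Matrix (Fin k) (Fin k) F) :=
    AddSubgroup.card_mul_index _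
  have h2 : (HermA k c).index = Nat.card (tauHom k c).range := AddSubgroup.index_ker _
  have h3 : (tauHom k c).range ≤ HermA k c := by
    rintro _ ⟨S, rfl⟩
    rw [mem_HermA, tauHom_apply, cstar_add, cstar_cstar c.φ c.hφφ, add_comm (cstar c.φ S) S]
    exact mat_add_self _
  have h4 : Nat.card (tauHom k c).range ≤ Nat.card (HermA k c) := AddSubgroup.card_le_of_le h3
  have h5 : Nat.card (Matrix (Fin k) (Fin k) F) = (q ^ (k * k)) ^ 2 := by
    show Nat.card (Fin k → Fin k → F) = _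
    rw [Nat.card_fun, Nat.card_fun, Nat.card_eq_fintype_card, Nat.card_eq_fintype_card,
      Fintype.card_fin, hF, ← pow_mul, ← pow_mul, ← pow_mul]
    congr 1
    ring
  rw [h2, h5] at h1
  by_contra hlt
  replace hlt := Nat.lt_of_not_le hlt
  have : Nat.card (HermA k c) * Nat.card (tauHom k c).range < (q ^ (k * k)) ^ 2 := by
    calc Nat.card (HermA k c) * Nat.card (tauHom k c).range
        ≤ Nat.card (HermA k c) * Nat.card (HermA k c) := Nat.mul_le_mul_left _ h4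
      _ < q ^ (k * k) * q ^ (k * k) := Nat.mul_self_lt_mul_self hlt
      _ = (q ^ (k * k)) ^ 2 := (pow_two _).symm
  omega

theorem twoPart_SU (hF : Fintype.card F = q ^ 2) (e : ℕ) (he : q = 2 ^ e) (he1 : 1 ≤ e)
    (hk : 1 ≤ k) : TwoPart (SU (2 * k) F q) (2 ^ (e * (k * (2 * k - 1)))) := by
  have h := Cfsg.Agent.S0278.result hF (2 * k) (by omega)
  have hexp : 2 * k * (2 * k - 1) / 2 = k * (2 * k - 1) := by
    rw [mul_assoc, Nat.mul_div_cancel_left _ (by norm_num)]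
  rw [hexp] at h
  have hq2 : 2 ∣ q := by rw [he]; exact dvd_pow_self 2 (by omega)
  have hq0 : 0 < q := by rw [he]; positivity
  have hPodd : ¬ 2 ∣ ∏ i ∈ Finset.range (2 * k),
      (if Even i then q ^ (i + 1) + 1 else q ^ (i + 1) - 1) := by
    rw [Nat.prime_two.prime.dvd_finset_prod_iff]
    rintro ⟨i, -, hi⟩
    have hqi : 2 ∣ q ^ (i + 1) := dvd_pow hq2 (by omega)
    have hpos : 1 ≤ q ^ (i + 1) := Nat.one_le_pow _ _ hq0
    generalize q ^ (i + 1) = t at hi hqi hpos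
    split_ifs at hi <;> omega
  have hqN : q ^ (k * (2 * k - 1)) = 2 ^ (e * (k * (2 * k - 1))) := by rw [he, ← pow_mul]
  rw [hqN] at h
  have hcop : Nat.Coprime (2 ^ (e * (k * (2 * k - 1)))) (q + 1) := by
    apply Nat.Coprime.pow_left
    rw [Nat.coprime_two_left]
    obtain ⟨r, hr⟩ := hq2
    exact ⟨r, by omega⟩
  have hdvd : 2 ^ (e * (k * (2 * k - 1))) ∣ Nat.card (SU (2 * k) F q) := by
    apply hcop.dvd_of_dvd_mul_left
    exact ⟨_, h⟩
  obtain ⟨m, hm⟩ := hdvd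
  refine ⟨m, ?_, hm⟩
  intro h2m
  apply hPodd
  have hPm : (q + 1) * m = ∏ i ∈ Finset.range (2 * k),
      (if Even i then q ^ (i + 1) + 1 else q ^ (i + 1) - 1) := by
    rw [hm] at h
    have h' : 2 ^ (e * (k * (2 * k - 1))) * ((q + 1) * m) = 2 ^ (e * (k * (2 * k - 1))) *
        ∏ i ∈ Finset.range (2 * k), (if Even i then q ^ (i + 1) + 1 else q ^ (i + 1) - 1) := by
      rw [← h]; ring
    exact Nat.eq_of_mul_eq_mul_left (by positivity) h'
  rw [← hPm]
  exact dvd_mul_of_dvd_right h2m _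

/-- **462503 K-SQ-PSUeven.** -/
theorem sylSq_psu_even (F : Type) [Field F] [Fintype F] [CharP F 2] (k q : ℕ)
    (hF : Fintype.card F = q ^ 2) (hk : 2 ≤ k) :
    SylSq (Cfsg.PSU (2 * k) F q) := by
  obtain ⟨c⟩ := exists_hypCtx hF
  have : Fact (Nat.Prime 2) := ⟨Nat.prime_two⟩
  obtain ⟨n, -, hn⟩ := FiniteField.card F 2
  have hq : q ∣ 2 ^ (n : ℕ) := by
    rw [← hn, hF]
    exact dvd_pow_self q (by norm_num)
  obtain ⟨e, -, he⟩ := (Nat.dvd_prime_pow Nat.prime_two).1 hq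
  have he1 : 1 ≤ e := by
    by_contra h0
    have h00 : e = 0 := by omega
    rw [h00, pow_zero] at he
    rw [he, one_pow] at hF
    have := Fintype.one_lt_card (α := F)
    omega
  have hT : 2 * (∑ i : Fin k, (i : ℕ)) + k * k = k * (2 * k - 1) := by
    rw [Fin.sum_univ_eq_sum_range (fun i => i) k, mul_comm 2, Finset.sum_range_id_mul_two,
      ← mul_add]
    congr 1
    omega
  have hSU : SylSq (SU (2 * k) F q) := by
    apply SylSq.of_unip_twoPart (e * (k * (2 * k - 1)))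
    · refine ⟨UU k c, isPGroup_UU k c, ?_, UU_sq k c⟩
      calc 2 ^ (e * (k * (2 * k - 1))) = q ^ (k * (2 * k - 1)) := by rw [he, ← pow_mul]
        _ = (q ^ 2) ^ (∑ i : Fin k, (i : ℕ)) * q ^ (k * k) := by
            rw [← pow_mul, ← pow_add, hT]
        _ ≤ Nat.card (UT k F) * Nat.card (HermA k c) := by
            rw [card_UT, hF]
            exact Nat.mul_le_mul_left _ (card_HermA_ge k c hF)
        _ ≤ Nat.card (UU k c) := card_UU_ge k c
    · exact twoPart_SU k hF e he he1 (by omega)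
  exact SylSq.quotient (Subgroup.center _) hSU

end Cfsg.Agent.Lib.Helper97.SQ
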