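import Mathlib
import Cfsg.Prelude.Def_GeometricClasses
import Cfsg.Agent.Lib.Helper69.SLTDefs

/-!
# K-SLT-3b (keystone 597904): diagonal elements `diag(u, w, 1, …, 1)` and `l · diag(-1, 1, …, 1)`
-/

set_option autoImplicit false

namespace Cfsg.Agent.Lib.Helper97.SLT

open Matrix Cfsg.Agent.Lib.Helper69.SLT

variable {F : Type*} [Field F]

/-- the eigenspace dimension of a diagonal matrix is the number of entries equal to `μ` -/
theorem eigDim_diagonal {ι : Type*} [Fintype ι] [DecidableEq ι] [DecidableEq F] (d : ι → F)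
    (μ : F) :
    eigDim (Matrix.diagonal d) μ = (Finset.univ.filter (fun i => d i = μ)).card := by
  unfold eigDim
  rw [Module.End.eigenspace_def]
  have h1 : Matrix.toLin' (Matrix.diagonal d) - μ • (1 : Module.End F (ι → F)) =
      (Matrix.diagonal (fun i => d i - μ)).mulVecLin := by
    apply LinearMap.ext
    intro v
    ext i
    simp [Matrix.mulVec_diagonal, sub_mul]
  rw [h1]
  have h2 := LinearMap.finrank_range_add_finrank_ker
    (Matrix.diagonal (fun i => d i - μ)).mulVecLin
  have h3 : Module.finrank F (LinearMap.range (Matrix.diagonal (fun i => d i - μ)).mulVecLin) =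
      Fintype.card {i // d i - μ ≠ 0} := by
    rw [← Matrix.rank, Matrix.rank_diagonal]
  rw [h3, Module.finrank_fintype_fun_eq_card, Fintype.card_subtype] at h2
  have h4 := Finset.card_filter_add_card_filter_not (s := (Finset.univ : Finset ι))
    (fun i => d i - μ ≠ 0)
  have h5 : (Finset.univ.filter (fun i => ¬ (d i - μ ≠ 0))) =
      Finset.univ.filter (fun i => d i = μ) := by
    apply Finset.filter_congr
    intro i _
    rw [not_not, sub_eq_zero]
  rw [h5, Finset.card_univ] at h4
  omega

/-- the diagonal embedding of `ι → Fˣ` into `GL ι F` -/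
noncomputable def diagGL (ι : Type*) [Fintype ι] [DecidableEq ι] : (ι → Fˣ) →* GL ι F :=
  (Units.map (Matrix.diagonalRingHom ι F).toMonoidHom).comp
    (MulEquiv.piUnits (M := fun _ : ι => F)).symm.toMonoidHom

theorem diagGL_coe {ι : Type*} [Fintype ι] [DecidableEq ι] (d : ι → Fˣ) :
    ((diagGL ι d : GL ι F) : Matrix ι ι F) = Matrix.diagonal (fun i => (d i : F)) := rfl

theorem det_diagGL {ι : Type*} [Fintype ι] [DecidableEq ι] (d : ι → Fˣ) :
    Matrix.GeneralLinearGroup.det (diagGL ι d) = ∏ i, d i := by
  apply Units.ext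
  rw [Matrix.GeneralLinearGroup.val_det_apply, diagGL_coe, Matrix.det_diagonal]
  simp

theorem exists_diag_two {ι : Type} [Fintype ι] [DecidableEq ι] (hι : 3 ≤ Fintype.card ι)
    (u w : Fˣ) (hu : u ≠ 1) (huw : u * w = 1) (r : ℕ) (hur : u ^ r = 1) :
    ∃ x : GL ι F, Matrix.GeneralLinearGroup.det x = 1 ∧ x ^ r = 1 ∧
      (∀ z : F, (x : Matrix ι ι F) ≠ z • (1 : Matrix ι ι F)) ∧
      eigDim (x : Matrix ι ι F) 1 + 2 = Fintype.card ι ∧
      (u ≠ w → eigDim (x : Matrix ι ι F) (u : F) = 1) ∧
      (u = w → eigDim (x : Matrix ι ι F) (u : F) = 2) := by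
  classical
  obtain ⟨i₀, i₁, i₂, h01, h02, h12⟩ :=
    Fintype.two_lt_card_iff.1 (by omega : 2 < Fintype.card ι)
  set d : ι → Fˣ := Pi.mulSingle i₀ u * Pi.mulSingle i₁ w with hd
  have hd0 : d i₀ = u := by simp [hd, Pi.mulSingle_apply, h01]
  have hd1 : d i₁ = w := by simp [hd, Pi.mulSingle_apply, h01.symm]
  have hdo : ∀ i, i ≠ i₀ → i ≠ i₁ → d i = 1 := by
    intro i h0 h1
    simp [hd, Pi.mulSingle_apply, h0, h1]
  have hwu : w = u⁻¹ := eq_inv_of_mul_eq_one_right huw
  have hw : w ≠ 1 := by
    intro h
    rw [h, mul_one] at huw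
    exact hu huw
  have hwr : w ^ r = 1 := by rw [hwu, inv_pow, hur, inv_one]
  have hcases : ∀ i, i = i₀ ∨ i = i₁ ∨ (i ≠ i₀ ∧ i ≠ i₁) := by
    intro i
    by_cases h0 : i = i₀
    · exact Or.inl h0
    · by_cases h1 : i = i₁
      · exact Or.inr (Or.inl h1)
      · exact Or.inr (Or.inr ⟨h0, h1⟩)
  refine ⟨diagGL ι d, ?_, ?_, ?_, ?_, ?_, ?_⟩
  · rw [det_diagGL, hd]
    simp only [Pi.mul_apply]
    rw [Finset.prod_mul_distrib, Finset.prod_pi_mulSingle', Finset.prod_pi_mulSingle']
    simpa using huw
  · rw [← map_pow]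
    have : d ^ r = 1 := by
      funext i
      rw [Pi.pow_apply, Pi.one_apply]
      rcases hcases i with rfl | rfl | ⟨h0, h1⟩
      · rw [hd0, hur]
      · rw [hd1, hwr]
      · rw [hdo i h0 h1, one_pow]
    rw [this, map_one]
  · intro z hz
    rw [diagGL_coe] at hz
    have e0 := congrFun (congrFun hz i₀) i₀
    have e2 := congrFun (congrFun hz i₂) i₂
    simp only [Matrix.diagonal_apply_eq, Matrix.smul_apply, Matrix.one_apply_eq, smul_eq_mul,
      mul_one] at e0 e2
    rw [hd0] at e0
    rw [hdo i₂ h02.symm h12.symm] at e2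
    apply hu
    apply Units.ext
    rw [e0, ← e2]
  · rw [diagGL_coe, eigDim_diagonal]
    have hf : (Finset.univ.filter (fun i => ((d i : Fˣ) : F) = 1)) = ({i₀, i₁} : Finset ι)ᶜ := by
      ext i
      simp only [Finset.mem_filter, Finset.mem_univ, true_and, Finset.mem_compl,
        Finset.mem_insert, Finset.mem_singleton]
      rcases hcases i with rfl | rfl | ⟨h0, h1⟩
      · rw [hd0]
        simp only [true_or, not_true_eq_false, iff_false]
        intro h
        exact hu (Units.ext h)
      · rw [hd1]
        simp only [or_true, not_true_eq_false, iff_false]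
        intro h
        exact hw (Units.ext h)
      · rw [hdo i h0 h1]
        simp [h0, h1]
    rw [hf, Finset.card_compl, Finset.card_pair h01]
    omega
  · intro huw'
    rw [diagGL_coe, eigDim_diagonal]
    have hf : (Finset.univ.filter (fun i => ((d i : Fˣ) : F) = (u : F))) = ({i₀} : Finset ι) := by
      ext i
      simp only [Finset.mem_filter, Finset.mem_univ, true_and, Finset.mem_singleton]
      rcases hcases i with rfl | rfl | ⟨h0, h1⟩
      · rw [hd0]
        simp
      · rw [hd1]
        constructor
        · intro h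
          exact absurd (Units.ext h).symm huw'
        · intro h
          exact absurd h h01.symm
      · rw [hdo i h0 h1]
        constructor
        · intro h
          exact absurd (Units.ext h).symm hu
        · intro h
          exact absurd h h0
    rw [hf, Finset.card_singleton]
  · intro huw'
    rw [diagGL_coe, eigDim_diagonal]
    have hf : (Finset.univ.filter (fun i => ((d i : Fˣ) : F) = (u : F))) =
        ({i₀, i₁} : Finset ι) := by
      ext i
      simp only [Finset.mem_filter, Finset.mem_univ, true_and, Finset.mem_insert,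
        Finset.mem_singleton]
      rcases hcases i with rfl | rfl | ⟨h0, h1⟩
      · rw [hd0]
        simp
      · rw [hd1, ← huw']
        simp
      · rw [hdo i h0 h1]
        constructor
        · intro h
          exact absurd (Units.ext h).symm hu
        · rintro (h | h)
          · exact absurd h h0
          · exact absurd h h1
    rw [hf, Finset.card_pair h01]

theorem exists_diag_one {ι : Type} [Fintype ι] [DecidableEq ι] (hι : 2 ≤ Fintype.card ι)
    (h2 : (2 : F) ≠ 0) (l : Fˣ) (hl : (l : F) ^ Fintype.card ι = -1) :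
    ∃ x : GL ι F, Matrix.GeneralLinearGroup.det x = 1 ∧
      ((x ^ 2 : GL ι F) : Matrix ι ι F) = ((l : F) ^ 2) • (1 : Matrix ι ι F) ∧
      (∀ z : F, (x : Matrix ι ι F) ≠ z • (1 : Matrix ι ι F)) ∧
      eigDim (x : Matrix ι ι F) (l : F) + 1 = Fintype.card ι ∧
      eigDim (x : Matrix ι ι F) (-(l : F)) = 1 := by
  classical
  obtain ⟨i₀, i₁, h01⟩ := Fintype.one_lt_card_iff.1 (by omega : 1 < Fintype.card ι)
  set d : ι → Fˣ := fun i => l * (Pi.mulSingle i₀ (-1 : Fˣ) : ι → Fˣ) i with hd
  have hd0 : d i₀ = -l := by simp [hd]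
  have hdo : ∀ i, i ≠ i₀ → d i = l := by
    intro i h0
    simp [hd, Pi.mulSingle_apply, h0]
  have hne : -(l : F) ≠ (l : F) := by
    intro h
    have : (2 : F) * (l : F) = 0 := by linear_combination -h
    rcases mul_eq_zero.1 this with h' | h'
    · exact h2 h'
    · exact l.ne_zero h'
  refine ⟨diagGL ι d, ?_, ?_, ?_, ?_, ?_⟩
  · rw [det_diagGL, hd]
    rw [Finset.prod_mul_distrib, Finset.prod_const, Finset.prod_pi_mulSingle', Finset.card_univ]
    apply Units.ext
    simp only [Finset.mem_univ, if_true, Units.val_mul, Units.val_pow_eq_pow_val, Units.val_neg,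
      Units.val_one]
    rw [hl]
    ring
  · rw [← map_pow, diagGL_coe]
    ext i j
    by_cases hij : i = j
    · subst hij
      rw [Matrix.diagonal_apply_eq, Matrix.smul_apply, Matrix.one_apply_eq, smul_eq_mul, mul_one,
        Pi.pow_apply, Units.val_pow_eq_pow_val]
      by_cases h0 : i = i₀
      · rw [h0, hd0]
        simp
      · rw [hdo i h0]
    · rw [Matrix.diagonal_apply_ne _ hij, Matrix.smul_apply, Matrix.one_apply_ne hij, smul_zero]
  · intro z hz
    rw [diagGL_coe] at hz
    have e0 := congrFun (congrFun hz i₀) i₀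
    have e1 := congrFun (congrFun hz i₁) i₁
    simp only [Matrix.diagonal_apply_eq, Matrix.smul_apply, Matrix.one_apply_eq, smul_eq_mul,
      mul_one] at e0 e1
    rw [hd0] at e0
    rw [hdo i₁ h01.symm] at e1
    exact hne ((Units.val_neg l).symm.trans (e0.trans e1.symm))
  · rw [diagGL_coe, eigDim_diagonal]
    have hf : (Finset.univ.filter (fun i => ((d i : Fˣ) : F) = (l : F))) = ({i₀} : Finset ι)ᶜ := by
      ext i
      simp only [Finset.mem_filter, Finset.mem_univ, true_and, Finset.mem_compl,
        Finset.mem_singleton]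
      by_cases h0 : i = i₀
      · rw [h0, hd0]
        simp only [not_true_eq_false, iff_false, Units.val_neg]
        exact hne
      · rw [hdo i h0]
        simp [h0]
    rw [hf, Finset.card_compl, Finset.card_singleton]
    omega
  · rw [diagGL_coe, eigDim_diagonal]
    have hf : (Finset.univ.filter (fun i => ((d i : Fˣ) : F) = -(l : F))) = ({i₀} : Finset ι) := by
      ext i
      simp only [Finset.mem_filter, Finset.mem_univ, true_and, Finset.mem_singleton]
      by_cases h0 : i = i₀
      · rw [h0, hd0]
        simp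
      · rw [hdo i h0]
        constructor
        · intro h
          exact absurd h.symm hne
        · intro h
          exact absurd h h0
    rw [hf, Finset.card_singleton]

end Cfsg.Agent.Lib.Helper97.SLT
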