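import Mathlib
import Cfsg.Agent.Lib.Helper41.InvBDefs

/-!
# K-IB-8 (392810): Schur's bound, numeric form
-/

set_option autoImplicit false

namespace Cfsg.Agent.Lib.Helper97.InvB

open scoped commutatorElement

variable {X : Type*} [Group X]

theorem commElem_mul_central_left (g k z : X) (hz : z ∈ Subgroup.center X) :
    ⁅g * z, k⁆ = ⁅g, k⁆ := by
  rw [Subgroup.mem_center_iff] at hz
  calc ⁅g * z, k⁆ = g * z * k * (g * z)⁻¹ * k⁻¹ := commutatorElement_def _ _
    _ = g * (z * k) * z⁻¹ * g⁻¹ * k⁻¹ := by group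
    _ = g * (k * z) * z⁻¹ * g⁻¹ * k⁻¹ := by rw [hz k]
    _ = g * k * g⁻¹ * k⁻¹ := by group
    _ = ⁅g, k⁆ := (commutatorElement_def _ _).symm

theorem commElem_mul_central_right (g k w : X) (hw : w ∈ Subgroup.center X) :
    ⁅g, k * w⁆ = ⁅g, k⁆ := by
  rw [Subgroup.mem_center_iff] at hw
  calc ⁅g, k * w⁆ = g * (k * w) * g⁻¹ * (k * w)⁻¹ := commutatorElement_def _ _
    _ = g * k * (w * g⁻¹) * w⁻¹ * k⁻¹ := by group
    _ = g * k * (g⁻¹ * w) * w⁻¹ * k⁻¹ := by rw [hw g⁻¹]
    _ = g * k * g⁻¹ * k⁻¹ := by group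
    _ = ⁅g, k⁆ := (commutatorElement_def _ _).symm

/-- the number of commutators is at most the square of the index of the centre -/
theorem card_commutatorSet_le [Finite X] :
    Nat.card (commutatorSet X) ≤ (Subgroup.center X).index * (Subgroup.center X).index := by
  rw [Subgroup.index_eq_card, ← Nat.card_prod]
  let f : (X ⧸ Subgroup.center X) × (X ⧸ Subgroup.center X) → commutatorSet X :=
    fun p => ⟨⁅p.1.out, p.2.out⁆, commutator_mem_commutatorSet _ _⟩
  apply Nat.card_le_card_of_surjective f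
  rintro ⟨c, g, h, rfl⟩
  refine ⟨(QuotientGroup.mk g, QuotientGroup.mk h), ?_⟩
  apply Subtype.ext
  show ⁅(QuotientGroup.mk g : X ⧸ Subgroup.center X).out,
    (QuotientGroup.mk h : X ⧸ Subgroup.center X).out⁆ = ⁅g, h⁆
  obtain ⟨z, hz⟩ := QuotientGroup.mk_out_eq_mul (Subgroup.center X) g
  obtain ⟨w, hw⟩ := QuotientGroup.mk_out_eq_mul (Subgroup.center X) h
  rw [hz, hw, commElem_mul_central_left _ _ _ z.2, commElem_mul_central_right _ _ _ w.2]

/-- **LEAF 8 (392810).** -/
theorem card_commutator_le_of_index_center {X : Type*} [Group X] [Finite X] (b : ℕ)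
    (hb : (Subgroup.center X).index ≤ b) : Nat.card (commutator X) ≤ b ^ (b ^ 3 + 1) := by
  have hi : 1 ≤ (Subgroup.center X).index :=
    Nat.one_le_iff_ne_zero.2 Subgroup.index_ne_zero_of_finite
  have hb1 : 1 ≤ b := le_trans hi hb
  have hc := card_commutatorSet_le (X := X)
  have hdvd := Subgroup.card_commutator_dvd_index_center_pow X
  have h1 : Nat.card (commutator X) ≤
      (Subgroup.center X).index ^ ((Subgroup.center X).index * Nat.card (commutatorSet X) + 1) :=
    Nat.le_of_dvd (by positivity) hdvd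
  have h2 : (Subgroup.center X).index * Nat.card (commutatorSet X) + 1 ≤ b ^ 3 + 1 := by
    have : (Subgroup.center X).index * Nat.card (commutatorSet X) ≤ b * (b * b) :=
      Nat.mul_le_mul hb (le_trans hc (Nat.mul_le_mul hb hb))
    have e : b ^ 3 = b * (b * b) := by ring
    omega
  calc Nat.card (commutator X)
      ≤ (Subgroup.center X).index ^
          ((Subgroup.center X).index * Nat.card (commutatorSet X) + 1) := h1
    _ ≤ b ^ ((Subgroup.center X).index * Nat.card (commutatorSet X) + 1) :=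
        Nat.pow_le_pow_left hb _
    _ ≤ b ^ (b ^ 3 + 1) := Nat.pow_le_pow_right hb1 h2

end Cfsg.Agent.Lib.Helper97.InvB
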