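import Mathlib
import Cfsg.Agent.Lib.Helper41.InvBDefs

/-!
# K-IB-5 (392807): the hypercentre quotient has trivial centre
-/

set_option autoImplicit false

namespace Cfsg.Agent.Lib.Helper97.InvB

/-- **LEAF 5 (392807).** -/
theorem exists_hyper (Γ : Type*) [Group Γ] [Finite Γ] :
    ∃ n : ℕ, Subgroup.center (Γ ⧸ Subgroup.upperCentralSeries Γ n) = ⊥ := by
  obtain ⟨n, hn⟩ := WellFoundedGT.monotone_chain_condition
    ⟨Subgroup.upperCentralSeries Γ, Subgroup.upperCentralSeries_mono Γ⟩
  refine ⟨n, ?_⟩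
  rw [eq_bot_iff]
  intro z hz
  obtain ⟨x, rfl⟩ := QuotientGroup.mk_surjective z
  rw [Subgroup.mem_bot, QuotientGroup.eq_one_iff]
  have h1 : x ∈ Subgroup.upperCentralSeries Γ (n + 1) := by
    rw [Subgroup.mem_upperCentralSeries_succ_iff]
    intro y
    rw [← QuotientGroup.eq_one_iff (N := Subgroup.upperCentralSeries Γ n)]
    rw [Subgroup.mem_center_iff] at hz
    have h2 := hz (QuotientGroup.mk y)
    rw [commutatorElement_def]
    simp only [QuotientGroup.mk_mul, QuotientGroup.mk_inv]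
    rw [← h2]
    group
  have h3 : Subgroup.upperCentralSeries Γ n = Subgroup.upperCentralSeries Γ (n + 1) :=
    hn (n + 1) (by omega)
  rw [h3]
  exact h1

end Cfsg.Agent.Lib.Helper97.InvB
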