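import Cfsg.Agent.Lib.Helper43.UFBasic

set_option autoImplicit false
set_option linter.unusedSimpArgs false
set_option linter.unusedVariables false
set_option linter.unusedSectionVars false

/-! K-UF-T2 (keystone 570008): a type II root element gives the whole Siegel group. -/

namespace Cfsg.Agent.Lib.Helper97.UF

open Module Matrix Cfsg.Agent.Lib.Helper19 Cfsg.Agent.Lib.Helper43 Cfsg.Agent.Lib.Helper43.UF

variable {F : Type*} [Field F] [Fintype F] {ι : Type} [Fintype ι] [DecidableEq ι]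
variable {Q : QuadraticForm F (ι → F)}
variable (hQ : (QuadraticMap.polarBilin Q).Nondegenerate) (hn : 7 ≤ Fintype.card ι)

local notation "ℬ" => QuadraticMap.polarBilin Q

theorem siegIn_of_typeII (U : UData Q) (M : Subgroup ↥(Cfsg.Omega F ⇑Q))
    (hH : ∀ k : ↥(Cfsg.Omega F ⇑Q), (∀ x, lo Q k (U.J x) = U.J (lo Q k x)) → k ∈ M)
    (a v : ι → F) (ha : Q a = 0) (hv : v ∈ RS Q hQ hn M a) (hne : ℬ v (U.J a) ≠ 0) :
    SiegIn Q hQ hn M a := by
  have hav : ℬ a v = 0 := hv.1
  have hva : ℬ v a = 0 := by rw [polar_symm]; exact hav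
  have haa : ℬ a a = 0 := by rw [polar_self', ha, mul_zero]
  have haJa : ℬ a (U.J a) = 0 := U.B_self_J a ha
  -- `J a ∈ RS a`
  have hJa : U.J a ∈ RS Q hQ hn M a := by
    refine ⟨haJa, fun t => ?_⟩
    exact hH (tv U hQ hn a t) (fun x => tv_comm hQ hn U a ha t x)
  have haRS : a ∈ RS Q hQ hn M a := RS_self hQ hn M a ha
  -- every `y ⊥ F[J] a` is in `RS a`
  have hy : ∀ y : ι → F, U.HOrth a y → y ∈ RS Q hQ hn M a := by
    intro y hay
    have hk : eich U hQ hn a y ∈ M := hH _ (fun x => eich_comm hQ hn U a y ha hay x)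
    have hka : lo Q (eich U hQ hn a y) a = a := by
      rw [lo_eich hQ hn U a y ha hay a, haa, haJa, hay.1, hay.B_right_J]
      simp
    have h1 := RS_fix hQ hn M _ hk a ha hka hv
    rw [lo_eich hQ hn U a y ha hay v, hva] at h1
    -- `h1 : v + 0 • J y - ℬ v (J a) • y + c₁ • J a + c₂ • a ∈ RS a`
    set c₁ := ℬ v y - Q y * ℬ v (U.J a) with hc₁
    set c₂ := -ℬ v (U.J y) + U.tr * Q y * ℬ v (U.J a) - U.nm * Q y * 0 with hc₂
    have h2 : ℬ v (U.J a) • y ∈ RS Q hQ hn M a := by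
      have h3 := RS_sub hQ hn M a ha
        (RS_add hQ hn M a ha (RS_add hQ hn M a ha hv (RS_smul hQ hn M a hJa c₁))
          (RS_smul hQ hn M a haRS c₂)) h1
      have : v + c₁ • U.J a + c₂ • a -
          (v + (0 : F) • U.J y - ℬ v (U.J a) • y + c₁ • U.J a + c₂ • a) = ℬ v (U.J a) • y := by
        module
      rwa [this] at h3
    have h4 := RS_smul hQ hn M a h2 (ℬ v (U.J a))⁻¹
    rwa [smul_smul, inv_mul_cancel₀ hne, one_smul] at h4
  apply siegIn_of_RS hQ hn M a ha
  intro w haw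
  set s := ℬ w (U.J a) / ℬ v (U.J a) with hs
  have hy' : U.HOrth a (w - s • v) := by
    refine ⟨?_, ?_⟩
    · rw [map_sub, map_smul, haw, hav, smul_zero, sub_zero]
    · rw [map_sub, map_smul, polar_symm Q (U.J a) w, polar_symm Q (U.J a) v, hs, smul_eq_mul,
        div_mul_cancel₀ _ hne, sub_self]
  have h5 := RS_add hQ hn M a ha (hy _ hy') (RS_smul hQ hn M a hv s)
  rwa [sub_add_cancel] at h5

end Cfsg.Agent.Lib.Helper97.UF
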