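import Cfsg.Agent.Lib.Helper45.AltFreeDefs

/-!
# K-S2276-REPS: lists of cycle representatives with prescribed head
-/

set_option autoImplicit false

namespace Cfsg.Agent.Lib.Helper97.AltFree

open Equiv Equiv.Perm Cfsg.Agent.Lib.Helper45.AltFree

variable {β : Type*} [Fintype β] [DecidableEq β]

/-- general version: extend a list `hd` of pairwise non-`SameCycle` points to a full list of
representatives. -/
theorem exists_reps_gen (y : Perm β) (hd : List β) (hnd : hd.Nodup)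
    (hhd : ∀ r ∈ hd, ∀ r' ∈ hd, y.SameCycle r r' → r = r') :
    ∃ l' : List β, (hd ++ l').Nodup ∧ (∀ x, ∃ r ∈ hd ++ l', y.SameCycle r x) ∧
      (∀ r ∈ hd ++ l', ∀ r' ∈ hd ++ l', y.SameCycle r r' → r = r') := by
  classical
  let s : Setoid β := Equiv.Perm.SameCycle.setoid y
  have hs : ∀ a b : β, s a b ↔ y.SameCycle a b := fun a b => Iff.rfl
  let R : Finset β := Finset.univ.image (fun q : Quotient s => q.out)
  have hRcov : ∀ x : β, ∃ r ∈ R, y.SameCycle r x := by
    intro x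
    refine ⟨(Quotient.mk s x).out, Finset.mem_image.2 ⟨_, Finset.mem_univ _, rfl⟩, ?_⟩
    exact (hs _ _).1 (Quotient.mk_out (s := s) x)
  have hRuniq : ∀ r ∈ R, ∀ r' ∈ R, y.SameCycle r r' → r = r' := by
    intro r hr r' hr' h
    obtain ⟨q, -, rfl⟩ := Finset.mem_image.1 hr
    obtain ⟨q', -, rfl⟩ := Finset.mem_image.1 hr'
    have : Quotient.mk s q.out = Quotient.mk s q'.out := Quotient.sound ((hs _ _).2 h)
    rw [Quotient.out_eq, Quotient.out_eq] at this
    rw [this]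
  let l' : List β := (R.filter (fun x => ∀ h ∈ hd, ¬ y.SameCycle h x)).toList
  have hmem : ∀ x, x ∈ l' ↔ x ∈ R ∧ ∀ h ∈ hd, ¬ y.SameCycle h x := by
    intro x
    simp only [l', Finset.mem_toList, Finset.mem_filter]
  refine ⟨l', ?_, ?_, ?_⟩
  · rw [List.nodup_append]
    refine ⟨hnd, Finset.nodup_toList _, ?_⟩
    intro a ha b hb hab
    subst hab
    exact ((hmem a).1 hb).2 a ha (Equiv.Perm.SameCycle.refl y a)
  · intro x
    by_cases hx : ∃ h ∈ hd, y.SameCycle h x
    · obtain ⟨h, hh, hhx⟩ := hx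
      exact ⟨h, List.mem_append_left _ hh, hhx⟩
    · push Not at hx
      obtain ⟨r, hrR, hrx⟩ := hRcov x
      refine ⟨r, List.mem_append_right _ ((hmem r).2 ⟨hrR, ?_⟩), hrx⟩
      intro h hh hhr
      exact hx h hh (hhr.trans hrx)
  · intro r hr r' hr' hrr'
    rcases List.mem_append.1 hr with h1 | h1 <;> rcases List.mem_append.1 hr' with h2 | h2
    · exact hhd r h1 r' h2 hrr'
    · exact absurd hrr' (((hmem r').1 h2).2 r h1)
    · exact absurd hrr'.symm (((hmem r).1 h1).2 r' h2)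
    · exact hRuniq r ((hmem r).1 h1).1 r' ((hmem r').1 h2).1 hrr'

/-- **K-REPS** (one prescribed representative) -/
theorem exists_reps (y : Perm β) (r₁ : β) :
    ∃ l' : List β, (r₁ :: l').Nodup ∧ (∀ x, ∃ r ∈ r₁ :: l', y.SameCycle r x) ∧
      (∀ r ∈ r₁ :: l', ∀ r' ∈ r₁ :: l', y.SameCycle r r' → r = r') := by
  obtain ⟨l', h1, h2, h3⟩ := exists_reps_gen y [r₁] (List.nodup_singleton r₁) (by
    intro r hr r' hr' _
    rw [List.mem_singleton] at hr hr'
    rw [hr, hr'])
  exact ⟨l', h1, h2, h3⟩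

/-- **K-REPS** (two prescribed representatives) -/
theorem exists_reps₂ (y : Perm β) (r₁ r₂ : β) (h : ¬ y.SameCycle r₁ r₂) :
    ∃ l' : List β, (r₁ :: r₂ :: l').Nodup ∧ (∀ x, ∃ r ∈ r₁ :: r₂ :: l', y.SameCycle r x) ∧
      (∀ r ∈ r₁ :: r₂ :: l', ∀ r' ∈ r₁ :: r₂ :: l', y.SameCycle r r' → r = r') := by
  have hne : r₁ ≠ r₂ := by
    rintro rfl
    exact h (Equiv.Perm.SameCycle.refl y r₁)
  obtain ⟨l', h1, h2, h3⟩ := exists_reps_gen y [r₁, r₂] (by simp [hne]) (by
    intro r hr r' hr' hrr'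
    simp only [List.mem_cons, List.not_mem_nil, or_false] at hr hr'
    rcases hr with rfl | rfl <;> rcases hr' with rfl | rfl
    · rfl
    · exact absurd hrr' h
    · exact absurd hrr'.symm h
    · rfl)
  exact ⟨l', h1, h2, h3⟩

end Cfsg.Agent.Lib.Helper97.AltFree
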