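import Cfsg.Agent.Lib.Helper45.AltFreeDefs

/-!
# K-S2276-PERF: perfect-generators certificate for non-solvability
-/

set_option autoImplicit false

namespace Cfsg.Agent.Lib.Helper97.AltFree

open Equiv Equiv.Perm Cfsg.Agent.Lib.Helper45.AltFree
open scoped commutatorElement

/-- **K-PERF** -/
theorem not_solvable_of_perfect_gens {G : Type*} [Group G] (H : Subgroup G) (a b a₁ a₂ b₁ b₂ : G)
    (ha : a ∈ H) (hb : b ∈ H)
    (ha₁ : a₁ ∈ Subgroup.closure ({a, b} : Set G)) (ha₂ : a₂ ∈ Subgroup.closure ({a, b} : Set G))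
    (hb₁ : b₁ ∈ Subgroup.closure ({a, b} : Set G)) (hb₂ : b₂ ∈ Subgroup.closure ({a, b} : Set G))
    (hab : a = a₁ * a₂ * a₁⁻¹ * a₂⁻¹) (hbb : b = b₁ * b₂ * b₁⁻¹ * b₂⁻¹) (hne : a ≠ 1) :
    ¬ Group.IsSolvable H := by
  intro hsol
  set K : Subgroup G := Subgroup.closure ({a, b} : Set G) with hK
  have hKH : K ≤ H := by
    rw [hK, Subgroup.closure_le]
    rintro x (rfl | rfl)
    · exact ha
    · exact hb
  have haK : a ∈ K := Subgroup.subset_closure (by simp)
  have hsolK : Group.IsSolvable K :=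
    Group.isSolvable_of_isSolvable_injective (Subgroup.inclusion_injective hKH)
  have hnt : Nontrivial K :=
    ⟨⟨⟨a, haK⟩, 1, fun h => hne (congrArg Subtype.val h)⟩⟩
  have hlt := Group.IsSolvable.commutator_lt_top_of_nontrivial K
  have htop : commutator K = ⊤ := by
    rw [eq_top_iff, ← Subgroup.closure_closure_coe_preimage (k := ({a, b} : Set G)),
      Subgroup.closure_le]
    rintro ⟨x, hx⟩ hxs
    simp only [Set.mem_preimage, Set.mem_insert_iff, Set.mem_singleton_iff] at hxs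
    rw [SetLike.mem_coe, commutator_def]
    rcases hxs with h | h
    · have e : (⟨x, hx⟩ : K) = ⁅(⟨a₁, ha₁⟩ : K), (⟨a₂, ha₂⟩ : K)⁆ := by
        apply Subtype.ext
        rw [commutatorElement_def]
        show x = a₁ * a₂ * a₁⁻¹ * a₂⁻¹
        rw [h, ← hab]
      rw [e]
      exact Subgroup.commutator_mem_commutator (Subgroup.mem_top _) (Subgroup.mem_top _)
    · have e : (⟨x, hx⟩ : K) = ⁅(⟨b₁, hb₁⟩ : K), (⟨b₂, hb₂⟩ : K)⁆ := by
        apply Subtype.ext
        rw [commutatorElement_def]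
        show x = b₁ * b₂ * b₁⁻¹ * b₂⁻¹
        rw [h, ← hbb]
      rw [e]
      exact Subgroup.commutator_mem_commutator (Subgroup.mem_top _) (Subgroup.mem_top _)
  rw [htop] at hlt
  exact lt_irrefl _ hlt

end Cfsg.Agent.Lib.Helper97.AltFree
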