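import Mathlib
import Cfsg.Prelude.Def_Classical
import Cfsg.Prelude.Def_GeometricClasses
import Cfsg.Agent.Lib.Helper50.WittMain
import Cfsg.Agent.Lib.Helper50.GeoBridge

/-!
# K-SLO-1 (keystone 598101): Witt classification of an abstract nondegenerate quadratic form on
`Fin n → F`, as a linear isometry with one of the three standard models.
-/

set_option autoImplicit false
set_option linter.unusedVariables false

namespace Cfsg.Agent.Lib.Helper97.SLO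

open Matrix

variable {F : Type*} [Field F]

/-- the diagonal weights `1, 1, c⁻¹` on `Unit ⊕ (Fin m ⊕ Fin m)` -/
def oddWeights (m : ℕ) (c : F) : Unit ⊕ (Fin m ⊕ Fin m) → F :=
  Sum.elim (fun _ => 1) (Sum.elim (fun _ => 1) (fun _ => c⁻¹))

theorem oddWeights_ne_zero (m : ℕ) (c : F) (hc : c ≠ 0) (j : Unit ⊕ (Fin m ⊕ Fin m)) :
    oddWeights m c j ≠ 0 := by
  rcases j with j | j | j
  · simp [oddWeights]
  · simp [oddWeights]
  · simpa [oddWeights] using hc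

/-- rescaling of the `y`-coordinates by `c⁻¹` -/
noncomputable def oddScale (m : ℕ) (c : F) (hc : c ≠ 0) :
    (Unit ⊕ (Fin m ⊕ Fin m) → F) ≃ₗ[F] (Unit ⊕ (Fin m ⊕ Fin m) → F) :=
  LinearEquiv.piCongrRight
    (fun j => LinearEquiv.smulOfNeZero F F (oddWeights m c j) (oddWeights_ne_zero m c hc j))

theorem oddScale_apply (m : ℕ) (c : F) (hc : c ≠ 0) (v : Unit ⊕ (Fin m ⊕ Fin m) → F)
    (j : Unit ⊕ (Fin m ⊕ Fin m)) : oddScale m c hc v j = oddWeights m c j * v j := rfl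

theorem mul_quadFormOdd_oddScale (m : ℕ) (c : F) (hc : c ≠ 0)
    (v : Unit ⊕ (Fin m ⊕ Fin m) → F) :
    c * Cfsg.quadFormOdd m F (oddScale m c hc v) = Cfsg.Agent.Lib.Helper50.oddForm m c v := by
  unfold Cfsg.quadFormOdd Cfsg.Agent.Lib.Helper50.oddForm
  simp only [oddScale_apply, oddWeights, Sum.elim_inl, Sum.elim_inr, one_mul]
  rw [mul_add, Finset.mul_sum]
  congr 1
  apply Finset.sum_congr rfl
  intro i _
  field_simp

theorem anisotropic_of_no_root (ζ : F) (hζ : ∀ t : F, t ^ 2 + t + ζ ≠ 0) :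
    ∀ x y : F, x ^ 2 + 1 * x * y + ζ * y ^ 2 = 0 → x = 0 ∧ y = 0 := by
  intro x y h
  by_cases hy : y = 0
  · subst hy
    have : x ^ 2 = 0 := by simpa using h
    exact ⟨pow_eq_zero_iff (two_ne_zero) |>.1 this, rfl⟩
  · exfalso
    apply hζ (x / y)
    have : (x / y) ^ 2 + x / y + ζ = (x ^ 2 + 1 * x * y + ζ * y ^ 2) / y ^ 2 := by
      field_simp
    rw [this, h, zero_div]

variable [Fintype F]

theorem quad_model (hodd : Odd (Fintype.card F)) (n : ℕ) (hn : 1 ≤ n) (Q : (Fin n → F) → F)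
    (hQ : Cfsg.Geo.IsNondegenerateQuadraticForm Q) :
    (∃ (m : ℕ) (φ : (Fin n → F) ≃ₗ[F] (Fin m ⊕ Fin m → F)), n = 2 * m ∧
        ∀ v, Cfsg.quadFormPlus m F (φ v) = Q v) ∨
    (∃ (m : ℕ) (a b : F) (φ : (Fin n → F) ≃ₗ[F] ((Fin m ⊕ Fin m) ⊕ Fin 2 → F)), n = 2 * m + 2 ∧
        (∀ x y : F, x ^ 2 + a * x * y + b * y ^ 2 = 0 → x = 0 ∧ y = 0) ∧
        ∀ v, Cfsg.quadFormMinus m F a b (φ v) = Q v) ∨
    (∃ (m : ℕ) (c : F) (φ : (Fin n → F) ≃ₗ[F] (Unit ⊕ (Fin m ⊕ Fin m) → F)), n = 2 * m + 1 ∧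
        c ≠ 0 ∧ ∀ v, c * Cfsg.quadFormOdd m F (φ v) = Q v) := by
  have hfr : Module.finrank F (Fin n → F) = n := Module.finrank_fin_fun F
  have hnd := Cfsg.Agent.Lib.Helper50.QND_of_nondegenerate _
    (Cfsg.Agent.Lib.Helper50.geoForm_nondegenerate Q hQ)
  rcases Cfsg.Agent.Lib.Helper50.witt_type n (Cfsg.Agent.Lib.Helper50.geoForm Q hQ) hfr hnd with
    ⟨m, hm, φ, hφ⟩ | ⟨m, ζ, hm, hζ, φ, hφ⟩ | ⟨m, c, hm, hc, φ, hφ⟩
  · left
    exact ⟨m, φ, hm, hφ⟩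
  · right; left
    exact ⟨m, 1, ζ, φ, hm, anisotropic_of_no_root ζ hζ, hφ⟩
  · right; right
    refine ⟨m, c, φ.trans (oddScale m c hc), hm, hc, ?_⟩
    intro v
    rw [LinearEquiv.trans_apply, mul_quadFormOdd_oddScale]
    exact hφ v

end Cfsg.Agent.Lib.Helper97.SLO
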