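import Mathlib
import Cfsg.Agent.Lib.Helper49.StSUDefs

/-!
# K-StSU-C4 (254618): the longest element: some `w ∈ N` is monomial with permutation `rev`
-/

set_option autoImplicit false
set_option linter.unusedSectionVars false
set_option linter.unusedVariables false

namespace Cfsg.Agent.Lib.Helper97.StSU

open Cfsg Cfsg.Agent.Lib.Helper49.StSU Matrix

variable {n : ℕ} {F : Type*} [Field F] {q : ℕ}

/-- `g` is monomial, with the map `t` on the values of the indices -/
def MonV (g : GJ n F q) (t : ℕ → ℕ) : Prop :=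
  ∀ a b : Fin n, mat g a b ≠ 0 ↔ a.val = t b.val

theorem MonV.mul {g h : GJ n F q} {t t' : ℕ → ℕ} (hg : MonV g t) (hh : MonV h t')
    (hr : ∀ v, v < n → t' v < n) : MonV (g * h) (t ∘ t') := by
  intro a b
  rw [mat_mul, Matrix.mul_apply]
  let c0 : Fin n := ⟨t' b.val, hr _ b.2⟩
  have hsum : ∑ c, mat g a c * mat h c b = mat g a c0 * mat h c0 b := by
    apply Finset.sum_eq_single c0
    · intro c _ hc
      have : mat h c b = 0 := by
        by_contra hne
        exact hc (Fin.ext ((hh c b).1 hne))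
      rw [this, mul_zero]
    · intro h
      exact absurd (Finset.mem_univ _) h
  rw [hsum]
  have h1 : mat h c0 b ≠ 0 := (hh c0 b).2 rfl
  rw [mul_ne_zero_iff, and_iff_left h1, hg a c0]
  rfl

theorem MonV.congr {g : GJ n F q} {t t' : ℕ → ℕ} (hg : MonV g t)
    (h : ∀ v, v < n → t v = t' v) : MonV g t' := by
  intro a b
  rw [hg a b, h _ b.2]

variable (n F q)

/-- some product of simple reflections is monomial with map `t` -/
def PT (t : ℕ → ℕ) : Prop := ∃ g ∈ Subgroup.closure (Sset n F q), MonV g t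

variable {n F q}

theorem PT.mul {t t' : ℕ → ℕ} (h : PT n F q t) (h' : PT n F q t')
    (hr : ∀ v, v < n → t' v < n) : PT n F q (t ∘ t') := by
  obtain ⟨g, hg, hgm⟩ := h
  obtain ⟨g', hg', hgm'⟩ := h'
  exact ⟨g * g', mul_mem hg hg', hgm.mul hgm' hr⟩

theorem PT.congr {t t' : ℕ → ℕ} (h : PT n F q t) (he : ∀ v, v < n → t v = t' v) :
    PT n F q t' := by
  obtain ⟨g, hg, hgm⟩ := h
  exact ⟨g, hg, hgm.congr he⟩

theorem PT_tau (ok : Ok n F q) (j : ℕ) (hj : j + 1 < n / 2) : PT n F q (tau n j) := by
  refine ⟨sShort n F q j, Subgroup.subset_closure (Or.inl ⟨j, hj, rfl⟩), ?_⟩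
  intro a b
  rw [ok.short j hj]
  show (if a.val = tau n j b.val then (1 : F) else 0) ≠ 0 ↔ _
  split_ifs with h
  · exact iff_of_true one_ne_zero h
  · exact iff_of_false (fun hh => hh rfl) h

/-- the map of the last reflection -/
def lastT (n : ℕ) (v : ℕ) : ℕ :=
  if v = n / 2 - 1 then n - n / 2 else if v = n - n / 2 then n / 2 - 1 else v

theorem PT_last (ok : Ok n F q) (hn : 2 ≤ n) : PT n F q (lastT n) := by
  refine ⟨sLast n F q, Subgroup.subset_closure (Or.inr ⟨hn, rfl⟩), ?_⟩
  intro a b
  rw [ok.last hn]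
  unfold sLastMat
  have ha := a.2
  have hb := b.2
  have hane : aPar F q ≠ 0 := ok.a_ne
  have hane' : -(aPar F q)⁻¹ ≠ 0 := neg_ne_zero.2 (inv_ne_zero hane)
  by_cases hpar : n % 2 = 0
  · rw [if_pos hpar]
    unfold sEvenMat lastT
    simp only [Fin.ext_iff]
    split_ifs <;>
      first
        | (refine iff_of_true ?_ ?_ <;> first | exact hane | exact hane' | exact one_ne_zero | omega)
        | (refine iff_of_false (fun hh => hh rfl) ?_; omega)
  · rw [if_neg hpar]
    unfold sOddMat lastT
    simp only [Fin.ext_iff]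
    split_ifs <;>
      first
        | (refine iff_of_true ?_ ?_ <;>
            first | exact one_ne_zero | exact neg_ne_zero.2 one_ne_zero | omega)
        | (refine iff_of_false (fun hh => hh rfl) ?_; omega)

/-- the map of `c_j`: exchange `j` and `n - 1 - j` -/
def cT (n j : ℕ) (v : ℕ) : ℕ :=
  if v = j then n - 1 - j else if v = n - 1 - j then j else v

/-- reverse the segment `[j, n - 1 - j]` -/
def wT (n j : ℕ) (v : ℕ) : ℕ :=
  if j ≤ v ∧ v ≤ n - 1 - j then n - 1 - v else v

theorem tau_lt (j : ℕ) (hj : j + 1 < n / 2) (v : ℕ) (hv : v < n) : tau n j v < n := by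
  unfold tau
  split_ifs <;> omega

theorem cT_lt (j : ℕ) (hj : j < n / 2) (v : ℕ) (hv : v < n) : cT n j v < n := by
  unfold cT
  split_ifs <;> omega

theorem wT_lt (j : ℕ) (v : ℕ) (hv : v < n) : wT n j v < n := by
  unfold wT
  split_ifs <;> omega

theorem PT_cT (ok : Ok n F q) (hn : 2 ≤ n) :
    ∀ d j : ℕ, j + d + 1 = n / 2 → PT n F q (cT n j) := by
  intro d
  induction d with
  | zero =>
    intro j hj
    apply (PT_last ok hn).congr
    intro v hv
    unfold lastT cT
    split_ifs <;> omega
  | succ d ih =>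
    intro j hj
    have hj1 : j + 1 < n / 2 := by omega
    have h1 := ih (j + 1) (by omega)
    have h2 := PT_tau ok j hj1
    have h3 := (h2.mul h1 (cT_lt (j + 1) (by omega))).mul h2 (tau_lt j hj1)
    apply h3.congr
    intro v hv
    simp only [Function.comp_apply]
    unfold tau cT
    split_ifs <;> omega

theorem PT_wT (ok : Ok n F q) (hn : 2 ≤ n) :
    ∀ d j : ℕ, j + d + 1 = n / 2 → PT n F q (wT n j) := by
  intro d
  induction d with
  | zero =>
    intro j hj
    apply (PT_cT ok hn 0 j hj).congr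
    intro v hv
    unfold cT wT
    split_ifs <;> omega
  | succ d ih =>
    intro j hj
    have h1 := ih (j + 1) (by omega)
    have h2 := PT_cT ok hn (d + 1) j hj
    apply (h2.mul h1 (wT_lt (j + 1))).congr
    intro v hv
    simp only [Function.comp_apply]
    unfold cT wT
    split_ifs <;> omega

theorem monWith_one_of_lt (hn : n < 2) : MonWith n F q (1 : GJ n F q) Fin.revPerm := by
  have hsub : ∀ a b : Fin n, a = b := by
    intro a b
    apply Fin.ext
    have := a.2
    have := b.2
    omega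
  refine ⟨?_, ?_⟩
  · intro a b
    rw [mat_one, hsub a b, Matrix.one_apply_eq]
    exact iff_of_true one_ne_zero (hsub _ _)
  · intro a
    exact hsub _ _

/-- **LEAF C4 (254618).** -/
theorem exists_w0 (ok : Ok n F q) : ∃ w ∈ Nsub n F q, MonWith n F q w Fin.revPerm := by
  by_cases hn : n < 2
  · exact ⟨1, one_mem _, monWith_one_of_lt hn⟩
  · have hn2 : 2 ≤ n := by omega
    obtain ⟨w, hw, hwm⟩ := PT_wT ok hn2 (n / 2 - 1) 0 (by omega)
    refine ⟨w, (le_sup_left : Subgroup.closure (Sset n F q) ≤ Nsub n F q) hw, ?_, ?_⟩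
    · intro a b
      rw [hwm a b, Fin.revPerm_apply, Fin.ext_iff, Fin.val_rev]
      unfold wT
      have ha := a.2
      have hb := b.2
      split_ifs <;> omega
    · intro a
      rw [Fin.revPerm_apply, Fin.revPerm_apply]

end Cfsg.Agent.Lib.Helper97.StSU
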