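import Mathlib
import Cfsg.Agent.Lib.Helper53.StOmDefs

/-!
# K-StOm-C3a (254914): squares of the simple reflections are `1` (independent of the R0 leaves)
-/

set_option autoImplicit false
set_option linter.unusedSectionVars false
set_option linter.unusedVariables false

namespace Cfsg.Agent.Lib.Helper97.StOm

open Cfsg Cfsg.Agent.Lib.Helper53.StOm Matrix

variable {m : ℕ} {F : Type*} [Field F] {a b : F}

theorem ofMat_mul_self (M : Matrix (MI m) (MI m) F) (hM : M * M = 1) :
    (ofMat a b M : OG m F a b) * ofMat a b M = 1 := by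
  by_cases h : ∃ g : OG m F a b, mat g = M
  · apply mat_injective
    rw [mat_mul, mat_ofMat M h, hM, mat_one]
  · unfold ofMat
    rw [dif_neg h, mul_one]

theorem c3a_swapE_sq (i j : Fin m) : swapE m i j * swapE m i j = 1 := by
  ext x
  rcases x with (x | x) | x <;> simp [swapE]

theorem c3a_flipE_sq (k : Fin m) : flipE m k * flipE m k = 1 := by
  unfold flipE
  exact Equiv.swap_mul_self _ _

theorem c3a_sPerm_sq (i j : Fin m) : sPerm m F a b i j * sPerm m F a b i j = 1 := by
  apply ofMat_mul_self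
  unfold sPermMat
  rw [← Matrix.permMatrix_mul, c3a_swapE_sq, Matrix.permMatrix_one]

theorem c3a_sFlip_sq (k : Fin m) : sFlip m F a b k * sFlip m F a b k = 1 := by
  apply ofMat_mul_self
  unfold sFlipMat
  rw [← Matrix.permMatrix_mul, c3a_flipE_sq, Matrix.permMatrix_one]

/-- **LEAF C3a (254914).** -/
theorem sq_mem_B (s : OG m F a b) (hs : s ∈ Sset m F a b) : s * s ∈ Bsub m F a b := by
  rcases hs with ⟨i, hi, rfl⟩ | ⟨hm, rfl⟩
  · rw [c3a_sPerm_sq]
    exact (Bsub m F a b).one_mem
  · rw [c3a_sFlip_sq]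
    exact (Bsub m F a b).one_mem

end Cfsg.Agent.Lib.Helper97.StOm
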