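import Cfsg.Agent.Lib.Helper60.FHAdj
import Cfsg.Agent.Lib.Helper08.BNPairSimple

/-!
# K-S1142-A: the Weyl group of a rank 2 (B,N)-pair is dihedral

`n = orderOf (mk a * mk b)` in `W = N ⧸ T`; `|W| = 2n`, alternating words of length `≤ n` are reduced,
and the two alternating words of length `n` agree modulo `T`.
-/

set_option autoImplicit false
set_option linter.unusedSectionVars false

open Cfsg Cfsg.Agent.Lib.Helper08 Cfsg.Agent.Lib.Helper60.FH

namespace Cfsg.Agent.Lib.Helper97.FH

/-! ### alternating words in a monoid / group -/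

section alt

variable {M : Type*} [Monoid M]

theorem altL_succ_succ (x y : M) (k : ℕ) : altL x y (k + 2) = x * y * altL x y k := by
  rw [altL_succ, altL_succ, mul_assoc]

theorem altL_even (x y : M) (m : ℕ) : altL x y (2 * m) = (x * y) ^ m := by
  induction m with
  | zero => simp
  | succ m ih =>
    rw [show 2 * (m + 1) = 2 * m + 2 by ring, altL_succ_succ, ih, pow_succ']

theorem altL_odd (x y : M) (m : ℕ) : altL x y (2 * m + 1) = (x * y) ^ m * x := by
  induction m with
  | zero => simp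
  | succ m ih =>
    rw [show 2 * (m + 1) + 1 = (2 * m + 1) + 2 by ring, altL_succ_succ, ih, pow_succ']
    simp only [mul_assoc]

theorem map_altL {M' : Type*} [Monoid M'] (f : M →* M') (x y : M) (k : ℕ) :
    f (altL x y k) = altL (f x) (f y) k := by
  induction k generalizing x y with
  | zero => simp
  | succ k ih => rw [altL_succ, altL_succ, map_mul, ih]

/-- alternating list -/
def altList : M → M → ℕ → List M
  | _, _, 0 => []
  | x, y, k + 1 => x :: altList y x k

theorem altList_zero (x y : M) : altList x y 0 = [] := by simp [altList]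

theorem altList_succ (x y : M) (k : ℕ) : altList x y (k + 1) = x :: altList y x k := by
  simp [altList]

theorem altList_length (x y : M) (k : ℕ) : (altList x y k).length = k := by
  induction k generalizing x y with
  | zero => simp [altList_zero]
  | succ k ih => rw [altList_succ, List.length_cons, ih]

theorem altList_prod (x y : M) (k : ℕ) : (altList x y k).prod = altL x y k := by
  induction k generalizing x y with
  | zero => simp [altList_zero]
  | succ k ih => rw [altList_succ, List.prod_cons, ih, altL_succ]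

theorem altList_mem (x y : M) (k : ℕ) : ∀ z ∈ altList x y k, z = x ∨ z = y := by
  induction k generalizing x y with
  | zero => simp [altList_zero]
  | succ k ih =>
    intro z hz
    rw [altList_succ, List.mem_cons] at hz
    rcases hz with rfl | hz
    · exact Or.inl rfl
    · exact (ih y x z hz).symm

theorem altList_split (x y : M) (k : ℕ) (l1 : List M) (t : M) (l2 : List M)
    (h : altList x y k = l1 ++ t :: l2) :
    l1 = altList x y l1.length ∧ l1 ++ [t] = altList x y (l1.length + 1) := by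
  induction k generalizing x y l1 with
  | zero =>
    rw [altList_zero] at h
    exact absurd h (by simp)
  | succ k ih =>
    rw [altList_succ] at h
    cases l1 with
    | nil =>
      simp only [List.nil_append, List.cons.injEq] at h
      obtain ⟨rfl, -⟩ := h
      simp [altList_zero, altList_succ]
    | cons c l1' =>
      simp only [List.cons_append, List.cons.injEq] at h
      obtain ⟨rfl, h2⟩ := h
      obtain ⟨e1, e2⟩ := ih y x l1' h2
      refine ⟨?_, ?_⟩
      · rw [List.length_cons, altList_succ, ← e1]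
      · rw [List.length_cons, altList_succ, List.cons_append, e2]

end alt

section dih

variable {W : Type*} [Group W]

theorem altL_mem_subgroup {G : Type*} [Group G] (H : Subgroup G) {x y : G} (hx : x ∈ H) (hy : y ∈ H)
    (k : ℕ) : altL x y k ∈ H := by
  induction k generalizing x y with
  | zero => simp
  | succ k ih =>
    rw [altL_succ]
    exact H.mul_mem hx (ih hy hx)

theorem yx_eq_inv {x y : W} (hx : x * x = 1) (hy : y * y = 1) : y * x = (x * y)⁻¹ := by
  rw [eq_inv_iff_mul_eq_one]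
  calc y * x * (x * y) = y * (x * x) * y := by group
    _ = 1 := by rw [hx, mul_one, hy]

theorem invol_conj_pow {x s : W} (hx : x * x = 1) (hs : x * s * x = s⁻¹) (k : ℕ) :
    s ^ k * x = x * (s⁻¹) ^ k := by
  have hxinv : x⁻¹ = x := inv_eq_of_mul_eq_one_left hx
  have h := conj_pow (a := x) (b := s) (i := k)
  rw [hxinv, hs] at h
  rw [h, ← mul_assoc, ← mul_assoc, hx, one_mul]

theorem conj_r {x y : W} (hx : x * x = 1) (hy : y * y = 1) : x * (x * y) * x = (x * y)⁻¹ := by
  rw [← yx_eq_inv hx hy, ← mul_assoc, hx, one_mul]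

theorem conj_r_inv {x y : W} (hx : x * x = 1) (hy : y * y = 1) :
    x * (x * y)⁻¹ * x = ((x * y)⁻¹)⁻¹ := by
  rw [inv_inv, ← yx_eq_inv hx hy]
  calc x * (y * x) * x = x * y * (x * x) := by simp only [mul_assoc]
    _ = x * y := by rw [hx, mul_one]

/-- the key relation: an alternating word of length `i+2` equal to the other alternating word of
length `i` forces `(xy)^(i+1) = 1` -/
theorem key_rel {x y : W} (hx : x * x = 1) (hy : y * y = 1) (i : ℕ)
    (h : altL x y (i + 2) = altL y x i) : (x * y) ^ (i + 1) = 1 := by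
  have hyx : y * x = (x * y)⁻¹ := yx_eq_inv hx hy
  have hc1 := conj_r hx hy
  have hc2 := conj_r_inv hx hy
  have hy' : y = x * (x * y) := by rw [← mul_assoc, hx, one_mul]
  rcases Nat.even_or_odd' i with ⟨j, rfl | rfl⟩
  · -- i = 2j
    rw [show 2 * j + 2 = 2 * (j + 1) by ring, altL_even, altL_even, hyx] at h
    generalize x * y = r at *
    calc r ^ (2 * j + 1) = r ^ (j + 1) * r ^ j := by rw [← pow_add]; congr 1; ring
      _ = (r⁻¹) ^ j * r ^ j := by rw [h]
      _ = 1 := by rw [inv_pow, inv_mul_cancel]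
  · -- i = 2j+1
    rw [show 2 * j + 1 + 2 = 2 * (j + 1) + 1 by ring, altL_odd, altL_odd, hyx] at h
    generalize x * y = r at *
    have h1 : r ^ (j + 1) * x = x * (r⁻¹) ^ (j + 1) := invol_conj_pow hx hc1 (j + 1)
    have h2 : (r⁻¹) ^ j * y = x * r ^ (j + 1) := by
      have h3 : (r⁻¹) ^ j * x = x * ((r⁻¹)⁻¹) ^ j := invol_conj_pow hx hc2 j
      rw [inv_inv] at h3
      rw [hy', ← mul_assoc, h3, mul_assoc, ← pow_succ]
    rw [h1, h2] at h
    have h5 : (r⁻¹) ^ (j + 1) = r ^ (j + 1) := mul_left_cancel h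
    calc r ^ (2 * j + 1 + 1) = r ^ (j + 1) * r ^ (j + 1) := by rw [← pow_add]; congr 1; ring
      _ = (r⁻¹) ^ (j + 1) * r ^ (j + 1) := by rw [h5]
      _ = 1 := by rw [inv_pow, inv_mul_cancel]

/-- braid relation from `(xy)^n = 1` -/
theorem braid_of_pow {x y : W} (hx : x * x = 1) (hy : y * y = 1) (n : ℕ)
    (hn : (x * y) ^ n = 1) : altL x y n = altL y x n := by
  have hyx : y * x = (x * y)⁻¹ := yx_eq_inv hx hy
  have hc1 := conj_r hx hy
  have hc2 := conj_r_inv hx hy
  have hy' : y = x * (x * y) := by rw [← mul_assoc, hx, one_mul]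
  rcases Nat.even_or_odd' n with ⟨m, rfl | rfl⟩
  · rw [altL_even, altL_even, hyx, inv_pow]
    generalize x * y = r at *
    apply eq_inv_of_mul_eq_one_left
    rw [← pow_add, ← two_mul]
    exact hn
  · rw [altL_odd, altL_odd, hyx]
    generalize x * y = r at *
    have h1 : r ^ m * x = x * (r⁻¹) ^ m := invol_conj_pow hx hc1 m
    have h2 : (r⁻¹) ^ m * y = x * r ^ (m + 1) := by
      have h3 : (r⁻¹) ^ m * x = x * ((r⁻¹)⁻¹) ^ m := invol_conj_pow hx hc2 m
      rw [inv_inv] at h3
      rw [hy', ← mul_assoc, h3, mul_assoc, ← pow_succ]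
    rw [h1, h2]
    congr 1
    rw [inv_pow]
    apply inv_eq_of_mul_eq_one_right
    rw [← pow_add, show m + (m + 1) = 2 * m + 1 by ring]
    exact hn

theorem mem_or_mem_of_list {A B : W} (hA : A * A = 1) (hB : B * B = 1) (l : List W)
    (hl : ∀ z ∈ l, z = A ∨ z = B) :
    l.prod ∈ Subgroup.zpowers (A * B) ∨ A * l.prod ∈ Subgroup.zpowers (A * B) := by
  induction l with
  | nil => left; simp
  | cons z l ih =>
    have ih' := ih (fun z hz => hl z (List.mem_cons_of_mem _ hz))
    have hrZ : A * B ∈ Subgroup.zpowers (A * B) := Subgroup.mem_zpowers _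
    rw [List.prod_cons]
    rcases hl z (List.mem_cons_self ..) with rfl | rfl
    · rcases ih' with h | h
      · right
        rw [← mul_assoc, hA, one_mul]; exact h
      · left; exact h
    · rcases ih' with h | h
      · right
        rw [← mul_assoc]
        exact Subgroup.mul_mem _ hrZ h
      · left
        have e : z * l.prod = (A * z)⁻¹ * (A * l.prod) := by
          rw [← yx_eq_inv hA hB, mul_assoc, ← mul_assoc A A, hA, one_mul]
        rw [e]
        exact Subgroup.mul_mem _ (Subgroup.inv_mem _ hrZ) h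

theorem dihedral_card [Finite W] {A B : W} (hA : A * A = 1) (hB : B * B = 1)
    (hA1 : A ≠ 1) (hB1 : B ≠ 1) (hAB : A ≠ B)
    (hgen : ∀ w : W, ∃ l : List W, (∀ z ∈ l, z = A ∨ z = B) ∧ l.prod = w) :
    2 ≤ orderOf (A * B) ∧ Nat.card W = 2 * orderOf (A * B) := by
  have hBinv : B⁻¹ = B := inv_eq_of_mul_eq_one_left hB
  have hAinv : A⁻¹ = A := inv_eq_of_mul_eq_one_left hA
  have hc1 : A * (A * B) * A = (A * B)⁻¹ := conj_r hA hB
  have hcases : ∀ w : W, w ∈ Subgroup.zpowers (A * B) ∨ A * w ∈ Subgroup.zpowers (A * B) := by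
    intro w
    obtain ⟨l, hl, rfl⟩ := hgen w
    exact mem_or_mem_of_list hA hB l hl
  have hBr : B = A⁻¹ * (A * B) := by rw [inv_mul_cancel_left]
  have hAr : A * B = A * 1 → False := fun h => hB1 (mul_left_cancel h)
  have hne1 : orderOf (A * B) ≠ 1 := by
    intro h
    rw [orderOf_eq_one_iff] at h
    apply hAB
    rw [← hBinv]; exact eq_inv_of_mul_eq_one_left h
  generalize A * B = r at *
  have hpos : 0 < orderOf r := orderOf_pos r
  have h2 : 2 ≤ orderOf r := by omega
  refine ⟨h2, ?_⟩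
  have hrZ : r ∈ Subgroup.zpowers r := Subgroup.mem_zpowers r
  have hAZ : A ∉ Subgroup.zpowers r := by
    intro hAmem
    have hcomm : A * r = r * A := by
      obtain ⟨k, hk⟩ := Subgroup.mem_zpowers_iff.1 hAmem
      rw [← hk]
      exact ((Commute.refl r).zpow_left k).eq
    have hrr : r * r = 1 := by
      have h1 := hc1
      rw [hcomm, mul_assoc, hA, mul_one] at h1
      calc r * r = r * r⁻¹ := by rw [← h1]
        _ = 1 := mul_inv_cancel r
    have hZ2 : ∀ z ∈ Subgroup.zpowers r, z = 1 ∨ z = r := by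
      intro z hz
      obtain ⟨k, rfl⟩ := Subgroup.mem_zpowers_iff.1 hz
      rcases Int.even_or_odd' k with ⟨j, rfl | rfl⟩
      · left; rw [zpow_mul, zpow_two, hrr, one_zpow]
      · right; rw [zpow_add, zpow_mul, zpow_two, hrr, one_zpow, one_mul, zpow_one]
    rcases hZ2 A hAmem with h | h
    · exact hA1 h
    · apply hAr
      rw [mul_one]; exact h.symm
  have hidx : (Subgroup.zpowers r).index = 2 := by
    rw [Subgroup.index_eq_two_iff]
    refine ⟨A, fun w => ?_⟩
    have key : w * A ∈ Subgroup.zpowers r ↔ A * w⁻¹ ∈ Subgroup.zpowers r := by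
      rw [← (Subgroup.zpowers r).inv_mem_iff, mul_inv_rev, hAinv]
    rcases hcases w⁻¹ with h | h
    · have hw : w ∈ Subgroup.zpowers r := (Subgroup.zpowers r).inv_mem_iff.1 h
      right
      refine ⟨hw, fun h' => hAZ ?_⟩
      have : A = w⁻¹ * (w * A) := by group
      rw [this]; exact (Subgroup.zpowers r).mul_mem h h'
    · left
      refine ⟨key.2 h, fun hw => hAZ ?_⟩
      have : A = (A * w⁻¹) * w := by group
      rw [this]; exact (Subgroup.zpowers r).mul_mem h hw
  have hcardZ : Nat.card (Subgroup.zpowers r) = orderOf r := Nat.card_zpowers r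
  rw [← Subgroup.index_mul_card (Subgroup.zpowers r), hidx, hcardZ]

end dih

section main

variable {G : Type*} [Group G] (P : Cfsg.BNPair G)

theorem mk_eq_iff [(Tn P).Normal] {n m : G} (hn : n ∈ P.N) (hm : m ∈ P.N) :
    (QuotientGroup.mk (⟨n, hn⟩ : P.N) : P.N ⧸ Tn P) = QuotientGroup.mk (⟨m, hm⟩ : P.N) ↔
      Eqv P n m := by
  rw [QuotientGroup.eq, Subgroup.mem_subgroupOf]
  constructor
  · intro h; exact h.1
  · intro h; exact ⟨h, P.N.mul_mem (P.N.inv_mem hn) hm⟩

theorem mk_eq_one_iff [(Tn P).Normal] {n : G} (hn : n ∈ P.N) :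
    (QuotientGroup.mk (⟨n, hn⟩ : P.N) : P.N ⧸ Tn P) = 1 ↔ n ∈ P.B := by
  rw [QuotientGroup.eq_one_iff, mem_Tn_iff]

theorem mk_altL [(Tn P).Normal] {x y : G} (hx : x ∈ P.N) (hy : y ∈ P.N) (k : ℕ)
    (h : altL x y k ∈ P.N) :
    (QuotientGroup.mk (⟨altL x y k, h⟩ : P.N) : P.N ⧸ Tn P) =
      altL (QuotientGroup.mk (⟨x, hx⟩ : P.N)) (QuotientGroup.mk (⟨y, hy⟩ : P.N)) k := by
  have e : (⟨altL x y k, h⟩ : P.N) = altL ⟨x, hx⟩ ⟨y, hy⟩ k := by
    apply Subtype.ext
    have := map_altL P.N.subtype ⟨x, hx⟩ ⟨y, hy⟩ k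
    simpa using this.symm
  rw [e]
  exact map_altL (QuotientGroup.mk' (Tn P)) _ _ _

theorem exists_list_weyl [(Tn P).Normal] {a b : G} (hS : P.S = {a, b}) (haN : a ∈ P.N)
    (hbN : b ∈ P.N) :
    ∀ lG : List G, (∀ s ∈ lG, s ∈ P.S) → ∀ h : lG.prod ∈ P.N,
      ∃ l' : List (P.N ⧸ Tn P),
        (∀ z ∈ l', z = QuotientGroup.mk (⟨a, haN⟩ : P.N) ∨ z = QuotientGroup.mk (⟨b, hbN⟩ : P.N)) ∧
        l'.prod = QuotientGroup.mk (⟨lG.prod, h⟩ : P.N) := by
  intro lG
  induction lG with
  | nil =>
    intro _ h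
    refine ⟨[], by simp, ?_⟩
    rfl
  | cons s lG ih =>
    intro hl h
    have hs : s ∈ P.S := hl s (List.mem_cons_self ..)
    have hl' : ∀ s ∈ lG, s ∈ P.S := fun z hz => hl z (List.mem_cons_of_mem _ hz)
    have hlN : lG.prod ∈ P.N := prod_mem_N P hl'
    obtain ⟨l', hl'1, hl'2⟩ := ih hl' hlN
    have hsN : s ∈ P.N := P.subset hs
    have hs' : s = a ∨ s = b := by rw [hS] at hs; simpa using hs
    refine ⟨QuotientGroup.mk (⟨s, hsN⟩ : P.N) :: l', ?_, ?_⟩
    · intro z hz
      rw [List.mem_cons] at hz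
      rcases hz with rfl | hz
      · rcases hs' with hsa | hsb
        · left; congr 1; exact Subtype.ext hsa
        · right; congr 1; exact Subtype.ext hsb
      · exact hl'1 z hz
    · rw [List.prod_cons, hl'2]
      rfl

theorem len_altL_step {x y : G} (hx : x ∈ P.S) (hy : y ∈ P.S) (k : ℕ)
    (hk : len P (altL y x k) = k)
    (hno : ∀ i, i + 1 ≤ k → ¬ Eqv P (altL x y (i + 2)) (altL y x i)) :
    len P (altL x y (k + 1)) = k + 1 := by
  have hxN := P.subset hx
  have hyN := P.subset hy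
  have hN : altL y x k ∈ P.N := altL_mem_subgroup P.N hyN hxN k
  rw [altL_succ]
  rcases len_S_mul_lt_or_gt P hx hN with hlt | hgt
  · exfalso
    have hred : Reduced P (altList y x k) := by
      refine ⟨?_, ?_⟩
      · intro z hz
        rcases altList_mem y x k z hz with rfl | rfl
        · exact hy
        · exact hx
      · rw [altList_prod, altList_length, hk]
    have hlt' : len P (x * (altList y x k).prod) < len P (altList y x k).prod := by
      rw [altList_prod]; exact hlt
    obtain ⟨l1, t, l2, hsplit, heqv⟩ := exchange P hx _ hred hlt'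
    obtain ⟨e1, e2⟩ := altList_split y x k l1 t l2 hsplit
    have hlen : l1.length + 1 ≤ k := by
      have := congrArg List.length hsplit
      rw [altList_length, List.length_append, List.length_cons] at this
      omega
    apply hno l1.length hlen
    have hl2S : ∀ s ∈ l2, s ∈ P.S := by
      intro s hs
      apply hred.1
      rw [hsplit]
      simp [hs]
    have hl2N : l2.prod ∈ P.N := prod_mem_N P hl2S
    have q1 : l1.prod = altL y x l1.length :=
      (congrArg List.prod e1).trans (altList_prod _ _ _)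
    have q2 : (l1 ++ [t]).prod = altL y x (l1.length + 1) :=
      (congrArg List.prod e2).trans (altList_prod _ _ _)
    have p1 : (altList y x k).prod = altL y x (l1.length + 1) * l2.prod := by
      rw [hsplit, show l1 ++ t :: l2 = (l1 ++ [t]) ++ l2 by simp, List.prod_append, q2]
    have p2 : (l1 ++ l2).prod = altL y x l1.length * l2.prod := by
      rw [List.prod_append, q1]
    rw [p1, p2, ← mul_assoc] at heqv
    have hN1 : altL y x (l1.length + 1) ∈ P.N := altL_mem_subgroup P.N hyN hxN _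
    have hN2 : altL y x l1.length ∈ P.N := altL_mem_subgroup P.N hyN hxN _
    have h3 := Eqv_mul_right P (P.N.mul_mem (P.N.mul_mem hxN hN1) hl2N) (P.N.mul_mem hN2 hl2N)
      (P.N.inv_mem hl2N) heqv
    rw [mul_inv_cancel_right, mul_inv_cancel_right] at h3
    rw [altL_succ]
    exact h3
  · have h1 := len_S_mul_le P hx hN
    omega

end main

/-- **K-S1142-A**: the Weyl group of a rank 2 (B,N)-pair is dihedral. -/
theorem weyl_dihedral {G : Type*} [Group G] [Finite G] (P : Cfsg.BNPair G) {a b : G}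
    (hab : a ≠ b) (hS : P.S = {a, b}) :
    ∃ n : ℕ, 2 ≤ n ∧ ((P.B ⊓ P.N).subgroupOf P.N).index = 2 * n ∧
      (∀ k, k ≤ n → len P (altL a b k) = k ∧ len P (altL b a k) = k) ∧
      Eqv P (altL a b n) (altL b a n) := by
  have hnorm : (Tn P).Normal := Tn_normal P
  have haS : a ∈ P.S := by rw [hS]; exact Set.mem_insert _ _
  have hbS : b ∈ P.S := by rw [hS]; exact Set.mem_insert_of_mem _ rfl
  have haN : a ∈ P.N := P.subset haS
  have hbN : b ∈ P.N := P.subset hbS
  have hAA : (QuotientGroup.mk (⟨a, haN⟩ : P.N) : P.N ⧸ Tn P) * QuotientGroup.mk (⟨a, haN⟩ : P.N) = 1 :=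
    (mk_eq_one_iff P (P.N.mul_mem haN haN)).2 (P.sq_mem a haS)
  have hBB : (QuotientGroup.mk (⟨b, hbN⟩ : P.N) : P.N ⧸ Tn P) * QuotientGroup.mk (⟨b, hbN⟩ : P.N) = 1 :=
    (mk_eq_one_iff P (P.N.mul_mem hbN hbN)).2 (P.sq_mem b hbS)
  have hA1 : (QuotientGroup.mk (⟨a, haN⟩ : P.N) : P.N ⧸ Tn P) ≠ 1 :=
    fun h => S_not_mem_B P haS ((mk_eq_one_iff P haN).1 h)
  have hB1 : (QuotientGroup.mk (⟨b, hbN⟩ : P.N) : P.N ⧸ Tn P) ≠ 1 :=
    fun h => S_not_mem_B P hbS ((mk_eq_one_iff P hbN).1 h)
  have hAB : (QuotientGroup.mk (⟨a, haN⟩ : P.N) : P.N ⧸ Tn P) ≠ QuotientGroup.mk (⟨b, hbN⟩ : P.N) :=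
    fun h => hab (P.inj a haS b hbS ((mk_eq_iff P haN hbN).1 h))
  have hgen : ∀ w : P.N ⧸ Tn P, ∃ l : List (P.N ⧸ Tn P),
      (∀ z ∈ l, z = QuotientGroup.mk (⟨a, haN⟩ : P.N) ∨ z = QuotientGroup.mk (⟨b, hbN⟩ : P.N)) ∧
        l.prod = w := by
    intro w
    induction w using QuotientGroup.induction_on with
    | H x =>
      obtain ⟨lG, hlG, heqv⟩ := exists_word P x.2
      have hN : lG.prod ∈ P.N := prod_mem_N P hlG
      obtain ⟨l', h1, h2⟩ := exists_list_weyl P hS haN hbN lG hlG hN
      refine ⟨l', h1, ?_⟩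
      rw [h2]
      exact (mk_eq_iff P hN x.2).2 heqv
  obtain ⟨h2, hcard⟩ := dihedral_card hAA hBB hA1 hB1 hAB hgen
  have hBA : orderOf ((QuotientGroup.mk (⟨b, hbN⟩ : P.N) : P.N ⧸ Tn P) * QuotientGroup.mk (⟨a, haN⟩ : P.N)) =
      orderOf ((QuotientGroup.mk (⟨a, haN⟩ : P.N) : P.N ⧸ Tn P) * QuotientGroup.mk (⟨b, hbN⟩ : P.N)) := by
    rw [yx_eq_inv hAA hBB, orderOf_inv]
  refine ⟨orderOf ((QuotientGroup.mk (⟨a, haN⟩ : P.N) : P.N ⧸ Tn P) * QuotientGroup.mk (⟨b, hbN⟩ : P.N)),
    h2, ?_, ?_, ?_⟩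
  · rw [← hcard]
    exact Subgroup.index_eq_card (Tn P)
  · intro k
    induction k with
    | zero =>
      intro _
      simp only [altL_zero]
      exact ⟨len_eq_zero_of_mem_B P P.B.one_mem, len_eq_zero_of_mem_B P P.B.one_mem⟩
    | succ k ih =>
      intro hk
      obtain ⟨h1, h2'⟩ := ih (by omega)
      refine ⟨len_altL_step P haS hbS k h2' ?_, len_altL_step P hbS haS k h1 ?_⟩
      · intro i hi heqv
        have hN1 : altL a b (i + 2) ∈ P.N := altL_mem_subgroup P.N haN hbN _
        have hN2 : altL b a i ∈ P.N := altL_mem_subgroup P.N hbN haN _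
        have h3 := (mk_eq_iff P hN1 hN2).2 heqv
        rw [mk_altL P haN hbN, mk_altL P hbN haN] at h3
        have hp := key_rel hAA hBB i h3
        exact pow_ne_one_of_lt_orderOf (by omega) (by omega) hp
      · intro i hi heqv
        have hN1 : altL b a (i + 2) ∈ P.N := altL_mem_subgroup P.N hbN haN _
        have hN2 : altL a b i ∈ P.N := altL_mem_subgroup P.N haN hbN _
        have h3 := (mk_eq_iff P hN1 hN2).2 heqv
        rw [mk_altL P hbN haN, mk_altL P haN hbN] at h3
        have hp := key_rel hBB hAA i h3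
        exact pow_ne_one_of_lt_orderOf (by omega) (by rw [hBA]; omega) hp
  · have hN1 : altL a b (orderOf ((QuotientGroup.mk (⟨a, haN⟩ : P.N) : P.N ⧸ Tn P) *
        QuotientGroup.mk (⟨b, hbN⟩ : P.N))) ∈ P.N := altL_mem_subgroup P.N haN hbN _
    have hN2 : altL b a (orderOf ((QuotientGroup.mk (⟨a, haN⟩ : P.N) : P.N ⧸ Tn P) *
        QuotientGroup.mk (⟨b, hbN⟩ : P.N))) ∈ P.N := altL_mem_subgroup P.N hbN haN _
    refine (mk_eq_iff P hN1 hN2).1 ?_
    rw [mk_altL P haN hbN, mk_altL P hbN haN]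
    exact braid_of_pow hAA hBB _ (pow_orderOf_eq_one _)

end Cfsg.Agent.Lib.Helper97.FH
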