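import Mathlib
import Cfsg.Prelude.Def_GeometricClasses

/-!
# K-SLMax-D6b (helper97): the dimension of a class-6 member is a power of `r`

General fact (`finrank_eq_pow_of_irreducible`): an irreducible representation of a finite `r`-group `G` on a
finite-dimensional space over a field with a primitive `m`-th root of unity, `g ^ m = 1` for all `g`, has dimension a
power of `r`.  Induction on `|G|`: `Z` = the elements acting as scalars; if `Z = G` the dimension is `1`; otherwise pick
`g` non-scalar and central modulo `Z`; the eigenspaces of `g` are permuted by `G`, the orbit of one eigenspace `W` is an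
independent family with sum everything, and the stabiliser of `W` acts irreducibly on `W`.
-/

set_option autoImplicit false

namespace Cfsg.Agent.Lib.Helper97.SLMax

open Cfsg Cfsg.Geo
open scoped Matrix Kronecker MatrixGroups

section General

universe u v w
variable {F : Type u} [Field F] {V : Type v} [AddCommGroup V] [Module F V]
variable {G : Type w} [Group G]

theorem finrank_eq_sum_of_iSupIndep_top [FiniteDimensional F V] {ι : Type*} [Fintype ι] [DecidableEq ι] (A : ι → Submodule F V)
    (hind : iSupIndep A) (htop : iSup A = ⊤) :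
    Module.finrank F V = ∑ i, Module.finrank F (A i) := by
  have hint := DirectSum.isInternal_submodule_of_iSupIndep_of_iSup_eq_top hind htop
  have e := LinearEquiv.ofBijective (DirectSum.coeLinearMap A) hint
  rw [← e.finrank_eq, Module.finrank_directSum]

theorem exists_hasEigenvalue_of_pow_eq_one [FiniteDimensional F V] [Nontrivial V]
    {m : ℕ} (hm : 0 < m) {ζ : F} (hζ : IsPrimitiveRoot ζ m) (T : Module.End F V) (hT : T ^ m = 1) :
    ∃ μ : F, T.HasEigenvalue μ := by
  have hint : IsIntegral F T := Algebra.IsIntegral.isIntegral T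
  have hdvd : minpoly F T ∣ (Polynomial.X ^ m - Polynomial.C (1 : F) : Polynomial F) := by
    apply minpoly.dvd
    simp [hT]
  have hne : (Polynomial.X ^ m - Polynomial.C (1 : F) : Polynomial F) ≠ 0 :=
    Polynomial.X_pow_sub_C_ne_zero hm 1
  have hsplit := (Polynomial.X_pow_sub_one_splits hζ).of_dvd hne hdvd
  have hdeg : (minpoly F T).degree ≠ 0 := by
    have := minpoly.degree_pos hint
    exact ne_of_gt this
  obtain ⟨μ, hμ⟩ := hsplit.exists_eval_eq_zero hdeg
  exact ⟨μ, Module.End.hasEigenvalue_of_isRoot hμ⟩

theorem rho_inv_apply (ρ : G →* Module.End F V) (h : G) (x : V) : ρ h⁻¹ (ρ h x) = x := by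
  rw [← Module.End.mul_apply, ← map_mul, inv_mul_cancel, map_one, Module.End.one_apply]

theorem rho_apply_inv (ρ : G →* Module.End F V) (h : G) (x : V) : ρ h (ρ h⁻¹ x) = x := by
  rw [← Module.End.mul_apply, ← map_mul, mul_inv_cancel, map_one, Module.End.one_apply]

theorem rho_injective (ρ : G →* Module.End F V) (h : G) : Function.Injective (ρ h) :=
  Function.LeftInverse.injective (rho_inv_apply ρ h)

theorem map_eigenspace_of_comm (ρ : G →* Module.End F V) (g h : G) (c : F) (hc : c ≠ 0)
    (hcomm : ρ g * ρ h = c • (ρ h * ρ g)) (ν : F) :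
    (Module.End.eigenspace (ρ g) ν).map (ρ h) = Module.End.eigenspace (ρ g) (c * ν) := by
  ext x
  constructor
  · rintro ⟨y, hy, rfl⟩
    rw [SetLike.mem_coe, Module.End.mem_eigenspace_iff] at hy
    rw [Module.End.mem_eigenspace_iff]
    have := congrArg (fun T => T y) hcomm
    simp only [Module.End.mul_apply, LinearMap.smul_apply] at this
    rw [this, hy, map_smul, smul_smul]
  · intro hx
    rw [Module.End.mem_eigenspace_iff] at hx
    refine ⟨ρ h⁻¹ x, ?_, rho_apply_inv ρ h x⟩
    rw [SetLike.mem_coe, Module.End.mem_eigenspace_iff]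
    have := congrArg (fun T => T (ρ h⁻¹ x)) hcomm
    simp only [Module.End.mul_apply, LinearMap.smul_apply, rho_apply_inv] at this
    rw [hx] at this
    have h2 : ν • x = ρ h (ρ g (ρ h⁻¹ x)) := by
      have h3 : c • (ν • x) = c • ρ h (ρ g (ρ h⁻¹ x)) := by rw [smul_smul]; exact this
      exact smul_right_injective V hc h3
    apply rho_injective ρ h
    rw [← h2, map_smul, rho_apply_inv]

/-- the action of `G` on subspaces via a representation -/
@[reducible] def subAct (ρ : G →* Module.End F V) : MulAction G (Submodule F V) where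
  smul h U := U.map (ρ h)
  one_smul U := by
    show U.map (ρ 1) = U
    rw [map_one]; exact Submodule.map_id U
  mul_smul a b U := by
    show U.map (ρ (a * b)) = (U.map (ρ b)).map (ρ a)
    rw [map_mul, Module.End.mul_eq_comp, Submodule.map_comp]

/-- the subgroup of elements acting as scalars -/
def scalarSub [Nontrivial V] (ρ : G →* Module.End F V) : Subgroup G where
  carrier := {z | ∃ c : F, ρ z = c • (1 : Module.End F V)}
  one_mem' := ⟨1, by rw [map_one, one_smul]⟩
  mul_mem' := by
    rintro a b ⟨c, hc⟩ ⟨d, hd⟩
    refine ⟨c * d, ?_⟩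
    rw [map_mul, hc, hd, smul_mul_smul_comm, mul_one]
  inv_mem' := by
    rintro a ⟨c, hc⟩
    have hc0 : c ≠ 0 := by
      rintro rfl
      rw [zero_smul] at hc
      obtain ⟨x, hx⟩ := exists_ne (0 : V)
      have := rho_inv_apply ρ a x
      rw [hc] at this
      simp at this
      exact hx this.symm
    refine ⟨c⁻¹, ?_⟩
    have h1 : ρ a⁻¹ * ρ a = 1 := by rw [← map_mul, inv_mul_cancel, map_one]
    rw [hc, mul_smul_comm, mul_one] at h1
    rw [← h1, smul_smul, inv_mul_cancel₀ hc0, one_smul]

theorem mem_scalarSub [Nontrivial V] (ρ : G →* Module.End F V) (z : G) :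
    z ∈ scalarSub ρ ↔ ∃ c : F, ρ z = c • (1 : Module.End F V) := Iff.rfl

instance scalarSub_normal [Nontrivial V] (ρ : G →* Module.End F V) : (scalarSub ρ).Normal := by
  constructor
  rintro z ⟨c, hc⟩ g
  refine ⟨c, ?_⟩
  rw [map_mul, map_mul, hc, mul_smul_comm, mul_one, smul_mul_assoc, ← map_mul, mul_inv_cancel, map_one]


theorem finrank_eq_one_of_scalar [Nontrivial V] (ρ : G →* Module.End F V)
    (hirr : ∀ U : Submodule F V, (∀ g : G, ∀ x ∈ U, ρ g x ∈ U) → U = ⊥ ∨ U = ⊤)
    (hsc : ∀ g : G, ∃ c : F, ρ g = c • (1 : Module.End F V)) : Module.finrank F V = 1 := by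
  obtain ⟨v, hv⟩ := exists_ne (0 : V)
  have h1 := hirr (Submodule.span F {v}) (by
    intro g x hx
    obtain ⟨c, hc⟩ := hsc g
    rw [hc, LinearMap.smul_apply, Module.End.one_apply]
    exact Submodule.smul_mem _ c hx)
  rcases h1 with h1 | h1
  · exfalso
    apply hv
    have : v ∈ Submodule.span F {v} := Submodule.mem_span_singleton_self v
    rw [h1] at this
    exact (Submodule.mem_bot F).1 this
  · rw [← finrank_top F V, ← h1]
    exact finrank_span_singleton hv

theorem finrank_eq_pow_of_irreducible (r : ℕ) [hr : Fact r.Prime] {m : ℕ} (hm : 0 < m) {ζ : F}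
    (hζ : IsPrimitiveRoot ζ m) :
    ∀ (N : ℕ) (G : Type w) [Group G] [Finite G] (V : Type v) [AddCommGroup V] [Module F V]
      [FiniteDimensional F V] [Nontrivial V] (ρ : G →* Module.End F V), Nat.card G ≤ N → IsPGroup r G →
      (∀ g : G, g ^ m = 1) →
      (∀ U : Submodule F V, (∀ g : G, ∀ x ∈ U, ρ g x ∈ U) → U = ⊥ ∨ U = ⊤) →
      ∃ k : ℕ, Module.finrank F V = r ^ k := by
  intro N
  induction N with
  | zero =>
    intro G _ _ V _ _ _ _ ρ hcard
    exfalso
    have := Nat.card_pos (α := G)
    omega
  | succ N ih =>
    intro G _ _ V _ _ _ _ ρ hcard hp hexp hirr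
    classical
    by_cases htop : scalarSub ρ = ⊤
    · refine ⟨0, ?_⟩
      rw [pow_zero]
      apply finrank_eq_one_of_scalar ρ hirr
      intro g
      have : g ∈ scalarSub ρ := by rw [htop]; exact Subgroup.mem_top g
      exact this
    · -- a non-scalar element g, central modulo scalars
      obtain ⟨g₀, hg₀⟩ : ∃ g₀ : G, g₀ ∉ scalarSub ρ := by
        by_contra hcon
        push Not at hcon
        exact htop (eq_top_iff.2 fun x _ => hcon x)
      have hnt : Nontrivial (G ⧸ scalarSub ρ) :=
        ⟨⟨(g₀ : G ⧸ scalarSub ρ), 1, fun h => hg₀ ((QuotientGroup.eq_one_iff g₀).1 h)⟩⟩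
      have hpq : IsPGroup r (G ⧸ scalarSub ρ) := hp.to_quotient _
      have hcnt := hpq.center_nontrivial
      obtain ⟨⟨q, hq⟩, hq1⟩ := exists_ne (1 : Subgroup.center (G ⧸ scalarSub ρ))
      obtain ⟨g, rfl⟩ := QuotientGroup.mk_surjective q
      have hgZ : g ∉ scalarSub ρ := by
        intro h
        apply hq1
        apply Subtype.ext
        exact (QuotientGroup.eq_one_iff g).2 h
      have hcomm : ∀ h : G, ∃ c : F, c ≠ 0 ∧ ρ g * ρ h = c • (ρ h * ρ g) := by
        intro h
        have h1 := (Subgroup.mem_center_iff.1 hq) (h : G ⧸ scalarSub ρ)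
        rw [← QuotientGroup.mk_mul, ← QuotientGroup.mk_mul, QuotientGroup.eq] at h1
        obtain ⟨c, hc⟩ := h1
        have h2 : ρ g * ρ h = c • (ρ h * ρ g) := by
          rw [← map_mul, ← map_mul]
          have : g * h = (h * g) * ((h * g)⁻¹ * (g * h)) := by group
          rw [this, map_mul, hc, mul_smul_comm, mul_one]
        refine ⟨c, ?_, h2⟩
        rintro rfl
        rw [zero_smul] at h2
        obtain ⟨x, hx⟩ := exists_ne (0 : V)
        have := rho_inv_apply ρ (g * h) x
        rw [map_mul ρ g h, h2] at this
        simp at this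
        exact hx this.symm
      have hgm : ρ g ^ m = 1 := by rw [← map_pow, hexp g, map_one]
      obtain ⟨μ, hμ⟩ := exists_hasEigenvalue_of_pow_eq_one hm hζ (ρ g) hgm
      set W := Module.End.eigenspace (ρ g) μ with hW
      have hWbot : W ≠ ⊥ := hμ
      have hWtop : W ≠ ⊤ := by
        intro h
        apply hgZ
        refine ⟨μ, ?_⟩
        ext x
        have : x ∈ W := by rw [h]; trivial
        rw [hW, Module.End.mem_eigenspace_iff] at this
        rw [this, LinearMap.smul_apply, Module.End.one_apply]
      let _instAct := subAct ρ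
      have hsmul : ∀ (h : G) (U : Submodule F V), h • U = U.map (ρ h) := fun _ _ => rfl
      have horb : ∀ U ∈ MulAction.orbit G W, ∃ ν : F, U = Module.End.eigenspace (ρ g) ν := by
        rintro U ⟨h, rfl⟩
        obtain ⟨c, hc0, hc⟩ := hcomm h
        exact ⟨c * μ, map_eigenspace_of_comm ρ g h c hc0 hc μ⟩
      choose! cf hcf using horb
      let A : MulAction.orbit G W → Submodule F V := fun U => U.1
      have hinj : Function.Injective (fun U : MulAction.orbit G W => cf U.1) := by
        intro U U' h
        apply Subtype.ext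
        rw [hcf U.1 U.2, hcf U'.1 U'.2]
        exact congrArg _ h
      have hind : iSupIndep A := by
        have := (Module.End.eigenspaces_iSupIndep (ρ g)).comp hinj
        convert this using 1
        funext U
        exact hcf U.1 U.2
      have hsup : iSup A = ⊤ := by
        have h1 := hirr (iSup A) (by
          intro k x hx
          have : (iSup A).map (ρ k) ≤ iSup A := by
            rw [Submodule.map_iSup]
            apply iSup_le
            intro U
            have hmem : k • U.1 ∈ MulAction.orbit G W := by
              obtain ⟨h, hh⟩ := U.2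
              exact ⟨k * h, by rw [← hh]; exact mul_smul k h W⟩
            exact le_iSup_of_le ⟨k • U.1, hmem⟩ le_rfl
          exact this (Submodule.mem_map_of_mem hx))
        rcases h1 with h1 | h1
        · exfalso
          apply hWbot
          have : W ≤ iSup A := le_iSup_of_le ⟨W, MulAction.mem_orbit_self W⟩ le_rfl
          rw [h1] at this
          exact le_bot_iff.1 this
        · exact h1
      have hfinO : Finite (MulAction.orbit G W) := (Set.finite_range (fun k : G => k • W)).to_subtype
      let _instO : Fintype (MulAction.orbit G W) := Fintype.ofFinite _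
      have hdimA : ∀ U : MulAction.orbit G W, Module.finrank F (A U) = Module.finrank F W := by
        rintro ⟨U, h, rfl⟩
        exact (Submodule.equivMapOfInjective (ρ h) (rho_injective ρ h) W).finrank_eq.symm
      have hdim : Module.finrank F V = Nat.card (MulAction.orbit G W) * Module.finrank F W := by
        rw [finrank_eq_sum_of_iSupIndep_top A hind hsup, Finset.sum_congr rfl (fun U _ => hdimA U),
          Finset.sum_const, Finset.card_univ, smul_eq_mul, Nat.card_eq_fintype_card]
      obtain ⟨i, hi⟩ := hp.card_orbit W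
      set S := MulAction.stabilizer G W with hS
      have hSW : ∀ s : S, ∀ x ∈ W, ρ s.1 x ∈ W := by
        intro s x hx
        have h1 : s.1 • W = W := s.2
        have h2 : ρ s.1 x ∈ W.map (ρ s.1) := Submodule.mem_map_of_mem hx
        rw [← hsmul, h1] at h2
        exact h2
      have hSne : S ≠ ⊤ := by
        intro h
        have h1 := hirr W (by
          intro k x hx
          have hk : k ∈ S := by rw [h]; exact Subgroup.mem_top k
          exact hSW ⟨k, hk⟩ x hx)
        rcases h1 with h1 | h1
        · exact hWbot h1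
        · exact hWtop h1
      have hScard : Nat.card S ≤ N := by
        have h1 : Nat.card S ≤ Nat.card G := Subgroup.card_le_card_group S
        have h2 : Nat.card S ≠ Nat.card G := fun h => hSne ((Subgroup.card_eq_iff_eq_top S).1 h)
        omega
      let ρW : S →* Module.End F W :=
        { toFun := fun s => (ρ s.1).restrict (hSW s)
          map_one' := by
            ext x
            simp [LinearMap.restrict_apply]
          map_mul' := by
            intro a b
            ext x
            simp [LinearMap.restrict_apply, Module.End.mul_apply] }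
      have hρW : ∀ (s : S) (y : W), ((ρW s) y : V) = ρ s.1 y.1 := fun s y => rfl
      have hWnt : Nontrivial W := Submodule.nontrivial_iff_ne_bot.2 hWbot
      obtain ⟨j, hj⟩ := ih S W ρW hScard (hp.to_subgroup S) (fun s => Subtype.ext (by simp [hexp])) (by
        intro U hU
        by_contra hcon
        push Not at hcon
        obtain ⟨hUbot, hUtop⟩ := hcon
        apply hUtop
        let U' : Submodule F V := U.map W.subtype
        have hU'W : U' ≤ W := Submodule.map_subtype_le W U
        have hU'mem : ∀ y : W, y.1 ∈ U' → y ∈ U := by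
          intro y hy
          obtain ⟨y', hy', hyy'⟩ := hy
          have : y' = y := Subtype.ext hyy'
          rw [← this]; exact hy'
        have hU'bot : U' ≠ ⊥ := by
          intro h
          obtain ⟨y, hyU, hy0⟩ := (Submodule.ne_bot_iff U).1 hUbot
          apply hy0
          have h1 : y.1 ∈ U' := ⟨y, hyU, rfl⟩
          rw [h] at h1
          exact Subtype.ext ((Submodule.mem_bot F).1 h1)
        have hU'S : ∀ s : S, U'.map (ρ s.1) ≤ U' := by
          rintro s _ ⟨_, ⟨y, hy, rfl⟩, rfl⟩
          exact ⟨ρW s y, hU s y hy, rfl⟩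
        -- the sum of the translates of U' is everything
        have hT : (⨆ h : G, U'.map (ρ h)) = ⊤ := by
          have h1 := hirr (⨆ h : G, U'.map (ρ h)) (by
            intro k x hx
            have : (⨆ h : G, U'.map (ρ h)).map (ρ k) ≤ ⨆ h : G, U'.map (ρ h) := by
              rw [Submodule.map_iSup]
              apply iSup_le
              intro h
              refine le_iSup_of_le (k * h) ?_
              rw [map_mul, Module.End.mul_eq_comp, Submodule.map_comp]
            exact this (Submodule.mem_map_of_mem hx))
          rcases h1 with h1 | h1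
          · exfalso
            apply hU'bot
            have : U' ≤ ⨆ h : G, U'.map (ρ h) := by
              refine le_iSup_of_le 1 ?_
              rw [map_one]
              exact le_of_eq (Submodule.map_id U').symm
            rw [h1] at this
            exact le_bot_iff.1 this
          · exact h1
        let W₀ : MulAction.orbit G W := ⟨W, MulAction.mem_orbit_self W⟩
        have hdisj : Disjoint (A W₀) (⨆ (j : MulAction.orbit G W) (_ : j ≠ W₀), A j) := hind W₀
        have hle : (⨆ h : G, U'.map (ρ h)) ≤ U' ⊔ (⨆ (j : MulAction.orbit G W) (_ : j ≠ W₀), A j) := by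
          apply iSup_le
          intro h
          by_cases hh : h ∈ S
          · exact le_sup_of_le_left (hU'S ⟨h, hh⟩)
          · apply le_sup_of_le_right
            have hne : (⟨h • W, MulAction.mem_orbit W h⟩ : MulAction.orbit G W) ≠ W₀ := by
              intro heq
              apply hh
              exact congrArg Subtype.val heq
            refine le_iSup₂_of_le ⟨h • W, MulAction.mem_orbit W h⟩ hne ?_
            exact Submodule.map_mono hU'W
        rw [eq_top_iff]
        intro x _
        apply hU'mem
        have hx : x.1 ∈ U' ⊔ (⨆ (j : MulAction.orbit G W) (_ : j ≠ W₀), A j) := by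
          apply hle
          rw [hT]
          trivial
        obtain ⟨u, hu, t, ht, hut⟩ := Submodule.mem_sup.1 hx
        have htW : t ∈ W := by
          have : t = x.1 - u := by rw [← hut]; abel
          rw [this]
          exact W.sub_mem x.2 (hU'W hu)
        have ht0 : t = 0 := by
          have := (Submodule.disjoint_def.1 hdisj) t htW ht
          exact this
        rw [ht0, add_zero] at hut
        rw [← hut]
        exact hu)
      exact ⟨i + j, by rw [hdim, hi, hj, pow_add]⟩

end General



theorem exists_primitiveRoot_of_dvd_card_sub_one {F : Type*} [Field F] [Fintype F] {m : ℕ}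
    (h : m ∣ Fintype.card F - 1) : ∃ ζ : F, IsPrimitiveRoot ζ m := by
  obtain ⟨g, hg⟩ := IsCyclic.exists_generator (α := Fˣ)
  have hord : orderOf g = Fintype.card F - 1 := by
    rw [orderOf_eq_card_of_forall_mem_zpowers hg, Nat.card_units, Nat.card_eq_fintype_card]
  have hprim : IsPrimitiveRoot g (Fintype.card F - 1) := hord ▸ IsPrimitiveRoot.orderOf g
  obtain ⟨d, hd⟩ := h
  have hcard : 1 < Fintype.card F := Fintype.one_lt_card
  have hd0 : d ≠ 0 := by
    rintro rfl
    omega
  have hm0 : m ≠ 0 := by
    rintro rfl
    omega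
  have h1 := hprim.pow_of_dvd hd0 ⟨m, by rw [hd, mul_comm]⟩
  have h2 : (Fintype.card F - 1) / d = m := by
    rw [hd]
    exact Nat.mul_div_cancel m (Nat.pos_of_ne_zero hd0)
  rw [h2] at h1
  exact ⟨((g ^ d : Fˣ) : F), IsPrimitiveRoot.coe_units_iff.2 h1⟩

section Application

variable {F : Type*} [Field F] [Fintype F] {n : ℕ}

theorem exists_pow_eq_aux {r : ℕ} (R : Subgroup (GL (Fin n) F))
    (hR : IsLinearSymplecticTypeData r R) (hn : n ≠ 0)
    (hdvd : r * Nat.gcd 2 r ∣ Fintype.card F - 1) : ∃ k : ℕ, n = r ^ k := by
  classical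
  have hrprime := hR.symplecticType.prime
  have hfact : Fact r.Prime := ⟨hrprime⟩
  have hm : 0 < r * Nat.gcd 2 r :=
    Nat.mul_pos hrprime.pos (Nat.gcd_pos_of_pos_left r (by norm_num))
  obtain ⟨ζ, hζ⟩ := exists_primitiveRoot_of_dvd_card_sub_one hdvd
  have hne : NeZero n := ⟨hn⟩
  let ρ : R →* Module.End F (Fin n → F) :=
    { toFun := fun g => Matrix.toLin' ((g : GL (Fin n) F) : Matrix (Fin n) (Fin n) F)
      map_one' := by
        simp only [OneMemClass.coe_one, Units.val_one, Matrix.toLin'_one]
        rfl
      map_mul' := by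
        intro a b
        simp [Matrix.toLin'_mul, Module.End.mul_eq_comp] }
  have hexp : ∀ g : R, g ^ (r * Nat.gcd 2 r) = 1 := by
    intro g
    rw [← hR.symplecticType.exponent_eq]
    exact Monoid.pow_exponent_eq_one g
  have hirr : ∀ U : Submodule F (Fin n → F), (∀ g : R, ∀ x ∈ U, ρ g x ∈ U) → U = ⊥ ∨ U = ⊤ := by
    intro U hU
    apply hR.absIrred.1 U
    rintro s ⟨g, hg, rfl⟩ _ ⟨x, hx, rfl⟩
    exact hU ⟨g, hg⟩ x hx
  obtain ⟨k, hk⟩ := finrank_eq_pow_of_irreducible r hm hζ (Nat.card R) R (Fin n → F) ρ le_rfl
    hR.symplecticType.pGroup hexp hirr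
  refine ⟨k, ?_⟩
  rw [← hk, Module.finrank_fin_fun]

/-- **K-SLMax-D6b** -/
theorem exists_pow_eq_of_isLinearSymplecticTypeData {r : ℕ} (R : Subgroup (GL (Fin n) F))
    (hR : IsLinearSymplecticTypeData r R) : ∃ k : ℕ, n = r ^ k := by
  obtain ⟨p, e, hrp, hmin, hcases⟩ := hR.field
  obtain ⟨hpprime, hchar, hcardF, hzdvd, _⟩ := hmin
  have hrprime := hR.symplecticType.prime
  rcases hcases with ⟨hodd, _, hZ, m', hm', hcardR⟩ | ⟨hr2, _, hZ, hn4, m', hcardR⟩ |
    ⟨hr2, _, hn2, _⟩
  · -- `r` odd
    have hn : n ≠ 0 := by
      rintro rfl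
      have : Subsingleton (GL (Fin 0) F) := inferInstance
      have h1 : Nat.card R = 1 := Nat.card_of_subsingleton (1 : R)
      rw [h1] at hcardR
      have : 1 < r ^ (1 + 2 * m') := Nat.one_lt_pow (by omega) hrprime.one_lt
      omega
    apply exists_pow_eq_aux R hR hn
    have hg : Nat.gcd 2 r = 1 := by
      have h2 : ¬ 2 ∣ r := fun h => (Nat.not_even_iff_odd.2 hodd) (even_iff_two_dvd.2 h)
      exact (Nat.Prime.coprime_iff_not_dvd Nat.prime_two).2 h2
    rw [hg, mul_one, ← hZ, hcardF]
    exact hzdvd
  · -- `r = 2`, centre of order 4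
    have hn : n ≠ 0 := by
      rw [Fintype.card_fin] at hn4
      omega
    apply exists_pow_eq_aux R hR hn
    rw [hr2]
    have : (2 : ℕ) * Nat.gcd 2 2 = 4 := by norm_num
    rw [this, ← hZ, hcardF]
    exact hzdvd
  · -- quaternion, `n = 2`
    rw [Fintype.card_fin] at hn2
    exact ⟨1, by rw [hn2, hr2, pow_one]⟩

end Application

end Cfsg.Agent.Lib.Helper97.SLMax
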