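import Mathlib
import Cfsg.Prelude.Def_JordanBlocks
import Cfsg.Prelude.Def_LieClassical
import Cfsg.Agent.Lib.Helper73.UCDefs
import Cfsg.Agent.Lib.Helper40.GUConj

set_option autoImplicit false

/-!
# K-UC-K1 (keystone 264601): orbit-stabiliser, `|C_GL(u)| = |C_GU(u)| * #FormsInv(u)`
-/

namespace Cfsg.Agent.Lib.Helper97.UC

open Matrix Cfsg.Agent.Lib.Helper73.UC Cfsg.Agent.Lib.Helper40.GUConj

variable {K : Type*} [Field K]

section aux

variable {n : ℕ} (φ : K →+* K)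

/-- `g ↦ g* g` -/
def gram (g : GL (Fin n) K) : Matrix (Fin n) (Fin n) K :=
  adj φ (g : Matrix (Fin n) (Fin n) K) * (g : Matrix (Fin n) (Fin n) K)

theorem gram_mul (k g : GL (Fin n) K)
    (hk : adj φ (k : Matrix (Fin n) (Fin n) K) * (k : Matrix (Fin n) (Fin n) K) = 1) :
    gram φ (k * g) = gram φ g := by
  unfold gram
  rw [Units.val_mul, adj_mul]
  calc adj φ (g : Matrix (Fin n) (Fin n) K) * adj φ (k : Matrix (Fin n) (Fin n) K) *
        ((k : Matrix (Fin n) (Fin n) K) * (g : Matrix (Fin n) (Fin n) K))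
      = adj φ (g : Matrix (Fin n) (Fin n) K) *
        (adj φ (k : Matrix (Fin n) (Fin n) K) * (k : Matrix (Fin n) (Fin n) K)) *
          (g : Matrix (Fin n) (Fin n) K) := by simp only [mul_assoc]
    _ = _ := by rw [hk, mul_one]

theorem adj_mul_inv_of_gram_eq (g g' : GL (Fin n) K) (h : gram φ g = gram φ g') :
    adj φ ((g' * g⁻¹ : GL (Fin n) K) : Matrix (Fin n) (Fin n) K) *
      ((g' * g⁻¹ : GL (Fin n) K) : Matrix (Fin n) (Fin n) K) = 1 := by
  unfold gram at h
  have h1 : (g : Matrix (Fin n) (Fin n) K) * ((g⁻¹ : GL (Fin n) K) : Matrix (Fin n) (Fin n) K) = 1 := by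
    rw [← Units.val_mul, mul_inv_cancel, Units.val_one]
  rw [Units.val_mul, adj_mul]
  calc adj φ ((g⁻¹ : GL (Fin n) K) : Matrix (Fin n) (Fin n) K) *
        adj φ (g' : Matrix (Fin n) (Fin n) K) *
        ((g' : Matrix (Fin n) (Fin n) K) * ((g⁻¹ : GL (Fin n) K) : Matrix (Fin n) (Fin n) K))
      = adj φ ((g⁻¹ : GL (Fin n) K) : Matrix (Fin n) (Fin n) K) *
        (adj φ (g' : Matrix (Fin n) (Fin n) K) * (g' : Matrix (Fin n) (Fin n) K)) *
          ((g⁻¹ : GL (Fin n) K) : Matrix (Fin n) (Fin n) K) := by simp only [mul_assoc]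
    _ = (adj φ ((g⁻¹ : GL (Fin n) K) : Matrix (Fin n) (Fin n) K) *
          adj φ (g : Matrix (Fin n) (Fin n) K)) *
        ((g : Matrix (Fin n) (Fin n) K) * ((g⁻¹ : GL (Fin n) K) : Matrix (Fin n) (Fin n) K)) := by
      rw [← h]; simp only [mul_assoc]
    _ = 1 := by rw [← adj_mul, h1, adj_one, mul_one]

end aux

/-- LEAF K1 (orbit-stabiliser). -/
theorem card_centralizer_GL_eq_mul [Fintype K] {q n : ℕ} (hK : Fintype.card K = q ^ 2)
    (φ : K →+* K) (hφ : ∀ x, φ x = x ^ q) (hφφ : ∀ x, φ (φ x) = x) (u : ↥(Cfsg.GU n K q)) :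
    Nat.card {g : GL (Fin n) K // g * (u : GL (Fin n) K) = (u : GL (Fin n) K) * g} =
      Nat.card ↥(Subgroup.centralizer ({u} : Set ↥(Cfsg.GU n K q))) *
        Nat.card (FormsInv φ ((u : GL (Fin n) K) : Matrix (Fin n) (Fin n) K)) := by
  classical
  obtain ⟨φ', hφ', -, θ₀, hθ₀'⟩ := exists_frob hK
  have hθ₀ : φ θ₀ ≠ θ₀ := by rw [hφ, ← hφ']; exact hθ₀'
  set U : GL (Fin n) K := (u : GL (Fin n) K) with hU
  set Um : Matrix (Fin n) (Fin n) K := (U : Matrix (Fin n) (Fin n) K) with hUm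
  have hUU : adj φ Um * Um = 1 := (mem_GU_iff_adj φ hφ U).1 u.2
  have hUU' : Um * adj φ Um = 1 := mul_eq_one_comm.mp hUU
  -- (F1)
  have F1 : ∀ g : GL (Fin n) K, g * U = U * g → gram φ g ∈ FormsInv φ Um := by
    intro g hg
    have hgm : (g : Matrix (Fin n) (Fin n) K) * Um = Um * (g : Matrix (Fin n) (Fin n) K) := by
      have := congrArg (fun x : GL (Fin n) K => (x : Matrix (Fin n) (Fin n) K)) hg
      simpa using this
    have hgdet : (g : Matrix (Fin n) (Fin n) K).det ≠ 0 := by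
      have : IsUnit (g : Matrix (Fin n) (Fin n) K) := ⟨g, rfl⟩
      rw [Matrix.isUnit_iff_isUnit_det] at this
      exact this.ne_zero
    refine ⟨?_, ?_, ?_⟩
    · show adj φ (gram φ g) = gram φ g
      unfold gram
      rw [adj_mul, adj_adj φ hφφ]
    · unfold gram
      rw [Matrix.det_mul, det_adj]
      exact isUnit_iff_ne_zero.mpr (mul_ne_zero ((map_ne_zero φ).mpr hgdet) hgdet)
    · show adj φ Um * gram φ g * Um = gram φ g
      unfold gram
      have h1 : adj φ Um * adj φ (g : Matrix (Fin n) (Fin n) K) =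
          adj φ (g : Matrix (Fin n) (Fin n) K) * adj φ Um := by
        rw [← adj_mul, ← adj_mul, hgm]
      calc adj φ Um * (adj φ (g : Matrix (Fin n) (Fin n) K) * (g : Matrix (Fin n) (Fin n) K)) * Um
          = (adj φ Um * adj φ (g : Matrix (Fin n) (Fin n) K)) *
            ((g : Matrix (Fin n) (Fin n) K) * Um) := by simp only [mul_assoc]
        _ = adj φ (g : Matrix (Fin n) (Fin n) K) * (adj φ Um * Um) *
            (g : Matrix (Fin n) (Fin n) K) := by rw [h1, hgm]; simp only [mul_assoc]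
        _ = _ := by rw [hUU, mul_one]
  -- (F2)
  have F2 : ∀ M : Matrix (Fin n) (Fin n) K, M ∈ FormsInv φ Um →
      ∃ g : GL (Fin n) K, g * U = U * g ∧ gram φ g = M := by
    rintro M ⟨hM1, hM2, hM3⟩
    have hM1' : adj φ M = M := hM1
    have hM3' : adj φ Um * M * Um = M := hM3
    have hcomm : Commute Um M := by
      show Um * M = M * Um
      calc Um * M = Um * (adj φ Um * M * Um) := by rw [hM3']
        _ = (Um * adj φ Um) * M * Um := by simp only [mul_assoc]
        _ = M * Um := by rw [hUU', one_mul]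
    obtain ⟨C, hC, hCcomm⟩ := exists_sqrt φ hφφ θ₀ hθ₀ M hM1' hM2.ne_zero
    have hCdet : C.det ≠ 0 := by
      intro h0
      apply hM2.ne_zero
      rw [← hC, Matrix.det_mul, h0, mul_zero]
    obtain ⟨Cu, hCu⟩ := (Matrix.isUnit_iff_isUnit_det C).2 (isUnit_iff_ne_zero.mpr hCdet)
    refine ⟨Cu, ?_, ?_⟩
    · apply Units.ext
      rw [Units.val_mul, Units.val_mul, hCu]
      exact (hCcomm Um hcomm).eq.symm
    · unfold gram
      rw [hCu, hC]
  choose s hs1 hs2 using F2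
  -- the bijection
  let f : ↥(Subgroup.centralizer ({u} : Set ↥(Cfsg.GU n K q))) × ↥(FormsInv φ Um) →
      {g : GL (Fin n) K // g * U = U * g} := fun p =>
    ⟨((p.1 : ↥(Cfsg.GU n K q)) : GL (Fin n) K) * s p.2.1 p.2.2, by
      have hk : ((p.1 : ↥(Cfsg.GU n K q)) : GL (Fin n) K) * U =
          U * ((p.1 : ↥(Cfsg.GU n K q)) : GL (Fin n) K) := by
        have := Subgroup.mem_centralizer_iff.1 p.1.2 u (Set.mem_singleton u)
        exact (congrArg Subtype.val this).symm
      rw [mul_assoc, hs1 p.2.1 p.2.2, ← mul_assoc, hk, mul_assoc]⟩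
  have hgramf : ∀ p, gram φ (f p).1 = p.2.1 := by
    intro p
    show gram φ (((p.1 : ↥(Cfsg.GU n K q)) : GL (Fin n) K) * s p.2.1 p.2.2) = p.2.1
    rw [gram_mul φ _ _ ((mem_GU_iff_adj φ hφ _).1 (p.1 : ↥(Cfsg.GU n K q)).2), hs2]
  have hf : Function.Bijective f := by
    constructor
    · rintro ⟨k, M⟩ ⟨k', M'⟩ h
      have hM : M = M' := by
        apply Subtype.ext
        have h1 := hgramf (k, M)
        have h2 := hgramf (k', M')
        rw [h] at h1
        exact h1.symm.trans h2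
      subst hM
      have h3 : ((k : ↥(Cfsg.GU n K q)) : GL (Fin n) K) * s M.1 M.2 =
          ((k' : ↥(Cfsg.GU n K q)) : GL (Fin n) K) * s M.1 M.2 := congrArg Subtype.val h
      have h4 := mul_right_cancel h3
      have h5 : k = k' := Subtype.ext (Subtype.ext h4)
      rw [h5]
    · rintro ⟨g, hg⟩
      set M : ↥(FormsInv φ Um) := ⟨gram φ g, F1 g hg⟩ with hMdef
      have hkGU : g * (s M.1 M.2)⁻¹ ∈ Cfsg.GU n K q := by
        rw [mem_GU_iff_adj φ hφ]
        apply adj_mul_inv_of_gram_eq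
        rw [hs2]
      have hkU : g * (s M.1 M.2)⁻¹ * U = U * (g * (s M.1 M.2)⁻¹) := by
        have h1 : (s M.1 M.2)⁻¹ * U = U * (s M.1 M.2)⁻¹ := by
          have := hs1 M.1 M.2
          calc (s M.1 M.2)⁻¹ * U = (s M.1 M.2)⁻¹ * (U * s M.1 M.2) * (s M.1 M.2)⁻¹ := by group
            _ = (s M.1 M.2)⁻¹ * (s M.1 M.2 * U) * (s M.1 M.2)⁻¹ := by rw [this]
            _ = U * (s M.1 M.2)⁻¹ := by group
        rw [mul_assoc, h1, ← mul_assoc, hg, mul_assoc]
      have hcent : (⟨g * (s M.1 M.2)⁻¹, hkGU⟩ : ↥(Cfsg.GU n K q)) ∈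
          Subgroup.centralizer ({u} : Set ↥(Cfsg.GU n K q)) := by
        rw [Subgroup.mem_centralizer_iff]
        intro h hh
        rw [Set.mem_singleton_iff] at hh
        subst hh
        apply Subtype.ext
        exact hkU.symm
      refine ⟨(⟨⟨g * (s M.1 M.2)⁻¹, hkGU⟩, hcent⟩, M), ?_⟩
      apply Subtype.ext
      show g * (s M.1 M.2)⁻¹ * s M.1 M.2 = g
      group
  rw [← Nat.card_prod]
  exact (Nat.card_congr (Equiv.ofBijective f hf)).symm

end Cfsg.Agent.Lib.Helper97.UC
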