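import Mathlib

set_option autoImplicit false
open Matrix
open scoped ComplexOrder MatrixOrder

namespace Cfsg.Agent.Lib.Helper97.Jordan

/-- **Weyl unitarization**: a finite group of complex matrices is conjugate to a group of unitary
matrices (same traces). -/
theorem exists_unitary_hom {G : Type*} [Group G] [Finite G] {n : ℕ}
    (M : G →* Matrix (Fin n) (Fin n) ℂ) :
    ∃ U : G →* Matrix (Fin n) (Fin n) ℂ,
      (∀ g, (U g)ᴴ * U g = 1) ∧ ∀ g, (U g).trace = (M g).trace := by
  classical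
  let _ : Fintype G := Fintype.ofFinite G
  set P : Matrix (Fin n) (Fin n) ℂ := ∑ g : G, (M g)ᴴ * M g with hP
  -- `P` is positive definite
  have hPpd : P.PosDef := by
    have h1 : P = 1 + ∑ g ∈ (Finset.univ.erase (1 : G)), (M g)ᴴ * M g := by
      rw [hP, ← Finset.add_sum_erase _ _ (Finset.mem_univ (1 : G))]
      simp
    rw [h1]
    apply Matrix.PosDef.add_posSemidef Matrix.PosDef.one
    apply Matrix.posSemidef_sum
    intro g _
    exact Matrix.posSemidef_conjTranspose_mul_self _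
  -- invariance
  have hinv : ∀ h : G, (M h)ᴴ * P * M h = P := by
    intro h
    have h1 : P = ∑ g : G, (M (g * h))ᴴ * M (g * h) := by
      rw [hP]
      exact (Equiv.sum_comp (Equiv.mulRight h) (fun g => (M g)ᴴ * M g)).symm
    have h2 : (M h)ᴴ * P * M h = ∑ g : G, (M (g * h))ᴴ * M (g * h) := by
      rw [hP, Finset.mul_sum, Finset.sum_mul]
      apply Finset.sum_congr rfl
      intro g _
      rw [map_mul, Matrix.conjTranspose_mul]
      simp only [Matrix.mul_assoc]
    rw [h2, ← h1]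
  obtain ⟨B, hB⟩ := CStarAlgebra.nonneg_iff_eq_star_mul_self.mp hPpd.posSemidef.nonneg
  rw [Matrix.star_eq_conjTranspose] at hB
  have hdetP : P.det ≠ 0 := (hPpd.det_pos).ne'
  have hdetB : B.det ≠ 0 := by
    intro h0
    apply hdetP
    rw [hB, Matrix.det_mul, h0, mul_zero]
  have hBu : IsUnit B.det := isUnit_iff_ne_zero.2 hdetB
  have hBB : B * B⁻¹ = 1 := Matrix.mul_nonsing_inv B hBu
  have hBB' : B⁻¹ * B = 1 := Matrix.nonsing_inv_mul B hBu
  refine ⟨{ toFun := fun g => B * M g * B⁻¹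
            map_one' := by simp [hBB]
            map_mul' := fun g h => by
              rw [map_mul]
              calc B * (M g * M h) * B⁻¹ = B * M g * (1 : Matrix (Fin n) (Fin n) ℂ) * M h * B⁻¹ := by
                    simp [Matrix.mul_assoc]
                _ = B * M g * (B⁻¹ * B) * M h * B⁻¹ := by rw [hBB']
                _ = B * M g * B⁻¹ * (B * M h * B⁻¹) := by simp only [Matrix.mul_assoc] }, ?_, ?_⟩
  · intro g
    show (B * M g * B⁻¹)ᴴ * (B * M g * B⁻¹) = 1
    have h1 : (B * M g * B⁻¹)ᴴ * (B * M g * B⁻¹) = (B⁻¹)ᴴ * ((M g)ᴴ * (Bᴴ * B) * M g) * B⁻¹ := by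
      simp only [Matrix.conjTranspose_mul, Matrix.mul_assoc]
    rw [h1, ← hB, hinv g, hB]
    calc (B⁻¹)ᴴ * (Bᴴ * B) * B⁻¹ = ((B⁻¹)ᴴ * Bᴴ) * (B * B⁻¹) := by simp only [Matrix.mul_assoc]
      _ = (B * B⁻¹)ᴴ * (B * B⁻¹) := by rw [Matrix.conjTranspose_mul]
      _ = 1 := by rw [hBB]; simp
  · intro g
    show (B * M g * B⁻¹).trace = (M g).trace
    rw [Matrix.trace_mul_comm, ← Matrix.mul_assoc, hBB', Matrix.one_mul]

end Cfsg.Agent.Lib.Helper97.Jordan
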