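import Mathlib

/-!
# K-T3 (keystone 107403): a matrix group permuting a spanning set of vectors like a faithful
permutation group `K` is isomorphic to `K`.
-/

set_option autoImplicit false

namespace Cfsg.Agent.Lib.Helper97.TitsKey

variable {I : Type*} [Fintype I] [DecidableEq I] {F : Type*} [Field F] {X : Type*}

/-- the matrix `g` acts on the vectors `vec x` (`x ∈ R`) as the permutation `σ ∈ K` -/
def ActRel (K : Subgroup (Equiv.Perm X)) (inR : X → Prop) (vec : X → (I → F)) (g : GL I F)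
    (σ : Equiv.Perm X) : Prop :=
  σ ∈ K ∧ ∀ x, inR x → (g : Matrix I I F).mulVec (vec x) = vec (σ x)

theorem actRel_one (K : Subgroup (Equiv.Perm X)) (inR : X → Prop) (vec : X → (I → F)) :
    ActRel K inR vec 1 1 := by
  refine ⟨K.one_mem, fun x _ => ?_⟩
  rw [Units.val_one, Matrix.one_mulVec, Equiv.Perm.one_apply]

theorem actRel_mul (K : Subgroup (Equiv.Perm X)) (inR : X → Prop) (vec : X → (I → F))
    (hinv : ∀ σ ∈ K, ∀ x, inR x → inR (σ x)) {g h : GL I F} {σ τ : Equiv.Perm X}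
    (hg : ActRel K inR vec g σ) (hh : ActRel K inR vec h τ) : ActRel K inR vec (g * h) (σ * τ) := by
  refine ⟨K.mul_mem hg.1 hh.1, fun x hx => ?_⟩
  rw [Units.val_mul, ← Matrix.mulVec_mulVec, hh.2 x hx, hg.2 _ (hinv τ hh.1 x hx),
    Equiv.Perm.mul_apply]

theorem actRel_inv (K : Subgroup (Equiv.Perm X)) (inR : X → Prop) (vec : X → (I → F))
    (hinv : ∀ σ ∈ K, ∀ x, inR x → inR (σ x)) {g : GL I F} {σ : Equiv.Perm X}
    (hg : ActRel K inR vec g σ) : ActRel K inR vec g⁻¹ σ⁻¹ := by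
  refine ⟨K.inv_mem hg.1, fun x hx => ?_⟩
  have hy : inR (σ⁻¹ x) := hinv σ⁻¹ (K.inv_mem hg.1) x hx
  have h1 := hg.2 _ hy
  rw [Equiv.Perm.inv_def, Equiv.apply_symm_apply] at h1
  rw [Equiv.Perm.inv_def]
  rw [← h1, Matrix.mulVec_mulVec, ← Units.val_mul, inv_mul_cancel, Units.val_one,
    Matrix.one_mulVec]

theorem actRel_unique (K : Subgroup (Equiv.Perm X)) (inR : X → Prop) (vec : X → (I → F))
    (hinv : ∀ σ ∈ K, ∀ x, inR x → inR (σ x))
    (hinj : ∀ x y, inR x → inR y → vec x = vec y → x = y)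
    (hfaith : ∀ σ ∈ K, (∀ x, inR x → σ x = x) → σ = 1) {g : GL I F} {σ τ : Equiv.Perm X}
    (h1 : ActRel K inR vec g σ) (h2 : ActRel K inR vec g τ) : σ = τ := by
  have h3 : τ⁻¹ * σ = 1 := by
    apply hfaith _ (K.mul_mem (K.inv_mem h2.1) h1.1)
    intro x hx
    have : σ x = τ x :=
      hinj _ _ (hinv σ h1.1 x hx) (hinv τ h2.1 x hx) ((h1.2 x hx).symm.trans (h2.2 x hx))
    rw [Equiv.Perm.mul_apply, this, Equiv.Perm.inv_def, Equiv.symm_apply_apply]
  calc σ = τ * (τ⁻¹ * σ) := by group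
    _ = τ := by rw [h3, mul_one]

theorem exists_mulEquiv_of_action {I : Type*} [Fintype I] [DecidableEq I] {F : Type*} [Field F]
    {X : Type*} [Fintype X] [DecidableEq X]
    (S : Set (GL I F)) (K : Subgroup (Equiv.Perm X)) (inR : X → Prop) (vec : X → (I → F))
    (hinv : ∀ σ ∈ K, ∀ x, inR x → inR (σ x))
    (hinj : ∀ x y, inR x → inR y → vec x = vec y → x = y)
    (hspan : Submodule.span F {v : I → F | ∃ x, inR x ∧ v = vec x} = ⊤)
    (hfaith : ∀ σ ∈ K, (∀ x, inR x → σ x = x) → σ = 1)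
    (hS : ∀ A ∈ S, ∃ σ ∈ K, ∀ x, inR x → (A : Matrix I I F).mulVec (vec x) = vec (σ x))
    (hK : K ≤ Subgroup.closure {σ | σ ∈ K ∧ ∃ A ∈ S, ∀ x, inR x →
      (A : Matrix I I F).mulVec (vec x) = vec (σ x)}) :
    Nonempty (↥(Subgroup.closure S) ≃* ↥K) := by
  classical
  -- existence
  have hex : ∀ g ∈ Subgroup.closure S, ∃ σ, ActRel K inR vec g σ := by
    intro g hg
    induction hg using Subgroup.closure_induction with
    | mem A hA =>
      obtain ⟨σ, hσ, h⟩ := hS A hA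
      exact ⟨σ, hσ, h⟩
    | one => exact ⟨1, actRel_one K inR vec⟩
    | mul a b _ _ iha ihb =>
      obtain ⟨σ, hσ⟩ := iha
      obtain ⟨τ, hτ⟩ := ihb
      exact ⟨σ * τ, actRel_mul K inR vec hinv hσ hτ⟩
    | inv a _ iha =>
      obtain ⟨σ, hσ⟩ := iha
      exact ⟨σ⁻¹, actRel_inv K inR vec hinv hσ⟩
  have huniq : ∀ {g : GL I F} {σ τ : Equiv.Perm X}, ActRel K inR vec g σ → ActRel K inR vec g τ →
      σ = τ := fun h1 h2 => actRel_unique K inR vec hinv hinj hfaith h1 h2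
  let f : ↥(Subgroup.closure S) → Equiv.Perm X := fun g => Classical.choose (hex g.1 g.2)
  have hf : ∀ g : ↥(Subgroup.closure S), ActRel K inR vec g.1 (f g) :=
    fun g => Classical.choose_spec (hex g.1 g.2)
  let φ : ↥(Subgroup.closure S) →* ↥K :=
    { toFun := fun g => ⟨f g, (hf g).1⟩
      map_one' := Subtype.ext (huniq (hf 1) (actRel_one K inR vec))
      map_mul' := fun g h => Subtype.ext
        (huniq (hf (g * h)) (actRel_mul K inR vec hinv (hf g) (hf h))) }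
  have hφ : ∀ g, ((φ g : ↥K) : Equiv.Perm X) = f g := fun g => rfl
  have hinjφ : Function.Injective φ := by
    rw [injective_iff_map_eq_one]
    intro g hg
    have hg1 : f g = 1 := by rw [← hφ, hg]; rfl
    have h1 := (hf g).2
    rw [hg1] at h1
    have h2 : Matrix.toLin' ((g.1 : GL I F) : Matrix I I F) = LinearMap.id := by
      apply LinearMap.ext_on hspan
      rintro v ⟨x, hx, rfl⟩
      rw [Matrix.toLin'_apply, h1 x hx, Equiv.Perm.one_apply, LinearMap.id_apply]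
    have h3 : ((g.1 : GL I F) : Matrix I I F) = 1 := by
      apply Matrix.toLin'.injective
      rw [h2, Matrix.toLin'_one]
    apply Subtype.ext
    apply Units.ext
    exact h3
  have hsurjφ : Function.Surjective φ := by
    have hle : K ≤ (φ.range).map K.subtype := by
      refine hK.trans ?_
      rw [Subgroup.closure_le]
      rintro σ ⟨hσK, A, hA, hAσ⟩
      have hAc : A ∈ Subgroup.closure S := Subgroup.subset_closure hA
      refine ⟨φ ⟨A, hAc⟩, ⟨⟨A, hAc⟩, rfl⟩, ?_⟩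
      exact huniq (hf ⟨A, hAc⟩) ⟨hσK, hAσ⟩
    intro k
    obtain ⟨k', ⟨g, rfl⟩, hk'⟩ := hle k.2
    exact ⟨g, Subtype.ext hk'⟩
  exact ⟨MulEquiv.ofBijective φ ⟨hinjφ, hsurjφ⟩⟩

end Cfsg.Agent.Lib.Helper97.TitsKey
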