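import Mathlib
import Cfsg.Prelude.Def_Solvable
import Cfsg.Agent.Lib.Helper96.FC91Defs

/-!
# K-S4291-RD (helper97): a subgroup of `V₄` with cyclic Sylow `2`-subgroups has order at most `2`
-/

set_option autoImplicit false

namespace Cfsg.Agent.Lib.Helper97.FC91

open Cfsg.Agent.Lib.Helper96.FC91

/-- K-RD.  `A` is a 2-group, hence its own Sylow 2-subgroup, so cyclic; every element of `DihedralGroup 2` has square 1. -/
theorem card_le_two_of_dihedral (A : Subgroup (DihedralGroup 2)) (hA : ∀ P : Sylow 2 A, IsCyclic P) :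
    Nat.card A ≤ 2 := by
  have hsq : ∀ x : DihedralGroup 2, x ^ 2 = 1 := by decide
  have hcard : Nat.card (DihedralGroup 2) = 4 := by
    rw [DihedralGroup.nat_card]
  have hdvd : Nat.card A ∣ 4 := hcard ▸ Subgroup.card_subgroup_dvd_card A
  by_contra hcon
  push Not at hcon
  have h4 : Nat.card A = 4 := by
    have hle := Nat.le_of_dvd (by norm_num) hdvd
    have h3 : Nat.card A ≠ 3 := by
      intro h
      rw [h] at hdvd
      omega
    omega
  have hfact : Fact (Nat.Prime 2) := ⟨Nat.prime_two⟩
  let P : Sylow 2 A := default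
  have hP : Nat.card P = 4 := by
    rw [Sylow.card_eq_multiplicity, h4]
    have : (4 : ℕ) = 2 ^ 2 := by norm_num
    rw [this, Nat.Prime.factorization_pow Nat.prime_two]
    simp
  have hcyc := hA P
  obtain ⟨g, hg⟩ := IsCyclic.exists_generator (α := P)
  have hord : orderOf g = 4 := by rw [orderOf_eq_card_of_forall_mem_zpowers hg, hP]
  have hg2 : g ^ 2 = 1 := by
    apply Subtype.ext
    apply Subtype.ext
    simp [hsq]
  have h5 := orderOf_dvd_of_pow_eq_one hg2
  rw [hord] at h5
  omega

end Cfsg.Agent.Lib.Helper97.FC91
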