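import Mathlib
import Cfsg.Agent.Lib.Helper05.A10Defs

/-!
# K-A10-C1 (348908): `Φ_m(g) = 0` forces `orderOf g = m` in `GL₄(7)`
-/

set_option autoImplicit false

namespace Cfsg.Agent.Lib.Helper97.A10Iso

open Cfsg.Agent.Lib.Helper05.A10Iso

theorem m4_neg_one_ne_one : (-1 : M4) ≠ 1 := by decide
theorem m4_three_ne_zero : (3 : M4) ≠ 0 := by decide
theorem m4_five_ne_zero : (5 : M4) ≠ 0 := by decide
theorem m4_four_ne_one : (4 : M4) ≠ 1 := by decide
theorem m4_four_ne_nine : (4 : M4) ≠ 9 := by decide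

theorem m4_pow_two_mul (M : M4) (k : ℕ) : M ^ (k * 2) = (M ^ k) ^ 2 := pow_mul M k 2

theorem m4_two_sub (A : M4) : (2 : M4) - A = 1 - A + 1 := by
  rw [show (2 : M4) = 1 + 1 by norm_num]
  abel

theorem m4_three_sub (A : M4) : (3 : M4) - 2 * A = 1 - A + 1 - A + 1 := by
  rw [two_mul, show (3 : M4) = 1 + 1 + 1 by norm_num]
  abel

/-- order criterion for matrices whose order divides `120` -/
theorem orderOf_eq_of_mat (g : GL4) (m : ℕ) (hm : m ∣ 120) (h1 : (g : M4) ^ m = 1)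
    (h2 : 2 ∣ m → (g : M4) ^ (m / 2) ≠ 1) (h3 : 3 ∣ m → (g : M4) ^ (m / 3) ≠ 1)
    (h5 : 5 ∣ m → (g : M4) ^ (m / 5) ≠ 1) : orderOf g = m := by
  have hm0 : 0 < m := Nat.pos_of_dvd_of_pos hm (by norm_num)
  apply orderOf_eq_of_pow_and_pow_div_prime hm0
  · apply Units.ext
    rw [Units.val_pow_eq_pow_val]
    exact h1
  · intro p hp hpm hg
    have hg' : (g : M4) ^ (m / p) = 1 := by
      rw [← Units.val_pow_eq_pow_val, hg]
      rfl
    have hp120 : p ∣ 2 ^ 3 * (3 * 5) := dvd_trans hpm hm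
    rcases (Nat.Prime.dvd_mul hp).1 hp120 with h | h
    · have : p = 2 := (Nat.prime_dvd_prime_iff_eq hp Nat.prime_two).1 (hp.dvd_of_dvd_pow h)
      subst this
      exact h2 hpm hg'
    · rcases (Nat.Prime.dvd_mul hp).1 h with h | h
      · have : p = 3 := (Nat.prime_dvd_prime_iff_eq hp Nat.prime_three).1 h
        subst this
        exact h3 hpm hg'
      · have : p = 5 := (Nat.prime_dvd_prime_iff_eq hp Nat.prime_five).1 h
        subst this
        exact h5 hpm hg'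

theorem ord_case1 (g : GL4) (h : (g : M4) - 1 = 0) : orderOf g = 1 := by
  have hM : (g : M4) = 1 := sub_eq_zero.1 h
  have : g = 1 := Units.ext hM
  rw [this, orderOf_one]

theorem ord_case2 (g : GL4) (h : (g : M4) + 1 = 0) : orderOf g = 2 := by
  have hM : (g : M4) = -1 := eq_neg_of_add_eq_zero_left h
  apply orderOf_eq_of_mat g 2 (by norm_num)
  · rw [hM, neg_one_sq]
  · intro _ hh
    rw [show 2 / 2 = 1 from rfl, pow_one, hM] at hh
    exact m4_neg_one_ne_one hh
  · intro hh; norm_num at hh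
  · intro hh; norm_num at hh

theorem ord_case3 (g : GL4) (h : (g : M4) ^ 2 + (g : M4) + 1 = 0) : orderOf g = 3 := by
  apply orderOf_eq_of_mat g 3 (by norm_num)
  · have e : (g : M4) ^ 3 - 1 = ((g : M4) - 1) * ((g : M4) ^ 2 + (g : M4) + 1) := by noncomm_ring
    rw [h, mul_zero] at e
    exact sub_eq_zero.1 e
  · intro hh; norm_num at hh
  · intro _ hh
    rw [show 3 / 3 = 1 from rfl, pow_one] at hh
    rw [hh] at h
    apply m4_three_ne_zero
    rw [← h]
    norm_num
  · intro hh; norm_num at hh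

theorem ord_case4 (g : GL4) (h : (g : M4) ^ 2 + 1 = 0) : orderOf g = 4 := by
  have hM : (g : M4) ^ 2 = -1 := eq_neg_of_add_eq_zero_left h
  apply orderOf_eq_of_mat g 4 (by norm_num)
  · rw [show (g : M4) ^ 4 = ((g : M4) ^ 2) ^ 2 from m4_pow_two_mul _ 2, hM, neg_one_sq]
  · intro _ hh
    rw [show 4 / 2 = 2 from rfl, hM] at hh
    exact m4_neg_one_ne_one hh
  · intro hh; norm_num at hh
  · intro hh; norm_num at hh

theorem ord_case5 (g : GL4)
    (h : (g : M4) ^ 4 + (g : M4) ^ 3 + (g : M4) ^ 2 + (g : M4) + 1 = 0) : orderOf g = 5 := by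
  apply orderOf_eq_of_mat g 5 (by norm_num)
  · have e : (g : M4) ^ 5 - 1 = ((g : M4) - 1) *
        ((g : M4) ^ 4 + (g : M4) ^ 3 + (g : M4) ^ 2 + (g : M4) + 1) := by noncomm_ring
    rw [h, mul_zero] at e
    exact sub_eq_zero.1 e
  · intro hh; norm_num at hh
  · intro hh; norm_num at hh
  · intro _ hh
    rw [show 5 / 5 = 1 from rfl, pow_one] at hh
    rw [hh] at h
    apply m4_five_ne_zero
    rw [← h]
    norm_num

theorem ord_case6 (g : GL4) (h : (g : M4) ^ 2 - (g : M4) + 1 = 0) : orderOf g = 6 := by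
  have hM : (g : M4) ^ 3 = -1 := by
    have e : (g : M4) ^ 3 + 1 = ((g : M4) + 1) * ((g : M4) ^ 2 - (g : M4) + 1) := by noncomm_ring
    rw [h, mul_zero] at e
    exact eq_neg_of_add_eq_zero_left e
  apply orderOf_eq_of_mat g 6 (by norm_num)
  · rw [show (g : M4) ^ 6 = ((g : M4) ^ 3) ^ 2 from m4_pow_two_mul _ 3, hM, neg_one_sq]
  · intro _ hh
    rw [show 6 / 2 = 3 from rfl, hM] at hh
    exact m4_neg_one_ne_one hh
  · intro _ hh
    rw [show 6 / 3 = 2 from rfl] at hh
    rw [hh] at h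
    have hM2 : (g : M4) = 2 := by
      have e : (2 : M4) - (g : M4) = 1 - (g : M4) + 1 := m4_two_sub _
      rw [h] at e
      exact (sub_eq_zero.1 e).symm
    rw [hM2] at hh
    apply m4_four_ne_one
    rw [← hh]
    norm_num
  · intro hh; norm_num at hh

theorem ord_case8 (g : GL4) (h : (g : M4) ^ 4 + 1 = 0) : orderOf g = 8 := by
  have hM : (g : M4) ^ 4 = -1 := eq_neg_of_add_eq_zero_left h
  apply orderOf_eq_of_mat g 8 (by norm_num)
  · rw [show (g : M4) ^ 8 = ((g : M4) ^ 4) ^ 2 from m4_pow_two_mul _ 4, hM, neg_one_sq]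
  · intro _ hh
    rw [show 8 / 2 = 4 from rfl, hM] at hh
    exact m4_neg_one_ne_one hh
  · intro hh; norm_num at hh
  · intro hh; norm_num at hh

theorem ord_case10 (g : GL4)
    (h : (g : M4) ^ 4 - (g : M4) ^ 3 + (g : M4) ^ 2 - (g : M4) + 1 = 0) : orderOf g = 10 := by
  have hM : (g : M4) ^ 5 = -1 := by
    have e : (g : M4) ^ 5 + 1 = ((g : M4) + 1) *
        ((g : M4) ^ 4 - (g : M4) ^ 3 + (g : M4) ^ 2 - (g : M4) + 1) := by noncomm_ring
    rw [h, mul_zero] at e
    exact eq_neg_of_add_eq_zero_left e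
  apply orderOf_eq_of_mat g 10 (by norm_num)
  · rw [show (g : M4) ^ 10 = ((g : M4) ^ 5) ^ 2 from m4_pow_two_mul _ 5, hM, neg_one_sq]
  · intro _ hh
    rw [show 10 / 2 = 5 from rfl, hM] at hh
    exact m4_neg_one_ne_one hh
  · intro hh; norm_num at hh
  · intro _ hh
    rw [show 10 / 5 = 2 from rfl] at hh
    have h4 : (g : M4) ^ 4 = 1 := by
      rw [show (g : M4) ^ 4 = ((g : M4) ^ 2) ^ 2 from m4_pow_two_mul _ 2, hh, one_pow]
    have h3 : (g : M4) ^ 3 = (g : M4) := by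
      rw [show (g : M4) ^ 3 = (g : M4) ^ 2 * (g : M4) from pow_succ _ 2, hh, one_mul]
    rw [h4, h3, hh] at h
    have e1 : (3 : M4) = 2 * (g : M4) := by
      have e : (3 : M4) - 2 * (g : M4) = 1 - (g : M4) + 1 - (g : M4) + 1 := m4_three_sub _
      rw [h] at e
      exact sub_eq_zero.1 e
    have e2 : (2 * (g : M4)) * (2 * (g : M4)) = 4 * (g : M4) ^ 2 := by noncomm_ring
    rw [← e1, hh] at e2
    apply m4_four_ne_nine
    rw [mul_one] at e2
    rw [← e2]
    norm_num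

theorem ord_case12 (g : GL4) (h : (g : M4) ^ 4 - (g : M4) ^ 2 + 1 = 0) : orderOf g = 12 := by
  have hM : (g : M4) ^ 6 = -1 := by
    have e : (g : M4) ^ 6 + 1 = ((g : M4) ^ 2 + 1) *
        ((g : M4) ^ 4 - (g : M4) ^ 2 + 1) := by noncomm_ring
    rw [h, mul_zero] at e
    exact eq_neg_of_add_eq_zero_left e
  apply orderOf_eq_of_mat g 12 (by norm_num)
  · rw [show (g : M4) ^ 12 = ((g : M4) ^ 6) ^ 2 from m4_pow_two_mul _ 6, hM, neg_one_sq]
  · intro _ hh
    rw [show 12 / 2 = 6 from rfl, hM] at hh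
    exact m4_neg_one_ne_one hh
  · intro _ hh
    rw [show 12 / 3 = 4 from rfl] at hh
    rw [hh] at h
    have hM2 : (g : M4) ^ 2 = 2 := by
      have e : (2 : M4) - (g : M4) ^ 2 = 1 - (g : M4) ^ 2 + 1 := m4_two_sub _
      rw [h] at e
      exact (sub_eq_zero.1 e).symm
    rw [show (g : M4) ^ 4 = ((g : M4) ^ 2) ^ 2 from m4_pow_two_mul _ 2, hM2] at hh
    apply m4_four_ne_one
    rw [← hh]
    norm_num
  · intro hh; norm_num at hh

/-- **LEAF C1 (348908).** -/
theorem orderOf_of_cyc (g : GL4) (m : ℕ) (hm : m ∈ orders) (h : cyc m (g : M4) = 0) :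
    orderOf g = m := by
  simp only [orders, Finset.mem_insert, Finset.mem_singleton] at hm
  rcases hm with rfl | rfl | rfl | rfl | rfl | rfl | rfl | rfl | rfl
  · exact ord_case1 g h
  · exact ord_case2 g h
  · exact ord_case3 g h
  · exact ord_case4 g h
  · exact ord_case5 g h
  · exact ord_case6 g h
  · exact ord_case8 g h
  · exact ord_case10 g h
  · exact ord_case12 g h

end Cfsg.Agent.Lib.Helper97.A10Iso
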