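import Mathlib

set_option autoImplicit false

namespace Cfsg.Agent.Lib.Helper97

open Matrix
open scoped commutatorElement

variable {n : ℕ} {F : Type*} [Field F]

/-- fixed space of an invertible matrix -/
noncomputable def fixSp (x : Matrix.GeneralLinearGroup (Fin n) F) : Submodule F (Fin n → F) :=
  Module.End.eigenspace (Matrix.toLin' (x : Matrix (Fin n) (Fin n) F)) 1

lemma mem_fixSp (x : Matrix.GeneralLinearGroup (Fin n) F) (v : Fin n → F) :
    v ∈ fixSp x ↔ (x : Matrix (Fin n) (Fin n) F) *ᵥ v = v := by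
  unfold fixSp
  rw [Module.End.mem_eigenspace_iff, Matrix.toLin'_apply, one_smul]

lemma gl_mulVec_mul (x y : Matrix.GeneralLinearGroup (Fin n) F) (v : Fin n → F) :
    ((x * y : Matrix.GeneralLinearGroup (Fin n) F) : Matrix (Fin n) (Fin n) F) *ᵥ v
      = (x : Matrix (Fin n) (Fin n) F) *ᵥ ((y : Matrix (Fin n) (Fin n) F) *ᵥ v) := by
  rw [Units.val_mul, Matrix.mulVec_mulVec]

lemma gl_inv_mulVec_cancel (x : Matrix.GeneralLinearGroup (Fin n) F) (v : Fin n → F) :
    ((x⁻¹ : Matrix.GeneralLinearGroup (Fin n) F) : Matrix (Fin n) (Fin n) F) *ᵥ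
      ((x : Matrix (Fin n) (Fin n) F) *ᵥ v) = v := by
  rw [← gl_mulVec_mul, inv_mul_cancel, Units.val_one, Matrix.one_mulVec]

lemma gl_mulVec_inv_cancel (x : Matrix.GeneralLinearGroup (Fin n) F) (v : Fin n → F) :
    (x : Matrix (Fin n) (Fin n) F) *ᵥ
      (((x⁻¹ : Matrix.GeneralLinearGroup (Fin n) F) : Matrix (Fin n) (Fin n) F) *ᵥ v) = v := by
  rw [← gl_mulVec_mul, mul_inv_cancel, Units.val_one, Matrix.one_mulVec]

lemma gl_toLin'_injective (x : Matrix.GeneralLinearGroup (Fin n) F) :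
    Function.Injective (Matrix.toLin' (x : Matrix (Fin n) (Fin n) F)) := by
  intro v w h
  rw [Matrix.toLin'_apply, Matrix.toLin'_apply] at h
  have := congrArg (fun u => ((x⁻¹ : Matrix.GeneralLinearGroup (Fin n) F) : Matrix (Fin n) (Fin n) F) *ᵥ u) h
  simpa [gl_inv_mulVec_cancel] using this

/-- the commutator trick: the fixed space of a commutator is large -/
lemma fixSp_commutator (x y : Matrix.GeneralLinearGroup (Fin n) F) :
    2 * Module.finrank F (fixSp x) ≤ Module.finrank F (fixSp ⁅x, y⁆) + n := by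
  set U := fixSp x with hU
  set U' := U.map (Matrix.toLin' (y : Matrix (Fin n) (Fin n) F)) with hU'
  have h1 : U ⊓ U' ≤ fixSp ⁅x, y⁆ := by
    intro v hv
    obtain ⟨hv1, hv2⟩ := hv
    obtain ⟨w, hw, rfl⟩ := hv2
    rw [SetLike.mem_coe, hU, mem_fixSp] at hw hv1
    rw [mem_fixSp, commutatorElement_def, gl_mulVec_mul, gl_mulVec_mul, gl_mulVec_mul]
    rw [Matrix.toLin'_apply] at hv1 ⊢
    rw [gl_inv_mulVec_cancel]
    have hw' : ((x⁻¹ : Matrix.GeneralLinearGroup (Fin n) F) : Matrix (Fin n) (Fin n) F) *ᵥ w = w := by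
      conv_lhs => rw [← hw]
      exact gl_inv_mulVec_cancel x w
    rw [hw', hv1]
  have h2 : Module.finrank F U' = Module.finrank F U :=
    (LinearEquiv.finrank_eq (Submodule.equivMapOfInjective _ (gl_toLin'_injective y) U)).symm
  have h3 := Submodule.finrank_sup_add_finrank_inf_eq U U'
  have h4 : Module.finrank F (U ⊔ U' : Submodule F (Fin n → F)) ≤ n := by
    have := Submodule.finrank_le (U ⊔ U')
    simpa using this
  have h5 : Module.finrank F (U ⊓ U' : Submodule F (Fin n → F)) ≤ Module.finrank F (fixSp ⁅x, y⁆) :=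
    Submodule.finrank_mono h1
  omega

end Cfsg.Agent.Lib.Helper97
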