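import Mathlib
import Cfsg.Prelude.Def_GeometricClasses
import Cfsg.Agent.Lib.Helper97.CommTrick

set_option autoImplicit false

namespace Cfsg.Agent.Lib.Helper97

open Matrix

variable {n : ℕ} {F : Type*} [Field F]

/-- the stabiliser of a vector -/
def stabV (v : Fin n → F) : Subgroup (Matrix.GeneralLinearGroup (Fin n) F) where
  carrier := {x | (x : Matrix (Fin n) (Fin n) F) *ᵥ v = v}
  mul_mem' := by
    intro x y hx hy
    rw [Set.mem_ofPred_eq] at hx hy ⊢
    rw [gl_mulVec_mul, hy, hx]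
  one_mem' := by
    rw [Set.mem_ofPred_eq, Units.val_one, Matrix.one_mulVec]
  inv_mem' := by
    intro x hx
    rw [Set.mem_ofPred_eq] at hx ⊢
    conv_lhs => rw [← hx]
    exact gl_inv_mulVec_cancel x v

lemma mem_stabV (v : Fin n → F) (x : Matrix.GeneralLinearGroup (Fin n) F) :
    x ∈ stabV v ↔ (x : Matrix (Fin n) (Fin n) F) *ᵥ v = v := Iff.rfl

/-- vectors fixed by every element of `T` -/
def fixT (T : Subgroup (Matrix.GeneralLinearGroup (Fin n) F)) : Submodule F (Fin n → F) where
  carrier := {v | ∀ t ∈ T, (t : Matrix (Fin n) (Fin n) F) *ᵥ v = v}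
  add_mem' := by
    intro v w hv hw t ht
    rw [Matrix.mulVec_add, hv t ht, hw t ht]
  zero_mem' := by
    intro t _
    exact Matrix.mulVec_zero _
  smul_mem' := by
    intro c v hv t ht
    rw [Matrix.mulVec_smul, hv t ht]

lemma mem_fixT (T : Subgroup (Matrix.GeneralLinearGroup (Fin n) F)) (v : Fin n → F) :
    v ∈ fixT T ↔ ∀ t ∈ T, (t : Matrix (Fin n) (Fin n) F) *ᵥ v = v := Iff.rfl

lemma mem_fixT_iff_le (T : Subgroup (Matrix.GeneralLinearGroup (Fin n) F)) (v : Fin n → F) :
    v ∈ fixT T ↔ T ≤ stabV v := Iff.rfl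

lemma fixT_anti {T T' : Subgroup (Matrix.GeneralLinearGroup (Fin n) F)} (h : T ≤ T') :
    fixT T' ≤ fixT T := fun _ hv t ht => hv t (h ht)

/-- conjugate of a subgroup -/
def conjT (h : Matrix.GeneralLinearGroup (Fin n) F) (T : Subgroup (Matrix.GeneralLinearGroup (Fin n) F)) :
    Subgroup (Matrix.GeneralLinearGroup (Fin n) F) :=
  T.map (MulAut.conj h).toMonoidHom

lemma mem_conjT (h x : Matrix.GeneralLinearGroup (Fin n) F)
    (T : Subgroup (Matrix.GeneralLinearGroup (Fin n) F)) : x ∈ conjT h T ↔ h⁻¹ * x * h ∈ T := by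
  unfold conjT
  rw [Subgroup.mem_map_equiv, MulAut.conj_symm_apply]

lemma conjT_mono (h : Matrix.GeneralLinearGroup (Fin n) F)
    {T T' : Subgroup (Matrix.GeneralLinearGroup (Fin n) F)} (hT : T ≤ T') : conjT h T ≤ conjT h T' :=
  Subgroup.map_mono hT

lemma conjT_conjT_inv (h : Matrix.GeneralLinearGroup (Fin n) F)
    (T : Subgroup (Matrix.GeneralLinearGroup (Fin n) F)) : conjT h (conjT h⁻¹ T) = T := by
  ext x
  rw [mem_conjT, mem_conjT]
  have : h⁻¹⁻¹ * (h⁻¹ * x * h) * h⁻¹ = x := by group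
  rw [this]

lemma conjT_inv_conjT (h : Matrix.GeneralLinearGroup (Fin n) F)
    (T : Subgroup (Matrix.GeneralLinearGroup (Fin n) F)) : conjT h⁻¹ (conjT h T) = T := by
  have := conjT_conjT_inv h⁻¹ T
  rwa [inv_inv] at this

lemma map_fixT (h : Matrix.GeneralLinearGroup (Fin n) F)
    (T : Subgroup (Matrix.GeneralLinearGroup (Fin n) F)) :
    (fixT T).map (Matrix.toLin' (h : Matrix (Fin n) (Fin n) F)) = fixT (conjT h T) := by
  ext v
  constructor
  · rintro ⟨w, hw, rfl⟩
    intro t ht
    rw [mem_conjT] at ht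
    have h1 := hw _ ht
    rw [gl_mulVec_mul, gl_mulVec_mul] at h1
    rw [Matrix.toLin'_apply]
    have h2 := congrArg (fun u => (h : Matrix (Fin n) (Fin n) F) *ᵥ u) h1
    simp only [gl_mulVec_inv_cancel] at h2
    exact h2
  · intro hv
    refine ⟨((h⁻¹ : Matrix.GeneralLinearGroup (Fin n) F) : Matrix (Fin n) (Fin n) F) *ᵥ v, ?_, ?_⟩
    · intro t ht
      have h1 : h * t * h⁻¹ ∈ conjT h T := by
        rw [mem_conjT]
        have : h⁻¹ * (h * t * h⁻¹) * h = t := by group
        rwa [this]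
      have h2 := hv _ h1
      rw [gl_mulVec_mul, gl_mulVec_mul] at h2
      have h3 := congrArg (fun u => ((h⁻¹ : Matrix.GeneralLinearGroup (Fin n) F) : Matrix (Fin n) (Fin n) F) *ᵥ u) h2
      simp only [gl_inv_mulVec_cancel] at h3
      exact h3
    · rw [Matrix.toLin'_apply, gl_mulVec_inv_cancel]

lemma finrank_fixT_conjT (h : Matrix.GeneralLinearGroup (Fin n) F)
    (T : Subgroup (Matrix.GeneralLinearGroup (Fin n) F)) :
    Module.finrank F (fixT (conjT h T)) = Module.finrank F (fixT T) := by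
  rw [← map_fixT]
  exact (LinearEquiv.finrank_eq (Submodule.equivMapOfInjective _ (gl_toLin'_injective h) (fixT T))).symm

lemma fixT_conjT_ne_bot (h : Matrix.GeneralLinearGroup (Fin n) F)
    (T : Subgroup (Matrix.GeneralLinearGroup (Fin n) F)) (hT : fixT T ≠ ⊥) : fixT (conjT h T) ≠ ⊥ := by
  intro hb
  apply hT
  have h1 := finrank_fixT_conjT h T
  rw [hb, finrank_bot] at h1
  exact Submodule.finrank_eq_zero.mp h1.symm


/-- the independence of the fixed spaces of the maximal members -/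
lemma indep_fixT_maximal
    (A : Subgroup (Matrix.GeneralLinearGroup (Fin n) F))
    (hcomm : ∀ a ∈ A, ∀ b ∈ A, a * b = b * a) :
    iSupIndep (fun T : {T : Subgroup (Matrix.GeneralLinearGroup (Fin n) F) //
      Maximal (fun T => T ≤ A ∧ fixT T ≠ ⊥) T} => fixT T.1) := by
  classical
  rw [iSupIndep_iff_finsetSum_eq_zero_imp_eq_zero]
  intro s
  induction s using Finset.induction_on with
  | empty => intro v _ _ i hi; simp at hi
  | insert T₀ s hT₀ ih =>
    intro v hv hsum
    rw [Finset.sum_insert hT₀] at hsum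
    -- first show all v j with j ∈ s vanish
    have hs : ∀ j ∈ s, v j = 0 := by
      intro j hj
      have hjne : j ≠ T₀ := fun h => hT₀ (h ▸ hj)
      -- an element of T₀ not in j
      have hnle : ¬ T₀.1 ≤ j.1 := by
        intro hle
        apply hjne
        have := T₀.2.le_of_ge j.2.prop hle
        exact Subtype.ext (le_antisymm this hle)
      obtain ⟨t, htT₀, htj⟩ := SetLike.not_le_iff_exists.mp hnle
      have htA : t ∈ A := T₀.2.prop.1 htT₀
      let v' : {T : Subgroup (Matrix.GeneralLinearGroup (Fin n) F) //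
          Maximal (fun T => T ≤ A ∧ fixT T ≠ ⊥) T} → (Fin n → F) :=
        fun i => (t : Matrix (Fin n) (Fin n) F) *ᵥ v i - v i
      have hv' : ∀ i ∈ s, v' i ∈ fixT i.1 := by
        intro i hi
        have hvi := hv i (Finset.mem_insert_of_mem hi)
        refine Submodule.sub_mem _ ?_ hvi
        intro u hu
        have huA : u ∈ A := i.2.prop.1 hu
        rw [← gl_mulVec_mul, hcomm u huA t htA, gl_mulVec_mul, hvi u hu]
      have hsum' : ∑ i ∈ s, v' i = 0 := by
        show ∑ i ∈ s, ((t : Matrix (Fin n) (Fin n) F) *ᵥ v i - v i) = 0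
        rw [Finset.sum_sub_distrib, ← Matrix.mulVec_sum]
        have h1 : ∑ i ∈ s, v i = - v T₀ := by
          rw [eq_neg_iff_add_eq_zero, add_comm]; exact hsum
        rw [h1, Matrix.mulVec_neg, hv T₀ (Finset.mem_insert_self _ _) t htT₀]
        simp
      have h0 := ih v' hv' hsum' j hj
      have htv : (t : Matrix (Fin n) (Fin n) F) *ᵥ v j = v j := sub_eq_zero.mp h0
      by_contra hvj
      -- then j ⊔ ⟨t⟩ contradicts maximality
      have hjv : j.1 ≤ stabV (v j) := (mem_fixT_iff_le _ _).mp (hv j (Finset.mem_insert_of_mem hj))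
      have htv' : t ∈ stabV (v j) := htv
      let J : Subgroup (Matrix.GeneralLinearGroup (Fin n) F) := j.1 ⊔ Subgroup.zpowers t
      have hJstab : J ≤ stabV (v j) := sup_le hjv (by rwa [Subgroup.zpowers_le])
      have hJA : J ≤ A := sup_le j.2.prop.1 (by rwa [Subgroup.zpowers_le])
      have hJne : fixT J ≠ ⊥ := by
        intro hb
        have : v j ∈ fixT J := (mem_fixT_iff_le _ _).mpr hJstab
        rw [hb, Submodule.mem_bot] at this
        exact hvj this
      have hJle : J ≤ j.1 := j.2.le_of_ge ⟨hJA, hJne⟩ le_sup_left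
      exact htj (hJle (le_sup_right (a := j.1) (Subgroup.mem_zpowers t)))
    intro i hi
    rcases Finset.mem_insert.mp hi with rfl | hi
    · rw [Finset.sum_eq_zero hs, add_zero] at hsum
      exact hsum
    · exact hs i hi


/-- In an irreducible primitive linear group, non-identity elements of an abelian subgroup
normalised by the group have no non-zero fixed vectors. -/
theorem fixSp_eq_bot_of_abelian_normal [Fintype F]
    (G : Subgroup (Matrix.GeneralLinearGroup (Fin n) F))
    (hirr : Cfsg.Geo.ActsIrreducibly (Cfsg.Geo.matrixSet G))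
    (hprim : ∀ (m t : ℕ) (D : Fin t → Submodule F (Fin n → F)), 2 ≤ t →
      Cfsg.Geo.IsMDecomposition m D → ¬ G ≤ Cfsg.Geo.decompositionStabilizer D)
    (A : Subgroup (Matrix.GeneralLinearGroup (Fin n) F))
    (hnorm : ∀ h ∈ G, ∀ a ∈ A, h * a * h⁻¹ ∈ A)
    (hcomm : ∀ a ∈ A, ∀ b ∈ A, a * b = b * a)
    (a : Matrix.GeneralLinearGroup (Fin n) F) (ha : a ∈ A) (ha1 : a ≠ 1) : fixSp a = ⊥ := by
  classical
  by_contra hne
  let PT : Subgroup (Matrix.GeneralLinearGroup (Fin n) F) → Prop := fun T => T ≤ A ∧ fixT T ≠ ⊥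
  -- irreducibility in a convenient form
  have hirr' : ∀ W : Submodule F (Fin n → F),
      (∀ h ∈ G, W.map (Matrix.toLin' (h : Matrix (Fin n) (Fin n) F)) ≤ W) → W = ⊥ ∨ W = ⊤ := by
    intro W hW
    apply hirr W
    rintro s ⟨h, hh, rfl⟩
    exact hW h hh
  -- conjugation preserves PT
  have hPTconj : ∀ h ∈ G, ∀ T, PT T → PT (conjT h T) := by
    intro h hh T hT
    refine ⟨?_, fixT_conjT_ne_bot h T hT.2⟩
    intro x hx
    rw [mem_conjT] at hx
    have h1 := hnorm h hh _ (hT.1 hx)
    have h2 : h * (h⁻¹ * x * h) * h⁻¹ = x := by group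
    rwa [h2] at h1
  have hMaxconj : ∀ h ∈ G, ∀ T, Maximal PT T → Maximal PT (conjT h T) := by
    intro h hh T hT
    refine ⟨hPTconj h hh T hT.prop, ?_⟩
    intro T' hT' hle
    have h1 : T ≤ conjT h⁻¹ T' := by
      have := conjT_mono h⁻¹ hle
      rwa [conjT_inv_conjT] at this
    have h2 := hT.le_of_ge (hPTconj h⁻¹ (G.inv_mem hh) T' hT') h1
    have h3 := conjT_mono h h2
    rwa [conjT_conjT_inv] at h3
  -- a maximal member above ⟨a⟩
  have hza : PT (Subgroup.zpowers a) := by
    refine ⟨by rwa [Subgroup.zpowers_le], ?_⟩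
    intro hb
    apply hne
    rw [eq_bot_iff]
    intro v hv
    rw [mem_fixSp] at hv
    have h1 : Subgroup.zpowers a ≤ stabV v := by rwa [Subgroup.zpowers_le]
    have h2 : v ∈ fixT (Subgroup.zpowers a) := (mem_fixT_iff_le _ _).mpr h1
    rwa [hb] at h2
  obtain ⟨T₀, haT₀, hT₀max⟩ := Finite.exists_le_maximal (p := PT) hza
  have hind := indep_fixT_maximal A hcomm
  -- the sum over an orbit is everything
  have horb : ∀ T, Maximal PT T → ⨆ h : G, fixT (conjT h.1 T) = ⊤ := by
    intro T hT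
    have h1 := hirr' (⨆ h : G, fixT (conjT h.1 T)) (by
      intro k hk
      rw [Submodule.map_iSup]
      apply iSup_le
      intro h
      rw [map_fixT]
      have : conjT k (conjT h.1 T) = conjT (k * h.1) T := by
        ext x
        simp only [mem_conjT]
        have : h.1⁻¹ * (k⁻¹ * x * k) * h.1 = (k * h.1)⁻¹ * x * (k * h.1) := by group
        rw [this]
      rw [this]
      exact le_iSup (fun h : G => fixT (conjT h.1 T)) ⟨k * h.1, G.mul_mem hk h.2⟩)
    rcases h1 with h1 | h1
    · exfalso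
      have h2 : fixT (conjT (1 : G).1 T) ≤ ⊥ := h1 ▸ le_iSup (fun h : G => fixT (conjT h.1 T)) 1
      exact fixT_conjT_ne_bot _ T hT.prop.2 (eq_bot_iff.mpr h2)
    · exact h1
  -- transitivity on the maximal members
  have htrans : ∀ T₁ T₂, Maximal PT T₁ → Maximal PT T₂ → ∃ h ∈ G, conjT h T₁ = T₂ := by
    intro T₁ T₂ hT₁ hT₂
    by_contra hcon
    push Not at hcon
    have h1 := (iSupIndep_def.mp hind) ⟨T₂, hT₂⟩
    have h2 : fixT T₂ ≤ ⨆ j : {T // Maximal PT T}, ⨆ (_ : j ≠ ⟨T₂, hT₂⟩), fixT j.1 := by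
      calc fixT T₂ ≤ ⊤ := le_top
        _ = ⨆ h : G, fixT (conjT h.1 T₁) := (horb T₁ hT₁).symm
        _ ≤ _ := by
          apply iSup_le
          intro h
          have hj : (⟨conjT h.1 T₁, hMaxconj h.1 h.2 T₁ hT₁⟩ : {T // Maximal PT T}) ≠ ⟨T₂, hT₂⟩ := by
            intro heq
            exact hcon h.1 h.2 (congrArg Subtype.val heq)
          exact le_iSup₂ (f := fun (j : {T // Maximal PT T}) (_ : j ≠ ⟨T₂, hT₂⟩) => fixT j.1)
            ⟨conjT h.1 T₁, hMaxconj h.1 h.2 T₁ hT₁⟩ hj
    exact hT₂.prop.2 (h1.eq_bot_of_le h2)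
  -- if there is only one maximal member, it is trivial
  by_cases hone : ∀ T, Maximal PT T → T = T₀
  · have h1 := horb T₀ hT₀max
    have h2 : ∀ h : G, fixT (conjT h.1 T₀) = fixT T₀ := by
      intro h
      rw [hone _ (hMaxconj h.1 h.2 T₀ hT₀max)]
    simp only [h2] at h1
    have : Nonempty G := ⟨1⟩
    rw [iSup_const] at h1
    -- so a acts trivially
    apply ha1
    have haT : a ∈ T₀ := haT₀ (Subgroup.mem_zpowers a)
    have h3 : ∀ v : Fin n → F, (a : Matrix (Fin n) (Fin n) F) *ᵥ v = v := by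
      intro v
      have : v ∈ fixT T₀ := h1 ▸ Submodule.mem_top
      exact this a haT
    apply Units.ext
    rw [Units.val_one]
    apply Matrix.toLin'.injective
    refine LinearMap.ext fun v => ?_
    rw [Matrix.toLin'_apply, h3 v, Matrix.toLin'_one, LinearMap.id_apply]
  · push Not at hone
    obtain ⟨T₁, hT₁max, hT₁ne⟩ := hone
    -- build the decomposition
    let Tmax := {T // Maximal PT T}
    have : Nontrivial Tmax := ⟨⟨⟨T₁, hT₁max⟩, ⟨T₀, hT₀max⟩, fun h => hT₁ne (congrArg Subtype.val h)⟩⟩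
    let t := Nat.card Tmax
    have ht : 2 ≤ t := Finite.one_lt_card_iff_nontrivial.mpr inferInstance
    let e : Fin t ≃ Tmax := (Finite.equivFin Tmax).symm
    let D : Fin t → Submodule F (Fin n → F) := fun i => fixT (e i).1
    let m := Module.finrank F (fixT T₀)
    have hD : Cfsg.Geo.IsMDecomposition m D := by
      refine ⟨ht, ?_, ?_, ?_, ?_⟩
      · rw [Nat.pos_iff_ne_zero]
        intro h0
        exact hT₀max.prop.2 (Submodule.finrank_eq_zero.mp h0)
      · intro i
        obtain ⟨h, hh, hconj⟩ := htrans T₀ (e i).1 hT₀max (e i).2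
        show Module.finrank F (fixT (e i).1) = Module.finrank F (fixT T₀)
        rw [← hconj, finrank_fixT_conjT]
      · exact hind.comp e.injective
      · show ⨆ i, fixT (e i).1 = ⊤
        rw [Equiv.iSup_comp (g := fun T : Tmax => fixT T.1) e]
        rw [eq_top_iff, ← horb T₀ hT₀max]
        apply iSup_le
        intro h
        exact le_iSup (fun T : Tmax => fixT T.1) ⟨conjT h.1 T₀, hMaxconj h.1 h.2 T₀ hT₀max⟩
    apply hprim m t D ht hD
    intro h hh
    let c : Tmax ≃ Tmax :=
      { toFun := fun T => ⟨conjT h T.1, hMaxconj h hh T.1 T.2⟩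
        invFun := fun T => ⟨conjT h⁻¹ T.1, hMaxconj h⁻¹ (G.inv_mem hh) T.1 T.2⟩
        left_inv := fun T => Subtype.ext (conjT_inv_conjT h T.1)
        right_inv := fun T => Subtype.ext (conjT_conjT_inv h T.1) }
    refine ⟨(e.trans c).trans e.symm, fun i => ?_⟩
    show (fixT (e i).1).map (Matrix.toLin' (h : Matrix (Fin n) (Fin n) F)) =
      fixT (e (((e.trans c).trans e.symm) i)).1
    rw [map_fixT]
    simp only [Equiv.trans_apply, Equiv.apply_symm_apply]
    rfl

end Cfsg.Agent.Lib.Helper97
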