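import Mathlib
import Cfsg.Agent.Lib.Helper44.Decomp
import Cfsg.Agent.Lib.Helper44.UniqSylA

/-!
# K-S2221-C: a Sylow 2-subgroup of `Perm (Fin (2^r))` is indecomposable

A Sylow 2-subgroup of the symmetric group of degree `2^r` is transitive and, for `r ≥ 1`, its centre
has order 2 (generated by the fixed-point-free involution it centralizes).
-/

set_option autoImplicit false

namespace Cfsg.Agent.Lib.Helper97.AltDec

open Equiv Equiv.Perm
open Cfsg.Agent.Lib.Helper44.Dec Cfsg.Agent.Lib.Helper44.UniqSyl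

universe u

/-- a fixed-point-free involution has exactly half as many orbits as points -/
lemma card_eq_two_mul_card_PQ {α : Type u} [Finite α] {ι : Perm α} (hι : FPF ι) :
    Nat.card α = 2 * Nat.card (PQ ι) := by
  classical
  haveI := Fintype.ofFinite α
  haveI := Fintype.ofFinite (PQ ι)
  rw [Nat.card_eq_fintype_card, Nat.card_eq_fintype_card]
  have h1 : Fintype.card α =
      ∑ q : PQ ι, (Finset.univ.filter (fun v : α => pmk ι v = q)).card := by
    rw [← Finset.card_univ]
    exact Finset.card_eq_sum_card_fiberwise (fun v _ => Finset.mem_univ _)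
  have h2 : ∀ q : PQ ι, (Finset.univ.filter (fun v : α => pmk ι v = q)).card = 2 := by
    intro q
    obtain ⟨v, rfl⟩ := pmk_surjective ι q
    have hset : Finset.univ.filter (fun w : α => pmk ι w = pmk ι v) = {v, ι v} := by
      ext w
      simp only [Finset.mem_filter, Finset.mem_univ, true_and, Finset.mem_insert,
        Finset.mem_singleton]
      rw [eq_comm, pmk_eq_iff hι.sq]
    rw [hset, Finset.card_pair]
    exact fun h => hι.ne v h.symm
  rw [h1, Finset.sum_congr rfl (fun q _ => h2 q), Finset.sum_const, Finset.card_univ,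
    smul_eq_mul, mul_comm]

/-- a Sylow 2-subgroup of the symmetric group of degree `2^r` is transitive -/
theorem sylow_trans (r : ℕ) : ∀ (α : Type u) [Fintype α] [DecidableEq α],
    Fintype.card α = 2 ^ r → ∀ (T : Sylow 2 (Perm α)) (a b : α), ∃ g ∈ T, g a = b := by
  induction r with
  | zero =>
    intro α _ _ hc T a b
    have hs : Subsingleton α := Fintype.card_le_one_iff_subsingleton.mp (by rw [hc]; simp)
    exact ⟨1, one_mem _, Subsingleton.elim _ _⟩
  | succ r ih =>
    intro α _ _ hc T a b
    have heven : Even (Fintype.card α) := by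
      rw [hc, pow_succ]
      exact even_two.mul_left _
    obtain ⟨ι, hι, hT⟩ := exists_fpf heven T
    obtain ⟨R, hR⟩ := sylow_proj hι.sq T hT
    haveI : Fintype (PQ ι) := Fintype.ofFinite _
    haveI : DecidableEq (PQ ι) := Classical.decEq _
    have hcq : Fintype.card (PQ ι) = 2 ^ r := by
      have h := card_eq_two_mul_card_PQ hι
      rw [Nat.card_eq_fintype_card, Nat.card_eq_fintype_card, hc, pow_succ] at h
      omega
    obtain ⟨ρ, hρ, hρab⟩ := ih (PQ ι) hcq R (pmk ι a) (pmk ι b)
    obtain ⟨g, rfl⟩ := piHom_surjective hι ρ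
    have hgT : (g : Perm α) ∈ T := by
      show (g : Perm α) ∈ (T : Subgroup (Perm α))
      rw [hR, mem_liftK]
      exact ⟨g.2, hρ⟩
    rw [piHom_pmk, pmk_eq_iff hι.sq] at hρab
    rcases hρab with h | h
    · exact ⟨g, hgT, h.symm⟩
    · refine ⟨swap ((g : Perm α) a) (ι ((g : Perm α) a)) * g, ?_, ?_⟩
      · refine mul_mem ?_ hgT
        show _ ∈ (T : Subgroup (Perm α))
        rw [hR]
        exact swap_mem_liftK hι.sq _ _
      · rw [Perm.mul_apply, Equiv.swap_apply_left, h]

/-- the centre of a Sylow 2-subgroup of the symmetric group of degree `2^(r+1)` -/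
theorem center_char (r : ℕ) (α : Type u) [Fintype α] [DecidableEq α]
    (hc : Fintype.card α = 2 ^ (r + 1)) (T : Sylow 2 (Perm α)) :
    ∃ ι : Perm α, ι ∈ T ∧ ι ≠ 1 ∧ (∀ g ∈ T, g * ι = ι * g) ∧
      ∀ z ∈ T, (∀ g ∈ T, g * z = z * g) → z = 1 ∨ z = ι := by
  have heven : Even (Fintype.card α) := by
    rw [hc, pow_succ]
    exact even_two.mul_left _
  obtain ⟨ι, hι, hT⟩ := exists_fpf heven T
  obtain ⟨R, hR⟩ := sylow_proj hι.sq T hT
  have hswap : ∀ v : α, swap v (ι v) ∈ T := by
    intro v
    show _ ∈ (T : Subgroup (Perm α))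
    rw [hR]
    exact swap_mem_liftK hι.sq _ _
  refine ⟨ι, ?_, ?_, ?_, ?_⟩
  · show ι ∈ (T : Subgroup (Perm α))
    rw [hR, mem_liftK]
    refine ⟨mem_cent.mpr rfl, ?_⟩
    have h1 : piHom ι ⟨ι, mem_cent.mpr rfl⟩ = 1 := by
      rw [piHom_eq_one_iff hι.sq]
      intro v
      exact Or.inr rfl
    rw [h1]
    exact one_mem _
  · intro h1
    have hpos : 0 < Fintype.card α := by rw [hc]; positivity
    obtain ⟨v⟩ := Fintype.card_pos_iff.mp hpos
    apply hι.ne v
    rw [h1, Perm.one_apply]
  · intro g hg
    exact mem_cent.mp (hT g hg)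
  · intro z hzT hz
    have hpt : ∀ v : α, z v = v ∨ z v = ι v := by
      intro v
      by_contra hcon
      push_neg at hcon
      have h1 := congrArg (fun e : Perm α => e v) (hz _ (hswap v))
      simp only [Perm.mul_apply, Equiv.swap_apply_left] at h1
      rw [Equiv.swap_apply_of_ne_of_ne hcon.1 hcon.2] at h1
      exact hι.ne v (z.injective h1).symm
    by_cases hfix : ∃ v, z v = v
    · obtain ⟨v, hv⟩ := hfix
      left
      ext w
      obtain ⟨g, hg, rfl⟩ := sylow_trans (r + 1) α hc T v w
      have h1 := congrArg (fun e : Perm α => e v) (hz g hg)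
      simp only [Perm.mul_apply] at h1
      rw [Perm.one_apply, ← h1, hv]
    · right
      push_neg at hfix
      ext v
      rcases hpt v with h | h
      · exact absurd h (hfix v)
      · exact h

/-- the centre of a Sylow 2-subgroup of the symmetric group of degree `2^(r+1)` has order 2 -/
theorem card_center_sylow (r : ℕ) (α : Type u) [Fintype α] [DecidableEq α]
    (hc : Fintype.card α = 2 ^ (r + 1)) (T : Sylow 2 (Perm α)) :
    Nat.card ↥(Subgroup.center ↥(T : Subgroup (Perm α))) = 2 := by
  obtain ⟨ι, hιT, hι1, hιc, hall⟩ := center_char r α hc T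
  have hιcen : (⟨ι, hιT⟩ : ↥(T : Subgroup (Perm α))) ∈
      Subgroup.center ↥(T : Subgroup (Perm α)) := by
    rw [Subgroup.mem_center_iff]
    intro g
    apply Subtype.ext
    exact hιc g.1 g.2
  rw [Nat.card_eq_two_iff]
  refine ⟨1, ⟨⟨ι, hιT⟩, hιcen⟩, ?_, ?_⟩
  · intro h
    apply hι1
    have := congrArg (fun c : ↥(Subgroup.center ↥(T : Subgroup (Perm α))) => ((c : ↥(T : Subgroup (Perm α))) : Perm α)) h
    simpa using this.symm
  · ext c
    simp only [Set.mem_insert_iff, Set.mem_singleton_iff, Set.mem_univ, iff_true]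
    have hcz : ∀ g ∈ T, g * ((c : ↥(T : Subgroup (Perm α))) : Perm α) =
        ((c : ↥(T : Subgroup (Perm α))) : Perm α) * g := by
      intro g hg
      have := (Subgroup.mem_center_iff.mp c.2) ⟨g, hg⟩
      exact congrArg Subtype.val this
    rcases hall _ c.1.2 hcz with h | h
    · left
      apply Subtype.ext
      apply Subtype.ext
      exact h
    · right
      apply Subtype.ext
      apply Subtype.ext
      exact h

/-- **K-S2221-C.** A Sylow 2-subgroup of `Perm (Fin (2^r))` is indecomposable. -/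
theorem sylow_perm_indecomp (N r : ℕ) (hN : N = 2 ^ r)
    (T : Sylow 2 (Perm (Fin N))) : ¬ Decomp ↥(T : Subgroup (Perm (Fin N))) := by
  subst hN
  rcases r with _ | r
  · rintro ⟨S₁, S₂, h1, -⟩
    apply h1
    haveI : Subsingleton (Perm (Fin (2 ^ 0))) := by
      rw [pow_zero]
      infer_instance
    exact Subsingleton.elim _ _
  · haveI : Fact (Nat.Prime 2) := ⟨Nat.prime_two⟩
    apply not_decomp_of_card_center 2 T.isPGroup'
    exact card_center_sylow r (Fin (2 ^ (r + 1))) (Fintype.card_fin _) T

end Cfsg.Agent.Lib.Helper97.AltDec
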