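import Mathlib
import Cfsg.Prelude.Def_GeometricClasses
import Cfsg.Agent.Lib.Helper04.AschE3b
import Cfsg.Agent.Lib.Helper46.AschODefs
import Cfsg.Agent.Lib.Helper46.AschOBasic
import Cfsg.Agent.Lib.Helper63.AschB6
import Cfsg.Agent.Lib.Helper19.AschOSS

/-!
# K-S5673-F33 (helper97): `q = 3`, tensor factors of dimension `3`: the frame of the tensor basis
-/

set_option autoImplicit false
set_option linter.unusedSectionVars false

namespace Cfsg.Agent.Lib.Helper97.AschO

open Cfsg Cfsg.Geo Cfsg.Agent.Lib.Helper46.AschO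
open Cfsg.Agent.Lib.Helper04.Asch (pureAt PT ptGL permMat PT_apply PT_mul PT_one permMat_mul_apply)
open scoped Matrix Kronecker MatrixGroups

set_option maxRecDepth 100000 in
theorem z3_fact1 : ∀ v : Fin 3 → ZMod 3, v 0 * v 0 + v 1 * v 1 + v 2 * v 2 = 1 →
    ∃ i, v i ≠ 0 ∧ ∀ j, j ≠ i → v j = 0 := by decide

set_option maxRecDepth 100000 in
theorem z3_fact1' : ∀ v : Fin 3 → ZMod 3, v 0 * v 0 + v 1 * v 1 + v 2 * v 2 = 2 →
    ∃ i, v i = 0 := by decide

set_option maxRecDepth 1000000 in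
theorem z3_fact2 : ∀ v w : Fin 3 → ZMod 3, v 0 * v 0 + v 1 * v 1 + v 2 * v 2 = 2 →
    w 0 * w 0 + w 1 * w 1 + w 2 * w 2 = 2 → v 0 * w 0 + v 1 * w 1 + v 2 * w 2 = 0 →
    ∀ i, v i = 0 → w i = 0 := by decide

theorem z3_cases : ∀ z : ZMod 3, z ≠ 0 → z = 1 ∨ z = 2 := by decide

section Tools

variable {F : Type*} [Field F] [Fintype F]

/-- (ii): over the field with three elements, a `3 × 3` matrix with `yᵀ y` a non-zero scalar is monomial -/
theorem monomial_of_transpose_mul_self (hq : Fintype.card F = 3) (y : Matrix (Fin 3) (Fin 3) F) (c : F)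
    (hc : c ≠ 0) (hy : yᵀ * y = c • (1 : Matrix (Fin 3) (Fin 3) F)) :
    ∃ (π : Equiv.Perm (Fin 3)) (lam : Fin 3 → F), (∀ p, lam p ≠ 0) ∧
      ∀ q p, y q p = if q = π p then lam p else 0 := by
  classical
  let ψ : F ≃+* ZMod 3 := (ZMod.ringEquivOfPrime F Nat.prime_three hq).symm
  let v : Fin 3 → Fin 3 → ZMod 3 := fun p q => ψ (y q p)
  have hdot : ∀ p p', v p 0 * v p' 0 + v p 1 * v p' 1 + v p 2 * v p' 2 = if p = p' then ψ c else 0 := by
    intro p p'
    have h1 : (yᵀ * y) p p' = (c • (1 : Matrix (Fin 3) (Fin 3) F)) p p' := by rw [hy]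
    rw [Matrix.mul_apply, Fin.sum_univ_three] at h1
    simp only [Matrix.transpose_apply, Matrix.smul_apply, Matrix.one_apply, smul_eq_mul] at h1
    have h2 := congrArg ψ h1
    simp only [map_add, map_mul] at h2
    rw [h2]
    split_ifs <;> simp
  have hψc : ψ c ≠ 0 := fun h => hc ((map_eq_zero_iff ψ ψ.injective).1 h)
  rcases z3_cases (ψ c) hψc with h1 | h2
  · -- each column has exactly one non-zero entry
    have hcol : ∀ p, ∃ i, v p i ≠ 0 ∧ ∀ j, j ≠ i → v p j = 0 := by
      intro p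
      apply z3_fact1
      rw [hdot p p, if_pos rfl, h1]
    choose π₀ hπ₀ using hcol
    have hinj : Function.Injective π₀ := by
      intro p p' hpp'
      by_contra hne
      have h3 := hdot p p'
      rw [if_neg hne] at h3
      have h4 : v p 0 * v p' 0 + v p 1 * v p' 1 + v p 2 * v p' 2 = v p (π₀ p) * v p' (π₀ p) := by
        have h5 : ∑ j, v p j * v p' j = v p (π₀ p) * v p' (π₀ p) := by
          apply Finset.sum_eq_single
          · intro j _ hj
            rw [(hπ₀ p).2 j hj, zero_mul]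
          · intro h; exact absurd (Finset.mem_univ _) h
        rw [Fin.sum_univ_three] at h5
        exact h5
      rw [h4] at h3
      rcases mul_eq_zero.1 h3 with h6 | h6
      · exact (hπ₀ p).1 h6
      · rw [hpp'] at h6
        exact (hπ₀ p').1 h6
    refine ⟨Equiv.ofBijective π₀ (Finite.injective_iff_bijective.1 hinj), fun p => y (π₀ p) p, ?_, ?_⟩
    · intro p h
      apply (hπ₀ p).1
      show ψ (y (π₀ p) p) = 0
      have h' : y (π₀ p) p = 0 := h
      rw [h', map_zero]
    · intro q p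
      by_cases hqp : q = π₀ p
      · rw [Equiv.ofBijective_apply, if_pos hqp, hqp]
      · rw [Equiv.ofBijective_apply, if_neg hqp]
        have h3 : ψ (y q p) = 0 := (hπ₀ p).2 q hqp
        exact (map_eq_zero_iff ψ ψ.injective).1 h3
  · -- impossible: a row of `y` vanishes
    exfalso
    have hn : ∀ p, v p 0 * v p 0 + v p 1 * v p 1 + v p 2 * v p 2 = 2 := by
      intro p
      rw [hdot p p, if_pos rfl, h2]
    obtain ⟨i₀, hi₀⟩ := z3_fact1' (v 0) (hn 0)
    have h01 : v 1 i₀ = 0 := z3_fact2 (v 0) (v 1) (hn 0) (hn 1)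
      (by rw [hdot 0 1, if_neg (by decide)]) i₀ hi₀
    have h02 : v 2 i₀ = 0 := z3_fact2 (v 0) (v 2) (hn 0) (hn 2)
      (by rw [hdot 0 2, if_neg (by decide)]) i₀ hi₀
    have hrow : ∀ p, y i₀ p = 0 := by
      intro p
      have : ψ (y i₀ p) = 0 := by
        fin_cases p
        · exact hi₀
        · exact h01
        · exact h02
      exact (map_eq_zero_iff ψ ψ.injective).1 this
    have hdet : y.det = 0 := Matrix.det_eq_zero_of_row_eq_zero i₀ hrow
    have h3 : (yᵀ * y).det = 0 := by rw [Matrix.det_mul, hdet, mul_zero]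
    rw [hy, Matrix.det_smul, Matrix.det_one, mul_one, Fintype.card_fin] at h3
    exact hc (pow_eq_zero_iff (by norm_num) |>.1 h3)

/-- (L2) a pure tensor equal to a non-zero scalar has scalar factors -/
theorem PT_eq_smul_one {t : ℕ} (A : Fin t → Matrix (Fin 3) (Fin 3) F) (s : F) (hs : s ≠ 0)
    (h : PT A = s • (1 : Matrix (Fin t → Fin 3) (Fin t → Fin 3) F)) :
    ∀ j, ∃ c : F, c ≠ 0 ∧ A j = c • (1 : Matrix (Fin 3) (Fin 3) F) := by
  classical
  intro j
  let a₀ : Fin t → Fin 3 := fun _ => 0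
  let r : F := ∏ i ∈ Finset.univ.erase j, A i 0 0
  have hkey : ∀ p q : Fin 3, A j p q * r = if p = q then s else 0 := by
    intro p q
    have h1 : PT A (Function.update a₀ j p) (Function.update a₀ j q) =
        (s • (1 : Matrix (Fin t → Fin 3) (Fin t → Fin 3) F)) (Function.update a₀ j p)
          (Function.update a₀ j q) := by rw [h]
    rw [PT_apply,
      ← Finset.mul_prod_erase Finset.univ _ (Finset.mem_univ j)] at h1
    simp only [Function.update_self, Matrix.smul_apply, Matrix.one_apply, smul_eq_mul] at h1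
    have h2 : ∏ i ∈ Finset.univ.erase j, A i (Function.update a₀ j p i) (Function.update a₀ j q i) = r := by
      apply Finset.prod_congr rfl
      intro i hi
      rw [Function.update_of_ne (Finset.ne_of_mem_erase hi), Function.update_of_ne (Finset.ne_of_mem_erase hi)]
    rw [h2] at h1
    rw [h1]
    by_cases hpq : p = q
    · rw [if_pos hpq, if_pos (by rw [hpq]), mul_one]
    · rw [if_neg hpq, if_neg, mul_zero]
      intro heq
      apply hpq
      have := congrFun heq j
      simpa using this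
  have hr : r ≠ 0 := by
    intro h0
    have := hkey 0 0
    rw [h0, mul_zero, if_pos rfl] at this
    exact hs this.symm
  refine ⟨s / r, div_ne_zero hs hr, ?_⟩
  ext p q
  rw [Matrix.smul_apply, Matrix.one_apply, smul_eq_mul]
  have := hkey p q
  by_cases hpq : p = q
  · rw [if_pos hpq] at this ⊢
    rw [mul_one, eq_div_iff hr]
    exact this
  · rw [if_neg hpq] at this ⊢
    rw [mul_zero]
    rcases mul_eq_zero.1 this with h1 | h1
    · exact h1
    · exact absurd h1 hr


theorem PT_transpose {t m : ℕ} (A : Fin t → Matrix (Fin m) (Fin m) F) :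
    (PT A)ᵀ = PT (fun i => (A i)ᵀ) := by
  ext a b
  simp [PT_apply, Matrix.transpose_apply]

theorem PT_smul {t m : ℕ} (c : Fin t → F) (A : Fin t → Matrix (Fin m) (Fin m) F) :
    PT (fun i => c i • A i) = (∏ i, c i) • PT A := by
  ext a b
  simp [PT_apply, Matrix.smul_apply, Finset.prod_mul_distrib]

theorem gram_conj_apply {ι : Type*} [Fintype ι] (M G : Matrix ι ι F) (a b : ι) :
    (Mᵀ * G * M) a b = ∑ x, ∑ y, M x a * G x y * M y b := by
  rw [Matrix.mul_apply]
  simp only [Matrix.mul_apply, Matrix.transpose_apply, Finset.sum_mul]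
  rw [Finset.sum_comm]

/-- the columns of a product `permMat σ * PT u * PT T` -/
theorem permMat_PT_PT_apply {t m : ℕ} (σ : Equiv.Perm (Fin t)) (um Tm : Fin t → Matrix (Fin m) (Fin m) F)
    (x a : Fin t → Fin m) :
    ((permMat m σ : Matrix (Fin t → Fin m) (Fin t → Fin m) F) * PT um * PT Tm) x a =
      PT (fun j => um (σ.symm j) * Tm (σ.symm j)) x (a ∘ σ.symm) := by
  rw [mul_assoc, PT_mul, permMat_mul_apply, PT_apply, PT_apply]
  exact Fintype.prod_equiv σ _ _ (fun j => by simp)


end Tools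

section Frame

variable {F : Type*} [Field F] {n : ℕ}

/-- the `j`-th column of `B` -/
def colv (B : GL (Fin n) F) (j : Fin n) : Fin n → F := (B : Matrix (Fin n) (Fin n) F) *ᵥ Pi.single j 1

/-- the frame of lines spanned by the columns of `B` -/
def frameD (B : GL (Fin n) F) (j : Fin n) : Submodule F (Fin n → F) := Submodule.span F {colv B j}

theorem mulVec_injective_GL (B : GL (Fin n) F) :
    Function.Injective (fun x : Fin n → F => (B : Matrix (Fin n) (Fin n) F) *ᵥ x) := by
  intro x y hxy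
  have h1 : ((B⁻¹ : GL (Fin n) F) : Matrix (Fin n) (Fin n) F) *ᵥ ((B : Matrix (Fin n) (Fin n) F) *ᵥ x) =
      ((B⁻¹ : GL (Fin n) F) : Matrix (Fin n) (Fin n) F) *ᵥ ((B : Matrix (Fin n) (Fin n) F) *ᵥ y) :=
    congrArg _ hxy
  rwa [Matrix.mulVec_mulVec, Matrix.mulVec_mulVec, ← Units.val_mul, inv_mul_cancel, Units.val_one,
    Matrix.one_mulVec, Matrix.one_mulVec] at h1

theorem colv_ne_zero (B : GL (Fin n) F) (j : Fin n) : colv B j ≠ 0 := by
  intro h
  have h1 : (B : Matrix (Fin n) (Fin n) F) *ᵥ Pi.single j 1 = (B : Matrix (Fin n) (Fin n) F) *ᵥ 0 := by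
    rw [Matrix.mulVec_zero]; exact h
  have h2 := mulVec_injective_GL B h1
  have h3 := congrFun h2 j
  simp at h3

theorem isMDecomposition_frameD (hn : 2 ≤ n) (B : GL (Fin n) F) : IsMDecomposition 1 (frameD B) := by
  have hli : LinearIndependent F (colv B) := by
    have h1 : LinearIndependent F (fun j : Fin n => (Pi.single j 1 : Fin n → F)) := by
      have := (Pi.basisFun F (Fin n)).linearIndependent
      convert this using 1
      funext j
      rw [Pi.basisFun_apply]
    have hker : LinearMap.ker (Matrix.toLin' (B : Matrix (Fin n) (Fin n) F)) = ⊥ := by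
      rw [LinearMap.ker_eq_bot]
      intro x y hxy
      exact mulVec_injective_GL B hxy
    exact h1.map' (Matrix.toLin' (B : Matrix (Fin n) (Fin n) F)) hker
  refine ⟨hn, one_pos, fun i => finrank_span_singleton (colv_ne_zero B i), ?_, ?_⟩
  · exact hli.iSupIndep_span_singleton
  · have h1 : (⨆ i, frameD B i) = Submodule.span F (Set.range (colv B)) := by
      rw [Submodule.span_range_eq_iSup]
      rfl
    rw [h1, eq_top_iff]
    intro x _
    have hx : x = (B : Matrix (Fin n) (Fin n) F) *ᵥ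
        (((B⁻¹ : GL (Fin n) F) : Matrix (Fin n) (Fin n) F) *ᵥ x) := by
      rw [Matrix.mulVec_mulVec, ← Units.val_mul, mul_inv_cancel, Units.val_one, Matrix.one_mulVec]
    rw [hx]
    set z := ((B⁻¹ : GL (Fin n) F) : Matrix (Fin n) (Fin n) F) *ᵥ x with hz
    have hzsum : z = ∑ j, z j • (Pi.single j 1 : Fin n → F) := by
      funext i
      simp [Finset.sum_apply, Pi.single_apply]
    rw [hzsum, Matrix.mulVec_sum]
    apply Submodule.sum_mem
    intro j _
    rw [Matrix.mulVec_smul]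
    exact Submodule.smul_mem _ _ (Submodule.subset_span ⟨j, rfl⟩)

theorem mem_decompositionStabilizer_frameD (B k : GL (Fin n) F) (π : Equiv.Perm (Fin n)) (μ : Fin n → F)
    (hμ : ∀ j, μ j ≠ 0)
    (h : ∀ j, (k : Matrix (Fin n) (Fin n) F) *ᵥ colv B j = μ j • colv B (π j)) :
    k ∈ decompositionStabilizer (frameD B) := by
  refine ⟨π, fun i => ?_⟩
  unfold frameD
  rw [Submodule.map_span, Set.image_singleton, Matrix.toLin'_apply, h i]
  exact Submodule.span_singleton_smul_eq (IsUnit.mk0 _ (hμ i)) _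

theorem isOrthogonalMDecomposition_frameD (hn : 2 ≤ n) (Q : (Fin n → F) → F)
    (hQ : IsNondegenerateQuadraticForm Q) (h2 : (2 : F) ≠ 0) (B : GL (Fin n) F) (ε : F) (hε : ε ≠ 0)
    (horth : ∀ i j, QuadraticMap.polar Q (colv B i) (colv B j) = if i = j then ε else 0) :
    IsOrthogonalMDecomposition Q 1 (frameD B) := by
  have hbl := hQ.polar_bilinear
  refine ⟨⟨isMDecomposition_frameD hn B, ?_, ?_⟩, ?_⟩
  · intro i w hw hw0
    obtain ⟨c, rfl⟩ := Submodule.mem_span_singleton.1 hw
    have hc : c ≠ 0 := by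
      rintro rfl
      exact hw0 (zero_smul _ _)
    refine ⟨⟨colv B i, Submodule.mem_span_singleton_self _, ?_⟩,
      ⟨colv B i, Submodule.mem_span_singleton_self _, ?_⟩⟩
    · rw [hbl.smul_right, horth i i, if_pos rfl]
      exact mul_ne_zero hc hε
    · rw [hbl.smul_left, horth i i, if_pos rfl]
      exact mul_ne_zero hc hε
  · intro i j hij u hu v hv
    obtain ⟨c, rfl⟩ := Submodule.mem_span_singleton.1 hu
    obtain ⟨c', rfl⟩ := Submodule.mem_span_singleton.1 hv
    rw [hbl.smul_left, hbl.smul_right, horth i j, if_neg hij, mul_zero, mul_zero]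
  · intro i j
    have hQc : ∀ l, Q (colv B l) = ε / 2 := by
      intro l
      have := two_mul_Q hQ (colv B l)
      rw [horth l l, if_pos rfl] at this
      rw [eq_div_iff h2, mul_comm]
      exact this
    let ei : F ≃ₗ[F] frameD B i :=
      LinearEquiv.toSpanNonzeroSingleton F (Fin n → F) (colv B i) (colv_ne_zero B i)
    let ej : F ≃ₗ[F] frameD B j :=
      LinearEquiv.toSpanNonzeroSingleton F (Fin n → F) (colv B j) (colv_ne_zero B j)
    refine ⟨ei.symm.trans ej, fun w => ?_⟩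
    obtain ⟨c, hc⟩ : ∃ c : F, w = ei c := ⟨ei.symm w, (ei.apply_symm_apply w).symm⟩
    subst hc
    have h1 : ((ei c : frameD B i) : Fin n → F) = c • colv B i := rfl
    have h3 : (((ei.symm.trans ej) (ei c) : frameD B j) : Fin n → F) = c • colv B j := by
      rw [LinearEquiv.trans_apply, ei.symm_apply_apply]
      rfl
    rw [h3, h1, hQ.smul, hQ.smul, hQc, hQc]

end Frame


section Main

variable {F : Type*} [Field F] [Fintype F] {n : ℕ}

theorem two_ne_zero_of_card_three' (hq : Fintype.card F = 3) : (2 : F) ≠ 0 := by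
  let ψ : F ≃+* ZMod 3 := (ZMod.ringEquivOfPrime F Nat.prime_three hq).symm
  intro h
  have h1 : ψ (2 : F) = 0 := by rw [h, map_zero]
  rw [map_ofNat] at h1
  exact absurd h1 (by decide)

/-- K-S5673-F33. -/
theorem ogeom_of_tensor_three (hq : Fintype.card F = 3) (Q : (Fin n → F) → F)
    (hQ : IsNondegenerateQuadraticForm Q)
    (K : Subgroup (GL (Fin n) F)) (hK : K ≤ quadSimilarityGroup Q) (t : ℕ) (ht : 2 ≤ t)
    (e : Fin n ≃ (Fin t → Fin 3)) (P : GL (Fin n) F) (g : Fin t → Matrix (Fin 3) (Fin 3) F)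
    (hsymm : ∀ i, (g i)ᵀ = g i) (hunit : ∀ i, IsUnit (g i))
    (hform : ∀ x y : (Fin t → Fin 3) → F,
      QuadraticMap.polar Q ((P : Matrix (Fin n) (Fin n) F) *ᵥ (x ∘ e))
        ((P : Matrix (Fin n) (Fin n) F) *ᵥ (y ∘ e)) = ∑ a, ∑ b, x a * PT g a b * y b)
    (hnf : ∀ k ∈ K, ∃ (σ : Equiv.Perm (Fin t)) (u : Fin t → GL (Fin 3) F) (d : F), d ≠ 0 ∧
      (k : Matrix (Fin n) (Fin n) F) = d • ((P : Matrix (Fin n) (Fin n) F) * Matrix.reindex e.symm e.symm
        ((permMat 3 σ : Matrix (Fin t → Fin 3) (Fin t → Fin 3) F) *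
          PT (fun i => (u i : Matrix (Fin 3) (Fin 3) F))) *
        ((P⁻¹ : GL (Fin n) F) : Matrix (Fin n) (Fin n) F))) :
    OGeom Q K := by
  classical
  have h2 : (2 : F) ≠ 0 := two_ne_zero_of_card_three' hq
  have hbl := hQ.polar_bilinear
  have hn : 2 ≤ n := by
    have h1 := Fintype.card_congr e
    rw [Fintype.card_fin, Fintype.card_fun, Fintype.card_fin, Fintype.card_fin] at h1
    rw [h1]
    calc 2 ≤ 3 ^ 1 := by norm_num
      _ ≤ 3 ^ t := Nat.pow_le_pow_right (by norm_num) (by omega)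
  -- (i) normalise the factor forms
  have hSS : ∀ i, ∃ (T : GL (Fin 3) F) (ε : F), ε ≠ 0 ∧
      (T : Matrix (Fin 3) (Fin 3) F)ᵀ * g i * (T : Matrix (Fin 3) (Fin 3) F) =
        ε • (1 : Matrix (Fin 3) (Fin 3) F) := fun i =>
    Cfsg.Agent.Lib.Helper19.AschO.exists_similar h2 3 (by decide) (g i) 1 (hsymm i)
      Matrix.transpose_one (hunit i) isUnit_one
  choose T ε hε hT using hSS
  set Tm : Fin t → Matrix (Fin 3) (Fin 3) F := fun i => (T i : Matrix (Fin 3) (Fin 3) F) with hTm
  set εt : F := ∏ i, ε i with hεt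
  have hεt0 : εt ≠ 0 := Finset.prod_ne_zero_iff.2 (fun i _ => hε i)
  have hTgram : (PT Tm)ᵀ * PT g * PT Tm = εt • (1 : Matrix (Fin t → Fin 3) (Fin t → Fin 3) F) := by
    rw [PT_transpose, PT_mul, PT_mul]
    have : (fun i => (Tm i)ᵀ * g i * Tm i) = fun i => ε i • (1 : Matrix (Fin 3) (Fin 3) F) := by
      funext i
      exact hT i
    rw [this, PT_smul, PT_one]
  -- the frame
  let Φ : ((Fin t → Fin 3) → F) → (Fin n → F) := fun x => (P : Matrix (Fin n) (Fin n) F) *ᵥ (x ∘ e)
  have hΦsmul : ∀ (c : F) (x : (Fin t → Fin 3) → F), Φ (c • x) = c • Φ x := by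
    intro c x
    show (P : Matrix (Fin n) (Fin n) F) *ᵥ ((c • x) ∘ e) = c • ((P : Matrix (Fin n) (Fin n) F) *ᵥ (x ∘ e))
    rw [← Matrix.mulVec_smul]
    rfl
  have hΦform : ∀ (M N : Matrix (Fin t → Fin 3) (Fin t → Fin 3) F) (a b : Fin t → Fin 3),
      QuadraticMap.polar Q (Φ (fun x => M x a)) (Φ (fun x => N x b)) =
        ∑ x, ∑ y, M x a * PT g x y * N y b := fun M N a b => hform _ _
  let B : GL (Fin n) F := P * glReindex e.symm (ptGL T)
  have hcol : ∀ j, colv B j = Φ (fun x => PT Tm x (e j)) := by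
    intro j
    show ((P * glReindex e.symm (ptGL T) : GL (Fin n) F) : Matrix (Fin n) (Fin n) F) *ᵥ Pi.single j 1 =
      (P : Matrix (Fin n) (Fin n) F) *ᵥ ((fun x => PT Tm x (e j)) ∘ e)
    rw [Units.val_mul, ← Matrix.mulVec_mulVec, Cfsg.Agent.Lib.Helper63.Asch.coe_glReindex,
      Matrix.mulVec_single_one]
    rfl
  have horth : ∀ i j, QuadraticMap.polar Q (colv B i) (colv B j) = if i = j then εt else 0 := by
    intro i j
    rw [hcol, hcol, hΦform, ← gram_conj_apply, hTgram, Matrix.smul_apply, Matrix.one_apply, smul_eq_mul]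
    by_cases hij : i = j
    · rw [if_pos hij, if_pos (by rw [hij]), mul_one]
    · rw [if_neg hij, if_neg (fun h => hij (e.injective h)), mul_zero]
  have hprime : (Fintype.card F).Prime := by rw [hq]; exact Nat.prime_three
  refine ⟨decompositionStabilizer (frameD B), Or.inr (Or.inr (Or.inr (Or.inl
    ⟨n, frameD B, hprime, isOrthogonalMDecomposition_frameD hn Q hQ h2 B εt hεt0 horth, rfl⟩))), ?_⟩
  -- the elements of `K` are monomial in the frame
  intro k hk
  obtain ⟨σ, u, d, hd, hkval⟩ := hnf k hk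
  obtain ⟨c₀, hc₀⟩ := hK hk
  set um : Fin t → Matrix (Fin 3) (Fin 3) F := fun i => (u i : Matrix (Fin 3) (Fin 3) F) with hum
  set vm : Fin t → Matrix (Fin 3) (Fin 3) F := fun j => um (σ.symm j) * Tm (σ.symm j) with hvm
  -- action of `k` on `Φ`
  have hkΦ : ∀ x : (Fin t → Fin 3) → F, (k : Matrix (Fin n) (Fin n) F) *ᵥ Φ x =
      d • Φ (((permMat 3 σ : Matrix (Fin t → Fin 3) (Fin t → Fin 3) F) * PT um) *ᵥ x) := by
    intro x
    show (k : Matrix (Fin n) (Fin n) F) *ᵥ ((P : Matrix (Fin n) (Fin n) F) *ᵥ (x ∘ e)) = _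
    rw [hkval, Matrix.smul_mulVec, Matrix.mulVec_mulVec, mul_assoc, mul_assoc, ← Units.val_mul,
      inv_mul_cancel, Units.val_one, mul_one, ← Matrix.mulVec_mulVec, Matrix.reindex_apply,
      Matrix.submatrix_mulVec_equiv]
    simp only [Equiv.symm_symm]
    have hcomp : (x ∘ ⇑e) ∘ ⇑e.symm = x := by
      funext z
      simp
    rw [hcomp]
  have hkW : ∀ a : Fin t → Fin 3, (k : Matrix (Fin n) (Fin n) F) *ᵥ Φ (fun x => PT Tm x a) =
      d • Φ (fun x => PT vm x (a ∘ σ.symm)) := by
    intro a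
    rw [hkΦ]
    congr 2
    funext x
    have h1 : (((permMat 3 σ : Matrix (Fin t → Fin 3) (Fin t → Fin 3) F) * PT um) *ᵥ
        (fun x => PT Tm x a)) x =
        ((permMat 3 σ : Matrix (Fin t → Fin 3) (Fin t → Fin 3) F) * PT um * PT Tm) x a := by
      rw [Matrix.mul_apply]
      rfl
    rw [h1, permMat_PT_PT_apply]
  -- the Gram relation
  set A : Fin t → Matrix (Fin 3) (Fin 3) F := fun j => (vm j)ᵀ * g j * vm j with hA
  have hd2 : d * d ≠ 0 := mul_ne_zero hd hd
  have hPTA : PT A = ((c₀ : F) * εt / (d * d)) • (1 : Matrix (Fin t → Fin 3) (Fin t → Fin 3) F) := by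
    ext a' b'
    have h1 := Cfsg.Agent.Lib.Helper46.AschO.polar_similarity hc₀
      (Φ (fun x => PT Tm x (a' ∘ σ))) (Φ (fun x => PT Tm x (b' ∘ σ)))
    rw [hkW, hkW, hbl.smul_left, hbl.smul_right, hΦform, hΦform, ← gram_conj_apply, ← gram_conj_apply,
      hTgram] at h1
    have ha' : (a' ∘ σ) ∘ σ.symm = a' := by funext i; simp
    have hb' : (b' ∘ σ) ∘ σ.symm = b' := by funext i; simp
    rw [ha', hb', PT_transpose, PT_mul, PT_mul] at h1
    have h3 : PT A a' b' = (c₀ : F) * (εt • (1 : Matrix (Fin t → Fin 3) (Fin t → Fin 3) F)) (a' ∘ σ) (b' ∘ σ)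
        / (d * d) := by
      rw [eq_div_iff hd2, ← h1]
      ring
    rw [h3, Matrix.smul_apply, Matrix.smul_apply, Matrix.one_apply, Matrix.one_apply, smul_eq_mul,
      smul_eq_mul]
    have hiff : (a' ∘ σ = b' ∘ σ) ↔ a' = b' := by
      constructor
      · intro h
        rw [← ha', ← hb', h]
      · intro h; rw [h]
    by_cases hab : a' = b'
    · rw [if_pos hab, if_pos (hiff.2 hab)]
      ring
    · rw [if_neg hab, if_neg (fun h => hab (hiff.1 h))]
      ring
  have hs0 : (c₀ : F) * εt / (d * d) ≠ 0 := div_ne_zero (mul_ne_zero c₀.ne_zero hεt0) hd2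
  have hAj := PT_eq_smul_one A _ hs0 hPTA
  choose s hs hAs using hAj
  -- the monomial matrices
  set y : Fin t → Matrix (Fin 3) (Fin 3) F :=
    fun j => ((T j)⁻¹ : GL (Fin 3) F) * vm j with hy
  have hvy : ∀ j, vm j = Tm j * y j := by
    intro j
    rw [hy]
    show vm j = (T j : Matrix (Fin 3) (Fin 3) F) * (((T j)⁻¹ : GL (Fin 3) F) * vm j)
    rw [← mul_assoc, ← Units.val_mul, mul_inv_cancel, Units.val_one, one_mul]
  have hyy : ∀ j, (y j)ᵀ * y j = (s j / ε j) • (1 : Matrix (Fin 3) (Fin 3) F) := by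
    intro j
    have h1 := hAs j
    rw [hA] at h1
    simp only at h1
    rw [hvy j, Matrix.transpose_mul] at h1
    have h3 : (y j)ᵀ * (Tm j)ᵀ * g j * (Tm j * y j) = (y j)ᵀ * ((Tm j)ᵀ * g j * Tm j) * y j := by
      simp only [mul_assoc]
    rw [h3, hT j, Matrix.mul_smul, Matrix.smul_mul, mul_one] at h1
    rw [div_eq_inv_mul, mul_smul, ← h1, smul_smul, inv_mul_cancel₀ (hε j), one_smul]
  have hmono := fun j => monomial_of_transpose_mul_self hq (y j) (s j / ε j)
    (div_ne_zero (hs j) (hε j)) (hyy j)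
  choose π lam hlam hylam using hmono
  have hvm_apply : ∀ j q p, vm j q p = Tm j q (π j p) * lam j p := by
    intro j q p
    rw [hvy j, Matrix.mul_apply]
    simp only [hylam j, mul_ite, mul_zero]
    rw [Finset.sum_ite_eq']
    simp
  have hPTvm : ∀ c : Fin t → Fin 3, (fun x => PT vm x c) =
      (∏ j, lam j (c j)) • (fun x => PT Tm x (fun j => π j (c j))) := by
    intro c
    funext x
    rw [Pi.smul_apply, smul_eq_mul, PT_apply, PT_apply]
    simp only [hvm_apply]
    rw [Finset.prod_mul_distrib, mul_comm]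
  -- conclusion
  let ρ : Equiv.Perm (Fin n) :=
    (e.trans ((σ.arrowCongr (Equiv.refl (Fin 3))).trans (Equiv.piCongrRight π))).trans e.symm
  have hρ : ∀ j, e (ρ j) = fun i => π i ((e j ∘ σ.symm) i) := by
    intro j
    simp only [ρ, Equiv.trans_apply, Equiv.apply_symm_apply, Equiv.arrowCongr_apply, Equiv.coe_refl,
      Function.id_comp]
    rfl
  refine mem_decompositionStabilizer_frameD B k ρ
    (fun j => d * ∏ i, lam i ((e j ∘ σ.symm) i)) ?_ ?_
  · intro j
    exact mul_ne_zero hd (Finset.prod_ne_zero_iff.2 (fun i _ => hlam i _))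
  · intro j
    rw [hcol, hcol, hkW, hPTvm, hΦsmul, smul_smul, hρ]

end Main

end Cfsg.Agent.Lib.Helper97.AschO
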