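import Mathlib

set_option autoImplicit false

namespace Cfsg.Agent.Lib.Helper97.Deg2

/-- linear facts extracted from one orbit triple `(a, e, k)`. -/
def TripleFact (n k c : ℕ) : Prop :=
  1 ≤ k ∧ ((c + k = n ∧ (n = 2 * k ∨ n = 3 * k ∨ 4 * k ≤ n)) ∨
    (2 * c + 2 * k = n ∧ (n = 4 * k ∨ n = 6 * k ∨ n = 8 * k ∨ n = 10 * k ∨ 12 * k ≤ n)))

theorem tripleFact_of (n a e k : ℕ) (ha : 2 ≤ a) (he : e = 1 ∨ e = 2) (hk : 1 ≤ k)
    (hn : n = k * e * a) : TripleFact n k (k * (a - 1)) := by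
  obtain ⟨a', rfl⟩ : ∃ a', a = a' + 2 := ⟨a - 2, by omega⟩
  have hc : k * (a' + 2 - 1) = k * a' + k := by
    have : a' + 2 - 1 = a' + 1 := by omega
    rw [this]; ring
  rw [hc]
  refine ⟨hk, ?_⟩
  rcases he with rfl | rfl
  · left
    have hn' : n = k * a' + 2 * k := by rw [hn]; ring
    refine ⟨by omega, ?_⟩
    rcases Nat.lt_or_ge a' 1 with h | h
    · left
      have : a' = 0 := by omega
      subst this; omega
    · rcases Nat.lt_or_ge a' 2 with h2 | h2
      · right; left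
        have : a' = 1 := by omega
        subst this; omega
      · right; right
        have : k * 2 ≤ k * a' := Nat.mul_le_mul_left k h2
        omega
  · right
    have hn' : n = 2 * (k * a') + 4 * k := by rw [hn]; ring
    refine ⟨by omega, ?_⟩
    rcases Nat.lt_or_ge a' 4 with h | h
    · interval_cases a' <;> omega
    · right; right; right; right
      have : k * 4 ≤ k * a' := Nat.mul_le_mul_left k h
      omega

theorem TripleFact.four_mul_ge {n k c : ℕ} (h : TripleFact n k c) : n ≤ 4 * c := by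
  unfold TripleFact at h
  omega

theorem arith_one (n k c : ℕ) (hx : TripleFact n k c) (hk : k ≠ 1) (hsum : n = 1 + c) : False := by
  unfold TripleFact at hx
  omega

theorem arith_two (n k₁ c₁ k₂ c₂ : ℕ) (hx : TripleFact n k₁ c₁) (hy : TripleFact n k₂ c₂)
    (hk₁ : k₁ ≠ 1) (hk₂ : k₂ ≠ 1) (h12 : n ≠ 12) (hsum : n = 1 + (c₁ + c₂)) : False := by
  unfold TripleFact at hx hy
  obtain ⟨hkx, ⟨hx1, hx2⟩ | ⟨hx1, hx2⟩⟩ := hx <;> obtain ⟨hky, ⟨hy1, hy2⟩ | ⟨hy1, hy2⟩⟩ := hy
  · omega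
  · rcases hx2 with h | h | h <;> rcases hy2 with h' | h' | h' | h' | h' <;> omega
  · rcases hy2 with h | h | h <;> rcases hx2 with h' | h' | h' | h' | h' <;> omega
  · omega

set_option maxHeartbeats 2000000 in
theorem arith_three (n k₁ c₁ k₂ c₂ k₃ c₃ : ℕ) (hx : TripleFact n k₁ c₁) (hy : TripleFact n k₂ c₂)
    (hz : TripleFact n k₃ c₃)
    (hk₁ : k₁ ≠ 1) (hk₂ : k₂ ≠ 1) (hk₃ : k₃ ≠ 1) (h12 : n ≠ 12) (h24 : n ≠ 24) (h60 : n ≠ 60)
    (hsum : n = 1 + (c₁ + (c₂ + c₃))) : False := by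
  have fx := hx.four_mul_ge
  have fy := hy.four_mul_ge
  have fz := hz.four_mul_ge
  unfold TripleFact at hx hy hz
  obtain ⟨hkx, ⟨hx1, hx2⟩ | ⟨hx1, hx2⟩⟩ := hx
  · omega
  obtain ⟨hky, ⟨hy1, hy2⟩ | ⟨hy1, hy2⟩⟩ := hy
  · omega
  obtain ⟨hkz, ⟨hz1, hz2⟩ | ⟨hz1, hz2⟩⟩ := hz
  · omega
  rcases hx2 with h | h | h | h | h <;> rcases hy2 with h' | h' | h' | h' | h' <;>
    rcases hz2 with h'' | h'' | h'' | h'' | h'' <;> omega

/-- The arithmetic behind the classification of finite subgroups of `PGL₂(ℂ)`. -/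
theorem arith_list {ι : Type*} (L : List ι) (a e k : ι → ℕ) (n : ℕ) (hn : 2 ≤ n)
    (ha : ∀ i ∈ L, 2 ≤ a i) (he : ∀ i ∈ L, e i = 1 ∨ e i = 2) (hk : ∀ i ∈ L, 1 ≤ k i)
    (hnk : ∀ i ∈ L, n = k i * e i * a i)
    (hsum : n = 1 + (L.map (fun i => k i * (a i - 1))).sum) :
    n = 12 ∨ n = 24 ∨ n = 60 ∨ ∃ i ∈ L, k i = 1 := by
  have hT : ∀ i ∈ L, TripleFact n (k i) (k i * (a i - 1)) := fun i hi =>
    tripleFact_of n (a i) (e i) (k i) (ha i hi) (he i hi) (hk i hi) (hnk i hi)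
  by_contra hcon
  push Not at hcon
  obtain ⟨h12, h24, h60, hk1⟩ := hcon
  rcases L with _ | ⟨x, _ | ⟨y, _ | ⟨z, _ | ⟨w, rest⟩⟩⟩⟩
  · simp at hsum; omega
  · have hx := hT x (by simp)
    have kx := hk1 x (by simp)
    simp only [List.map_cons, List.map_nil, List.sum_cons, List.sum_nil, add_zero] at hsum
    exact arith_one n _ _ hx kx hsum
  · have hx := hT x (by simp)
    have kx := hk1 x (by simp)
    have hy := hT y (by simp)
    have ky := hk1 y (by simp)
    simp only [List.map_cons, List.map_nil, List.sum_cons, List.sum_nil, add_zero] at hsum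
    exact arith_two n _ _ _ _ hx hy kx ky h12 hsum
  · have hx := hT x (by simp)
    have kx := hk1 x (by simp)
    have hy := hT y (by simp)
    have ky := hk1 y (by simp)
    have hz := hT z (by simp)
    have kz := hk1 z (by simp)
    simp only [List.map_cons, List.map_nil, List.sum_cons, List.sum_nil, add_zero] at hsum
    exact arith_three n _ _ _ _ _ _ hx hy hz kx ky kz h12 h24 h60 hsum
  · have hx := (hT x (by simp)).four_mul_ge
    have hy := (hT y (by simp)).four_mul_ge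
    have hz := (hT z (by simp)).four_mul_ge
    have hw := (hT w (by simp)).four_mul_ge
    simp only [List.map_cons, List.sum_cons] at hsum
    omega

end Cfsg.Agent.Lib.Helper97.Deg2
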