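import Mathlib
import Cfsg.Agent.Lib.Helper85.CliffordCorr
import Cfsg.Agent.Lib.Helper83.Orthogonality
import Cfsg.Agent.Lib.Helper34.Induction

set_option autoImplicit false

namespace Cfsg.Agent.Lib.Helper97.Deg2

open Cfsg
open scoped ComplexConjugate

/-- the sum of squared norms of a function over a subgroup is at most the sum over the group. -/
theorem sum_norm_sq_subgroup_le {G : Type*} [Group G] [Fintype G] (N : Subgroup G) [Fintype N]
    (f : G → ℂ) : ∑ a : N, ‖f a‖ ^ 2 ≤ ∑ g : G, ‖f g‖ ^ 2 := by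
  classical
  have h1 : ∑ a : N, ‖f a‖ ^ 2 = ∑ g ∈ Finset.univ.filter (fun g : G => g ∈ N), ‖f g‖ ^ 2 := by
    exact (Finset.sum_subtype (p := fun g : G => g ∈ N)
      (Finset.univ.filter (fun g : G => g ∈ N)) (by simp) (fun g => ‖f g‖ ^ 2)).symm
  rw [h1]
  exact Finset.sum_le_sum_of_subset_of_nonneg (Finset.filter_subset _ _)
    (fun _ _ _ => by positivity)

/-- A primitive irreducible character of degree two: no abelian normal subgroup of index at most
two. -/
theorem no_normal_abelian_index_two {G : Type*} [Group G] [Fintype G] (χ : IrrCharacter G)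
    (h2 : (χ : G → ℂ) 1 = 2)
    (hprim : ∀ H : Subgroup G, H ≠ ⊤ → ∀ θ : H → ℂ, IsCharacter H θ →
      (χ : G → ℂ) ≠ indFun H θ)
    (N : Subgroup G) (hN : N.Normal) (hab : ∀ a b : N, a * b = b * a) (hidx : N.index ≤ 2) :
    False := by
  classical
  let _ : Fintype N := Fintype.ofFinite _
  have hχc : IsCharacter G (χ : G → ℂ) := Cfsg.Agent.Lib.Helper83.isCharacter_of_irr χ.2
  have hres : IsCharacter N (fun a : N => (χ : G → ℂ) a) :=
    Cfsg.Agent.Lib.Helper83.isCharacter_restrict N hχc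
  have hres1 : (fun a : N => (χ : G → ℂ) a) 1 ≠ 0 := by
    show (χ : G → ℂ) ((1 : N) : G) ≠ 0
    rw [Subgroup.coe_one, h2]; norm_num
  obtain ⟨lam, hlam, hconst⟩ := Cfsg.Agent.Lib.Helper85.exists_irr_constituent hres hres1
  have hlam1 : lam 1 = 1 := Cfsg.Agent.Lib.Helper85.irr_apply_one_of_comm hab hlam
  obtain ⟨ψ, hψ, -, hind⟩ := Cfsg.Agent.Lib.Helper85.exists_irr_conjStab hN χ.2 hlam hconst
  have hT : Cfsg.Agent.Lib.Helper85.conjStab hN lam = ⊤ := by
    by_contra hT
    exact hprim _ hT ψ (Cfsg.Agent.Lib.Helper83.isCharacter_of_irr hψ) hind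
  have hinv : ∀ g : G, Cfsg.Agent.Lib.Helper85.conjFun hN lam g = lam := by
    intro g
    rw [← Cfsg.Agent.Lib.Helper85.mem_conjStab, hT]
    exact Subgroup.mem_top g
  have hcl := Cfsg.Agent.Lib.Helper85.clifford_finset hN χ.2 hlam hconst
  have himg : (Finset.univ.image (fun g : G => Cfsg.Agent.Lib.Helper85.conjFun hN lam g)) =
      {lam} := by
    ext f
    simp only [Finset.mem_image, Finset.mem_univ, true_and, Finset.mem_singleton]
    constructor
    · rintro ⟨g, rfl⟩; exact hinv g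
    · rintro rfl; exact ⟨1, hinv 1⟩
  rw [himg, Finset.sum_singleton] at hcl
  set m := classInner (fun a : N => (χ : G → ℂ) a) lam with hm
  have hm2 : m = 2 := by
    have := congrFun hcl 1
    simp only [Pi.smul_apply, smul_eq_mul, hlam1, mul_one] at this
    rw [← this]
    show (χ : G → ℂ) ((1 : N) : G) = 2
    rw [Subgroup.coe_one, h2]
  have hval : ∀ a : N, (χ : G → ℂ) a = 2 * lam a := by
    intro a
    have := congrFun hcl a
    simp only [Pi.smul_apply, smul_eq_mul, hm2] at this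
    exact this
  -- norms
  have hlamnorm : ∑ a : N, ‖lam a‖ ^ 2 = (Nat.card N : ℝ) := by
    have h1 := Cfsg.Agent.Lib.Helper34.classInner_self_re lam
    have h2 : classInner lam lam = 1 := Cfsg.Agent.Lib.Helper83.irr_inner_self ⟨lam, hlam⟩
    rw [h2, Complex.one_re] at h1
    have hpos : (0 : ℝ) < (Nat.card N : ℝ) := by exact_mod_cast Nat.card_pos
    field_simp at h1
    linarith
  have hχnorm : ∑ g : G, ‖(χ : G → ℂ) g‖ ^ 2 = (Nat.card G : ℝ) := by
    have h1 := Cfsg.Agent.Lib.Helper34.classInner_self_re (χ : G → ℂ)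
    have h2 : classInner (χ : G → ℂ) (χ : G → ℂ) = 1 := Cfsg.Agent.Lib.Helper83.irr_inner_self χ
    rw [h2, Complex.one_re] at h1
    have hpos : (0 : ℝ) < (Nat.card G : ℝ) := by exact_mod_cast Nat.card_pos
    field_simp at h1
    linarith
  have hNnorm : ∑ a : N, ‖(χ : G → ℂ) a‖ ^ 2 = 4 * (Nat.card N : ℝ) := by
    rw [← hlamnorm, Finset.mul_sum]
    refine Finset.sum_congr rfl (fun a _ => ?_)
    rw [hval a, norm_mul, mul_pow]
    norm_num
  have hle := sum_norm_sq_subgroup_le N (χ : G → ℂ)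
  rw [hNnorm, hχnorm] at hle
  have hcard : Nat.card G = Nat.card N * N.index := (Subgroup.card_mul_index N).symm
  have hNpos : 0 < Nat.card N := Nat.card_pos
  have hle' : 4 * Nat.card N ≤ Nat.card G := by exact_mod_cast hle
  have : Nat.card N * N.index ≤ Nat.card N * 2 := Nat.mul_le_mul_left _ hidx
  omega

end Cfsg.Agent.Lib.Helper97.Deg2
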