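import Mathlib

set_option autoImplicit false

namespace Cfsg.Agent.Lib.Helper97.Deg2

open Matrix

/-- A `2 × 2` complex matrix is scalar. -/
def IsScalarMat (X : Matrix (Fin 2) (Fin 2) ℂ) : Prop := ∃ c : ℂ, X = c • (1 : Matrix (Fin 2) (Fin 2) ℂ)

theorem not_isScalarMat_iff (X : Matrix (Fin 2) (Fin 2) ℂ) :
    ¬ IsScalarMat X ↔ (X 0 1 ≠ 0 ∨ X 1 0 ≠ 0 ∨ X 0 0 ≠ X 1 1) := by
  constructor
  · intro h
    by_contra hcon
    push Not at hcon
    obtain ⟨h1, h2, h3⟩ := hcon
    apply h
    refine ⟨X 0 0, ?_⟩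
    ext i j
    fin_cases i <;> fin_cases j <;> simp [h1, h2, h3]
  · rintro h ⟨c, rfl⟩
    simp at h

theorem ext_two {A B : Matrix (Fin 2) (Fin 2) ℂ} (h00 : A 0 0 = B 0 0) (h01 : A 0 1 = B 0 1)
    (h10 : A 1 0 = B 1 0) (h11 : A 1 1 = B 1 1) : A = B := by
  ext i j
  fin_cases i <;> fin_cases j <;> assumption

/-- The commutant of a non-scalar `2 × 2` matrix consists of the polynomials of degree `≤ 1` in it. -/
theorem commutant_eq (X B : Matrix (Fin 2) (Fin 2) ℂ) (hX : ¬ IsScalarMat X) (hc : X * B = B * X) :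
    ∃ b₀ b₁ : ℂ, B = b₀ • (1 : Matrix (Fin 2) (Fin 2) ℂ) + b₁ • X := by
  have e00 := congrFun (congrFun hc 0) 0
  have e01 := congrFun (congrFun hc 0) 1
  have e10 := congrFun (congrFun hc 1) 0
  simp [Matrix.mul_apply, Fin.sum_univ_two] at e00 e01 e10
  by_cases h01 : X 0 1 = 0
  swap
  · refine ⟨B 0 0 - B 0 1 / X 0 1 * X 0 0, B 0 1 / X 0 1, ?_⟩
    apply ext_two
    · simp
    · simp; field_simp
    · simp; field_simp; linear_combination e00
    · simp; field_simp; linear_combination e01
  by_cases h10 : X 1 0 = 0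
  swap
  · refine ⟨B 0 0 - B 1 0 / X 1 0 * X 0 0, B 1 0 / X 1 0, ?_⟩
    apply ext_two
    · simp
    · simp; field_simp; linear_combination -e00
    · simp; field_simp
    · simp; field_simp; linear_combination -e10
  have h : X 0 0 ≠ X 1 1 := by
    rcases (not_isScalarMat_iff X).mp hX with h | h | h
    · exact absurd h01 h
    · exact absurd h10 h
    · exact h
  have hne : X 0 0 - X 1 1 ≠ 0 := sub_ne_zero.mpr h
  rw [h01] at e01 e00
  rw [h10] at e10 e00
  have hb01 : B 0 1 = 0 := by
    have : B 0 1 * (X 0 0 - X 1 1) = 0 := by linear_combination e01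
    rcases mul_eq_zero.mp this with h' | h'
    · exact h'
    · exact absurd h' hne
  have hb10 : B 1 0 = 0 := by
    have : B 1 0 * (X 0 0 - X 1 1) = 0 := by linear_combination -e10
    rcases mul_eq_zero.mp this with h' | h'
    · exact h'
    · exact absurd h' hne
  refine ⟨B 0 0 - (B 0 0 - B 1 1) / (X 0 0 - X 1 1) * X 0 0,
    (B 0 0 - B 1 1) / (X 0 0 - X 1 1), ?_⟩
  apply ext_two
  · simp
  · simp [h01, hb01]
  · simp [h10, hb10]
  · simp; field_simp; ring

/-- The commutant of a non-scalar `2 × 2` matrix is commutative. -/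
theorem commutant_comm (X B B' : Matrix (Fin 2) (Fin 2) ℂ) (hX : ¬ IsScalarMat X)
    (hc : X * B = B * X) (hc' : X * B' = B' * X) : B * B' = B' * B := by
  obtain ⟨b₀, b₁, rfl⟩ := commutant_eq X B hX hc
  obtain ⟨c₀, c₁, rfl⟩ := commutant_eq X B' hX hc'
  simp only [mul_add, add_mul, smul_mul_assoc, mul_smul_comm, Matrix.one_mul, Matrix.mul_one]
  module

/-- The discriminant of the characteristic polynomial of a `2 × 2` matrix. -/
noncomputable def disc (X : Matrix (Fin 2) (Fin 2) ℂ) : ℂ := X.trace ^ 2 - 4 * X.det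

theorem pow_succ_of_sq_zero (c : ℂ) (N : Matrix (Fin 2) (Fin 2) ℂ) (hN : N * N = 0) (k : ℕ) :
    (c • (1 : Matrix (Fin 2) (Fin 2) ℂ) + N) ^ (k + 1) =
      c ^ (k + 1) • (1 : Matrix (Fin 2) (Fin 2) ℂ) + ((k + 1 : ℂ) * c ^ k) • N := by
  induction k with
  | zero => simp
  | succ k ih =>
    rw [pow_succ, ih]
    simp only [mul_add, add_mul, smul_mul_assoc, mul_smul_comm, Matrix.one_mul, Matrix.mul_one,
      hN, smul_zero, add_zero]
    push_cast
    module

/-- A non-scalar `2 × 2` matrix of finite order has distinct eigenvalues. -/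
theorem disc_ne_zero_of_pow_eq_one (X : Matrix (Fin 2) (Fin 2) ℂ) (hX : ¬ IsScalarMat X)
    (k : ℕ) (hk : X ^ (k + 1) = 1) : disc X ≠ 0 := by
  intro hD
  set c : ℂ := X.trace / 2 with hc
  set N : Matrix (Fin 2) (Fin 2) ℂ := X - c • (1 : Matrix (Fin 2) (Fin 2) ℂ) with hNdef
  have hXN : X = c • (1 : Matrix (Fin 2) (Fin 2) ℂ) + N := by rw [hNdef]; abel
  have hN0 : N ≠ 0 := by
    intro h0
    apply hX
    exact ⟨c, by rw [hXN, h0, add_zero]⟩
  have hNN : N * N = 0 := by
    unfold disc at hD
    rw [Matrix.det_fin_two, Matrix.trace_fin_two] at hD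
    apply ext_two
    all_goals
      simp only [hNdef, hc, Matrix.mul_apply, Fin.sum_univ_two, Matrix.sub_apply,
        Matrix.smul_apply, Matrix.one_apply_eq, Matrix.zero_apply, Matrix.trace_fin_two,
        smul_eq_mul, mul_one]
    · simp; linear_combination (1/4 : ℂ) * hD
    · simp; ring
    · simp; ring
    · simp; linear_combination (1/4 : ℂ) * hD
  have hpow := pow_succ_of_sq_zero c N hNN k
  rw [← hXN, hk] at hpow
  have h1 : N = c ^ (k + 1) • N := by
    have := congrArg (fun M => M * N) hpow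
    simp only [Matrix.one_mul, add_mul, smul_mul_assoc, hNN, smul_zero, add_zero] at this
    exact this
  have hc1 : c ^ (k + 1) = 1 := by
    have h2 : (c ^ (k + 1) - 1) • N = 0 := by
      rw [sub_smul, one_smul, ← h1, sub_self]
    rcases smul_eq_zero.mp h2 with h | h
    · exact sub_eq_zero.mp h
    · exact absurd h hN0
  rw [hc1, one_smul] at hpow
  have h3 : ((k + 1 : ℂ) * c ^ k) • N = 0 := by
    have := hpow
    rwa [left_eq_add] at this
  rcases smul_eq_zero.mp h3 with h | h
  · rcases mul_eq_zero.mp h with h | h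
    · exact absurd h (by exact_mod_cast Nat.succ_ne_zero k)
    · rw [pow_succ, h, zero_mul] at hc1
      exact zero_ne_one hc1
  · exact absurd h hN0

/-- If a conjugate of a non-scalar matrix with distinct eigenvalues commutes with it, it is the
matrix itself or its "adjugate-like" companion `tr X - X`. -/
theorem conj_eq_or (X Y Y' : Matrix (Fin 2) (Fin 2) ℂ) (hX : ¬ IsScalarMat X) (hD : disc X ≠ 0)
    (hY : Y * Y' = 1) (hY' : Y' * Y = 1) (hc : X * (Y * X * Y') = (Y * X * Y') * X) :
    Y * X * Y' = X ∨ Y * X * Y' = X.trace • (1 : Matrix (Fin 2) (Fin 2) ℂ) - X := by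
  obtain ⟨a, b, hab⟩ := commutant_eq X _ hX hc
  have htr : (Y * X * Y').trace = X.trace := by
    rw [Matrix.trace_mul_comm, ← Matrix.mul_assoc, hY', Matrix.one_mul]
  have hdet : (Y * X * Y').det = X.det := by
    have h1 : Y.det * Y'.det = 1 := by rw [← Matrix.det_mul, hY, Matrix.det_one]
    rw [Matrix.det_mul, Matrix.det_mul]
    linear_combination X.det * h1
  rw [hab] at htr hdet
  have htr' : 2 * a + b * X.trace = X.trace := by
    rw [Matrix.trace_add, Matrix.trace_smul, Matrix.trace_smul, Matrix.trace_one] at htr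
    simp at htr
    linear_combination htr
  have e1 : (a • (1 : Matrix (Fin 2) (Fin 2) ℂ) + b • X).det =
      a ^ 2 + a * b * X.trace + b ^ 2 * X.det := by
    rw [Matrix.det_fin_two, Matrix.det_fin_two, Matrix.trace_fin_two]
    simp
    ring
  have hdet' : a ^ 2 + a * b * X.trace + b ^ 2 * X.det = X.det := e1.symm.trans hdet
  have hb : (1 - b ^ 2) * disc X = 0 := by
    unfold disc
    have ha : a = X.trace * (1 - b) / 2 := by linear_combination (1/2 : ℂ) * htr'
    rw [ha] at hdet'
    linear_combination (4 : ℂ) * hdet'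
  have hb2 : b ^ 2 = 1 := by
    rcases mul_eq_zero.mp hb with h | h
    · linear_combination -h
    · exact absurd h hD
  have hb' : b = 1 ∨ b = -1 := by
    have h0 : (b - 1) * (b + 1) = 0 := by linear_combination hb2
    rcases mul_eq_zero.mp h0 with h | h
    · left; linear_combination h
    · right; linear_combination h
  rcases hb' with rfl | rfl
  · left
    have ha : a = 0 := by linear_combination (1/2 : ℂ) * htr'
    rw [hab, ha]; simp
  · right
    have ha : a = X.trace := by linear_combination (1/2 : ℂ) * htr'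
    rw [hab, ha]; simp [sub_eq_add_neg]

end Cfsg.Agent.Lib.Helper97.Deg2
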