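import Mathlib
import Cfsg.Agent.Lib.Helper97.Deg2Mat
import Cfsg.Agent.Lib.Helper97.Deg2Arith

set_option autoImplicit false

namespace Cfsg.Agent.Lib.Helper97.Deg2

open Matrix Subgroup

/-- Greedy choice of representatives of a partition given by a "block of `x`" function. -/
theorem exists_list_partition {α : Type*} [DecidableEq α] (S : α → Finset α) :
    ∀ (A : Finset α), (∀ x ∈ A, x ∈ S x) → (∀ x ∈ A, ∀ y ∈ S x, S y = S x) →
      (∀ x ∈ A, S x ⊆ A) →
      ∃ L : List α, (∀ x ∈ L, x ∈ A) ∧ A.card = (L.map (fun x => (S x).card)).sum := by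
  intro A
  induction' hn : A.card using Nat.strong_induction_on with n ih generalizing A
  intro h1 h2 h3
  subst hn
  rcases A.eq_empty_or_nonempty with rfl | ⟨x, hx⟩
  · exact ⟨[], by simp, by simp⟩
  · have hsub := h3 x hx
    have hcard : (A \ S x).card + (S x).card = A.card := Finset.card_sdiff_add_card_eq_card hsub
    have hpos : 0 < (S x).card := Finset.card_pos.mpr ⟨x, h1 x hx⟩
    obtain ⟨L, hL1, hL2⟩ := ih (A \ S x).card (by omega) (A \ S x) rfl
      (fun y hy => h1 y (Finset.mem_sdiff.mp hy).1)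
      (fun y hy => h2 y (Finset.mem_sdiff.mp hy).1)
      (by
        intro y hy z hz
        have hyA := (Finset.mem_sdiff.mp hy).1
        have hyS := (Finset.mem_sdiff.mp hy).2
        refine Finset.mem_sdiff.mpr ⟨h3 y hyA hz, fun hzx => hyS ?_⟩
        have e1 := h2 x hx z hzx
        have e2 := h2 y hyA z hz
        rw [← e1, e2]; exact h1 y hyA)
    refine ⟨x :: L, ?_, ?_⟩
    · intro y hy
      rcases List.mem_cons.mp hy with rfl | hy
      · exact hx
      · exact (Finset.mem_sdiff.mp (hL1 y hy)).1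
    · simp only [List.map_cons, List.sum_cons]; omega

/-- Counting the elements outside a normal subgroup `Z` that are conjugate into a subgroup
`H ≥ Z` which is "TI relative to `Z`" (adapted from another seat's `card_conjSet`). -/
theorem card_conjSetRel {G : Type*} [Group G] [Finite G] (Z H : Subgroup G) [hZn : Z.Normal]
    (hZH : Z ≤ H)
    (key : ∀ y : G, ∀ h ∈ H, h ∉ Z → y * h * y⁻¹ ∈ H → y ∈ Subgroup.normalizer (H : Set G)) :
    Nat.card {g : G // g ∉ Z ∧ ∃ x : G, x * g * x⁻¹ ∈ H} =
      (Subgroup.normalizer (H : Set G)).index * (Nat.card H - Nat.card Z) := by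
  classical
  have hcardH : Nat.card {h : H // (h : G) ∉ Z} = Nat.card H - Nat.card Z := by
    have := Fintype.ofFinite H
    have e : Nat.card {h : H // (h : G) ∈ Z} = Nat.card Z :=
      Nat.card_congr (Subgroup.subgroupOfEquivOfLe hZH).toEquiv
    rw [← e, Nat.card_eq_fintype_card, Nat.card_eq_fintype_card, Nat.card_eq_fintype_card,
      Fintype.card_subtype_compl]
  rw [Subgroup.index, ← hcardH, ← Nat.card_prod]
  symm
  have conjZ : ∀ (y g : G), y * g * y⁻¹ ∈ Z → g ∈ Z := by
    intro y g hg
    have := hZn.conj_mem _ hg y⁻¹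
    simpa [mul_assoc] using this
  let Φ : (G ⧸ Subgroup.normalizer (H : Set G)) × {h : H // (h : G) ∉ Z} →
      {g : G // g ∉ Z ∧ ∃ x : G, x * g * x⁻¹ ∈ H} := fun p =>
    ⟨p.1.out * (p.2.1 : G) * p.1.out⁻¹, by
      constructor
      · intro h0
        exact p.2.2 (conjZ _ _ h0)
      · refine ⟨p.1.out⁻¹, ?_⟩
        have h1 : p.1.out⁻¹ * (p.1.out * (p.2.1 : G) * p.1.out⁻¹) * p.1.out⁻¹⁻¹ = (p.2.1 : G) := by
          group
        rw [h1]; exact p.2.1.2⟩
  refine Nat.card_congr (Equiv.ofBijective Φ ⟨?_, ?_⟩)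
  · rintro ⟨q, ⟨h, hh1⟩⟩ ⟨q', ⟨h', hh1'⟩⟩ hpq
    have e : q.out * (h : G) * q.out⁻¹ = q'.out * (h' : G) * q'.out⁻¹ := congrArg Subtype.val hpq
    have hy : (q'.out⁻¹ * q.out) * (h : G) * (q'.out⁻¹ * q.out)⁻¹ ∈ H := by
      have : (q'.out⁻¹ * q.out) * (h : G) * (q'.out⁻¹ * q.out)⁻¹ = (h' : G) := by
        calc (q'.out⁻¹ * q.out) * (h : G) * (q'.out⁻¹ * q.out)⁻¹
            = q'.out⁻¹ * (q.out * (h : G) * q.out⁻¹) * q'.out := by group
          _ = q'.out⁻¹ * (q'.out * (h' : G) * q'.out⁻¹) * q'.out := by rw [e]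
          _ = (h' : G) := by group
      rw [this]; exact h'.2
    have hyN := key _ (h : G) h.2 hh1 hy
    have hq : q' = q := by
      rw [← q'.out_eq', ← q.out_eq']
      exact QuotientGroup.eq.mpr hyN
    subst hq
    have hh : (h : G) = h' := mul_left_cancel (mul_right_cancel e)
    have : h = h' := Subtype.ext hh
    subst this
    rfl
  · rintro ⟨g, hg1, x, hx⟩
    obtain ⟨n, hn⟩ : ∃ n : G, n ∈ Subgroup.normalizer (H : Set G) ∧
        (QuotientGroup.mk x⁻¹ : G ⧸ Subgroup.normalizer (H : Set G)).out = x⁻¹ * n := by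
      have h1 : (QuotientGroup.mk ((QuotientGroup.mk x⁻¹ : G ⧸ Subgroup.normalizer (H : Set G)).out) :
          G ⧸ Subgroup.normalizer (H : Set G)) = QuotientGroup.mk x⁻¹ := Quotient.out_eq' _
      have h2 := QuotientGroup.eq.mp h1.symm
      exact ⟨_, h2, by group⟩
    obtain ⟨hnN, hout⟩ := hn
    have hmem : n⁻¹ * (x * g * x⁻¹) * n ∈ H := by
      have := (Subgroup.mem_set_normalizer_iff.mp (inv_mem hnN) (x * g * x⁻¹)).mp hx
      rwa [inv_inv] at this
    have hne : ((⟨n⁻¹ * (x * g * x⁻¹) * n, hmem⟩ : H) : G) ∉ Z := by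
      intro h0
      apply hg1
      have h1 : n⁻¹ * (x * g * x⁻¹) * n = (n⁻¹ * x) * g * (n⁻¹ * x)⁻¹ := by group
      change n⁻¹ * (x * g * x⁻¹) * n ∈ Z at h0
      rw [h1] at h0
      exact conjZ _ _ h0
    refine ⟨(QuotientGroup.mk x⁻¹, ⟨⟨n⁻¹ * (x * g * x⁻¹) * n, hmem⟩, hne⟩), ?_⟩
    apply Subtype.ext
    show (QuotientGroup.mk x⁻¹ : G ⧸ Subgroup.normalizer (H : Set G)).out *
      (n⁻¹ * (x * g * x⁻¹) * n) *
      (QuotientGroup.mk x⁻¹ : G ⧸ Subgroup.normalizer (H : Set G)).out⁻¹ = g
    rw [hout]; group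

/-- A faithful two-dimensional complex matrix representation. -/
structure FaithfulRep (G : Type*) [Group G] where
  /-- the matrices -/
  R : G → Matrix (Fin 2) (Fin 2) ℂ
  map_mul : ∀ g h : G, R (g * h) = R g * R h
  map_one : R 1 = 1
  inj : Function.Injective R

namespace FaithfulRep

variable {G : Type*} [Group G] (F : FaithfulRep G)
include F

theorem map_mul_inv (g : G) : F.R g * F.R g⁻¹ = 1 := by
  rw [← F.map_mul, mul_inv_cancel, F.map_one]

theorem map_inv_mul (g : G) : F.R g⁻¹ * F.R g = 1 := by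
  rw [← F.map_mul, inv_mul_cancel, F.map_one]

theorem map_pow (g : G) (n : ℕ) : F.R (g ^ n) = F.R g ^ n := by
  induction n with
  | zero => simp [F.map_one]
  | succ n ih => rw [pow_succ, pow_succ, F.map_mul, ih]

theorem not_scalar {g : G} (hg : g ∉ Subgroup.center G) : ¬ IsScalarMat (F.R g) := by
  rintro ⟨c, hc⟩
  apply hg
  rw [Subgroup.mem_center_iff]
  intro h
  apply F.inj
  rw [F.map_mul, F.map_mul, hc]
  simp

theorem mem_centralizer_iff (g x : G) :
    x ∈ Subgroup.centralizer ({g} : Set G) ↔ F.R g * F.R x = F.R x * F.R g := by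
  rw [Subgroup.mem_centralizer_singleton_iff]
  constructor
  · intro h; rw [← F.map_mul, ← F.map_mul, h]
  · intro h; apply F.inj; rw [F.map_mul, F.map_mul, h]

theorem centralizer_comm {g : G} (hg : g ∉ Subgroup.center G) {a b : G}
    (ha : a ∈ Subgroup.centralizer ({g} : Set G)) (hb : b ∈ Subgroup.centralizer ({g} : Set G)) :
    a * b = b * a := by
  apply F.inj
  rw [F.map_mul, F.map_mul]
  exact commutant_comm (F.R g) (F.R a) (F.R b) (F.not_scalar hg)
    ((F.mem_centralizer_iff g a).mp ha) ((F.mem_centralizer_iff g b).mp hb)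

theorem centralizer_eq {g h : G} (hg : g ∉ Subgroup.center G) (hh : h ∉ Subgroup.center G)
    (hmem : h ∈ Subgroup.centralizer ({g} : Set G)) :
    Subgroup.centralizer ({h} : Set G) = Subgroup.centralizer ({g} : Set G) := by
  have hgh : g ∈ Subgroup.centralizer ({h} : Set G) := by
    rw [Subgroup.mem_centralizer_singleton_iff] at hmem ⊢
    exact hmem.symm
  apply le_antisymm
  · intro x hx
    have := F.centralizer_comm hh hx hgh
    rw [Subgroup.mem_centralizer_singleton_iff]
    exact this
  · intro x hx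
    have := F.centralizer_comm hg hx hmem
    rw [Subgroup.mem_centralizer_singleton_iff]
    exact this

end FaithfulRep

theorem conj_mem_centralizer_iff {G : Type*} [Group G] (y h x : G) :
    y * x * y⁻¹ ∈ Subgroup.centralizer ({y * h * y⁻¹} : Set G) ↔
      x ∈ Subgroup.centralizer ({h} : Set G) := by
  rw [Subgroup.mem_centralizer_singleton_iff, Subgroup.mem_centralizer_singleton_iff]
  constructor
  · intro e
    have e' : y * (x * h) * y⁻¹ = y * (h * x) * y⁻¹ := by
      calc y * (x * h) * y⁻¹ = y * x * y⁻¹ * (y * h * y⁻¹) := by group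
        _ = y * h * y⁻¹ * (y * x * y⁻¹) := e
        _ = y * (h * x) * y⁻¹ := by group
    exact mul_left_cancel (mul_right_cancel e')
  · intro e
    calc y * x * y⁻¹ * (y * h * y⁻¹) = y * (x * h) * y⁻¹ := by group
      _ = y * (h * x) * y⁻¹ := by rw [e]
      _ = y * h * y⁻¹ * (y * x * y⁻¹) := by group

theorem conj_not_mem_center {G : Type*} [Group G] {y h : G} (hh : h ∉ Subgroup.center G) :
    y * h * y⁻¹ ∉ Subgroup.center G := by
  intro hc
  apply hh
  have := (inferInstance : (Subgroup.center G).Normal).conj_mem _ hc y⁻¹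
  simpa [mul_assoc] using this

namespace FaithfulRep

variable {G : Type*} [Group G] (F : FaithfulRep G)
include F

/-- The "TI relative to the centre" property of centralizers of noncentral elements. -/
theorem key {g : G} (hg : g ∉ Subgroup.center G) (y h : G)
    (hh : h ∈ Subgroup.centralizer ({g} : Set G)) (hhZ : h ∉ Subgroup.center G)
    (hy : y * h * y⁻¹ ∈ Subgroup.centralizer ({g} : Set G)) :
    y ∈ Subgroup.normalizer ((Subgroup.centralizer ({g} : Set G) : Subgroup G) : Set G) := by
  have h'Z : y * h * y⁻¹ ∉ Subgroup.center G := conj_not_mem_center hhZ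
  have e1 := F.centralizer_eq hg hhZ hh
  have e2 := F.centralizer_eq hg h'Z hy
  rw [Subgroup.mem_normalizer_iff]
  intro x
  constructor
  · intro hx
    rw [← e2]
    rw [← e1] at hx
    exact (conj_mem_centralizer_iff y h x).mpr hx
  · intro hx
    rw [← e1]
    rw [← e2] at hx
    exact (conj_mem_centralizer_iff y h x).mp hx

theorem map_inv_mul_cancel_left (g : G) (M : Matrix (Fin 2) (Fin 2) ℂ) :
    F.R g⁻¹ * (F.R g * M) = M := by
  rw [← Matrix.mul_assoc, F.map_inv_mul, Matrix.one_mul]

theorem map_mul_inv_cancel_left (g : G) (M : Matrix (Fin 2) (Fin 2) ℂ) :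
    F.R g * (F.R g⁻¹ * M) = M := by
  rw [← Matrix.mul_assoc, F.map_mul_inv, Matrix.one_mul]

theorem disc_ne_zero [Finite G] {g : G} (hg : g ∉ Subgroup.center G) : disc (F.R g) ≠ 0 := by
  have hpos : 0 < orderOf g := orderOf_pos g
  obtain ⟨k, hk⟩ : ∃ k, orderOf g = k + 1 := ⟨orderOf g - 1, by omega⟩
  apply disc_ne_zero_of_pow_eq_one _ (F.not_scalar hg) k
  rw [← F.map_pow, ← hk, pow_orderOf_eq_one, F.map_one]

theorem conj_eq_of_not_mem [Finite G] {g : G} (hg : g ∉ Subgroup.center G) {w : G}
    (hwN : w ∈ Subgroup.normalizer ((Subgroup.centralizer ({g} : Set G) : Subgroup G) : Set G))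
    (hwC : w ∉ Subgroup.centralizer ({g} : Set G)) :
    F.R w * F.R g * F.R w⁻¹ = (F.R g).trace • (1 : Matrix (Fin 2) (Fin 2) ℂ) - F.R g := by
  have hmem : w * g * w⁻¹ ∈ Subgroup.centralizer ({g} : Set G) :=
    (Subgroup.mem_normalizer_iff.mp hwN g).mp (Subgroup.mem_centralizer_singleton_iff.mpr rfl)
  have hc := (F.mem_centralizer_iff g (w * g * w⁻¹)).mp hmem
  rw [F.map_mul, F.map_mul] at hc
  rcases conj_eq_or (F.R g) (F.R w) (F.R w⁻¹) (F.not_scalar hg) (F.disc_ne_zero hg)
    (F.map_mul_inv w) (F.map_inv_mul w) hc with h | h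
  · exfalso; apply hwC
    rw [F.mem_centralizer_iff]
    have := congrArg (· * F.R w) h
    simp only [Matrix.mul_assoc, F.map_inv_mul, Matrix.mul_one] at this
    exact this.symm
  · exact h

theorem relIndex_eq_one_or_two [Finite G] {g : G} (hg : g ∉ Subgroup.center G) :
    (Subgroup.centralizer ({g} : Set G)).relIndex
      (Subgroup.normalizer ((Subgroup.centralizer ({g} : Set G) : Subgroup G) : Set G)) = 1 ∨
    (Subgroup.centralizer ({g} : Set G)).relIndex
      (Subgroup.normalizer ((Subgroup.centralizer ({g} : Set G) : Subgroup G) : Set G)) = 2 := by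
  by_cases hle : Subgroup.normalizer ((Subgroup.centralizer ({g} : Set G) : Subgroup G) : Set G) ≤
      Subgroup.centralizer ({g} : Set G)
  · left; exact Subgroup.relIndex_eq_one.mpr hle
  · right
    obtain ⟨u, huN, huC⟩ := SetLike.not_le_iff_exists.mp hle
    unfold Subgroup.relIndex
    rw [Subgroup.index_eq_two_iff]
    refine ⟨⟨u, huN⟩, fun b => ?_⟩
    simp only [Subgroup.mem_subgroupOf, Subgroup.coe_mul]
    by_cases hb : (b : G) ∈ Subgroup.centralizer ({g} : Set G)
    · right
      refine ⟨hb, fun hbu => huC ?_⟩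
      have : u = (b : G)⁻¹ * (b * u) := by group
      rw [this]; exact Subgroup.mul_mem _ (Subgroup.inv_mem _ hb) hbu
    · left
      refine ⟨?_, hb⟩
      rw [F.mem_centralizer_iff]
      have h1 := F.conj_eq_of_not_mem hg huN huC
      have h2 := F.conj_eq_of_not_mem hg b.2 hb
      have h3 : F.R b * (F.R u * F.R g * F.R u⁻¹) * F.R (b : G)⁻¹ = F.R g := by
        rw [h1, Matrix.mul_sub, Matrix.sub_mul, h2]
        simp [F.map_mul_inv]
      have h4 := congrArg (· * (F.R b * F.R u)) h3
      simp only [Matrix.mul_assoc, F.map_inv_mul_cancel_left, F.map_inv_mul, Matrix.mul_one] at h4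
      rw [F.map_mul, Matrix.mul_assoc]
      exact h4.symm

omit F in
theorem card_eq_relIndex_mul {H K : Subgroup G} (hHK : H ≤ K) :
    Nat.card K = Nat.card H * H.relIndex K := by
  have h1 := Subgroup.card_mul_index (H.subgroupOf K)
  have h2 : Nat.card (H.subgroupOf K) = Nat.card H :=
    Nat.card_congr (Subgroup.subgroupOfEquivOfLe hHK).toEquiv
  rw [h2] at h1
  exact h1.symm

/-- Main counting theorem: a finite nonabelian group with a faithful two-dimensional complex
representation has central index 12, 24 or 60, or the centralizer of some noncentral element is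
normal of index at most 2. -/
theorem main [Fintype G] (hnab : ∃ g : G, g ∉ Subgroup.center G) :
    (Subgroup.center G).index = 12 ∨ (Subgroup.center G).index = 24 ∨
      (Subgroup.center G).index = 60 ∨
      ∃ g : G, g ∉ Subgroup.center G ∧ (Subgroup.centralizer ({g} : Set G)).Normal ∧
        (Subgroup.centralizer ({g} : Set G)).index ≤ 2 := by
  classical
  let S : G → Finset G := fun g => Finset.univ.filter
    (fun h => h ∉ Subgroup.center G ∧ ∃ x : G, x * h * x⁻¹ ∈ Subgroup.centralizer ({g} : Set G))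
  let A : Finset G := Finset.univ.filter (fun g => g ∉ Subgroup.center G)
  have hS : ∀ g h : G, h ∈ S g ↔
      (h ∉ Subgroup.center G ∧ ∃ x : G, x * h * x⁻¹ ∈ Subgroup.centralizer ({g} : Set G)) := by
    intro g h; simp [S]
  have hA : ∀ g : G, g ∈ A ↔ g ∉ Subgroup.center G := by
    intro g; simp [A]
  obtain ⟨L, hL1, hL2⟩ := exists_list_partition S A
    (by
      intro x hx
      rw [hS]
      exact ⟨(hA x).mp hx, 1, by simp [Subgroup.mem_centralizer_singleton_iff]⟩)
    (by
      intro x hx y hy
      have hxZ := (hA x).mp hx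
      obtain ⟨hyZ, t, ht⟩ := (hS x y).mp hy
      have e1 := F.centralizer_eq hxZ (conj_not_mem_center hyZ) ht
      ext w
      rw [hS, hS]
      refine and_congr_right (fun _ => ?_)
      constructor
      · rintro ⟨s, hs⟩
        refine ⟨t * s, ?_⟩
        rw [← e1]
        have : t * s * w * (t * s)⁻¹ = t * (s * w * s⁻¹) * t⁻¹ := by group
        rw [this]
        exact (conj_mem_centralizer_iff t y _).mpr hs
      · rintro ⟨s, hs⟩
        refine ⟨t⁻¹ * s, ?_⟩
        rw [← e1] at hs
        have : s * w * s⁻¹ = t * (t⁻¹ * s * w * (t⁻¹ * s)⁻¹) * t⁻¹ := by group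
        rw [this] at hs
        exact (conj_mem_centralizer_iff t y _).mp hs)
    (by
      intro x _ y hy
      rw [hA]
      exact ((hS x y).mp hy).1)
  -- the numerical data
  set n := (Subgroup.center G).index with hn
  let a : G → ℕ := fun g => (Subgroup.center G).relIndex (Subgroup.centralizer ({g} : Set G))
  let e : G → ℕ := fun g => (Subgroup.centralizer ({g} : Set G)).relIndex
      (Subgroup.normalizer ((Subgroup.centralizer ({g} : Set G) : Subgroup G) : Set G))
  let k : G → ℕ := fun g =>
      (Subgroup.normalizer ((Subgroup.centralizer ({g} : Set G) : Subgroup G) : Set G)).index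
  have hZpos : 0 < Nat.card (Subgroup.center G) := Nat.card_pos
  have hZG : Nat.card G = Nat.card (Subgroup.center G) * n := (Subgroup.card_mul_index _).symm
  have hnpos : n ≠ 0 := Subgroup.index_ne_zero_of_finite
  have hn2 : 2 ≤ n := by
    obtain ⟨g, hg⟩ := hnab
    have : n ≠ 1 := by
      intro h1
      rw [hn, Subgroup.index_eq_one] at h1
      exact hg (h1 ▸ Subgroup.mem_top g)
    omega
  have hnk : ∀ g ∈ L, n = k g * e g * a g := by
    intro g _
    have h1 := Subgroup.relIndex_mul_index (Subgroup.center_le_centralizer ({g} : Set G))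
    have h2 := Subgroup.relIndex_mul_index
      (Subgroup.le_normalizer (H := Subgroup.centralizer ({g} : Set G)))
    show (Subgroup.center G).index = k g * e g * a g
    rw [← h1, ← h2]
    ring
  have ha : ∀ g ∈ L, 2 ≤ a g := by
    intro g hgL
    have hg := (hA g).mp (hL1 g hgL)
    have h0 : a g ≠ 0 := by
      intro h0
      have := hnk g hgL
      rw [h0, mul_zero] at this
      exact hnpos this
    have h1 : a g ≠ 1 := by
      intro h1
      have hle := Subgroup.relIndex_eq_one.mp h1
      exact hg (hle (Subgroup.mem_centralizer_singleton_iff.mpr rfl))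
    omega
  have hk : ∀ g ∈ L, 1 ≤ k g := by
    intro g _
    have : k g ≠ 0 := Subgroup.index_ne_zero_of_finite
    omega
  have he : ∀ g ∈ L, e g = 1 ∨ e g = 2 := by
    intro g hgL
    exact F.relIndex_eq_one_or_two ((hA g).mp (hL1 g hgL))
  have hcardS : ∀ g ∈ L, (S g).card = Nat.card (Subgroup.center G) * (k g * (a g - 1)) := by
    intro g hgL
    have hg := (hA g).mp (hL1 g hgL)
    have h1 := card_conjSetRel (Subgroup.center G) (Subgroup.centralizer ({g} : Set G))
      (Subgroup.center_le_centralizer _) (fun y h hh hhZ hy => F.key hg y h hh hhZ hy)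
    rw [Nat.card_eq_fintype_card, Fintype.card_subtype] at h1
    have h2 := card_eq_relIndex_mul (Subgroup.center_le_centralizer ({g} : Set G))
    show (Finset.univ.filter _).card = _
    rw [h1, h2, ← Nat.mul_sub_one]
    show k g * (_ * (a g - 1)) = _
    ring
  have hAcard : A.card = Nat.card G - Nat.card (Subgroup.center G) := by
    have h1 : A.card = Fintype.card {g : G // g ∉ Subgroup.center G} := by
      rw [Fintype.card_subtype]
    rw [h1, Nat.card_eq_fintype_card, Nat.card_eq_fintype_card, Fintype.card_subtype_compl]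
  have hsum : n = 1 + (L.map (fun g => k g * (a g - 1))).sum := by
    have h1 : (L.map (fun x => (S x).card)) =
        L.map (fun g => Nat.card (Subgroup.center G) * (k g * (a g - 1))) :=
      List.map_congr_left hcardS
    rw [h1, List.sum_map_mul_left, hAcard, hZG] at hL2
    have h2 : Nat.card (Subgroup.center G) * (n - 1) =
        Nat.card (Subgroup.center G) * (L.map (fun g => k g * (a g - 1))).sum := by
      rw [Nat.mul_sub_one]; exact hL2
    have h3 := Nat.eq_of_mul_eq_mul_left hZpos h2
    omega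
  rcases arith_list L a e k n hn2 ha he hk hnk hsum with h | h | h | ⟨g, hgL, hk1⟩
  · exact Or.inl h
  · exact Or.inr (Or.inl h)
  · exact Or.inr (Or.inr (Or.inl h))
  · right; right; right
    have hg := (hA g).mp (hL1 g hgL)
    have htop : Subgroup.normalizer
        ((Subgroup.centralizer ({g} : Set G) : Subgroup G) : Set G) = ⊤ :=
      Subgroup.index_eq_one.mp hk1
    refine ⟨g, hg, Subgroup.normalizer_eq_top_iff.mp htop, ?_⟩
    have h2 := Subgroup.relIndex_mul_index
      (Subgroup.le_normalizer (H := Subgroup.centralizer ({g} : Set G)))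
    have h3 : e g * k g = (Subgroup.centralizer ({g} : Set G)).index := h2
    rw [hk1, mul_one] at h3
    rw [← h3]
    rcases he g hgL with h | h <;> omega

end FaithfulRep

end Cfsg.Agent.Lib.Helper97.Deg2
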