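import Mathlib

set_option autoImplicit false

namespace Cfsg.Agent.Lib.Helper97.ExtE

open scoped commutatorElement

/-- iterated commutators with a fixed element die in a nilpotent group -/
lemma engel_nilpotent {K : Type*} [Group K] [hK : Group.IsNilpotent K] (u a : K) :
    ∃ k : ℕ, (fun e => ⁅u, e⁆)^[k] a = 1 := by
  have h : ∀ k : ℕ, (fun e => ⁅u, e⁆)^[k] a ∈ Subgroup.lowerCentralSeries (⊤ : Subgroup K) k := by
    intro k
    induction k with
    | zero => simp
    | succ k ih =>
      rw [Function.iterate_succ_apply', Subgroup.lowerCentralSeries_succ]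
      have h1 : ⁅(fun e => ⁅u, e⁆)^[k] a, u⁆ ∈
          ⁅Subgroup.lowerCentralSeries (⊤ : Subgroup K) k, (⊤ : Subgroup K)⁆ :=
        Subgroup.commutator_mem_commutator ih (Subgroup.mem_top u)
      have h2 := Subgroup.inv_mem _ h1
      rwa [commutatorElement_inv] at h2
  refine ⟨Group.nilpotencyClass K, ?_⟩
  have := h (Group.nilpotencyClass K)
  rw [Subgroup.lowerCentralSeries_nilpotencyClass, Subgroup.mem_bot] at this
  exact this

/-- iterated commutators with a fixed element die in a finite `p`-subgroup -/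
lemma engel_pgroup {G : Type*} [Group G] (p : ℕ) [Fact p.Prime] (K : Subgroup G) [Finite K]
    (hK : IsPGroup p K) (u a : G) (hu : u ∈ K) (ha : a ∈ K) :
    ∃ k : ℕ, (fun e => ⁅u, e⁆)^[k] a = 1 := by
  have : Group.IsNilpotent K := hK.isNilpotent
  obtain ⟨k, hk⟩ := engel_nilpotent (⟨u, hu⟩ : K) ⟨a, ha⟩
  refine ⟨k, ?_⟩
  have h : ∀ k : ℕ, (((fun e : K => ⁅(⟨u, hu⟩ : K), e⁆)^[k] ⟨a, ha⟩ : K) : G)
      = (fun e => ⁅u, e⁆)^[k] a := by
    intro k
    induction k with
    | zero => rfl
    | succ k ih =>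
      rw [Function.iterate_succ_apply', Function.iterate_succ_apply', ← ih]
      simp [commutatorElement_def]
  rw [← h k, hk]
  rfl

/-- compatibility of the iteration with homomorphisms -/
lemma map_iterate_comm {G G' : Type*} [Group G] [Group G'] (f : G →* G') (u a : G) (k : ℕ) :
    f ((fun e => ⁅u, e⁆)^[k] a) = (fun e => ⁅f u, e⁆)^[k] (f a) := by
  induction k with
  | zero => rfl
  | succ k ih =>
    rw [Function.iterate_succ_apply', Function.iterate_succ_apply', ← ih, map_commutatorElement]

end Cfsg.Agent.Lib.Helper97.ExtE
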