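import Mathlib

set_option autoImplicit false

namespace Cfsg.Agent.Lib.Helper97.ExtLin

open Module

variable {F : Type*} [Field F] {V : Type*} [AddCommGroup V] [Module F V] [FiniteDimensional F V]

/-- finrank of a finite supremum is at most the sum of the finranks -/
lemma finrank_biSup_le_sum {ι : Type*} (s : Finset ι) (p : ι → Submodule F V) :
    finrank F (⨆ i ∈ s, p i : Submodule F V) ≤ ∑ i ∈ s, finrank F (p i) := by
  classical
  induction s using Finset.induction_on with
  | empty => simp
  | insert a s ha ih =>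
    rw [Finset.iSup_insert, Finset.sum_insert ha]
    have := Submodule.finrank_add_le_finrank_add_finrank (p a) (⨆ i ∈ s, p i)
    omega

/-- the pieces of a subspace in distinct eigenspaces have total dimension at most its dimension -/
lemma sum_finrank_inf_eigenspace_le (T : Module.End F V) (Q : Submodule F V) (s : Finset F) :
    ∑ μ ∈ s, finrank F (Q ⊓ Module.End.eigenspace T μ : Submodule F V) ≤ finrank F Q := by
  classical
  have hind : iSupIndep (fun μ => Q ⊓ Module.End.eigenspace T μ) :=
    (Module.End.eigenspaces_iSupIndep T).mono (fun μ => inf_le_right)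
  have key : ∀ s : Finset F,
      ∑ μ ∈ s, finrank F (Q ⊓ Module.End.eigenspace T μ : Submodule F V)
        = finrank F (⨆ μ ∈ s, Q ⊓ Module.End.eigenspace T μ : Submodule F V) := by
    intro s
    induction s using Finset.induction_on with
    | empty =>
      rw [Finset.sum_empty]
      have : (⨆ μ ∈ (∅ : Finset F), Q ⊓ Module.End.eigenspace T μ : Submodule F V) = ⊥ := by simp
      rw [this, finrank_bot]
    | insert a s ha ih =>
      rw [Finset.sum_insert ha, Finset.iSup_insert, ih]
      have hd : Disjoint (Q ⊓ Module.End.eigenspace T a)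
          (⨆ μ ∈ s, Q ⊓ Module.End.eigenspace T μ) := by
        have := hind.disjoint_biSup (x := a) (y := (s : Set F)) (by simpa using ha)
        simpa using this
      have := Submodule.finrank_sup_add_finrank_inf_eq (Q ⊓ Module.End.eigenspace T a)
        (⨆ μ ∈ s, Q ⊓ Module.End.eigenspace T μ)
      rw [hd.eq_bot, finrank_bot] at this
      omega
  rw [key]
  apply Submodule.finrank_mono
  exact iSup₂_le (fun μ _ => inf_le_left)

omit [FiniteDimensional F V] in
lemma pow_apply_mem (T : Module.End F V) (U : Submodule F V) (hU : ∀ v ∈ U, T v ∈ U)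
    (i : ℕ) (v : V) (hv : v ∈ U) : (T ^ i) v ∈ U := by
  induction i with
  | zero => simpa using hv
  | succ i ih =>
    rw [pow_succ', Module.End.mul_apply]
    exact hU _ ih

omit [FiniteDimensional F V] in
/-- an invariant subspace of an endomorphism with `T ^ r = 1` splits along the eigenspaces for the
`r`-th roots of unity -/
lemma le_biSup_inf_eigenspace (T : Module.End F V) {r : ℕ} (hr : 1 < r) {ζ : F}
    (hζ : IsPrimitiveRoot ζ r) (hT : T ^ r = 1) (U : Submodule F V) (hU : ∀ v ∈ U, T v ∈ U) :
    U ≤ ⨆ k ∈ Finset.range r, U ⊓ Module.End.eigenspace T (ζ ^ k) := by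
  classical
  intro v hv
  have hr0 : r ≠ 0 := by omega
  have : NeZero r := ⟨hr0⟩
  have hrF : (r : F) ≠ 0 := (hζ.neZero').out
  have hζ0 : ζ ≠ 0 := hζ.ne_zero hr0
  have hζr : ζ ^ r = 1 := hζ.pow_eq_one
  set c : ℕ → F := fun k => (ζ ^ k)⁻¹ with hc
  set p : ℕ → V := fun k => ∑ i ∈ Finset.range r, (c k) ^ i • (T ^ i) v with hp
  have hcr : ∀ k, (c k) ^ r = 1 := by
    intro k
    simp only [hc]
    rw [inv_pow, ← pow_mul, mul_comm, pow_mul, hζr, one_pow, inv_one]
  have hc0 : ∀ k, c k ≠ 0 := fun k => inv_ne_zero (pow_ne_zero _ hζ0)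
  have hpU : ∀ k, p k ∈ U := by
    intro k
    exact Submodule.sum_mem _ (fun i _ => Submodule.smul_mem _ _ (pow_apply_mem T U hU i v hv))
  have hpE : ∀ k, p k ∈ Module.End.eigenspace T (ζ ^ k) := by
    intro k
    rw [Module.End.mem_eigenspace_iff]
    have h1 : T (p k) = ∑ i ∈ Finset.range r, (c k) ^ i • (T ^ (i + 1)) v := by
      simp only [hp, map_sum, map_smul]
      refine Finset.sum_congr rfl (fun i _ => ?_)
      rw [pow_succ', Module.End.mul_apply]
    have h2 : c k • T (p k) = p k := by
      rw [h1, Finset.smul_sum]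
      have h3 : ∀ i, c k • (c k) ^ i • (T ^ (i + 1)) v = (c k) ^ (i + 1) • (T ^ (i + 1)) v := by
        intro i
        rw [smul_smul, ← pow_succ']
      simp only [h3]
      have h4 := Finset.sum_range_succ' (fun i => (c k) ^ i • (T ^ i) v) r
      have h5 := Finset.sum_range_succ (fun i => (c k) ^ i • (T ^ i) v) r
      have h6 : (c k) ^ r • (T ^ r) v = (c k) ^ 0 • (T ^ 0) v := by
        rw [hcr, hT]
        simp
      rw [h5, h6] at h4
      exact (add_right_cancel h4).symm
    have h7 : ζ ^ k * c k = 1 := by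
      simp only [hc]
      exact mul_inv_cancel₀ (pow_ne_zero _ hζ0)
    calc T (p k) = (ζ ^ k * c k) • T (p k) := by rw [h7, one_smul]
      _ = ζ ^ k • (c k • T (p k)) := by rw [mul_smul]
      _ = ζ ^ k • p k := by rw [h2]
  have hsum : ∑ k ∈ Finset.range r, p k = (r : F) • v := by
    simp only [hp]
    rw [Finset.sum_comm]
    have h1 : ∀ i ∈ Finset.range r, ∑ k ∈ Finset.range r, (c k) ^ i • (T ^ i) v
        = (if i = 0 then (r : F) else 0) • (T ^ i) v := by
      intro i hi
      rw [← Finset.sum_smul]
      congr 1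
      have h2 : ∀ k, (c k) ^ i = ((ζ ^ i)⁻¹) ^ k := by
        intro k
        simp only [hc]
        rw [inv_pow, inv_pow, ← pow_mul, ← pow_mul, mul_comm]
      simp only [h2]
      split_ifs with h0
      · subst h0
        simp
      · have h3 : (ζ ^ i)⁻¹ ≠ 1 := by
          intro h
          rw [inv_eq_one] at h
          have := hζ.dvd_of_pow_eq_one i h
          have hi' := Finset.mem_range.mp hi
          have := Nat.le_of_dvd (Nat.pos_of_ne_zero h0) this
          omega
        rw [geom_sum_eq h3, inv_pow, ← pow_mul, mul_comm, pow_mul, hζr, one_pow, inv_one, sub_self,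
          zero_div]
    rw [Finset.sum_congr rfl h1, Finset.sum_eq_single 0]
    · simp
    · intro i _ hi0
      simp [hi0]
    · intro h
      exact absurd (Finset.mem_range.mpr (by omega)) h
  have hv' : v = (r : F)⁻¹ • ∑ k ∈ Finset.range r, p k := by
    rw [hsum, smul_smul, inv_mul_cancel₀ hrF, one_smul]
  rw [hv']
  refine Submodule.smul_mem _ _ (Submodule.sum_mem _ (fun k hk => ?_))
  have : U ⊓ Module.End.eigenspace T (ζ ^ k) ≤
      ⨆ k ∈ Finset.range r, U ⊓ Module.End.eigenspace T (ζ ^ k) :=
    le_iSup₂ (f := fun k (_ : k ∈ Finset.range r) => U ⊓ Module.End.eigenspace T (ζ ^ k)) k hk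
  exact this ⟨hpU k, hpE k⟩

end Cfsg.Agent.Lib.Helper97.ExtLin
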