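import Mathlib

set_option autoImplicit false

namespace Cfsg.Agent.Lib.Helper97.ExtP

open scoped commutatorElement

variable {G : Type*} [Group G]

lemma conj_central {z : G} (hz : z ∈ Subgroup.center G) (a : G) : a * z * a⁻¹ = z := by
  rw [Subgroup.mem_center_iff.mp hz a, mul_inv_cancel_right]

lemma conj_central' {z : G} (hz : z ∈ Subgroup.center G) (a : G) : a⁻¹ * z * a = z := by
  rw [mul_assoc, ← Subgroup.mem_center_iff.mp hz a, inv_mul_cancel_left]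

lemma comm_mul_left' {a b c : G} (h : ⁅b, c⁆ ∈ Subgroup.center G) :
    ⁅a * b, c⁆ = ⁅a, c⁆ * ⁅b, c⁆ := by
  have e : ⁅a * b, c⁆ = a * ⁅b, c⁆ * a⁻¹ * ⁅a, c⁆ := by
    simp only [commutatorElement_def]; group
  rw [e, conj_central h a, Subgroup.mem_center_iff.mp h ⁅a, c⁆]

lemma comm_mul_right' {a b c : G} (h : ⁅a, c⁆ ∈ Subgroup.center G) :
    ⁅a, b * c⁆ = ⁅a, b⁆ * ⁅a, c⁆ := by
  have e : ⁅a, b * c⁆ = ⁅a, b⁆ * (b * ⁅a, c⁆ * b⁻¹) := by
    simp only [commutatorElement_def]; group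
  rw [e, conj_central h b]

lemma comm_inv_right' {a b : G} (h : ⁅a, b⁆ ∈ Subgroup.center G) : ⁅a, b⁻¹⁆ = ⁅a, b⁆⁻¹ := by
  have e : ⁅a, b⁻¹⁆ = b⁻¹ * ⁅a, b⁆⁻¹ * b := by
    simp only [commutatorElement_def]; group
  rw [e, conj_central' (Subgroup.inv_mem _ h) b]

lemma comm_inv_left' {a b : G} (h : ⁅a, b⁆ ∈ Subgroup.center G) : ⁅a⁻¹, b⁆ = ⁅a, b⁆⁻¹ := by
  have e : ⁅a⁻¹, b⁆ = a⁻¹ * ⁅a, b⁆⁻¹ * a := by
    simp only [commutatorElement_def]; group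
  rw [e, conj_central' (Subgroup.inv_mem _ h) a]

lemma comm_conj' {a b : G} (g : G) (h : ⁅a, b⁆ ∈ Subgroup.center G) :
    ⁅g * a * g⁻¹, g * b * g⁻¹⁆ = ⁅a, b⁆ := by
  have e : ⁅g * a * g⁻¹, g * b * g⁻¹⁆ = g * ⁅a, b⁆ * g⁻¹ := by
    simp only [commutatorElement_def]; group
  rw [e, conj_central h g]

/-- the setting: a subgroup with central commutators normalized by `g` -/
structure CSetup (H : Subgroup G) (g : G) (r : ℕ) : Prop where
  central : ∀ a ∈ H, ∀ b ∈ H, ⁅a, b⁆ ∈ Subgroup.center G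
  pow : ∀ a ∈ H, ∀ b ∈ H, ⁅a, b⁆ ^ r = 1
  conj_mem : ∀ a ∈ H, g * a * g⁻¹ ∈ H
  conj_mem' : ∀ a ∈ H, g⁻¹ * a * g ∈ H

variable {H : Subgroup G} {g : G} {r : ℕ}

lemma CSetup.pow_conj_mem (h : CSetup H g r) (i : ℕ) : ∀ a ∈ H, g ^ i * a * (g ^ i)⁻¹ ∈ H := by
  induction i with
  | zero => intro a ha; simpa using ha
  | succ i ih =>
    intro a ha
    have := h.conj_mem _ (ih a ha)
    have e : g ^ (i + 1) * a * (g ^ (i + 1))⁻¹ = g * (g ^ i * a * (g ^ i)⁻¹) * g⁻¹ := by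
      rw [pow_succ']; group
    rw [e]
    exact this

lemma CSetup.bimul (h : CSetup H g r) {a b c d : G} (ha : a ∈ H) (hb : b ∈ H) (hc : c ∈ H)
    (hd : d ∈ H) : ⁅a * b, c * d⁆ = ⁅a, c⁆ * ⁅a, d⁆ * (⁅b, c⁆ * ⁅b, d⁆) := by
  rw [comm_mul_left' (h.central b hb (c * d) (H.mul_mem hc hd)),
    comm_mul_right' (h.central a ha d hd), comm_mul_right' (h.central b hb d hd)]


/-- the additive argument: if all `⁅g ^ i, x⁆` commute and `g ^ ϖ` is central with `ϖ` prime to `r`,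
then `x` commutes with its `g`-conjugate -/
theorem CSetup.comm_conj_self (h : CSetup H g r) {ϖ : ℕ} (hcop : Nat.Coprime ϖ r)
    (hgϖ : g ^ ϖ ∈ Subgroup.center G) (x : G) (hx : x ∈ H)
    (hcomm : ∀ i j : ℕ, ⁅⁅g ^ i, x⁆, ⁅g ^ j, x⁆⁆ = 1) :
    ⁅x, g * x * g⁻¹⁆ = 1 := by
  set xi : ℕ → G := fun i => g ^ i * x * (g ^ i)⁻¹ with hxi
  have hxiH : ∀ i, xi i ∈ H := fun i => h.pow_conj_mem i x hx
  have hgi : ∀ i, ⁅g ^ i, x⁆ = xi i * x⁻¹ := fun i => by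
    simp only [commutatorElement_def, hxi]
  set Fk : ℕ → G := fun k => ⁅x, xi k⁆ with hF
  have hxinv : x⁻¹ ∈ H := H.inv_mem hx
  have hadd : ∀ i d : ℕ, Fk (i + d) = Fk d * Fk i := by
    intro i d
    have h1 := hcomm i (i + d)
    rw [hgi, hgi, h.bimul (hxiH i) hxinv (hxiH (i + d)) hxinv] at h1
    have e1 : ⁅xi i, xi (i + d)⁆ = Fk d := by
      have : xi (i + d) = g ^ i * xi d * (g ^ i)⁻¹ := by
        simp only [hxi]
        rw [pow_add]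
        group
      rw [this]
      exact comm_conj' (g ^ i) (h.central x hx (xi d) (hxiH d))
    have e2 : ⁅xi i, x⁻¹⁆ = Fk i := by
      rw [comm_inv_right' (h.central _ (hxiH i) x hx), commutatorElement_inv]
    have e3 : ⁅x⁻¹, xi (i + d)⁆ = (Fk (i + d))⁻¹ :=
      comm_inv_left' (h.central x hx _ (hxiH _))
    have e4 : ⁅x⁻¹, x⁻¹⁆ = 1 := commutatorElement_self _
    rw [e1, e2, e3, e4, mul_one] at h1
    exact (mul_inv_eq_one.mp h1).symm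
  have hF0 : Fk 0 = 1 := by simp [hF, hxi]
  have hFk : ∀ k, Fk k = (Fk 1) ^ k := by
    intro k
    induction k with
    | zero => rw [hF0, pow_zero]
    | succ k ih => rw [hadd k 1, ih, pow_succ']
  have hFϖ : Fk ϖ = 1 := by
    simp only [hF, hxi]
    rw [← Subgroup.mem_center_iff.mp hgϖ x, mul_inv_cancel_right]
    exact commutatorElement_self x
  have h1 : (Fk 1) ^ ϖ = 1 := by rw [← hFk, hFϖ]
  have h2 : (Fk 1) ^ r = 1 := h.pow x hx _ (hxiH 1)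
  have h3 : Fk 1 = 1 := by
    have hd1 := orderOf_dvd_of_pow_eq_one h1
    have hd2 := orderOf_dvd_of_pow_eq_one h2
    have := Nat.dvd_gcd hd1 hd2
    rw [Nat.Coprime.gcd_eq_one hcop, Nat.dvd_one] at this
    exact orderOf_eq_one_iff.mp this
  simpa [hF, hxi] using h3

/-- polarization -/
theorem CSetup.polar (h : CSetup H g r) (hself : ∀ x ∈ H, ⁅x, g * x * g⁻¹⁆ = 1)
    (x y : G) (hx : x ∈ H) (hy : y ∈ H) :
    ⁅x, (g * y * g⁻¹) * (g⁻¹ * y * g)⁻¹⁆ = 1 := by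
  have hx' := h.conj_mem x hx
  have hy' := h.conj_mem y hy
  have hy'' := h.conj_mem' y hy
  have h1 := hself (x * y) (H.mul_mem hx hy)
  have e : g * (x * y) * g⁻¹ = (g * x * g⁻¹) * (g * y * g⁻¹) := by group
  rw [e, h.bimul hx hy hx' hy', hself x hx, hself y hy, one_mul, mul_one] at h1
  have h2 : ⁅x, g * y * g⁻¹⁆ = ⁅g * x * g⁻¹, y⁆ := by
    rw [← commutatorElement_inv y]
    exact mul_eq_one_iff_eq_inv.mp h1
  have h3 : ⁅g * x * g⁻¹, y⁆ = ⁅x, g⁻¹ * y * g⁆ := by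
    have := comm_conj' g (h.central x hx _ hy'')
    have e2 : g * (g⁻¹ * y * g) * g⁻¹ = y := by group
    rw [e2] at this
    exact this
  rw [comm_mul_right' (h.central x hx _ (H.inv_mem hy'')),
    comm_inv_right' (h.central x hx _ hy''), h2, h3, mul_inv_cancel]

/-- **Lemma P.** -/
theorem CSetup.centralizes_mod (h : CSetup H g r) {ϖ : ℕ} (hcop : Nat.Coprime ϖ r)
    (hgϖ : g ^ ϖ ∈ Subgroup.center G)
    (hcomm : ∀ x ∈ H, ∀ i j : ℕ, ⁅⁅g ^ i, x⁆, ⁅g ^ j, x⁆⁆ = 1)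
    (x y : G) (hx : x ∈ H) (hy : y ∈ H) :
    ⁅x, (g * y * g⁻¹) * (g⁻¹ * y * g)⁻¹⁆ = 1 :=
  h.polar (fun x hx => h.comm_conj_self hcop hgϖ x hx (hcomm x hx)) x y hx hy

end Cfsg.Agent.Lib.Helper97.ExtP
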