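import Mathlib
import Cfsg.Agent.Lib.Helper97.CommTrick
import Cfsg.Agent.Lib.Helper97.ExtLin

set_option autoImplicit false

namespace Cfsg.Agent.Lib.Helper97.ExtQ

open Module Matrix
open Cfsg.Agent.Lib.Helper97

variable {F : Type*} [Field F] {n : ℕ}

/-- eigenspace of an invertible matrix -/
noncomputable def eig (a : Matrix.GeneralLinearGroup (Fin n) F) (μ : F) :
    Submodule F (Fin n → F) :=
  Module.End.eigenspace (Matrix.toLin' (a : Matrix (Fin n) (Fin n) F)) μ

lemma mem_eig (a : Matrix.GeneralLinearGroup (Fin n) F) (μ : F) (v : Fin n → F) :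
    v ∈ eig a μ ↔ (a : Matrix (Fin n) (Fin n) F) *ᵥ v = μ • v := by
  unfold eig
  rw [Module.End.mem_eigenspace_iff, Matrix.toLin'_apply]

lemma gl_mulVec_inj (x : Matrix.GeneralLinearGroup (Fin n) F) {a b : Fin n → F}
    (h : (x : Matrix (Fin n) (Fin n) F) *ᵥ a = (x : Matrix (Fin n) (Fin n) F) *ᵥ b) : a = b := by
  have := congrArg
    (fun u => ((x⁻¹ : Matrix.GeneralLinearGroup (Fin n) F) : Matrix (Fin n) (Fin n) F) *ᵥ u) h
  simpa [gl_inv_mulVec_cancel] using this

/-- one step backwards along `x⁻¹` -/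
lemma step_back (g x y : Matrix.GeneralLinearGroup (Fin n) F) (θ : F) (hθ : θ ≠ 0)
    (hyx : ∀ v : Fin n → F, (y : Matrix (Fin n) (Fin n) F) *ᵥ ((x : Matrix (Fin n) (Fin n) F) *ᵥ v)
      = θ • ((x : Matrix (Fin n) (Fin n) F) *ᵥ ((y : Matrix (Fin n) (Fin n) F) *ᵥ v)))
    (hgx : ∀ v : Fin n → F, (g : Matrix (Fin n) (Fin n) F) *ᵥ ((x : Matrix (Fin n) (Fin n) F) *ᵥ v)
      = (y : Matrix (Fin n) (Fin n) F) *ᵥ ((x : Matrix (Fin n) (Fin n) F) *ᵥ
          ((g : Matrix (Fin n) (Fin n) F) *ᵥ v)))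
    (μ ν : F) (hμ : μ ≠ 0) :
    finrank F (eig y μ ⊓ eig g ν : Submodule F (Fin n → F))
      ≤ finrank F (eig y (θ⁻¹ * μ) ⊓ eig g (ν * μ⁻¹) : Submodule F (Fin n → F)) := by
  set L := Matrix.toLin' ((x⁻¹ : Matrix.GeneralLinearGroup (Fin n) F) : Matrix (Fin n) (Fin n) F)
    with hL
  have hLinj : Function.Injective L := gl_toLin'_injective x⁻¹
  have h1 : (eig y μ ⊓ eig g ν).map L ≤ eig y (θ⁻¹ * μ) ⊓ eig g (ν * μ⁻¹) := by
    rintro _ ⟨v, ⟨hv1, hv2⟩, rfl⟩
    rw [SetLike.mem_coe, mem_eig] at hv1 hv2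
    set u := ((x⁻¹ : Matrix.GeneralLinearGroup (Fin n) F) : Matrix (Fin n) (Fin n) F) *ᵥ v with hu
    have hxu : (x : Matrix (Fin n) (Fin n) F) *ᵥ u = v := gl_mulVec_inv_cancel x v
    have hLv : L v = u := by rw [hL, Matrix.toLin'_apply]
    rw [hLv]
    have hyu : (y : Matrix (Fin n) (Fin n) F) *ᵥ u = (θ⁻¹ * μ) • u := by
      apply gl_mulVec_inj x
      have := hyx u
      rw [hxu, hv1] at this
      rw [Matrix.mulVec_smul, hxu, mul_smul, this, smul_smul, inv_mul_cancel₀ hθ, one_smul]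
    refine ⟨(mem_eig _ _ _).2 hyu, (mem_eig _ _ _).2 ?_⟩
    apply gl_mulVec_inj x
    apply gl_mulVec_inj y
    have := hgx u
    rw [hxu, hv2] at this
    rw [← this, Matrix.mulVec_smul, hxu, Matrix.mulVec_smul, hv1, smul_smul, mul_assoc,
      inv_mul_cancel₀ hμ, mul_one]
  calc finrank F ↥(eig y μ ⊓ eig g ν) = finrank F ↥((eig y μ ⊓ eig g ν).map L) :=
        (LinearEquiv.finrank_eq (Submodule.equivMapOfInjective L hLinj _))
    _ ≤ _ := Submodule.finrank_mono h1

/-- triangular numbers -/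
def tri : ℕ → ℕ
  | 0 => 0
  | k + 1 => tri k + (k + 1)

lemma two_mul_tri (k : ℕ) : 2 * tri k = k * (k + 1) := by
  induction k with
  | zero => rfl
  | succ k ih =>
    simp only [tri]
    nlinarith

lemma iter_prim (g x y : Matrix.GeneralLinearGroup (Fin n) F) (θ : F) (hθ : θ ≠ 0)
    (hyx : ∀ v : Fin n → F, (y : Matrix (Fin n) (Fin n) F) *ᵥ ((x : Matrix (Fin n) (Fin n) F) *ᵥ v)
      = θ • ((x : Matrix (Fin n) (Fin n) F) *ᵥ ((y : Matrix (Fin n) (Fin n) F) *ᵥ v)))
    (hgx : ∀ v : Fin n → F, (g : Matrix (Fin n) (Fin n) F) *ᵥ ((x : Matrix (Fin n) (Fin n) F) *ᵥ v)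
      = (y : Matrix (Fin n) (Fin n) F) *ᵥ ((x : Matrix (Fin n) (Fin n) F) *ᵥ
          ((g : Matrix (Fin n) (Fin n) F) *ᵥ v)))
    (k : ℕ) : ∀ ν : F,
    finrank F (eig y (θ ^ k) ⊓ eig g ν : Submodule F (Fin n → F))
      ≤ finrank F (eig y 1 ⊓ eig g (ν * (θ⁻¹) ^ tri k) : Submodule F (Fin n → F)) := by
  induction k with
  | zero =>
    intro ν
    have e : (eig y (θ ^ 0) ⊓ eig g ν : Submodule F (Fin n → F))
        = eig y 1 ⊓ eig g (ν * θ⁻¹ ^ tri 0) := by
      have : tri 0 = 0 := rfl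
      rw [this, pow_zero, pow_zero, mul_one]
    rw [e]
  | succ k ih =>
    intro ν
    have h1 := step_back g x y θ hθ hyx hgx (θ ^ (k + 1)) ν (pow_ne_zero _ hθ)
    have h2 : θ⁻¹ * θ ^ (k + 1) = θ ^ k := by
      rw [pow_succ, mul_comm, mul_assoc, mul_inv_cancel₀ hθ, mul_one]
    rw [h2] at h1
    have h3 := ih (ν * (θ ^ (k + 1))⁻¹)
    have h4 : ν * (θ ^ (k + 1))⁻¹ * θ⁻¹ ^ tri k = ν * θ⁻¹ ^ tri (k + 1) := by
      simp only [tri]
      rw [← inv_pow, pow_add]
      ring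
    rw [h4] at h3
    exact h1.trans h3

lemma iter_one (g x y : Matrix.GeneralLinearGroup (Fin n) F)
    (hyx : ∀ v : Fin n → F, (y : Matrix (Fin n) (Fin n) F) *ᵥ ((x : Matrix (Fin n) (Fin n) F) *ᵥ v)
      = (1 : F) • ((x : Matrix (Fin n) (Fin n) F) *ᵥ ((y : Matrix (Fin n) (Fin n) F) *ᵥ v)))
    (hgx : ∀ v : Fin n → F, (g : Matrix (Fin n) (Fin n) F) *ᵥ ((x : Matrix (Fin n) (Fin n) F) *ᵥ v)
      = (y : Matrix (Fin n) (Fin n) F) *ᵥ ((x : Matrix (Fin n) (Fin n) F) *ᵥ
          ((g : Matrix (Fin n) (Fin n) F) *ᵥ v)))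
    (μ : F) (hμ : μ ≠ 0) (i : ℕ) : ∀ ν : F,
    finrank F (eig y μ ⊓ eig g ν : Submodule F (Fin n → F))
      ≤ finrank F (eig y μ ⊓ eig g (ν * (μ⁻¹) ^ i) : Submodule F (Fin n → F)) := by
  induction i with
  | zero =>
    intro ν
    rw [pow_zero, mul_one]
  | succ i ih =>
    intro ν
    have h1 := step_back g x y 1 one_ne_zero hyx hgx μ ν hμ
    rw [inv_one, one_mul] at h1
    have h3 := ih (ν * μ⁻¹)
    have h4 : ν * μ⁻¹ * μ⁻¹ ^ i = ν * μ⁻¹ ^ (i + 1) := by
      rw [pow_succ]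
      ring
    rw [h4] at h3
    exact h1.trans h3


lemma fiber_card_le_two [DecidableEq F] {r : ℕ} (hr : r.Prime) {a : F} (ha : IsPrimitiveRoot a r)
    (μ : F) : ((Finset.range r).filter (fun k => a ^ tri k = μ)).card ≤ 2 := by
  by_cases hne : ((Finset.range r).filter (fun k => a ^ tri k = μ)).Nonempty
  · obtain ⟨l, hl⟩ := hne
    rw [Finset.mem_filter, Finset.mem_range] at hl
    have ha0 : a ≠ 0 := ha.ne_zero hr.ne_zero
    have hsub : (Finset.range r).filter (fun k => a ^ tri k = μ) ⊆ {l, r - 1 - l} := by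
      intro k hk
      rw [Finset.mem_filter, Finset.mem_range] at hk
      have h1 : a ^ tri k = a ^ tri l := by rw [hk.2, hl.2]
      have h2 : (r : ℤ) ∣ (tri k : ℤ) - tri l := by
        rw [← ha.zpow_eq_one_iff_dvd, zpow_sub₀ ha0, zpow_natCast, zpow_natCast, h1,
          div_self (pow_ne_zero _ ha0)]
      have h3 : (r : ℤ) ∣ ((k : ℤ) - l) * ((k : ℤ) + l + 1) := by
        have e : ((k : ℤ) - l) * ((k : ℤ) + l + 1) = 2 * ((tri k : ℤ) - tri l) := by
          have e1 := two_mul_tri k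
          have e2 := two_mul_tri l
          have e1' : (2 : ℤ) * tri k = k * (k + 1) := by exact_mod_cast e1
          have e2' : (2 : ℤ) * tri l = l * (l + 1) := by exact_mod_cast e2
          linear_combination e2' - e1'
        rw [e]
        exact Dvd.dvd.mul_left h2 2
      have hp : Prime (r : ℤ) := Nat.prime_iff_prime_int.mp hr
      rcases hp.dvd_or_dvd h3 with h4 | h4
      · have h5 : (k : ℤ) - l = 0 :=
          Int.eq_zero_of_abs_lt_dvd h4 (by rw [abs_lt]; constructor <;> omega)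
        have : k = l := by omega
        simp [this]
      · have h5 : (r : ℤ) ∣ (k : ℤ) + l + 1 - r := Dvd.dvd.sub h4 (dvd_refl _)
        have h6 : (k : ℤ) + l + 1 - r = 0 :=
          Int.eq_zero_of_abs_lt_dvd h5 (by rw [abs_lt]; constructor <;> omega)
        have : k = r - 1 - l := by omega
        simp [this]
    exact (Finset.card_le_card hsub).trans Finset.card_le_two
  · rw [Finset.not_nonempty_iff_eq_empty] at hne
    rw [hne]
    simp

/-- in the commuting case, a `g`-eigenspace piece inside a `y`-eigenspace for a primitive root is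
small -/
lemma per_mu {r : ℕ} (g x y : Matrix.GeneralLinearGroup (Fin n) F)
    (hyx : ∀ v : Fin n → F, (y : Matrix (Fin n) (Fin n) F) *ᵥ ((x : Matrix (Fin n) (Fin n) F) *ᵥ v)
      = (1 : F) • ((x : Matrix (Fin n) (Fin n) F) *ᵥ ((y : Matrix (Fin n) (Fin n) F) *ᵥ v)))
    (hgx : ∀ v : Fin n → F, (g : Matrix (Fin n) (Fin n) F) *ᵥ ((x : Matrix (Fin n) (Fin n) F) *ᵥ v)
      = (y : Matrix (Fin n) (Fin n) F) *ᵥ ((x : Matrix (Fin n) (Fin n) F) *ᵥ
          ((g : Matrix (Fin n) (Fin n) F) *ᵥ v)))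
    (μ : F) (hr : 0 < r) (hμ : IsPrimitiveRoot μ r) :
    r * finrank F (eig y μ ⊓ eig g 1 : Submodule F (Fin n → F)) ≤ finrank F (eig y μ) := by
  classical
  have hμ0 : μ ≠ 0 := hμ.ne_zero hr.ne'
  have h : ∀ i ∈ Finset.range r, finrank F (eig y μ ⊓ eig g 1 : Submodule F (Fin n → F))
      ≤ finrank F (eig y μ ⊓ eig g ((μ⁻¹) ^ i) : Submodule F (Fin n → F)) := by
    intro i _
    have := iter_one g x y hyx hgx μ hμ0 i 1
    rw [one_mul] at this
    exact this
  have hinj : ∀ i ∈ Finset.range r, ∀ j ∈ Finset.range r, (μ⁻¹) ^ i = (μ⁻¹) ^ j → i = j := by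
    intro i hi j hj hij
    exact hμ.inv.pow_inj (Finset.mem_range.mp hi) (Finset.mem_range.mp hj) hij
  calc r * finrank F (eig y μ ⊓ eig g 1 : Submodule F (Fin n → F))
      = ∑ _i ∈ Finset.range r, finrank F (eig y μ ⊓ eig g 1 : Submodule F (Fin n → F)) := by simp
    _ ≤ ∑ i ∈ Finset.range r, finrank F (eig y μ ⊓ eig g ((μ⁻¹) ^ i) : Submodule F (Fin n → F)) :=
        Finset.sum_le_sum h
    _ = ∑ ν ∈ (Finset.range r).image (fun i => (μ⁻¹) ^ i),
          finrank F (eig y μ ⊓ eig g ν : Submodule F (Fin n → F)) :=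
        (Finset.sum_image (f := fun ν => finrank F (eig y μ ⊓ eig g ν : Submodule F (Fin n → F)))
          hinj).symm
    _ ≤ finrank F (eig y μ) :=
        ExtLin.sum_finrank_inf_eigenspace_le
          (Matrix.toLin' (g : Matrix (Fin n) (Fin n) F)) (eig y μ) _


lemma toLin'_pow_eq_one (y : Matrix.GeneralLinearGroup (Fin n) F) {r : ℕ} (hy : y ^ r = 1) :
    (Matrix.toLin' (y : Matrix (Fin n) (Fin n) F)) ^ r = 1 := by
  rw [← Matrix.toLin'_pow, ← Units.val_pow_eq_pow_val, hy, Units.val_one, Matrix.toLin'_one]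
  rfl

/-- **The quadratic fiber bound.** -/
theorem quad_fiber_bound {r : ℕ} (hr : r.Prime) (ζ : F) (hζ : IsPrimitiveRoot ζ r)
    (θ : F) (hθr : θ ^ r = 1) (g x y : Matrix.GeneralLinearGroup (Fin n) F)
    (hy : y ^ r = 1) (hgy : g * y = y * g) (hgx : g * x * g⁻¹ = y * x)
    (hyx : ((y * x * y⁻¹ * x⁻¹ : Matrix.GeneralLinearGroup (Fin n) F) : Matrix (Fin n) (Fin n) F)
      = θ • (1 : Matrix (Fin n) (Fin n) F))
    (hE : r * finrank F (eig y 1) ≤ n) :
    r * finrank F (eig g 1) ≤ 2 * n := by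
  classical
  have hθ0 : θ ≠ 0 := by
    intro h
    rw [h, zero_pow hr.ne_zero] at hθr
    exact zero_ne_one hθr
  have hyx' : ∀ v : Fin n → F,
      (y : Matrix (Fin n) (Fin n) F) *ᵥ ((x : Matrix (Fin n) (Fin n) F) *ᵥ v)
      = θ • ((x : Matrix (Fin n) (Fin n) F) *ᵥ ((y : Matrix (Fin n) (Fin n) F) *ᵥ v)) := by
    intro v
    obtain ⟨t, ht⟩ : ∃ t : Matrix.GeneralLinearGroup (Fin n) F, t = y * x * y⁻¹ * x⁻¹ := ⟨_, rfl⟩
    rw [← ht] at hyx
    have e : y * x = t * (x * y) := by rw [ht]; group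
    have : ((y * x : Matrix.GeneralLinearGroup (Fin n) F) : Matrix (Fin n) (Fin n) F) *ᵥ v
        = ((t * (x * y) : Matrix.GeneralLinearGroup (Fin n) F) :
            Matrix (Fin n) (Fin n) F) *ᵥ v := by rw [← e]
    rw [gl_mulVec_mul, gl_mulVec_mul, gl_mulVec_mul, hyx, Matrix.smul_mulVec,
      Matrix.one_mulVec] at this
    exact this
  have hgx' : ∀ v : Fin n → F,
      (g : Matrix (Fin n) (Fin n) F) *ᵥ ((x : Matrix (Fin n) (Fin n) F) *ᵥ v)
      = (y : Matrix (Fin n) (Fin n) F) *ᵥ ((x : Matrix (Fin n) (Fin n) F) *ᵥ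
          ((g : Matrix (Fin n) (Fin n) F) *ᵥ v)) := by
    intro v
    have e : g * x = y * x * g := by rw [← hgx]; group
    have : ((g * x : Matrix.GeneralLinearGroup (Fin n) F) : Matrix (Fin n) (Fin n) F) *ᵥ v
        = ((y * x * g : Matrix.GeneralLinearGroup (Fin n) F) :
            Matrix (Fin n) (Fin n) F) *ᵥ v := by rw [← e]
    rw [gl_mulVec_mul, gl_mulVec_mul, gl_mulVec_mul] at this
    exact this
  have hyW : ∀ v ∈ eig g 1, Matrix.toLin' (y : Matrix (Fin n) (Fin n) F) v ∈ eig g 1 := by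
    intro v hv
    rw [mem_eig] at hv ⊢
    rw [Matrix.toLin'_apply, ← gl_mulVec_mul, hgy, gl_mulVec_mul, hv, Matrix.mulVec_smul]
  have hT := toLin'_pow_eq_one y hy
  have hn : finrank F (eig y 1) ≤ n := by
    have := Submodule.finrank_le (eig y 1 : Submodule F (Fin n → F))
    simpa using this
  rcases eq_or_ne θ 1 with h1 | h1
  · -- commuting case
    subst h1
    have hdec := ExtLin.le_biSup_inf_eigenspace (Matrix.toLin' (y : Matrix (Fin n) (Fin n) F))
      hr.one_lt hζ hT (eig g 1) hyW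
    have hw : finrank F (eig g 1) ≤ ∑ k ∈ Finset.range r,
        finrank F (eig g 1 ⊓ eig y (ζ ^ k) : Submodule F (Fin n → F)) :=
      (Submodule.finrank_mono hdec).trans (ExtLin.finrank_biSup_le_sum _ _)
    obtain ⟨r', rfl⟩ : ∃ r', r = r' + 1 := ⟨r - 1, by have := hr.pos; omega⟩
    rw [Finset.sum_range_succ'] at hw
    have h0 : finrank F (eig g 1 ⊓ eig y (ζ ^ 0) : Submodule F (Fin n → F))
        ≤ finrank F (eig y 1) := by
      rw [pow_zero]
      exact Submodule.finrank_mono inf_le_right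
    have hk : ∀ k ∈ Finset.range r',
        (r' + 1) * finrank F (eig g 1 ⊓ eig y (ζ ^ (k + 1)) : Submodule F (Fin n → F))
          ≤ finrank F (eig y (ζ ^ (k + 1))) := by
      intro k hk
      have hprim : IsPrimitiveRoot (ζ ^ (k + 1)) (r' + 1) := by
        apply hζ.pow_of_coprime
        rw [Nat.coprime_comm]
        apply (Nat.Prime.coprime_iff_not_dvd hr).2
        intro hd
        have := Nat.le_of_dvd (by omega) hd
        have := Finset.mem_range.mp hk
        omega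
      have := per_mu g x y hyx' hgx' (ζ ^ (k + 1)) (Nat.succ_pos r') hprim
      rwa [inf_comm]
    have hinj : ∀ i ∈ Finset.range r', ∀ j ∈ Finset.range r', ζ ^ (i + 1) = ζ ^ (j + 1) → i = j := by
      intro i hi j hj hij
      have := hζ.pow_inj (by have := Finset.mem_range.mp hi; omega)
        (by have := Finset.mem_range.mp hj; omega) hij
      omega
    have hsum : ∑ k ∈ Finset.range r', finrank F (eig y (ζ ^ (k + 1))) ≤ n := by
      have h3 := ExtLin.sum_finrank_inf_eigenspace_le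
        (Matrix.toLin' (y : Matrix (Fin n) (Fin n) F)) ⊤
        ((Finset.range r').image (fun i => ζ ^ (i + 1)))
      rw [Finset.sum_image hinj] at h3
      have h4 : finrank F (⊤ : Submodule F (Fin n → F)) = n := by simp
      rw [h4] at h3
      refine le_trans (Finset.sum_le_sum (fun k _ => ?_)) h3
      exact Submodule.finrank_mono (le_inf le_top (le_refl _))
    calc (r' + 1) * finrank F (eig g 1)
        ≤ (r' + 1) * (∑ k ∈ Finset.range r',
            finrank F (eig g 1 ⊓ eig y (ζ ^ (k + 1)) : Submodule F (Fin n → F))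
            + finrank F (eig g 1 ⊓ eig y (ζ ^ 0) : Submodule F (Fin n → F))) :=
          Nat.mul_le_mul_left _ hw
      _ = ∑ k ∈ Finset.range r', (r' + 1) *
            finrank F (eig g 1 ⊓ eig y (ζ ^ (k + 1)) : Submodule F (Fin n → F))
            + (r' + 1) * finrank F (eig g 1 ⊓ eig y (ζ ^ 0) : Submodule F (Fin n → F)) := by
          rw [mul_add, Finset.mul_sum]
      _ ≤ ∑ k ∈ Finset.range r', finrank F (eig y (ζ ^ (k + 1)))
            + (r' + 1) * finrank F (eig y 1) :=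
          add_le_add (Finset.sum_le_sum hk) (Nat.mul_le_mul_left _ h0)
      _ ≤ n + n := add_le_add hsum hE
      _ = 2 * n := by ring
  · -- primitive case
    have hθp : IsPrimitiveRoot θ r := by
      have : Fact r.Prime := ⟨hr⟩
      have := IsPrimitiveRoot.orderOf θ
      rwa [orderOf_eq_prime hθr h1] at this
    have hdec := ExtLin.le_biSup_inf_eigenspace (Matrix.toLin' (y : Matrix (Fin n) (Fin n) F))
      hr.one_lt hθp hT (eig g 1) hyW
    have hw : finrank F (eig g 1) ≤ ∑ k ∈ Finset.range r,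
        finrank F (eig g 1 ⊓ eig y (θ ^ k) : Submodule F (Fin n → F)) :=
      (Submodule.finrank_mono hdec).trans (ExtLin.finrank_biSup_le_sum _ _)
    have hstep : ∀ k ∈ Finset.range r,
        finrank F (eig g 1 ⊓ eig y (θ ^ k) : Submodule F (Fin n → F))
          ≤ finrank F (eig y 1 ⊓ eig g ((θ⁻¹) ^ tri k) : Submodule F (Fin n → F)) := by
      intro k _
      have := iter_prim g x y θ hθ0 hyx' hgx' k 1
      rw [one_mul, inf_comm] at this
      exact this
    have hfib : ∑ k ∈ Finset.range r,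
        finrank F (eig y 1 ⊓ eig g ((θ⁻¹) ^ tri k) : Submodule F (Fin n → F))
          ≤ 2 * finrank F (eig y 1) := by
      rw [Finset.sum_comp (fun ν => finrank F (eig y 1 ⊓ eig g ν : Submodule F (Fin n → F)))
        (fun k => (θ⁻¹) ^ tri k)]
      calc ∑ b ∈ (Finset.range r).image (fun k => (θ⁻¹) ^ tri k),
            ((Finset.range r).filter (fun a => (θ⁻¹) ^ tri a = b)).card •
              finrank F (eig y 1 ⊓ eig g b : Submodule F (Fin n → F))
          ≤ ∑ b ∈ (Finset.range r).image (fun k => (θ⁻¹) ^ tri k),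
              2 * finrank F (eig y 1 ⊓ eig g b : Submodule F (Fin n → F)) := by
            apply Finset.sum_le_sum
            intro b _
            rw [smul_eq_mul]
            exact Nat.mul_le_mul_right _ (fiber_card_le_two hr hθp.inv b)
        _ = 2 * ∑ b ∈ (Finset.range r).image (fun k => (θ⁻¹) ^ tri k),
              finrank F (eig y 1 ⊓ eig g b : Submodule F (Fin n → F)) := by
            rw [Finset.mul_sum]
        _ ≤ 2 * finrank F (eig y 1) :=
            Nat.mul_le_mul_left _ (ExtLin.sum_finrank_inf_eigenspace_le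
              (Matrix.toLin' (g : Matrix (Fin n) (Fin n) F)) (eig y 1) _)
    calc r * finrank F (eig g 1) ≤ r * (2 * finrank F (eig y 1)) :=
          Nat.mul_le_mul_left _ (hw.trans ((Finset.sum_le_sum hstep).trans hfib))
      _ = 2 * (r * finrank F (eig y 1)) := by ring
      _ ≤ 2 * n := Nat.mul_le_mul_left _ hE

end Cfsg.Agent.Lib.Helper97.ExtQ
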