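import Mathlib
import Cfsg.Prelude.Def_GeometricClasses
import Cfsg.Agent.Lib.Helper97.CommTrick
import Cfsg.Agent.Lib.Helper97.ExtLin
import Cfsg.Agent.Lib.Helper97.ExtQ
import Cfsg.Agent.Lib.Helper97.ExtP

set_option autoImplicit false

namespace Cfsg.Agent.Lib.Helper97.ExtS

open Matrix Module
open Cfsg.Agent.Lib.Helper97
open scoped commutatorElement

variable {n : ℕ} {F : Type*} [Field F]

lemma scalars_le_center :
    Cfsg.Geo.scalars (Fin n) F ≤ Subgroup.center (Matrix.GeneralLinearGroup (Fin n) F) := by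
  intro s hs
  rw [Cfsg.Geo.mem_scalars_iff] at hs
  obtain ⟨c, hc⟩ := hs
  rw [Subgroup.mem_center_iff]
  intro a
  apply Units.ext
  rw [Units.val_mul, Units.val_mul, hc, Matrix.mul_smul, Matrix.smul_mul, Matrix.mul_one,
    Matrix.one_mul]

lemma fixSp_eq_bot_of_scalar {s : Matrix.GeneralLinearGroup (Fin n) F}
    (hs : s ∈ Cfsg.Geo.scalars (Fin n) F) (h1 : s ≠ 1) : fixSp s = ⊥ := by
  obtain ⟨c, hc⟩ := (Cfsg.Geo.mem_scalars_iff s).1 hs
  have hc1 : (c : F) ≠ 1 := by
    intro h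
    apply h1
    apply Units.ext
    rw [hc, h, one_smul, Units.val_one]
  rw [eq_bot_iff]
  intro v hv
  rw [mem_fixSp, hc, Matrix.smul_mulVec, Matrix.one_mulVec] at hv
  have h2 : ((c : F) - 1) • v = 0 := by rw [sub_smul, hv, one_smul, sub_self]
  rcases smul_eq_zero.mp h2 with h | h
  · exact absurd (sub_eq_zero.mp h) hc1
  · simpa using h

lemma mem_scalars_of_commute {R : Subgroup (Matrix.GeneralLinearGroup (Fin n) F)}
    (hirr : Cfsg.Geo.ActsAbsolutelyIrreducibly (Cfsg.Geo.matrixSet R))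
    (a : Matrix.GeneralLinearGroup (Fin n) F) (h : ∀ b ∈ R, a * b = b * a) :
    a ∈ Cfsg.Geo.scalars (Fin n) F := by
  obtain ⟨c, hc⟩ := hirr.2 (a : Matrix (Fin n) (Fin n) F) (by
    rintro _ ⟨b, hb, rfl⟩
    have := congrArg Units.val (h b hb)
    rwa [Units.val_mul, Units.val_mul] at this)
  rw [Cfsg.Geo.mem_scalars_iff]
  by_cases h0 : c = 0
  · rw [h0, zero_smul] at hc
    have h1 : (1 : Matrix (Fin n) (Fin n) F) = 0 := by
      have := congrArg Units.val (mul_inv_cancel a)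
      rw [Units.val_mul, hc, zero_mul, Units.val_one] at this
      exact this.symm
    exact ⟨1, by rw [hc, Units.val_one, one_smul, h1]⟩
  · exact ⟨Units.mk0 c h0, by rw [hc]; rfl⟩

lemma comm_central_left {G : Type*} [Group G] {s : G} (hs : s ∈ Subgroup.center G) (a b : G) :
    ⁅a * s, b⁆ = ⁅a, b⁆ := by
  have h1 : ⁅s, b⁆ = 1 := by
    rw [commutatorElement_eq_one_iff_mul_comm]
    exact (Subgroup.mem_center_iff.mp hs b).symm
  rw [ExtP.comm_mul_left' (by rw [h1]; exact Subgroup.one_mem _), h1, mul_one]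

lemma comm_central_right {G : Type*} [Group G] {s : G} (hs : s ∈ Subgroup.center G) (a b : G) :
    ⁅a, b * s⁆ = ⁅a, b⁆ := by
  have h1 : ⁅a, s⁆ = 1 := by
    rw [commutatorElement_eq_one_iff_mul_comm]
    exact Subgroup.mem_center_iff.mp hs a
  rw [ExtP.comm_mul_right' (by rw [h1]; exact Subgroup.one_mem _), h1, mul_one]

section setup

variable {r : ℕ} (R : Subgroup (Matrix.GeneralLinearGroup (Fin n) F))

/-- commutators in `R` are scalars of order dividing `r` -/
lemma comm_R (hZ : Nat.card (Subgroup.center R) = r) (hext : commutator R = Subgroup.center R)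
    (hirr : Cfsg.Geo.ActsAbsolutelyIrreducibly (Cfsg.Geo.matrixSet R))
    {a b : Matrix.GeneralLinearGroup (Fin n) F} (ha : a ∈ R) (hb : b ∈ R) :
    ⁅a, b⁆ ∈ Cfsg.Geo.scalars (Fin n) F ∧ ⁅a, b⁆ ^ r = 1 := by
  set z : R := ⁅(⟨a, ha⟩ : R), (⟨b, hb⟩ : R)⁆ with hz
  have hzc : z ∈ Subgroup.center R := by
    rw [← hext, commutator_def]
    exact Subgroup.commutator_mem_commutator (Subgroup.mem_top _) (Subgroup.mem_top _)
  have hzval : (z : Matrix.GeneralLinearGroup (Fin n) F) = ⁅a, b⁆ := by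
    simp [hz, commutatorElement_def]
  constructor
  · rw [← hzval]
    apply mem_scalars_of_commute hirr
    intro c hc
    have := Subgroup.mem_center_iff.mp hzc ⟨c, hc⟩
    have := congrArg Subtype.val this
    simpa using this.symm
  · rw [← hzval]
    have h1 : (⟨z, hzc⟩ : Subgroup.center R) ^ r = 1 := by
      rw [← hZ]
      exact pow_card_eq_one'
    have h2 := congrArg (fun u : Subgroup.center R => ((u : R) : Matrix.GeneralLinearGroup (Fin n) F)) h1
    simpa using h2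


lemma mem_hat {a : Matrix.GeneralLinearGroup (Fin n) F} :
    a ∈ R ⊔ Cfsg.Geo.scalars (Fin n) F ↔
      ∃ a₀ ∈ R, ∃ s ∈ Cfsg.Geo.scalars (Fin n) F, a₀ * s = a :=
  Subgroup.mem_sup_of_normal_right

/-- commutators in `R ⊔ scalars` are scalars of order dividing `r` -/
lemma comm_H (hZ : Nat.card (Subgroup.center R) = r) (hext : commutator R = Subgroup.center R)
    (hirr : Cfsg.Geo.ActsAbsolutelyIrreducibly (Cfsg.Geo.matrixSet R))
    {a b : Matrix.GeneralLinearGroup (Fin n) F} (ha : a ∈ R ⊔ Cfsg.Geo.scalars (Fin n) F)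
    (hb : b ∈ R ⊔ Cfsg.Geo.scalars (Fin n) F) :
    ⁅a, b⁆ ∈ Cfsg.Geo.scalars (Fin n) F ∧ ⁅a, b⁆ ^ r = 1 := by
  obtain ⟨a₀, ha₀, s, hs, rfl⟩ := (mem_hat R).1 ha
  obtain ⟨b₀, hb₀, t, ht, rfl⟩ := (mem_hat R).1 hb
  rw [comm_central_left (scalars_le_center hs), comm_central_right (scalars_le_center ht)]
  exact comm_R R hZ hext hirr ha₀ hb₀

lemma csetup (hZ : Nat.card (Subgroup.center R) = r) (hext : commutator R = Subgroup.center R)
    (hirr : Cfsg.Geo.ActsAbsolutelyIrreducibly (Cfsg.Geo.matrixSet R))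
    {g : Matrix.GeneralLinearGroup (Fin n) F}
    (hg : g ∈ Cfsg.Geo.subgroupNormalizer (R ⊔ Cfsg.Geo.scalars (Fin n) F)) :
    ExtP.CSetup (R ⊔ Cfsg.Geo.scalars (Fin n) F) g r where
  central _ ha _ hb := scalars_le_center (comm_H R hZ hext hirr ha hb).1
  pow _ ha _ hb := (comm_H R hZ hext hirr ha hb).2
  conj_mem a ha := (Subgroup.mem_normalizer_iff.mp hg a).mp ha
  conj_mem' a ha := (Subgroup.mem_normalizer_iff''.mp hg a).mp ha

lemma exists_comm_ne_one (hirr : Cfsg.Geo.ActsAbsolutelyIrreducibly (Cfsg.Geo.matrixSet R))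
    {g : Matrix.GeneralLinearGroup (Fin n) F} (hgS : g ∉ Cfsg.Geo.scalars (Fin n) F) :
    ∃ x ∈ R, ⁅g, x⁆ ≠ 1 := by
  by_contra h
  apply hgS
  apply mem_scalars_of_commute hirr
  intro b hb
  by_contra hb'
  exact h ⟨b, hb, fun h1 => hb' (commutatorElement_eq_one_iff_mul_comm.mp h1)⟩

/-- vector form of a scalar commutator relation -/
lemma mulVec_comm_of_commutator (y x : Matrix.GeneralLinearGroup (Fin n) F) (θ : F)
    (h : ((⁅y, x⁆ : Matrix.GeneralLinearGroup (Fin n) F) : Matrix (Fin n) (Fin n) F)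
      = θ • (1 : Matrix (Fin n) (Fin n) F)) (v : Fin n → F) :
    (y : Matrix (Fin n) (Fin n) F) *ᵥ ((x : Matrix (Fin n) (Fin n) F) *ᵥ v)
      = θ • ((x : Matrix (Fin n) (Fin n) F) *ᵥ ((y : Matrix (Fin n) (Fin n) F) *ᵥ v)) := by
  obtain ⟨t, ht⟩ : ∃ t : Matrix.GeneralLinearGroup (Fin n) F, t = ⁅y, x⁆ := ⟨_, rfl⟩
  rw [← ht] at h
  have e : y * x = t * (x * y) := by rw [ht, commutatorElement_def]; group
  have : ((y * x : Matrix.GeneralLinearGroup (Fin n) F) : Matrix (Fin n) (Fin n) F) *ᵥ v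
      = ((t * (x * y) : Matrix.GeneralLinearGroup (Fin n) F) :
          Matrix (Fin n) (Fin n) F) *ᵥ v := by rw [← e]
  rw [gl_mulVec_mul, gl_mulVec_mul, gl_mulVec_mul, h, Matrix.smul_mulVec,
    Matrix.one_mulVec] at this
  exact this

/-- a scalar of order dividing `r` different from `1` gives a primitive root -/
lemma scalar_prim (hr : r.Prime) {s : Matrix.GeneralLinearGroup (Fin n) F}
    (hs : s ∈ Cfsg.Geo.scalars (Fin n) F) (hsr : s ^ r = 1) (hs1 : s ≠ 1) :
    ∃ c : F, IsPrimitiveRoot c r ∧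
      (s : Matrix (Fin n) (Fin n) F) = c • (1 : Matrix (Fin n) (Fin n) F) := by
  obtain ⟨c, hc⟩ := (Cfsg.Geo.mem_scalars_iff s).1 hs
  refine ⟨c, ?_, hc⟩
  have hc1 : (c : F) ≠ 1 := by
    intro h
    apply hs1
    apply Units.ext
    rw [hc, h, one_smul, Units.val_one]
  have hn : 0 < n := by
    rcases Nat.eq_zero_or_pos n with h0 | h0
    · subst h0
      exfalso
      apply hs1
      apply Units.ext
      exact Subsingleton.elim _ _
    · exact h0
  have hcr : (c : F) ^ r = 1 := by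
    have h1 := congrArg Units.val hsr
    rw [Units.val_pow_eq_pow_val, hc, smul_pow, one_pow, Units.val_one] at h1
    have h2 := congrFun (congrFun h1 ⟨0, hn⟩) ⟨0, hn⟩
    simpa using h2
  have : Fact r.Prime := ⟨hr⟩
  have h3 := IsPrimitiveRoot.orderOf (c : F)
  rwa [orderOf_eq_prime hcr hc1] at h3

/-- **L1**: a non-scalar element of `R ⊔ scalars` has a small fixed space -/
lemma finrank_fixSp_le (hr : r.Prime) (hZ : Nat.card (Subgroup.center R) = r)
    (hext : commutator R = Subgroup.center R)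
    (hirr : Cfsg.Geo.ActsAbsolutelyIrreducibly (Cfsg.Geo.matrixSet R))
    {y : Matrix.GeneralLinearGroup (Fin n) F} (hy : y ∈ R ⊔ Cfsg.Geo.scalars (Fin n) F)
    (hyS : y ∉ Cfsg.Geo.scalars (Fin n) F) :
    r * finrank F (fixSp y) ≤ n := by
  classical
  obtain ⟨b, hb, hne⟩ := exists_comm_ne_one R hirr hyS
  have hbH : b ∈ R ⊔ Cfsg.Geo.scalars (Fin n) F := Subgroup.mem_sup_left hb
  obtain ⟨hξS, hξr⟩ := comm_H R hZ hext hirr hy hbH
  obtain ⟨c, hc, hcm⟩ := scalar_prim hr hξS hξr hne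
  have hrel := mulVec_comm_of_commutator y b c hcm
  have hc0 : c ≠ 0 := hc.ne_zero hr.ne_zero
  have hstep : ∀ μ : F, finrank F (ExtQ.eig y μ) ≤ finrank F (ExtQ.eig y (c * μ)) := by
    intro μ
    set L := Matrix.toLin' (b : Matrix (Fin n) (Fin n) F) with hL
    have hLinj : Function.Injective L := gl_toLin'_injective b
    have h1 : (ExtQ.eig y μ).map L ≤ ExtQ.eig y (c * μ) := by
      rintro _ ⟨v, hv, rfl⟩
      rw [SetLike.mem_coe, ExtQ.mem_eig] at hv
      rw [ExtQ.mem_eig, hL, Matrix.toLin'_apply, hrel, hv, Matrix.mulVec_smul, smul_smul]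
    calc finrank F (ExtQ.eig y μ) = finrank F ((ExtQ.eig y μ).map L) :=
          (LinearEquiv.finrank_eq (Submodule.equivMapOfInjective L hLinj _))
      _ ≤ _ := Submodule.finrank_mono h1
  have hiter : ∀ i : ℕ, finrank F (ExtQ.eig y 1) ≤ finrank F (ExtQ.eig y (c ^ i)) := by
    intro i
    induction i with
    | zero => rw [pow_zero]
    | succ i ih =>
      have := hstep (c ^ i)
      rw [← pow_succ'] at this
      exact ih.trans this
  have hinj : ∀ i ∈ Finset.range r, ∀ j ∈ Finset.range r, c ^ i = c ^ j → i = j := by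
    intro i hi j hj hij
    exact hc.pow_inj (Finset.mem_range.mp hi) (Finset.mem_range.mp hj) hij
  have hsum : ∑ i ∈ Finset.range r, finrank F (ExtQ.eig y (c ^ i)) ≤ n := by
    have h3 := ExtLin.sum_finrank_inf_eigenspace_le
      (Matrix.toLin' (y : Matrix (Fin n) (Fin n) F)) ⊤
      ((Finset.range r).image (fun i => c ^ i))
    rw [Finset.sum_image hinj] at h3
    have h4 : finrank F (⊤ : Submodule F (Fin n → F)) = n := by simp
    rw [h4] at h3
    refine le_trans (Finset.sum_le_sum (fun k _ => ?_)) h3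
    exact Submodule.finrank_mono (le_inf le_top (le_refl _))
  calc r * finrank F (fixSp y) = ∑ _i ∈ Finset.range r, finrank F (ExtQ.eig y 1) := by
        rw [Finset.sum_const, Finset.card_range, smul_eq_mul]
        rfl
    _ ≤ ∑ i ∈ Finset.range r, finrank F (ExtQ.eig y (c ^ i)) :=
        Finset.sum_le_sum (fun i _ => hiter i)
    _ ≤ n := hsum

/-- **L2**: the basic bound -/
lemma basic_bound (hr : r.Prime) (hZ : Nat.card (Subgroup.center R) = r)
    (hext : commutator R = Subgroup.center R)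
    (hirr : Cfsg.Geo.ActsAbsolutelyIrreducibly (Cfsg.Geo.matrixSet R))
    {g : Matrix.GeneralLinearGroup (Fin n) F}
    (hg : g ∈ Cfsg.Geo.subgroupNormalizer (R ⊔ Cfsg.Geo.scalars (Fin n) F))
    (hgS : g ∉ Cfsg.Geo.scalars (Fin n) F) :
    2 * r * finrank F (fixSp g) ≤ (r + 1) * n := by
  obtain ⟨x, hx, hne⟩ := exists_comm_ne_one R hirr hgS
  have hxH : x ∈ R ⊔ Cfsg.Geo.scalars (Fin n) F := Subgroup.mem_sup_left hx
  have hcs := csetup R hZ hext hirr hg
  have huH : ⁅g, x⁆ ∈ R ⊔ Cfsg.Geo.scalars (Fin n) F := by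
    rw [commutatorElement_def]
    exact Subgroup.mul_mem _ (hcs.conj_mem x hxH) (Subgroup.inv_mem _ hxH)
  have h := fixSp_commutator g x
  by_cases huS : ⁅g, x⁆ ∈ Cfsg.Geo.scalars (Fin n) F
  · rw [fixSp_eq_bot_of_scalar huS hne, finrank_bot] at h
    nlinarith
  · have h2 := finrank_fixSp_le R hr hZ hext hirr huH huS
    nlinarith

end setup

end Cfsg.Agent.Lib.Helper97.ExtS
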