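import Mathlib
import Cfsg.Prelude.Def_GeometricClasses
import Cfsg.Agent.Lib.Helper97.CommTrick
import Cfsg.Agent.Lib.Helper97.AbelianFpf
import Cfsg.Agent.Lib.Helper97.ExtLin
import Cfsg.Agent.Lib.Helper97.ExtQ
import Cfsg.Agent.Lib.Helper97.ExtP
import Cfsg.Agent.Lib.Helper97.ExtS
import Cfsg.Agent.Lib.Helper97.ExtE

set_option autoImplicit false

namespace Cfsg.Agent.Lib.Helper97.ExtM

open Matrix Module
open Cfsg.Agent.Lib.Helper97
open scoped commutatorElement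

variable {n : ℕ} {F : Type*} [Field F]

lemma inf_map_le_fixSp_commutator (a y : Matrix.GeneralLinearGroup (Fin n) F) :
    fixSp a ⊓ (fixSp a).map (Matrix.toLin' (y : Matrix (Fin n) (Fin n) F)) ≤ fixSp ⁅a, y⁆ := by
  intro v hv
  obtain ⟨hv1, hv2⟩ := hv
  obtain ⟨w, hw, rfl⟩ := hv2
  rw [SetLike.mem_coe, mem_fixSp] at hw hv1
  rw [mem_fixSp, commutatorElement_def, gl_mulVec_mul, gl_mulVec_mul, gl_mulVec_mul]
  rw [Matrix.toLin'_apply] at hv1 ⊢
  rw [gl_inv_mulVec_cancel]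
  have hw' : ((a⁻¹ : Matrix.GeneralLinearGroup (Fin n) F) : Matrix (Fin n) (Fin n) F) *ᵥ w = w := by
    conv_lhs => rw [← hw]
    exact gl_inv_mulVec_cancel a w
  rw [hw', hv1]

lemma fixSp_le_fixSp_pow (g : Matrix.GeneralLinearGroup (Fin n) F) (i : ℕ) :
    fixSp g ≤ fixSp (g ^ i) := by
  intro v hv
  rw [mem_fixSp] at hv ⊢
  induction i with
  | zero => rw [pow_zero, Units.val_one, Matrix.one_mulVec]
  | succ i ih => rw [pow_succ, gl_mulVec_mul, hv, ih]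

/-- the intersection of the fixed space with its translate is nonzero when the fixed space is big -/
lemma exists_ne_zero_mem_inf (g x : Matrix.GeneralLinearGroup (Fin n) F)
    (hw : n < 2 * finrank F (fixSp g)) :
    ∃ v : Fin n → F, v ≠ 0 ∧
      v ∈ fixSp g ⊓ (fixSp g).map (Matrix.toLin' (x : Matrix (Fin n) (Fin n) F)) := by
  set U := fixSp g with hU
  set U' := U.map (Matrix.toLin' (x : Matrix (Fin n) (Fin n) F)) with hU'
  have h2 : finrank F U' = finrank F U :=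
    (LinearEquiv.finrank_eq (Submodule.equivMapOfInjective _ (gl_toLin'_injective x) U)).symm
  have h3 := Submodule.finrank_sup_add_finrank_inf_eq U U'
  have h4 : finrank F (U ⊔ U' : Submodule F (Fin n → F)) ≤ n := by
    have := Submodule.finrank_le (U ⊔ U')
    simpa using this
  have h5 : 0 < finrank F (U ⊓ U' : Submodule F (Fin n → F)) := by omega
  obtain ⟨⟨v, hv⟩, hv0⟩ := Module.finrank_pos_iff_exists_ne_zero.mp h5
  exact ⟨v, fun h => hv0 (Subtype.ext h), hv⟩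

section main

variable {r : ℕ} (R : Subgroup (Matrix.GeneralLinearGroup (Fin n) F))

lemma comm_comm_eq_one (hZ : Nat.card (Subgroup.center R) = r)
    (hext : commutator R = Subgroup.center R)
    (hirr : Cfsg.Geo.ActsAbsolutelyIrreducibly (Cfsg.Geo.matrixSet R))
    {g : Matrix.GeneralLinearGroup (Fin n) F}
    (hg : g ∈ Cfsg.Geo.subgroupNormalizer (R ⊔ Cfsg.Geo.scalars (Fin n) F))
    (hw : n < 2 * finrank F (fixSp g))
    (x : Matrix.GeneralLinearGroup (Fin n) F) (hx : x ∈ R ⊔ Cfsg.Geo.scalars (Fin n) F)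
    (i j : ℕ) : ⁅⁅g ^ i, x⁆, ⁅g ^ j, x⁆⁆ = 1 := by
  obtain ⟨v, hv0, hv⟩ := exists_ne_zero_mem_inf g x hw
  have hcs := ExtS.csetup R hZ hext hirr hg
  have hfix : ∀ i : ℕ, ⁅g ^ i, x⁆ ∈ stabV v := by
    intro i
    rw [mem_stabV, ← mem_fixSp]
    apply inf_map_le_fixSp_commutator (g ^ i) x
    exact ⟨fixSp_le_fixSp_pow g i hv.1, Submodule.map_mono (fixSp_le_fixSp_pow g i) hv.2⟩
  have hH : ∀ i : ℕ, ⁅g ^ i, x⁆ ∈ R ⊔ Cfsg.Geo.scalars (Fin n) F := by
    intro i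
    rw [commutatorElement_def]
    exact Subgroup.mul_mem _ (hcs.pow_conj_mem i x hx) (Subgroup.inv_mem _ hx)
  have h1 : ⁅⁅g ^ i, x⁆, ⁅g ^ j, x⁆⁆ ∈ stabV v := by
    rw [commutatorElement_def]
    exact Subgroup.mul_mem _ (Subgroup.mul_mem _ (Subgroup.mul_mem _ (hfix i) (hfix j))
      (Subgroup.inv_mem _ (hfix i))) (Subgroup.inv_mem _ (hfix j))
  have h2 := (ExtS.comm_H R hZ hext hirr (hH i) (hH j)).1
  by_contra hne
  have h3 := ExtS.fixSp_eq_bot_of_scalar h2 hne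
  have h4 : v ∈ fixSp ⁅⁅g ^ i, x⁆, ⁅g ^ j, x⁆⁆ := by
    rw [mem_fixSp, ← mem_stabV]
    exact h1
  rw [h3, Submodule.mem_bot] at h4
  exact hv0 h4

/-- elements acting trivially on `R ⊔ scalars` modulo scalars -/
def Tsub (H S : Subgroup (Matrix.GeneralLinearGroup (Fin n) F))
    (hS : S ≤ Subgroup.center (Matrix.GeneralLinearGroup (Fin n) F)) :
    Subgroup (Matrix.GeneralLinearGroup (Fin n) F) where
  carrier := {h | ∀ y ∈ H, ⁅h, y⁆ ∈ S}
  one_mem' := by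
    intro y _
    rw [commutatorElement_one_left]
    exact S.one_mem
  mul_mem' := by
    intro a b ha hb y hy
    rw [ExtP.comm_mul_left' (hS (hb y hy))]
    exact S.mul_mem (ha y hy) (hb y hy)
  inv_mem' := by
    intro a ha y hy
    rw [ExtP.comm_inv_left' (hS (ha y hy))]
    exact S.inv_mem (ha y hy)

lemma mem_Tsub (H S : Subgroup (Matrix.GeneralLinearGroup (Fin n) F))
    (hS : S ≤ Subgroup.center (Matrix.GeneralLinearGroup (Fin n) F))
    (h : Matrix.GeneralLinearGroup (Fin n) F) : h ∈ Tsub H S hS ↔ ∀ y ∈ H, ⁅h, y⁆ ∈ S := Iff.rfl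

/-- if `g` acts trivially modulo scalars then the bound `n / 2` holds -/
lemma bound_of_mem_Tsub (hirr : Cfsg.Geo.ActsAbsolutelyIrreducibly (Cfsg.Geo.matrixSet R))
    {g : Matrix.GeneralLinearGroup (Fin n) F}
    (hgS : g ∉ Cfsg.Geo.scalars (Fin n) F)
    (hT : ∀ y ∈ R ⊔ Cfsg.Geo.scalars (Fin n) F, ⁅g, y⁆ ∈ Cfsg.Geo.scalars (Fin n) F) :
    2 * finrank F (fixSp g) ≤ n := by
  obtain ⟨x, hx, hne⟩ := ExtS.exists_comm_ne_one R hirr hgS
  have h := fixSp_commutator g x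
  rw [ExtS.fixSp_eq_bot_of_scalar (hT x (Subgroup.mem_sup_left hx)) hne, finrank_bot] at h
  omega

/-- **L3**: the case `ϖ` odd and prime to `r` -/
theorem bound_of_coprime (hZ : Nat.card (Subgroup.center R) = r)
    (hext : commutator R = Subgroup.center R)
    (hirr : Cfsg.Geo.ActsAbsolutelyIrreducibly (Cfsg.Geo.matrixSet R))
    {g : Matrix.GeneralLinearGroup (Fin n) F}
    (hg : g ∈ Cfsg.Geo.subgroupNormalizer (R ⊔ Cfsg.Geo.scalars (Fin n) F))
    (hgS : g ∉ Cfsg.Geo.scalars (Fin n) F) {ϖ : ℕ} (hodd : Odd ϖ) (hcop : Nat.Coprime ϖ r)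
    (hgϖ : g ^ ϖ ∈ Cfsg.Geo.scalars (Fin n) F) :
    2 * finrank F (fixSp g) ≤ n := by
  by_contra hlt
  have hw : n < 2 * finrank F (fixSp g) := by omega
  apply hlt
  have hcs := ExtS.csetup R hZ hext hirr hg
  have hP := hcs.centralizes_mod hcop (ExtS.scalars_le_center hgϖ)
    (fun x hx i j => comm_comm_eq_one R hZ hext hirr hg hw x hx i j)
  have hu : ∀ y ∈ R ⊔ Cfsg.Geo.scalars (Fin n) F,
      (g * y * g⁻¹) * (g⁻¹ * y * g)⁻¹ ∈ Cfsg.Geo.scalars (Fin n) F := by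
    intro y hy
    apply ExtS.mem_scalars_of_commute hirr
    intro b hb
    have := hP b y (Subgroup.mem_sup_left hb) hy
    exact (commutatorElement_eq_one_iff_mul_comm.mp this).symm
  have h2 : ∀ y ∈ R ⊔ Cfsg.Geo.scalars (Fin n) F, ⁅g ^ 2, y⁆ ∈ Cfsg.Geo.scalars (Fin n) F := by
    intro y hy
    have := hu (g * y * g⁻¹) (hcs.conj_mem y hy)
    have e : (g * (g * y * g⁻¹) * g⁻¹) * (g⁻¹ * (g * y * g⁻¹) * g)⁻¹ = ⁅g ^ 2, y⁆ := by
      rw [commutatorElement_def, pow_two]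
      group
    rwa [e] at this
  have hT2 : g ^ 2 ∈ Tsub (R ⊔ Cfsg.Geo.scalars (Fin n) F) (Cfsg.Geo.scalars (Fin n) F)
      ExtS.scalars_le_center := h2
  have hTϖ : g ^ ϖ ∈ Tsub (R ⊔ Cfsg.Geo.scalars (Fin n) F) (Cfsg.Geo.scalars (Fin n) F)
      ExtS.scalars_le_center := by
    intro y _
    have : ⁅g ^ ϖ, y⁆ = 1 := by
      rw [commutatorElement_eq_one_iff_mul_comm]
      exact (Subgroup.mem_center_iff.mp (ExtS.scalars_le_center hgϖ) y).symm
    rw [this]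
    exact Subgroup.one_mem _
  obtain ⟨m, hm⟩ := hodd
  have hgT : g ∈ Tsub (R ⊔ Cfsg.Geo.scalars (Fin n) F) (Cfsg.Geo.scalars (Fin n) F)
      ExtS.scalars_le_center := by
    have e : g = (g ^ 2) ^ (m + 1) * (g ^ ϖ)⁻¹ := by
      rw [← pow_mul, hm, eq_mul_inv_iff_mul_eq, ← pow_succ']
      congr 1
    rw [e]
    exact Subgroup.mul_mem _ (Subgroup.pow_mem _ hT2 _) (Subgroup.inv_mem _ hTϖ)
  exact bound_of_mem_Tsub R hirr hgS hgT


/-- a nontrivial commutator of `R` gives a primitive `r`-th root of unity -/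
lemma exists_prim (hr : r.Prime) (hZ : Nat.card (Subgroup.center R) = r)
    (hext : commutator R = Subgroup.center R)
    (hirr : Cfsg.Geo.ActsAbsolutelyIrreducibly (Cfsg.Geo.matrixSet R)) :
    ∃ ξ ∈ R, ∃ ζ : F, IsPrimitiveRoot ζ r ∧
      (ξ : Matrix (Fin n) (Fin n) F) = ζ • (1 : Matrix (Fin n) (Fin n) F) := by
  have hex : ∃ a b : R, ⁅a, b⁆ ≠ 1 := by
    by_contra h
    have h' : ∀ a b : R, ⁅a, b⁆ = 1 := by
      intro a b
      by_contra hab
      exact h ⟨a, b, hab⟩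
    have h1 : commutator R = ⊥ := by
      rw [eq_bot_iff, commutator_def, Subgroup.commutator_le]
      intro a _ b _
      rw [h' a b]
      exact Subgroup.one_mem _
    rw [h1] at hext
    rw [← hext, Subgroup.card_bot] at hZ
    exact hr.one_lt.ne hZ
  obtain ⟨a, b, hab⟩ := hex
  have hne : ⁅(a : Matrix.GeneralLinearGroup (Fin n) F), (b : Matrix.GeneralLinearGroup (Fin n) F)⁆ ≠ 1 := by
    intro h
    apply hab
    apply Subtype.ext
    simpa [commutatorElement_def] using h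
  obtain ⟨h1, h2⟩ := ExtS.comm_R R hZ hext hirr a.2 b.2
  obtain ⟨ζ, hζ, hm⟩ := ExtS.scalar_prim hr h1 h2 hne
  refine ⟨⁅(a : Matrix.GeneralLinearGroup (Fin n) F), (b : Matrix.GeneralLinearGroup (Fin n) F)⁆,
    ?_, ζ, hζ, hm⟩
  rw [commutatorElement_def]
  exact R.mul_mem (R.mul_mem (R.mul_mem a.2 b.2) (R.inv_mem a.2)) (R.inv_mem b.2)

lemma scalar_root (hr : r.Prime) {s : Matrix.GeneralLinearGroup (Fin n) F}
    (hs : s ∈ Cfsg.Geo.scalars (Fin n) F) (hsr : s ^ r = 1) :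
    ∃ θ : F, θ ^ r = 1 ∧
      (s : Matrix (Fin n) (Fin n) F) = θ • (1 : Matrix (Fin n) (Fin n) F) := by
  by_cases h1 : s = 1
  · exact ⟨1, one_pow _, by rw [h1, Units.val_one, one_smul]⟩
  · obtain ⟨c, hc, hm⟩ := ExtS.scalar_prim hr hs hsr h1
    exact ⟨c, hc.pow_eq_one, hm⟩

lemma scalar_mem_R (hr : r.Prime) (hZ : Nat.card (Subgroup.center R) = r)
    (hext : commutator R = Subgroup.center R)
    (hirr : Cfsg.Geo.ActsAbsolutelyIrreducibly (Cfsg.Geo.matrixSet R))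
    {t : Matrix.GeneralLinearGroup (Fin n) F}
    (ht : t ∈ Cfsg.Geo.scalars (Fin n) F) (htr : t ^ r = 1) : t ∈ R := by
  obtain ⟨ξ, hξ, ζ, hζ, hm⟩ := exists_prim R hr hZ hext hirr
  obtain ⟨θ, hθ, hmt⟩ := scalar_root hr ht htr
  have : NeZero r := ⟨hr.ne_zero⟩
  obtain ⟨i, _, hi⟩ := hζ.eq_pow_of_pow_eq_one hθ
  have : t = ξ ^ i := by
    apply Units.ext
    rw [Units.val_pow_eq_pow_val, hm, hmt, smul_pow, one_pow, hi]
  rw [this]
  exact R.pow_mem hξ i

section fin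

variable [Finite F]

/-- the Engel step: iterated commutators with `g` end in the scalars -/
lemma engel_step (hr : r.Prime) (hexp : ∀ a ∈ R, a ^ r = 1)
    {g : Matrix.GeneralLinearGroup (Fin n) F}
    (hg : g ∈ Cfsg.Geo.subgroupNormalizer (R ⊔ Cfsg.Geo.scalars (Fin n) F))
    (hgr : g ^ r ∈ Cfsg.Geo.scalars (Fin n) F)
    (x₀ : Matrix.GeneralLinearGroup (Fin n) F) (hx₀ : x₀ ∈ R ⊔ Cfsg.Geo.scalars (Fin n) F) :
    ∃ k : ℕ, (fun e => ⁅g, e⁆)^[k] x₀ ∈ Cfsg.Geo.scalars (Fin n) F := by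
  have : Fact r.Prime := ⟨hr⟩
  set S := Cfsg.Geo.scalars (Fin n) F with hS
  set π := QuotientGroup.mk' S with hπ
  set A := Subgroup.zpowers (π g) with hA
  set B := (R ⊔ S).map π with hB
  have hpow : ∀ a ∈ R ⊔ S, a ^ r ∈ S := by
    intro a ha
    obtain ⟨a₀, ha₀, s, hs, rfl⟩ := (ExtS.mem_hat R).1 ha
    have hc : Commute a₀ s := (Subgroup.mem_center_iff.mp (ExtS.scalars_le_center hs) a₀)
    rw [hc.mul_pow, hexp a₀ ha₀, one_mul]
    exact S.pow_mem hs r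
  have hBp : IsPGroup r B := by
    rintro ⟨q, hq⟩
    obtain ⟨a, ha, rfl⟩ := hq
    refine ⟨1, ?_⟩
    apply Subtype.ext
    rw [pow_one, Subgroup.coe_pow, Subgroup.coe_one, ← map_pow]
    exact (QuotientGroup.eq_one_iff _).2 (hpow a ha)
  have hgπ : (π g) ^ r = 1 := by
    rw [← map_pow]
    exact (QuotientGroup.eq_one_iff _).2 hgr
  have hAp : IsPGroup r A := by
    rintro ⟨q, hq⟩
    obtain ⟨m, rfl⟩ := Subgroup.mem_zpowers_iff.1 hq
    refine ⟨1, ?_⟩
    apply Subtype.ext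
    rw [pow_one, Subgroup.coe_pow, Subgroup.coe_one, ← zpow_natCast, ← _root_.zpow_mul, mul_comm,
      _root_.zpow_mul, zpow_natCast, hgπ, _root_.one_zpow]
  have hcs_mem : ∀ a ∈ R ⊔ S, g * a * g⁻¹ ∈ R ⊔ S :=
    fun a ha => (Subgroup.mem_normalizer_iff.mp hg a).mp ha
  have hcs_mem' : ∀ a ∈ R ⊔ S, g⁻¹ * a * g ∈ R ⊔ S :=
    fun a ha => (Subgroup.mem_normalizer_iff''.mp hg a).mp ha
  have hAB : A ≤ Subgroup.normalizer B := by
    rw [hA, Subgroup.zpowers_le, Subgroup.mem_normalizer_iff]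
    intro q
    constructor
    · rintro ⟨a, ha, rfl⟩
      refine ⟨g * a * g⁻¹, hcs_mem a ha, ?_⟩
      simp
    · rintro ⟨b, hb, hbq⟩
      refine ⟨g⁻¹ * b * g, hcs_mem' b hb, ?_⟩
      rw [map_mul, map_mul, hbq, map_inv]
      group
  have hKp : IsPGroup r (A ⊔ B : Subgroup (Matrix.GeneralLinearGroup (Fin n) F ⧸ S)) :=
    hAp.to_sup_of_normal_right' hBp hAB
  obtain ⟨k, hk⟩ := ExtE.engel_pgroup r (A ⊔ B) hKp (π g) (π x₀)
    (Subgroup.mem_sup_left (Subgroup.mem_zpowers _))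
    (Subgroup.mem_sup_right (Subgroup.mem_map_of_mem π hx₀))
  refine ⟨k, ?_⟩
  rw [← ExtE.map_iterate_comm π g x₀ k] at hk
  exact (QuotientGroup.eq_one_iff _).1 hk


/-- **L4**: the case `ϖ = r` (with `R` of exponent `r`) -/
theorem bound_of_eq (hr : r.Prime) (hZ : Nat.card (Subgroup.center R) = r)
    (hext : commutator R = Subgroup.center R)
    (hirr : Cfsg.Geo.ActsAbsolutelyIrreducibly (Cfsg.Geo.matrixSet R))
    (hexp : ∀ a ∈ R, a ^ r = 1)
    {g : Matrix.GeneralLinearGroup (Fin n) F}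
    (hg : g ∈ Cfsg.Geo.subgroupNormalizer (R ⊔ Cfsg.Geo.scalars (Fin n) F))
    (hgS : g ∉ Cfsg.Geo.scalars (Fin n) F)
    (hgr : g ^ r ∈ Cfsg.Geo.scalars (Fin n) F) :
    2 * finrank F (fixSp g) ≤ n ∨ r * finrank F (fixSp g) ≤ 2 * n := by
  classical
  by_cases hT : ∀ y ∈ R ⊔ Cfsg.Geo.scalars (Fin n) F, ⁅g, y⁆ ∈ Cfsg.Geo.scalars (Fin n) F
  · left
    exact bound_of_mem_Tsub R hirr hgS hT
  have hex : ∃ x₀ ∈ R ⊔ Cfsg.Geo.scalars (Fin n) F, ⁅g, x₀⁆ ∉ Cfsg.Geo.scalars (Fin n) F := by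
    by_contra h
    apply hT
    intro y hy
    by_contra hy'
    exact h ⟨y, hy, hy'⟩
  obtain ⟨x₀, hx₀, hx₀S⟩ := hex
  have hcs := ExtS.csetup R hZ hext hirr hg
  set it : ℕ → Matrix.GeneralLinearGroup (Fin n) F := fun k => (fun e => ⁅g, e⁆)^[k] x₀ with hit
  have hit0 : it 0 = x₀ := rfl
  have hits : ∀ k, it (k + 1) = ⁅g, it k⁆ := by
    intro k
    simp only [hit]
    rw [Function.iterate_succ_apply']
  have hitH : ∀ k, it k ∈ R ⊔ Cfsg.Geo.scalars (Fin n) F := by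
    intro k
    induction k with
    | zero => exact hx₀
    | succ k ih =>
      rw [hits, commutatorElement_def]
      exact Subgroup.mul_mem _ (hcs.conj_mem _ ih) (Subgroup.inv_mem _ ih)
  have hengel : ∃ k, it k ∈ Cfsg.Geo.scalars (Fin n) F := engel_step R hr hexp hg hgr x₀ hx₀
  set k₀ := Nat.find hengel with hk₀
  have hk₀S : it k₀ ∈ Cfsg.Geo.scalars (Fin n) F := Nat.find_spec hengel
  have hmin : ∀ m < k₀, it m ∉ Cfsg.Geo.scalars (Fin n) F := fun m hm => Nat.find_min hengel hm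
  have h0 : it 0 ∉ Cfsg.Geo.scalars (Fin n) F := by
    intro h
    apply hx₀S
    have : ⁅g, x₀⁆ = 1 := by
      rw [commutatorElement_eq_one_iff_mul_comm]
      exact Subgroup.mem_center_iff.mp (ExtS.scalars_le_center h) g
    rw [this]
    exact Subgroup.one_mem _
  have h1 : it 1 ∉ Cfsg.Geo.scalars (Fin n) F := by
    rw [hits 0]
    exact hx₀S
  have hk2 : 2 ≤ k₀ := by
    by_contra hlt
    have : k₀ = 0 ∨ k₀ = 1 := by omega
    rcases this with h | h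
    · rw [h] at hk₀S
      exact h0 hk₀S
    · rw [h] at hk₀S
      exact h1 hk₀S
  obtain ⟨j, hj⟩ : ∃ j, k₀ = j + 2 := ⟨k₀ - 2, by omega⟩
  have hy₁S : it (j + 1) ∉ Cfsg.Geo.scalars (Fin n) F := hmin (j + 1) (by omega)
  have hlamS : ⁅g, it (j + 1)⁆ ∈ Cfsg.Geo.scalars (Fin n) F := by
    rw [← hits, ← hj]
    exact hk₀S
  by_cases hl : ⁅g, it (j + 1)⁆ = 1
  · -- the main case
    right
    obtain ⟨x, hx, s, hs, hxs⟩ := (ExtS.mem_hat R).1 (hitH j)
    have hy₁ : it (j + 1) = ⁅g, x⁆ := by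
      rw [hits, ← hxs, ExtS.comm_central_right (ExtS.scalars_le_center hs)]
    set y₁ := it (j + 1) with hy₁def
    have hxH : x ∈ R ⊔ Cfsg.Geo.scalars (Fin n) F := Subgroup.mem_sup_left hx
    -- `g x g⁻¹ ∈ R`
    have hpR : g * x * g⁻¹ ∈ R := by
      obtain ⟨a₀, ha₀, t, ht, hat⟩ := (ExtS.mem_hat R).1 (hcs.conj_mem x hxH)
      have hc : Commute a₀ t := (Subgroup.mem_center_iff.mp (ExtS.scalars_le_center ht) a₀)
      have h3 : (g * x * g⁻¹) ^ r = 1 := by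
        rw [conj_pow, hexp x hx, mul_one, mul_inv_cancel]
      rw [← hat, hc.mul_pow, hexp a₀ ha₀, one_mul] at h3
      rw [← hat]
      exact R.mul_mem ha₀ (scalar_mem_R R hr hZ hext hirr ht h3)
    have hy₁R : y₁ ∈ R := by
      rw [hy₁, commutatorElement_def]
      exact R.mul_mem hpR (R.inv_mem hx)
    have hy₁r : y₁ ^ r = 1 := hexp y₁ hy₁R
    have hgy : g * y₁ = y₁ * g := commutatorElement_eq_one_iff_mul_comm.mp hl
    have hgx : g * x * g⁻¹ = y₁ * x := by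
      rw [hy₁, commutatorElement_def]
      group
    obtain ⟨hθS, hθr⟩ := ExtS.comm_R R hZ hext hirr hy₁R hx
    obtain ⟨θ, hθ, hθm⟩ := scalar_root hr hθS hθr
    obtain ⟨_, _, ζ, hζ, _⟩ := exists_prim R hr hZ hext hirr
    have hE := ExtS.finrank_fixSp_le R hr hZ hext hirr (hitH (j + 1)) hy₁S
    exact ExtQ.quad_fiber_bound hr ζ hζ θ hθ g x y₁ hy₁r hgy hgx hθm hE
  · left
    have h := fixSp_commutator g (it (j + 1))
    rw [ExtS.fixSp_eq_bot_of_scalar hlamS hl, finrank_bot] at h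
    omega

end fin

/-- **L5**: `r` divides the dimension -/
lemma dvd_dim (hr : r.Prime) (hZ : Nat.card (Subgroup.center R) = r)
    (hext : commutator R = Subgroup.center R)
    (hirr : Cfsg.Geo.ActsAbsolutelyIrreducibly (Cfsg.Geo.matrixSet R)) : r ∣ n := by
  have hex : ∃ a b : R, ⁅a, b⁆ ≠ 1 := by
    by_contra h
    have h' : ∀ a b : R, ⁅a, b⁆ = 1 := by
      intro a b
      by_contra hab
      exact h ⟨a, b, hab⟩
    have h1 : commutator R = ⊥ := by
      rw [eq_bot_iff, commutator_def, Subgroup.commutator_le]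
      intro a _ b _
      rw [h' a b]
      exact Subgroup.one_mem _
    rw [h1] at hext
    rw [← hext, Subgroup.card_bot] at hZ
    exact hr.one_lt.ne hZ
  obtain ⟨a, b, hab⟩ := hex
  have hne : ⁅(a : Matrix.GeneralLinearGroup (Fin n) F), (b : Matrix.GeneralLinearGroup (Fin n) F)⁆ ≠ 1 := by
    intro h
    apply hab
    apply Subtype.ext
    simpa [commutatorElement_def] using h
  obtain ⟨h1, h2⟩ := ExtS.comm_R R hZ hext hirr a.2 b.2
  obtain ⟨ζ, hζ, hm⟩ := ExtS.scalar_prim hr h1 h2 hne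
  have hdet : Matrix.GeneralLinearGroup.det
      ⁅(a : Matrix.GeneralLinearGroup (Fin n) F), (b : Matrix.GeneralLinearGroup (Fin n) F)⁆ = 1 := by
    rw [map_commutatorElement, commutatorElement_eq_one_iff_mul_comm]
    exact mul_comm _ _
  have h3 := congrArg Units.val hdet
  rw [Matrix.GeneralLinearGroup.val_det_apply, hm, Matrix.det_smul, Matrix.det_one, mul_one,
    Fintype.card_fin, Units.val_one] at h3
  exact hζ.dvd_of_pow_eq_one n h3

end main

end Cfsg.Agent.Lib.Helper97.ExtM
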