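import Mathlib
import Cfsg.Prelude.Def_GeometricClasses
import Cfsg.Agent.Lib.Helper97.CommTrick
import Cfsg.Agent.Lib.Helper97.ExtS
import Cfsg.Agent.Lib.Helper97.ExtM

set_option autoImplicit false

namespace Cfsg.Agent.Lib.Helper97.ExtF

open Matrix Module
open Cfsg.Agent.Lib.Helper97
open scoped commutatorElement

variable {n : ℕ} {F : Type*} [Field F]

/-- the scalar matrix `c • 1` as an element of the scalars -/
lemma exists_scalar (c : F) (hc : c ≠ 0) :
    ∃ s ∈ Cfsg.Geo.scalars (Fin n) F,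
      (s : Matrix (Fin n) (Fin n) F) = c • (1 : Matrix (Fin n) (Fin n) F) := by
  refine ⟨Units.map (Matrix.scalar (Fin n) : F →+* Matrix (Fin n) (Fin n) F).toMonoidHom
    (Units.mk0 c hc), ⟨_, rfl⟩, ?_⟩
  simp [Matrix.smul_one_eq_diagonal]

/-- the eigenspace for `c` is the fixed space of `s⁻¹ * g` -/
lemma eigenspace_eq_fixSp (g s : Matrix.GeneralLinearGroup (Fin n) F) (c : F)
    (hs : (s : Matrix (Fin n) (Fin n) F) = c • (1 : Matrix (Fin n) (Fin n) F)) :
    Module.End.eigenspace (Matrix.toLin' (g : Matrix (Fin n) (Fin n) F)) c = fixSp (s⁻¹ * g) := by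
  ext v
  rw [Module.End.mem_eigenspace_iff, Matrix.toLin'_apply, mem_fixSp, gl_mulVec_mul]
  have hsv : ∀ u : Fin n → F, (s : Matrix (Fin n) (Fin n) F) *ᵥ u = c • u := by
    intro u
    rw [hs, Matrix.smul_mulVec, Matrix.one_mulVec]
  constructor
  · intro h
    rw [h, ← hsv v]
    exact gl_inv_mulVec_cancel s v
  · intro h
    have h2 : (s : Matrix (Fin n) (Fin n) F) *ᵥ
        (((s⁻¹ : Matrix.GeneralLinearGroup (Fin n) F) : Matrix (Fin n) (Fin n) F) *ᵥ
          ((g : Matrix (Fin n) (Fin n) F) *ᵥ v)) = (s : Matrix (Fin n) (Fin n) F) *ᵥ v := by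
      rw [h]
    rw [gl_mulVec_inv_cancel, hsv] at h2
    exact h2


/-- exponent `r` for odd `r` -/
lemma pow_eq_one_of_exponent [Finite F] {r : ℕ}
    (R : Subgroup (Matrix.GeneralLinearGroup (Fin n) F)) (hr : r.Prime) (hR : IsPGroup r R)
    (hexp : Monoid.exponent R = r ∨ Monoid.exponent R = 4) (hr2 : r ≠ 2) :
    ∀ a ∈ R, a ^ r = 1 := by
  have hexp' : Monoid.exponent R = r := by
    rcases hexp with h | h
    · exact h
    · exfalso
      have : Fact r.Prime := ⟨hr⟩
      obtain ⟨k, hk⟩ := IsPGroup.iff_card.mp hR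
      have h1 : Monoid.exponent R ∣ Nat.card R := Group.exponent_dvd_nat_card
      rw [h, hk] at h1
      have h2 : 2 ∣ r ^ k := dvd_trans (by norm_num) h1
      have h3 : 2 ∣ r := Nat.Prime.dvd_of_dvd_pow Nat.prime_two h2
      exact hr2 ((Nat.prime_dvd_prime_iff_eq Nat.prime_two hr).mp h3).symm
  intro a ha
  have h1 : (⟨a, ha⟩ : R) ^ Monoid.exponent R = 1 := Monoid.pow_exponent_eq_one _
  rw [hexp'] at h1
  have := congrArg Subtype.val h1
  simpa using this

/-- **Eigenspace bounds for elements normalising an extraspecial group** (statement of S5877). -/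
theorem eigenspace_bounds [Fintype F] {r ϖ : ℕ}
    (R : Subgroup (Matrix.GeneralLinearGroup (Fin n) F)) (hr : r.Prime) (hR : IsPGroup r R)
    (hZ : Nat.card (Subgroup.center R) = r) (hext : commutator R = Subgroup.center R)
    (hexp : Monoid.exponent R = r ∨ Monoid.exponent R = 4)
    (hirr : Cfsg.Geo.ActsAbsolutelyIrreducibly (Cfsg.Geo.matrixSet R))
    (g : Matrix.GeneralLinearGroup (Fin n) F)
    (hg : g ∈ Cfsg.Geo.subgroupNormalizer (R ⊔ Cfsg.Geo.scalars (Fin n) F))
    (hϖ : ϖ.Prime) (hord : orderOf g = ϖ) (hns : g ∉ Cfsg.Geo.scalars (Fin n) F) (c : F) :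
    (ϖ = 2 → 4 * Module.finrank F (Module.End.eigenspace
      (Matrix.toLin' (g : Matrix (Fin n) (Fin n) F)) c) ≤ 3 * n) ∧
    (ϖ = 3 → 3 * Module.finrank F (Module.End.eigenspace
      (Matrix.toLin' (g : Matrix (Fin n) (Fin n) F)) c) ≤ 2 * n) ∧
    (3 < ϖ → 2 * Module.finrank F (Module.End.eigenspace
      (Matrix.toLin' (g : Matrix (Fin n) (Fin n) F)) c) ≤ n) ∧
    (ϖ = 3 → ¬ 3 ∣ n → 2 * Module.finrank F (Module.End.eigenspace
      (Matrix.toLin' (g : Matrix (Fin n) (Fin n) F)) c) ≤ n) := by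
  by_cases hc : c = 0
  · have h0 : Module.End.eigenspace (Matrix.toLin' (g : Matrix (Fin n) (Fin n) F)) c = ⊥ := by
      rw [eq_bot_iff]
      intro v hv
      rw [Module.End.mem_eigenspace_iff, hc, zero_smul] at hv
      have := gl_toLin'_injective g (hv.trans (map_zero _).symm)
      simpa using this
    rw [h0, finrank_bot]
    refine ⟨fun _ => by omega, fun _ => by omega, fun _ => by omega, fun _ _ => by omega⟩
  obtain ⟨s, hsS, hsm⟩ := exists_scalar (n := n) c hc
  rw [eigenspace_eq_fixSp g s c hsm]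
  set g' := s⁻¹ * g with hg'def
  have hSH : Cfsg.Geo.scalars (Fin n) F ≤ R ⊔ Cfsg.Geo.scalars (Fin n) F := le_sup_right
  have hg' : g' ∈ Cfsg.Geo.subgroupNormalizer (R ⊔ Cfsg.Geo.scalars (Fin n) F) := by
    apply Subgroup.mul_mem _ _ hg
    apply Subgroup.inv_mem
    exact Subgroup.le_normalizer (hSH hsS)
  have hg'S : g' ∉ Cfsg.Geo.scalars (Fin n) F := by
    intro h
    apply hns
    have : g = s * g' := by rw [hg'def, mul_inv_cancel_left]
    rw [this]
    exact Subgroup.mul_mem _ hsS h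
  have hgϖ : g ^ ϖ = 1 := by rw [← hord]; exact pow_orderOf_eq_one g
  have hg'ϖ : g' ^ ϖ ∈ Cfsg.Geo.scalars (Fin n) F := by
    have hcm : Commute s⁻¹ g :=
      (Subgroup.mem_center_iff.mp (ExtS.scalars_le_center (Subgroup.inv_mem _ hsS)) g).symm
    rw [hg'def, hcm.mul_pow, hgϖ, mul_one]
    exact Subgroup.pow_mem _ (Subgroup.inv_mem _ hsS) _
  have basic := ExtS.basic_bound R hr hZ hext hirr hg' hg'S
  have hr2 : 2 ≤ r := hr.two_le
  have L3 : ϖ ≠ 2 → ϖ ≠ r → 2 * finrank F (fixSp g') ≤ n := by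
    intro h2 hne
    exact ExtM.bound_of_coprime R hZ hext hirr hg' hg'S (hϖ.odd_of_ne_two h2)
      ((Nat.coprime_primes hϖ hr).2 hne) hg'ϖ
  refine ⟨?_, ?_, ?_, ?_⟩
  · intro _
    have h1 : 2 * n ≤ r * n := Nat.mul_le_mul_right n hr2
    by_contra hlt
    have h2 : 3 * n + 1 ≤ 4 * finrank F (fixSp g') := by omega
    have h3 : r * (3 * n + 1) ≤ r * (4 * finrank F (fixSp g')) := Nat.mul_le_mul_left r h2
    nlinarith
  · intro h3
    by_cases hr3 : r = 3
    · subst hr3
      omega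
    · have := L3 (by omega) (by omega)
      omega
  · intro h3
    by_cases hne : ϖ = r
    · have hr3 : 3 < r := hne ▸ h3
      have hr4 : r ≠ 4 := by
        rintro rfl
        norm_num at hr
      have hr5 : 5 ≤ r := by omega
      have hexp' := pow_eq_one_of_exponent R hr hR hexp (by omega)
      rw [hne] at hg'ϖ
      rcases ExtM.bound_of_eq R hr hZ hext hirr hexp' hg' hg'S hg'ϖ with h | h
      · exact h
      · have : 5 * finrank F (fixSp g') ≤ r * finrank F (fixSp g') :=
          Nat.mul_le_mul_right _ hr5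
        omega
    · exact L3 (by omega) hne
  · intro h3 hn3
    have hr3 : r ≠ 3 := by
      rintro rfl
      exact hn3 (ExtM.dvd_dim R hr hZ hext hirr)
    exact L3 (by omega) (by omega)

end Cfsg.Agent.Lib.Helper97.ExtF
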