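import Cfsg.Agent.Lib.Helper33.F4Tor
import Cfsg.Agent.Lib.Helper33.F4Sigma
import Cfsg.Agent.Lib.Helper33.ReeEngine
import Cfsg.Agent.Lib.Helper33.TwBNChev

/-!
# K-2F4-B1 (keystone 108902): the fixed points of `σ` on the root subgroups of the two fundamental
classes `J₁ = [33, 24]` and `J₂ = [27, 25, 28, 30]` of `F₄`, and injectivity of the parametrisations.
-/

set_option autoImplicit false
set_option linter.unusedSimpArgs false
set_option linter.unusedVariables false
set_option maxRecDepth 100000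

namespace Cfsg.Agent.Lib.Helper97.F4

open Cfsg.Lie Cfsg.Agent.Lib.Helper24 Cfsg.Agent.Lib.Helper33.F4 Cfsg.Agent.Lib.Helper33.TwBN
  Cfsg.Agent.Lib.Helper33.Ree

/-- `ρ^∨` in terms of the simple coroots: the height grading -/
def htF : List ℤ := [8, 15, 21, 11]

/-- the class `J₁` in the order of the generating word -/
def j1L : List ℕ := [33, 24]

/-- the class `J₂` in the order of the generating word -/
def j2L : List ℕ := [27, 25, 28, 30]

theorem htF_g0 : ∀ r < 48, chevF4.IsPosRoot r → 0 < gradeE chevF4 htF (chevF4.rank + r) := by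
  decide +kernel

theorem j1L_pos : ∀ r ∈ j1L, chevF4.IsPosRoot r := by decide
theorem j1L_nodup : j1L.Nodup := by decide
theorem j1L_good : goodListOK chevF4 j1L = true := by decide +kernel
theorem j1L_sorted : gradeSortedOK chevF4 htF j1L = true := by decide +kernel

theorem j2L_pos : ∀ r ∈ j2L, chevF4.IsPosRoot r := by decide
theorem j2L_nodup : j2L.Nodup := by decide
theorem j2L_good : goodListOK chevF4 j2L = true := by decide +kernel
theorem j2L_sorted : gradeSortedOK chevF4 htF j2L = true := by decide +kernel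

/-- `x_24(a) x_33(b) = x_33(b) x_24(a)` modulo 2 -/
theorem swapJ1_check : checkWordEqMod 2 chevF4 [(24, Poly.x0), (33, Poly.x1)]
    [(33, Poly.x1), (24, Poly.x0)] = true := by decide +kernel

/-- `x_b(y0) x_a(y1) x_{2a+b}(y0 y1² + y3) x_{a+b}(y2) = x_a(y1) x_b(y0) x_{a+b}(y0 y1 + y2) x_{2a+b}(y3)`
modulo 2 -/
theorem reorderJ2_check : checkWordEqMod 2 chevF4
    [(25, Poly.x0), (27, Poly.x1),
      (30, Poly.add (Poly.mul (Poly.mul Poly.x0 Poly.x1) Poly.x1) Poly.x3), (28, Poly.x2)]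
    [(27, Poly.x1), (25, Poly.x0), (28, Poly.add (Poly.mul Poly.x0 Poly.x1) Poly.x2),
      (30, Poly.x3)] = true := by decide +kernel

section main

variable {K : Type*} [Field K]

/-- coefficient function along `j1L` -/
def c2 (a b : K) : ℕ → K := fun r => if r = 33 then a else if r = 24 then b else 0

/-- coefficient function along `j2L` -/
def c4 (a b c d : K) : ℕ → K := fun r =>
  if r = 27 then a else if r = 25 then b else if r = 28 then c else if r = 30 then d else 0

theorem ordProd_j1L (c : ℕ → K) :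
    (envF4 K).hF.ordProd j1L c = (envF4 K).hF.wordGL [(33, c 33), (24, c 24)] := rfl

theorem ordProd_c2 (a b : K) :
    (envF4 K).hF.ordProd j1L (c2 a b) = (envF4 K).hF.wordGL [(33, a), (24, b)] := rfl

theorem ordProd_j2L (c : ℕ → K) : (envF4 K).hF.ordProd j2L c =
    (envF4 K).hF.wordGL [(27, c 27), (25, c 25), (28, c 28), (30, c 30)] := rfl

theorem ordProd_c4 (a b c d : K) : (envF4 K).hF.ordProd j2L (c4 a b c d) =
    (envF4 K).hF.wordGL [(27, a), (25, b), (28, c), (30, d)] := rfl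

theorem j1_ordProd_inj (c c' : ℕ → K)
    (h : (envF4 K).hF.ordProd j1L c = (envF4 K).hF.ordProd j1L c') : ∀ r ∈ j1L, c r = c' r :=
  (envF4 K).hF.ordProd_inj_gen (envF4 K).hU.negNe (envF4 K).hU.unit
    (fun r s hr hs h => (envF4 K).neg_inj_pos r s hr hs h) htF
    (fun r hr => htF_g0 r hr.1 hr) j1L j1L_nodup (gradeSortedOK_spec htF j1L j1L_sorted)
    j1L_pos c c' h

theorem j2_ordProd_inj (c c' : ℕ → K)
    (h : (envF4 K).hF.ordProd j2L c = (envF4 K).hF.ordProd j2L c') : ∀ r ∈ j2L, c r = c' r :=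
  (envF4 K).hF.ordProd_inj_gen (envF4 K).hU.negNe (envF4 K).hU.unit
    (fun r s hr hs h => (envF4 K).neg_inj_pos r s hr hs h) htF
    (fun r hr => htF_g0 r hr.1 hr) j2L j2L_nodup (gradeSortedOK_spec htF j2L j2L_sorted)
    j2L_pos c c' h

theorem pGL_eq (e : ℕ) (t : K) : pGL K e t = (envF4 K).hF.ordProd j1L (c2 (t ^ e) t) := rfl

theorem bGL_eq (e : ℕ) (t u : K) :
    bGL K e t u = (envF4 K).hF.ordProd j2L (c4 (t ^ e) t (t ^ (e + 1) + u) (u ^ (2 * e))) := rfl

/-- a word identity checked modulo 2, for elements of the general linear group -/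
theorem wordGL_eq_of_checkMod2 [CharP K 2] (y0 y1 y2 y3 : K) (w1 w2 : List (ℕ × Poly))
    (h : checkWordEqMod 2 chevF4 w1 w2 = true) :
    (envF4 K).hF.wordGL (denW y0 y1 y2 y3 w1) = (envF4 K).hF.wordGL (denW y0 y1 y2 y3 w2) := by
  apply Units.ext
  rw [Facts.wordGL_val, Facts.wordGL_val]
  exact wordMat_eq_of_checkMod 2 chevF4 y0 y1 y2 y3 w1 w2 h

theorem swapJ1 [CharP K 2] (a b : K) :
    (envF4 K).hF.wordGL [(24, a), (33, b)] = (envF4 K).hF.wordGL [(33, b), (24, a)] := by
  have := wordGL_eq_of_checkMod2 a b 0 0 _ _ swapJ1_check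
  simpa only [denW, List.map_cons, List.map_nil, Poly.den_x0, Poly.den_x1] using this

theorem reorderJ2 [CharP K 2] (y0 y1 y2 y3 : K) :
    (envF4 K).hF.wordGL [(25, y0), (27, y1), (30, y0 * y1 * y1 + y3), (28, y2)] =
      (envF4 K).hF.wordGL [(27, y1), (25, y0), (28, y0 * y1 + y2), (30, y3)] := by
  have := wordGL_eq_of_checkMod2 y0 y1 y2 y3 _ _ reorderJ2_check
  simpa only [denW, List.map_cons, List.map_nil, Poly.den_x0, Poly.den_x1, Poly.den_x2,
    Poly.den_x3, Poly.den_add, Poly.den_mul] using this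

end main

variable {K : Type*} [Field K] [CharP K 2] {e : ℕ} (S : SigmaF K e)

/-- K-2F4-B1a. -/
theorem fix_J1 (hθ : ∀ t : K, t ^ (2 * e * e) = t) (g : GL chevF4.Idx K)
    (hg : g ∈ rootClosure chevF4 K (· ∈ [33, 24])) (hfix : S.ext g = g) : ∃ t : K, g = pGL K e t := by
  obtain ⟨c, _, hc⟩ := (envF4 K).hF.exists_ordProd_gen (envF4 K).hC (envF4 K).hcomm
    (fun r s hr hs => (envF4 K).pos_ne_neg r s hr hs) j1L j1L_nodup j1L_pos j1L_good g hg
  rw [hc, ordProd_j1L, S.ext_wordGL _ (by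
    intro p hp
    simp only [List.mem_cons, List.not_mem_nil, or_false] at hp
    rcases hp with rfl | rfl <;> norm_num)] at hfix
  have e1 : ([(33, c 33), (24, c 24)] : List (ℕ × K)).map
      (fun p => (barF p.1, p.2 ^ (lamF p.1 * e))) =
      [(24, c 33 ^ (2 * e)), (33, c 24 ^ (1 * e))] := rfl
  rw [e1, swapJ1, ← ordProd_c2, ← ordProd_j1L] at hfix
  have h2 := j1_ordProd_inj _ _ hfix
  have h33 : c 24 ^ e = c 33 := by
    have := h2 33 (by decide)
    simpa [c2] using this
  refine ⟨c 24, ?_⟩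
  rw [hc, pGL_eq]
  apply (envF4 K).hF.ordProd_congr
  intro r hr
  simp only [j1L, List.mem_cons, List.not_mem_nil, or_false] at hr
  rcases hr with rfl | rfl
  · simp [c2, h33]
  · simp [c2]

/-- K-2F4-B1b. -/
theorem fix_J2 (hθ : ∀ t : K, t ^ (2 * e * e) = t) (hadd : ∀ x y : K, (x + y) ^ e = x ^ e + y ^ e)
    (g : GL chevF4.Idx K)
    (hg : g ∈ rootClosure chevF4 K (· ∈ [27, 25, 28, 30])) (hfix : S.ext g = g) :
    ∃ t u : K, g = bGL K e t u := by
  obtain ⟨c, _, hc⟩ := (envF4 K).hF.exists_ordProd_gen (envF4 K).hC (envF4 K).hcomm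
    (fun r s hr hs => (envF4 K).pos_ne_neg r s hr hs) j2L j2L_nodup j2L_pos j2L_good g hg
  rw [hc, ordProd_j2L, S.ext_wordGL _ (by
    intro p hp
    simp only [List.mem_cons, List.not_mem_nil, or_false] at hp
    rcases hp with rfl | rfl | rfl | rfl <;> norm_num)] at hfix
  have e1 : ([(27, c 27), (25, c 25), (28, c 28), (30, c 30)] : List (ℕ × K)).map
      (fun p => (barF p.1, p.2 ^ (lamF p.1 * e))) =
      [(25, c 27 ^ (2 * e)), (27, c 25 ^ (1 * e)), (30, c 28 ^ (2 * e)), (28, c 30 ^ (1 * e))] := rfl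
  have h30 : c 28 ^ (2 * e) = c 27 ^ (2 * e) * c 25 ^ (1 * e) * c 25 ^ (1 * e) +
      (c 28 ^ (2 * e) + c 27 ^ (2 * e) * c 25 ^ (1 * e) * c 25 ^ (1 * e)) := by
    rw [add_comm (c 28 ^ (2 * e)), ← add_assoc, CharTwo.add_self_eq_zero, zero_add]
  rw [e1, h30, reorderJ2, ← ordProd_c4, ← ordProd_j2L] at hfix
  have h2 := j2_ordProd_inj _ _ hfix
  have h27 : c 25 ^ e = c 27 := by
    have := h2 27 (by decide)
    simpa [c4] using this
  have h25 : c 27 ^ (2 * e) = c 25 := by
    have := h2 25 (by decide)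
    simpa [c4] using this
  have h28 : c 25 * c 25 ^ e + c 30 ^ e = c 28 := by
    have := h2 28 (by decide)
    simp only [c4, one_mul] at this
    rw [h25] at this
    simpa using this
  refine ⟨c 25, c 30 ^ e, ?_⟩
  rw [hc, bGL_eq]
  apply (envF4 K).hF.ordProd_congr
  intro r hr
  simp only [j2L, List.mem_cons, List.not_mem_nil, or_false] at hr
  rcases hr with rfl | rfl | rfl | rfl
  · simp [c4, h27]
  · simp [c4]
  · simp only [c4]
    norm_num
    rw [← h28, pow_succ, mul_comm]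
  · simp only [c4]
    norm_num
    rw [← pow_mul, mul_comm e (2 * e), hθ]

/-- K-2F4-B1c. -/
theorem pGL_inj (t t' : K) (h : pGL K e t = pGL K e t') : t = t' := by
  rw [pGL_eq, pGL_eq] at h
  have := j1_ordProd_inj _ _ h 24 (by decide)
  simpa [c2] using this

theorem bGL_inj (t u t' u' : K) (h : bGL K e t u = bGL K e t' u') : t = t' ∧ u = u' := by
  rw [bGL_eq, bGL_eq] at h
  have h2 := j2_ordProd_inj _ _ h
  have h25 : t = t' := by
    have := h2 25 (by decide)
    simpa [c4] using this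
  have h28 : t ^ (e + 1) + u = t' ^ (e + 1) + u' := by
    have := h2 28 (by decide)
    simpa [c4] using this
  refine ⟨h25, ?_⟩
  rw [h25] at h28
  exact add_left_cancel h28

end Cfsg.Agent.Lib.Helper97.F4
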