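import Mathlib
import Cfsg.Agent.Lib.Helper96.GSK2
import Cfsg.Agent.Lib.Helper29.GSK3
import Cfsg.Agent.Lib.Helper50.GSB2
import Cfsg.Agent.Lib.Helper85.GSK4

/-! Pack K-GS (S4840), leaf KILL `q8_kill` (parallel hand, helper97). `q8_kill_aux` takes the statements of
the leaves B2 (`card_eq`) and K4 (`card_le_of_preserves`) as hypotheses. -/

set_option autoImplicit false
set_option maxHeartbeats 1000000

namespace Cfsg.Agent.Lib.Helper97.GS

universe u

variable {Γ V : Type u} [Group Γ] [Finite Γ] [CommGroup V] [Finite V]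

theorem q8_kill_aux [Nontrivial V] (hV : IsPGroup 3 V) (hV3 : ∀ v : V, v ^ 3 = 1)
    (ρ : Γ →* MulAut V)
    (hstab : ∀ (g : Γ) (v : V), v ≠ 1 → ρ g v = v → ∃ k : ℕ, g ^ (3 ^ k) = 1)
    (R : Subgroup Γ) [R.Normal] (e : R ≃* QuaternionGroup 2)
    (hB2 : ∃ a : ℕ, Nat.card Γ = (Nat.card V - 1) * 3 ^ a)
    (hK4 : ∀ (C : Subgroup Γ) (U : Subgroup V), U ≠ ⊥ → (∀ c ∈ C, ∀ u ∈ U, ρ c u ∈ U) →
      ∃ m b : ℕ, Nat.card C = m * 3 ^ b ∧ m ≤ Nat.card U - 1) :
    Nat.card Γ ≠ 24 * Nat.card (Subgroup.centralizer (R : Set Γ)) := by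
  classical
  have : Fact (Nat.Prime 3) := ⟨Nat.prime_three⟩
  -- the quaternion elements
  set qi : R := e.symm (QuaternionGroup.xa 0) with hqi
  set qj : R := e.symm (QuaternionGroup.xa 1) with hqj
  set qz : R := e.symm (QuaternionGroup.a 2) with hqz
  have h_ii : qi * qi = qz := by
    rw [hqi, hqz, ← map_mul]; congr 1
  have h_jj : qj * qj = qz := by
    rw [hqj, hqz, ← map_mul]; congr 1
  have h_ij : qi * qj = qz * (qj * qi) := by
    rw [hqi, hqj, hqz, ← map_mul, ← map_mul, ← map_mul]; congr 1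
  have h_zz : qz * qz = 1 := by
    rw [hqz, ← map_mul]
    have : (QuaternionGroup.a 2 * QuaternionGroup.a 2 : QuaternionGroup 2) = 1 := by decide
    rw [this, map_one]
  have h_z1 : qz ≠ 1 := by
    intro h
    have h2 : (QuaternionGroup.a 2 : QuaternionGroup 2) = 1 := by
      have := congrArg e h
      simpa [hqz] using this
    revert h2; decide
  have hcentQ : ∀ g : QuaternionGroup 2, QuaternionGroup.a 2 * g = g * QuaternionGroup.a 2 := by decide
  have h_zc : ∀ r : R, qz * r = r * qz := by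
    intro r
    apply e.injective
    rw [map_mul, map_mul, hqz, e.apply_symm_apply, hcentQ]
  -- in Γ
  set gi : Γ := (qi : Γ) with hgi
  set gj : Γ := (qj : Γ) with hgj
  set gz : Γ := (qz : Γ) with hgz
  have g_ii : gi * gi = gz := by rw [hgi, hgz, ← h_ii]; rfl
  have g_jj : gj * gj = gz := by rw [hgj, hgz, ← h_jj]; rfl
  have g_ij : gi * gj = gz * (gj * gi) := by
    have := congrArg (fun r : R => (r : Γ)) h_ij
    simpa using this
  have g_zz : gz * gz = 1 := by
    have := congrArg (fun r : R => (r : Γ)) h_zz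
    simpa using this
  have g_z1 : gz ≠ 1 := by
    intro h
    apply h_z1
    exact Subtype.ext h
  have hinv : ∀ v : V, ρ gz v = v⁻¹ :=
    fun v => Cfsg.Agent.Lib.Helper96.GS.involution_inverts 3 (by norm_num) ρ hstab gz g_zz g_z1 v
  set i : MulAut V := ρ gi with hi_def
  set j : MulAut V := ρ gj with hj_def
  have hi : ∀ v : V, i (i v) = v⁻¹ := by
    intro v
    rw [← hinv v, ← g_ii, map_mul]; rfl
  have hj : ∀ v : V, j (j v) = v⁻¹ := by
    intro v
    rw [← hinv v, ← g_jj, map_mul]; rfl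
  have hij : ∀ v : V, i (j v) = (j (i v))⁻¹ := by
    intro v
    have h1 : i (j v) = ρ (gi * gj) v := by rw [map_mul]; rfl
    rw [h1, g_ij, map_mul, map_mul]
    show ρ gz (ρ gj (ρ gi v)) = _
    rw [hinv]
  -- U
  set U : Subgroup V := (i.toMonoidHom * j.toMonoidHom).eqLocus (MonoidHom.id V) with hUdef
  have hU : ∀ v : V, v ∈ U ↔ i v * j v = v := by
    intro v
    rfl
  have hK3 : Nat.card V = Nat.card U * Nat.card U :=
    Cfsg.Agent.Lib.Helper29.GS.card_eq_sq_of_quaternion_action hV3 i j hi hj hij U hU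
  have hVcard : 2 ≤ Nat.card V := Finite.one_lt_card
  have hU1 : U ≠ ⊥ := by
    intro h
    rw [h, Subgroup.card_bot] at hK3
    omega
  set C : Subgroup Γ := Subgroup.centralizer (R : Set Γ) with hC
  have hCU : ∀ c ∈ C, ∀ u ∈ U, ρ c u ∈ U := by
    intro c hc u hu
    rw [hU] at hu ⊢
    have hci : gi * c = c * gi := (Subgroup.mem_centralizer_iff.1 hc) gi qi.2
    have hcj : gj * c = c * gj := (Subgroup.mem_centralizer_iff.1 hc) gj qj.2
    have h1 : i (ρ c u) = ρ c (i u) := by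
      show ρ gi (ρ c u) = ρ c (ρ gi u)
      rw [← MulAut.mul_apply, ← MulAut.mul_apply, ← map_mul, ← map_mul, hci]
    have h2 : j (ρ c u) = ρ c (j u) := by
      show ρ gj (ρ c u) = ρ c (ρ gj u)
      rw [← MulAut.mul_apply, ← MulAut.mul_apply, ← map_mul, ← map_mul, hcj]
    rw [h1, h2, ← map_mul, hu]
  obtain ⟨m, b, hCcard, hm⟩ := hK4 C U hU1 hCU
  obtain ⟨a, hΓ⟩ := hB2
  intro hcon
  -- gz ∈ C of order 2
  have hgzC : gz ∈ C := by
    rw [hC, Subgroup.mem_centralizer_iff]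
    intro h hh
    have := congrArg (fun r : R => (r : Γ)) (h_zc ⟨h, hh⟩)
    simpa using this.symm
  have h2C : 2 ∣ Nat.card C := by
    have hord : orderOf gz = 2 := orderOf_eq_prime (by rw [pow_two]; exact g_zz) g_z1
    have := Subgroup.orderOf_dvd_natCard C hgzC
    rwa [hord] at this
  -- card U is a power of 3
  obtain ⟨k, hk⟩ := (IsPGroup.iff_card.1 (hV.to_subgroup U))
  have hk1 : 1 ≤ k := by
    rcases Nat.eq_zero_or_pos k with h | h
    · exfalso
      rw [h, pow_zero] at hk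
      rw [hk] at hK3
      omega
    · exact h
  set u := Nat.card U with hu
  -- arithmetic
  rw [hK3] at hΓ
  rw [hΓ, hCcard] at hcon
  -- hcon : (u * u - 1) * 3 ^ a = 24 * (m * 3 ^ b)
  have hu3 : 3 ∣ u := by rw [hk]; exact dvd_pow_self 3 (by omega)
  have hu2 : 3 ≤ u := Nat.le_of_dvd (by rw [hk]; positivity) hu3
  have hm0 : m ≠ 0 := by
    intro h
    rw [h, zero_mul] at hCcard
    have : 0 < Nat.card C := Nat.card_pos
    omega
  have hcop : Nat.Coprime (u * u - 1) 3 := by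
    obtain ⟨t, ht⟩ := hu3
    have : u * u - 1 = 3 * (3 * t * t - 1) + 2 := by
      rw [ht]
      have : 1 ≤ t := by
        rcases Nat.eq_zero_or_pos t with h | h
        · rw [h] at ht; omega
        · exact h
      have h3 : 1 ≤ 3 * t * t := by nlinarith
      have : 3 * t * (3 * t) = 3 * (3 * t * t) := by ring
      omega
    rw [this]
    norm_num
  have hdvd : (u * u - 1) ∣ 8 * m := by
    have h1 : (u * u - 1) ∣ 24 * (m * 3 ^ b) := ⟨3 ^ a, hcon.symm⟩
    have h2 : 24 * (m * 3 ^ b) = (8 * m) * 3 ^ (b + 1) := by ring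
    rw [h2] at h1
    exact (Nat.Coprime.pow_right (b + 1) hcop).dvd_of_dvd_mul_right h1
  have hle : u * u - 1 ≤ 8 * m := Nat.le_of_dvd (by omega) hdvd
  have hu7 : u ≤ 7 := by
    by_contra h
    push Not at h
    have h1 : 8 * m ≤ 8 * (u - 1) := by omega
    have h2 : 8 * (u - 1) + 1 ≤ u * u - 1 := by
      have : 8 * u ≤ u * u := by nlinarith
      have : 1 ≤ u * u := by nlinarith
      omega
    omega
  have hu_eq : u = 3 := by
    rcases Nat.lt_or_ge k 2 with h | h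
    · have : k = 1 := by omega
      rw [hk, this, pow_one]
    · exfalso
      have : 3 ^ 2 ≤ 3 ^ k := Nat.pow_le_pow_right (by norm_num) h
      rw [← hk] at this
      omega
  rw [hu_eq] at hcon
  -- hcon : (3*3-1) * 3^a = 24 * (m * 3^b) ; card C = m * 3^b even
  have h8 : 3 ^ a = 3 * (m * 3 ^ b) := by
    have : (3 * 3 - 1) * 3 ^ a = 8 * 3 ^ a := by norm_num
    omega
  have hCdvd : Nat.card C ∣ 3 ^ a := ⟨3, by rw [h8, hCcard]; ring⟩
  have h2dvd : 2 ∣ 3 ^ a := h2C.trans hCdvd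
  have := (Nat.Prime.dvd_of_dvd_pow Nat.prime_two h2dvd)
  omega

/-- LEAF KILL. -/
theorem q8_kill [Nontrivial V] (hV : IsPGroup 3 V) (hV3 : ∀ v : V, v ^ 3 = 1)
    (ρ : Γ →* MulAut V)
    (htrans : ∀ v w : V, v ≠ 1 → w ≠ 1 → ∃ g : Γ, ρ g v = w)
    (hstab : ∀ (g : Γ) (v : V), v ≠ 1 → ρ g v = v → ∃ k : ℕ, g ^ (3 ^ k) = 1)
    (R : Subgroup Γ) [R.Normal] (e : R ≃* QuaternionGroup 2) :
    Nat.card Γ ≠ 24 * Nat.card (Subgroup.centralizer (R : Set Γ)) := by
  have : Fact (Nat.Prime 3) := ⟨Nat.prime_three⟩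
  exact q8_kill_aux hV hV3 ρ hstab R e
    (Cfsg.Agent.Lib.Helper50.GS.card_eq 3 ρ htrans hstab)
    (fun C U hU1 hCU => Cfsg.Agent.Lib.Helper85.GS.card_le_of_preserves 3 ρ hstab C U hU1 hCU)

end Cfsg.Agent.Lib.Helper97.GS
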