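import Mathlib
import Cfsg.Agent.Lib.Helper83.CharMisc
import Cfsg.Agent.Lib.Helper83.Orthogonality
import Cfsg.Agent.Lib.Helper38.PGroup

set_option autoImplicit false

namespace Cfsg.Agent.Lib.Helper97.GalP

open Cfsg Cfsg.Agent.Lib.Helper83
open scoped ComplexConjugate commutatorElement

universe u

variable {G : Type u} [Group G]

/-- kernel membership transfers along coprime power maps. -/
theorem ker_iff_of_pow [Finite G] {χ ψ : G → ℂ} (hχ : IsCharacter G χ) (k : ℕ)
    (hk : k.Coprime (Nat.card G)) (h : ∀ g : G, ψ g = χ (g ^ k)) (x : G) :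
    ψ x = ψ 1 ↔ χ x = χ 1 := by
  have h1 : ψ 1 = χ 1 := by rw [h 1, one_pow]
  rw [h x, h1]
  constructor
  · intro hx
    have hmem : x ^ k ∈ charKer hχ := (mem_charKer hχ _).mpr hx
    have hcop : k.Coprime (orderOf x) := hk.coprime_dvd_right (orderOf_dvd_natCard x)
    obtain ⟨m, hm⟩ := exists_pow_eq_self_of_coprime hcop
    have : x ∈ charKer hχ := by
      rw [← hm]; exact Subgroup.pow_mem _ hmem m
    exact (mem_charKer hχ _).mp this
  · intro hx
    have hmem : x ∈ charKer hχ := (mem_charKer hχ _).mpr hx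
    exact (mem_charKer hχ _).mp (Subgroup.pow_mem _ hmem k)

/-- if the derived subgroup has prime order and is not in the kernel, no nontrivial element of it
is in the kernel. -/
theorem apply_ne_of_mem_commutator [Finite G] {p : ℕ} (hp : p.Prime)
    (hcard : Nat.card (commutator G) = p) (χ : IrrCharacter G) (hnl : (χ : G → ℂ) 1 ≠ 1)
    {z : G} (hz : z ∈ commutator G) (hz1 : z ≠ 1) : (χ : G → ℂ) z ≠ (χ : G → ℂ) 1 := by
  intro hker
  apply hnl
  apply irr_linear_of_commutator_le χ
  intro c hc
  have hχc := IrrCharacter_isCharacter χ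
  have hzk : z ∈ charKer hχc := (mem_charKer hχc _).mpr hker
  haveI : Fact p.Prime := ⟨hp⟩
  have htop : Subgroup.zpowers (⟨z, hz⟩ : commutator G) = ⊤ :=
    zpowers_eq_top_of_prime_card hcard (fun h => hz1 (congrArg Subtype.val h))
  have hmem : (⟨c, hc⟩ : commutator G) ∈ Subgroup.zpowers (⟨z, hz⟩ : commutator G) := by
    rw [htop]; exact Subgroup.mem_top _
  obtain ⟨j, hj⟩ := Subgroup.mem_zpowers_iff.mp hmem
  have hcz : c = z ^ j := by
    have := congrArg Subtype.val hj
    simpa using this.symm
  have : c ∈ charKer hχc := by rw [hcz]; exact Subgroup.zpow_mem _ hzk j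
  exact (mem_charKer hχc _).mp this

/-- A nonlinear irreducible character of a group whose derived subgroup is central of prime
order vanishes off the centre. -/
theorem nonlinear_vanish [Finite G] {p : ℕ} (hp : p.Prime)
    (hcen : commutator G ≤ Subgroup.center G) (hcard : Nat.card (commutator G) = p)
    (χ : IrrCharacter G) (hnl : (χ : G → ℂ) 1 ≠ 1) {g : G} (hg : g ∉ Subgroup.center G) :
    (χ : G → ℂ) g = 0 := by
  rw [Subgroup.mem_center_iff] at hg
  push Not at hg
  obtain ⟨x, hx⟩ := hg
  set z : G := g⁻¹ * x⁻¹ * g * x with hzdef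
  have hzc : z ∈ commutator G := by
    have : z = ⁅g⁻¹, x⁻¹⁆ := by
      rw [commutatorElement_def]; simp [hzdef]
    rw [this, commutator_def]
    exact Subgroup.commutator_mem_commutator (Subgroup.mem_top _) (Subgroup.mem_top _)
  have hz1 : z ≠ 1 := by
    intro h1
    apply hx
    have : g⁻¹ * x⁻¹ * g * x = 1 := h1
    have h2 : x * g = x * g * (g⁻¹ * x⁻¹ * g * x) := by rw [this, mul_one]
    rw [h2]; group
  have hconj : x⁻¹ * g * x = g * z := by rw [hzdef]; group
  exact irr_eq_zero_of_conj_eq_mul_central χ (hcen hzc) hconj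
    (apply_ne_of_mem_commutator hp hcard χ hnl hzc hz1)

/-- Degree of a character vanishing off the centre: `χ(1)² |Z(G)| = |G|`. -/
theorem degree_sq_mul_card_center [Finite G] (χ : IrrCharacter G)
    (hvan : ∀ g : G, g ∉ Subgroup.center G → (χ : G → ℂ) g = 0) :
    charDegree (χ : G → ℂ) ^ 2 * Nat.card (Subgroup.center G) = Nat.card G := by
  classical
  let _ : Fintype G := Fintype.ofFinite G
  have h1 : classInner (χ : G → ℂ) (χ : G → ℂ) = 1 := irr_inner_self χ
  unfold classInner at h1
  have hsum : ∑ g : G, (χ : G → ℂ) g * conj ((χ : G → ℂ) g) =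
      (Nat.card (Subgroup.center G) : ℂ) * ((χ : G → ℂ) 1 * (χ : G → ℂ) 1) := by
    have h2 : ∀ g : G, (χ : G → ℂ) g * conj ((χ : G → ℂ) g) =
        if g ∈ Subgroup.center G then (χ : G → ℂ) 1 * (χ : G → ℂ) 1 else 0 := by
      intro g
      split_ifs with hg
      · exact irr_central_mul_conj χ hg
      · rw [hvan g hg, zero_mul]
    rw [Finset.sum_congr rfl (fun g _ => h2 g), Finset.sum_ite, Finset.sum_const_zero, add_zero,
      Finset.sum_const, nsmul_eq_mul]
    congr 2
    rw [Nat.card_eq_fintype_card, Fintype.card_subtype]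
  rw [hsum] at h1
  have hG : (Nat.card G : ℂ) ≠ 0 := by
    have : 0 < Nat.card G := Nat.card_pos
    exact_mod_cast this.ne'
  have h3 : (Nat.card (Subgroup.center G) : ℂ) * ((χ : G → ℂ) 1 * (χ : G → ℂ) 1) =
      (Nat.card G : ℂ) := by
    field_simp at h1
    linear_combination h1
  rw [← charDegree_cast (IrrCharacter_isCharacter χ)] at h3
  have h4 : ((charDegree (χ : G → ℂ) ^ 2 * Nat.card (Subgroup.center G) : ℕ) : ℂ) =
      ((Nat.card G : ℕ) : ℂ) := by
    push_cast
    linear_combination h3
  exact_mod_cast h4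

/-- nonlinear means degree different from one, in terms of `charDegree`. -/
theorem apply_one_ne_one_iff (χ : IrrCharacter G) :
    (χ : G → ℂ) 1 ≠ 1 ↔ charDegree (χ : G → ℂ) ≠ 1 := by
  rw [← charDegree_cast (IrrCharacter_isCharacter χ)]
  constructor
  · intro h h'; apply h; rw [h']; simp
  · intro h h'; apply h; exact_mod_cast h'

end Cfsg.Agent.Lib.Helper97.GalP
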