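import Mathlib
import Cfsg.Agent.Lib.Helper97.GalP1

set_option autoImplicit false

namespace Cfsg.Agent.Lib.Helper97.GalP

open Cfsg Cfsg.Agent.Lib.Helper83
open scoped ComplexConjugate commutatorElement

universe u

/-- In a finite cyclic `p`-group every element of order `p` lies in every nontrivial cyclic
subgroup. -/
theorem mem_zpowers_of_isCyclic_pgroup {Z : Type*} [Group Z] [Finite Z] [IsCyclic Z] {p : ℕ}
    [hp : Fact p.Prime] (hZ : IsPGroup p Z) {w c : Z} (hw : w ≠ 1) (hc : orderOf c = p) :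
    c ∈ Subgroup.zpowers w := by
  classical
  let _ : Fintype Z := Fintype.ofFinite Z
  obtain ⟨n, hn⟩ := Cfsg.Agent.Lib.Helper38.exists_pow_orderOf_eq_prime p w hw
    (IsPGroup.iff_orderOf.mp hZ w)
  have hT := IsCyclic.card_pow_eq_one_le (α := Z) hp.out.pos
  have hsub : (Finset.range p).image (fun i => (w ^ n) ^ i) ⊆
      Finset.univ.filter (fun a : Z => a ^ p = 1) := by
    intro a ha
    obtain ⟨i, _, rfl⟩ := Finset.mem_image.mp ha
    simp only [Finset.mem_filter, Finset.mem_univ, true_and]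
    rw [← pow_mul, mul_comm, pow_mul, ← hn, pow_orderOf_eq_one, one_pow]
  have hcard : ((Finset.range p).image (fun i => (w ^ n) ^ i)).card = p := by
    rw [Finset.card_image_of_injOn, Finset.card_range]
    have := pow_injOn_Iio_orderOf (x := w ^ n)
    rw [hn] at this
    simpa using this
  have heq := Finset.eq_of_subset_of_card_le hsub (by rw [hcard]; exact hT)
  have hcT : c ∈ Finset.univ.filter (fun a : Z => a ^ p = 1) := by
    simp only [Finset.mem_filter, Finset.mem_univ, true_and]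
    rw [← hc]; exact pow_orderOf_eq_one c
  rw [← heq] at hcT
  obtain ⟨i, _, hi⟩ := Finset.mem_image.mp hcT
  rw [← hi]
  exact Subgroup.pow_mem _ (Subgroup.pow_mem _ (Subgroup.mem_zpowers w) n) i

variable {G : Type u} [Group G]

/-- A normal subgroup of prime order of a finite `p`-group is central. -/
theorem le_center_of_card_prime [Finite G] {p : ℕ} [hp : Fact p.Prime] (hP : IsPGroup p G)
    (N : Subgroup G) [N.Normal] (hN : Nat.card N = p) : N ≤ Subgroup.center G := by
  have hNbot : N ≠ ⊥ := by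
    intro h
    rw [h, Subgroup.card_bot] at hN
    exact hp.out.one_lt.ne hN
  obtain ⟨x, hxN, hxZ, hx1⟩ := Cfsg.Agent.Lib.Helper38.normal_inf_center_ne_bot p hP N hNbot
  have htop : Subgroup.zpowers (⟨x, hxN⟩ : N) = ⊤ :=
    zpowers_eq_top_of_prime_card hN (fun h => hx1 (congrArg Subtype.val h))
  intro n hn
  have hmem : (⟨n, hn⟩ : N) ∈ Subgroup.zpowers (⟨x, hxN⟩ : N) := by
    rw [htop]; exact Subgroup.mem_top _
  obtain ⟨j, hj⟩ := Subgroup.mem_zpowers_iff.mp hmem
  have : n = x ^ j := by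
    have := congrArg Subtype.val hj
    simpa using this.symm
  rw [this]
  exact Subgroup.zpow_mem _ hxZ j

/-- multiplicativity of the central character on powers. -/
theorem irr_central_pow [Finite G] (χ : IrrCharacter G) {z : G} (hz : z ∈ Subgroup.center G)
    (j : ℕ) : (χ : G → ℂ) (z ^ j) = (χ : G → ℂ) 1 * ((χ : G → ℂ) z / (χ : G → ℂ) 1) ^ j := by
  have hd := irr_degree_ne_zero χ
  induction j with
  | zero => simp
  | succ j ih =>
    rw [pow_succ, irr_mul_central χ hz, ih, pow_succ]
    field_simp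

theorem exists_mem_commutator_ne_one [Finite G] {p : ℕ} (hp : p.Prime)
    (hcard : Nat.card (commutator G) = p) : ∃ c ∈ commutator G, c ≠ 1 := by
  by_contra hcon
  push Not at hcon
  have : commutator G = ⊥ := by
    rw [Subgroup.eq_bot_iff_forall]; exact hcon
  rw [this, Subgroup.card_bot] at hcard
  exact hp.one_lt.ne hcard

theorem orderOf_of_mem_card_prime [Finite G] {p : ℕ} [hp : Fact p.Prime] (N : Subgroup G)
    (hN : Nat.card N = p) {c : G} (hc : c ∈ N) (hc1 : c ≠ 1) : orderOf c = p := by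
  have h1 : orderOf (⟨c, hc⟩ : N) ∣ p := hN ▸ orderOf_dvd_natCard _
  have h2 : orderOf (⟨c, hc⟩ : N) = orderOf c := Subgroup.orderOf_mk c hc
  rw [h2] at h1
  rcases (Nat.dvd_prime hp.out).mp h1 with h | h
  · exact absurd (orderOf_eq_one_iff.mp h) hc1
  · exact h

/-- **(⇐)**: cyclic centre and derived subgroup of order `p` force Galois conjugacy. -/
theorem galois_of_cyclic_center [Finite G] {p : ℕ} [hp : Fact p.Prime] (hP : IsPGroup p G)
    (hcyc : IsCyclic (Subgroup.center G)) (hcard : Nat.card (commutator G) = p)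
    (χ ψ : IrrCharacter G) (hnl : charDegree (χ : G → ℂ) ≠ 1)
    (hdeg : charDegree (χ : G → ℂ) = charDegree (ψ : G → ℂ)) :
    ∃ k : ℕ, k.Coprime (Nat.card G) ∧ ∀ g : G, (ψ : G → ℂ) g = (χ : G → ℂ) (g ^ k) := by
  classical
  have hcen : commutator G ≤ Subgroup.center G :=
    le_center_of_card_prime hP (commutator G) hcard
  have hχ1 : (χ : G → ℂ) 1 ≠ 1 := (apply_one_ne_one_iff χ).mpr hnl
  have hψ1 : (ψ : G → ℂ) 1 ≠ 1 := (apply_one_ne_one_iff ψ).mpr (hdeg ▸ hnl)
  have h11 : (ψ : G → ℂ) 1 = (χ : G → ℂ) 1 := by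
    rw [← charDegree_cast (IrrCharacter_isCharacter ψ),
      ← charDegree_cast (IrrCharacter_isCharacter χ), hdeg]
  obtain ⟨c, hc, hc1⟩ := exists_mem_commutator_ne_one hp.out hcard
  have hco : orderOf c = p := orderOf_of_mem_card_prime (commutator G) hcard hc hc1
  have faithful : ∀ φ : IrrCharacter G, (φ : G → ℂ) 1 ≠ 1 → ∀ w ∈ Subgroup.center G,
      (φ : G → ℂ) w = (φ : G → ℂ) 1 → w = 1 := by
    intro φ hφ w hw hker
    by_contra hw1
    have hco' : orderOf (⟨c, hcen hc⟩ : Subgroup.center G) = p := by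
      rw [Subgroup.orderOf_mk]; exact hco
    have hmem := mem_zpowers_of_isCyclic_pgroup (hP.to_subgroup (Subgroup.center G))
      (w := (⟨w, hw⟩ : Subgroup.center G)) (c := ⟨c, hcen hc⟩)
      (fun h => hw1 (congrArg Subtype.val h)) hco'
    obtain ⟨j, hj⟩ := Subgroup.mem_zpowers_iff.mp hmem
    have hcw : c = w ^ j := by
      have := congrArg Subtype.val hj
      simpa using this.symm
    have hφc := IrrCharacter_isCharacter φ
    have hk : c ∈ charKer hφc := by
      rw [hcw]; exact Subgroup.zpow_mem _ ((mem_charKer hφc _).mpr hker) j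
    exact apply_ne_of_mem_commutator hp.out hcard φ hφ hc hc1 ((mem_charKer hφc _).mp hk)
  obtain ⟨z₀, hz₀⟩ := hcyc.exists_generator
  set n := Nat.card (Subgroup.center G) with hn
  have hord : orderOf z₀ = n := orderOf_eq_card_of_forall_mem_zpowers hz₀
  have hord' : orderOf (z₀ : G) = n := by rw [← hord]; exact Subgroup.orderOf_coe z₀
  have hn0 : 0 < n := Nat.card_pos
  have prim : ∀ φ : IrrCharacter G, (φ : G → ℂ) 1 ≠ 1 →
      IsPrimitiveRoot ((φ : G → ℂ) z₀ / (φ : G → ℂ) 1) n := by
    intro φ hφ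
    have hd := irr_degree_ne_zero φ
    apply IsPrimitiveRoot.mk_of_lt _ hn0
    · have h := irr_central_pow φ z₀.2 n
      rw [← hord', pow_orderOf_eq_one] at h
      have h' : (φ : G → ℂ) 1 * 1 = (φ : G → ℂ) 1 *
          ((φ : G → ℂ) z₀ / (φ : G → ℂ) 1) ^ orderOf (z₀ : G) := by rw [mul_one]; exact h
      rw [← hord']
      exact (mul_left_cancel₀ hd h').symm
    · intro l hl0 hln hl
      have h := irr_central_pow φ z₀.2 l
      rw [hl, mul_one] at h
      have h2 := faithful φ hφ _ (Subgroup.pow_mem _ z₀.2 l) h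
      have h3 := orderOf_dvd_of_pow_eq_one h2
      rw [hord'] at h3
      exact absurd h3 (Nat.not_dvd_of_pos_of_lt hl0 hln)
  have hζ := prim χ hχ1
  have hζ' := prim ψ hψ1
  haveI : NeZero n := ⟨hn0.ne'⟩
  obtain ⟨k, _, hk⟩ := hζ.eq_pow_of_pow_eq_one hζ'.pow_eq_one
  have hkcop : k.Coprime n := (hζ.pow_iff_coprime hn0 k).mp (hk ▸ hζ')
  refine ⟨k, ?_, ?_⟩
  · obtain ⟨m, hm⟩ := hP.exists_card_eq
    have hpn : p ∣ n := hcard ▸ Subgroup.card_dvd_of_le hcen
    have hkp : k.Coprime p := hkcop.coprime_dvd_right hpn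
    rw [hm]; exact hkp.pow_right m
  · intro g
    by_cases hg : g ∈ Subgroup.center G
    · have hmem := hz₀ ⟨g, hg⟩
      rw [← mem_powers_iff_mem_zpowers] at hmem
      obtain ⟨j, hj⟩ := (Submonoid.mem_powers_iff _ _).mp hmem
      have hgj : g = (z₀ : G) ^ j := by
        have := congrArg Subtype.val hj
        simpa using this.symm
      rw [hgj, irr_central_pow ψ z₀.2 j, ← pow_mul, irr_central_pow χ z₀.2 (j * k), ← hk, h11,
        ← pow_mul, mul_comm k j]
    · rw [nonlinear_vanish hp.out hcen hcard ψ hψ1 hg]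
      have hgk : g ^ k ∉ Subgroup.center G := by
        intro hgk
        apply hg
        obtain ⟨m, hm⟩ := hP.exists_card_eq
        have hcop : k.Coprime (orderOf g) := by
          have hpn : p ∣ n := hcard ▸ Subgroup.card_dvd_of_le hcen
          have hkp : k.Coprime p := hkcop.coprime_dvd_right hpn
          have : k.Coprime (Nat.card G) := by rw [hm]; exact hkp.pow_right m
          exact this.coprime_dvd_right (orderOf_dvd_natCard g)
        obtain ⟨t, ht⟩ := exists_pow_eq_self_of_coprime hcop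
        rw [← ht]; exact Subgroup.pow_mem _ hgk t
      rw [nonlinear_vanish hp.out hcen hcard χ hχ1 hgk]

end Cfsg.Agent.Lib.Helper97.GalP
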