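import Mathlib
import Cfsg.Agent.Lib.Helper97.GalP2
import Cfsg.Agent.Lib.Helper97.AbelianTors
import Cfsg.Agent.Lib.Helper97.TwoDegMain
import Cfsg.Agent.Lib.Helper83.Quotient
import Cfsg.Agent.Lib.Helper83.CharMisc

set_option autoImplicit false

namespace Cfsg.Agent.Lib.Helper97.GalP

open Cfsg Cfsg.Agent.Lib.Helper83
open scoped ComplexConjugate commutatorElement

universe u

variable {G : Type u} [Group G]

/-- The Galois conjugacy hypothesis: nonlinear irreducible characters of the same degree are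
Galois conjugate. -/
def GC (G : Type u) [Group G] : Prop :=
  ∀ χ ψ : IrrCharacter G, charDegree (χ : G → ℂ) ≠ 1 →
    charDegree (χ : G → ℂ) = charDegree (ψ : G → ℂ) →
    ∃ k : ℕ, k.Coprime (Nat.card G) ∧ ∀ g : G, (ψ : G → ℂ) g = (χ : G → ℂ) (g ^ k)

theorem GC.ker_iff [Finite G] (h : GC G) (χ ψ : IrrCharacter G)
    (hnl : charDegree (χ : G → ℂ) ≠ 1)
    (hdeg : charDegree (χ : G → ℂ) = charDegree (ψ : G → ℂ)) (x : G) :
    (ψ : G → ℂ) x = (ψ : G → ℂ) 1 ↔ (χ : G → ℂ) x = (χ : G → ℂ) 1 := by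
  obtain ⟨k, hk, hkk⟩ := h χ ψ hnl hdeg
  exact ker_iff_of_pow (IrrCharacter_isCharacter χ) k hk hkk x

theorem charDegree_inflate [Finite G] (N : Subgroup G) [N.Normal] (ψ : IrrCharacter (G ⧸ N)) :
    charDegree (((irrQuotientEquiv N ψ).1 : IrrCharacter G) : G → ℂ) =
      charDegree (ψ : G ⧸ N → ℂ) := by
  unfold charDegree
  rw [irrQuotientEquiv_apply]
  rfl

theorem normal_of_le_center' {N : Subgroup G} (h : N ≤ Subgroup.center G) : N.Normal := by
  constructor
  intro n hn g
  have hc := Subgroup.mem_center_iff.mp (h hn) g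
  have : g * n * g⁻¹ = n := by rw [hc, mul_assoc, mul_inv_cancel, mul_one]
  rw [this]; exact hn

theorem pow_card_eq_one_of_mem [Finite G] (N : Subgroup G) {x : G} (hx : x ∈ N) :
    x ^ Nat.card N = 1 := by
  have h1 : orderOf (⟨x, hx⟩ : N) ∣ Nat.card N := orderOf_dvd_natCard _
  rw [Subgroup.orderOf_mk] at h1
  exact orderOf_dvd_iff_pow_eq_one.mp h1

/-- commutators with a central factor. -/
theorem commutatorElement_mul_central {g z : G} (hz : z ∈ Subgroup.center G) (w : G) :
    ⁅g * z, w⁆ = ⁅g, w⁆ := by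
  have hzw : w * z = z * w := Subgroup.mem_center_iff.mp hz w
  rw [commutatorElement_def, commutatorElement_def, mul_inv_rev]
  have : g * z * w * (z⁻¹ * g⁻¹) * w⁻¹ = g * (z * w * z⁻¹) * g⁻¹ * w⁻¹ := by group
  rw [this, ← hzw, mul_assoc w, mul_inv_cancel, mul_one]

/-- the composition of the hypothesis with quotients: a normal subgroup not containing the derived
subgroup is contained in it. -/
theorem GC.le_commutator [Finite G] (h : GC G) (M : Subgroup G) [M.Normal]
    (hM : ¬ commutator G ≤ M) : M ≤ commutator G := by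
  have hna : ¬ ∀ a b : G ⧸ M, a * b = b * a := by
    intro hab
    apply hM
    rw [commutator_def, Subgroup.commutator_le]
    intro a _ b _
    rw [← QuotientGroup.eq_one_iff]
    show (QuotientGroup.mk' M) ⁅a, b⁆ = 1
    rw [map_commutatorElement, commutatorElement_eq_one_iff_mul_comm]
    exact hab _ _
  obtain ⟨χq, hχq⟩ := exists_nonlinear_of_not_comm hna
  have hχval : ∀ g : G, (((irrQuotientEquiv M χq).1 : IrrCharacter G) : G → ℂ) g =
      (χq : G ⧸ M → ℂ) (QuotientGroup.mk g) := irrQuotientEquiv_apply M χq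
  have hχM : ∀ m ∈ M, (((irrQuotientEquiv M χq).1 : IrrCharacter G) : G → ℂ) m =
      (((irrQuotientEquiv M χq).1 : IrrCharacter G) : G → ℂ) 1 := (irrQuotientEquiv M χq).2
  generalize ((irrQuotientEquiv M χq).1 : IrrCharacter G) = χ at hχval hχM
  have hχ1 : (χ : G → ℂ) 1 ≠ 1 := by rw [hχval]; exact hχq
  intro m hm
  by_contra hmc
  obtain ⟨lam, hlam1, hlamm⟩ := exists_linear_ne_one_of_not_mem_commutator hmc
  have hirr : IsIrrCharacter G ((lam : G → ℂ) * (χ : G → ℂ)) :=
    isIrrCharacter_mul_linear (IrrCharacter_isCharacter lam) hlam1 χ.2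
  have hψ1 : ((lam : G → ℂ) * (χ : G → ℂ)) 1 = (χ : G → ℂ) 1 := by
    show (lam : G → ℂ) 1 * (χ : G → ℂ) 1 = (χ : G → ℂ) 1
    rw [hlam1, one_mul]
  have hdeg : charDegree (χ : G → ℂ) =
      charDegree (((⟨_, hirr⟩ : IrrCharacter G)) : G → ℂ) := by
    unfold charDegree
    show _ = ⌊(((lam : G → ℂ) * (χ : G → ℂ)) 1).re⌋₊
    rw [hψ1]
  have hnl : charDegree (χ : G → ℂ) ≠ 1 := (apply_one_ne_one_iff χ).mp hχ1
  have hker := (h.ker_iff χ ⟨_, hirr⟩ hnl hdeg m).mpr (hχM m hm)
  have h2 : (lam : G → ℂ) m * (χ : G → ℂ) 1 = (χ : G → ℂ) 1 := by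
    have h3 : ((lam : G → ℂ) * (χ : G → ℂ)) m = ((lam : G → ℂ) * (χ : G → ℂ)) 1 := hker
    rw [hψ1] at h3
    have h4 : ((lam : G → ℂ) * (χ : G → ℂ)) m = (lam : G → ℂ) m * (χ : G → ℂ) m := rfl
    rw [h4, hχM m hm] at h3
    exact h3
  have hd := irr_degree_ne_zero χ
  apply hlamm
  have h5 : ((lam : G → ℂ) m - 1) * (χ : G → ℂ) 1 = 0 := by linear_combination h2
  rcases mul_eq_zero.mp h5 with h4 | h4
  · linear_combination h4
  · exact absurd h4 hd

/-- the hypothesis passes to quotients. -/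
theorem GC.quotient [Finite G] (h : GC G) (M : Subgroup G) [M.Normal] : GC (G ⧸ M) := by
  intro χq ψq hnl hdeg
  have hχv : ∀ g : G, (((irrQuotientEquiv M χq).1 : IrrCharacter G) : G → ℂ) g =
      (χq : G ⧸ M → ℂ) (QuotientGroup.mk g) := irrQuotientEquiv_apply M χq
  have hψv : ∀ g : G, (((irrQuotientEquiv M ψq).1 : IrrCharacter G) : G → ℂ) g =
      (ψq : G ⧸ M → ℂ) (QuotientGroup.mk g) := irrQuotientEquiv_apply M ψq
  have dχ := charDegree_inflate M χq
  have dψ := charDegree_inflate M ψq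
  obtain ⟨k, hk, hkk⟩ := h (irrQuotientEquiv M χq).1 (irrQuotientEquiv M ψq).1
    (by rw [dχ]; exact hnl) (by rw [dχ, dψ]; exact hdeg)
  refine ⟨k, hk.coprime_dvd_right (Subgroup.card_quotient_dvd_card M), ?_⟩
  intro gq
  obtain ⟨g, rfl⟩ := QuotientGroup.mk_surjective gq
  rw [← hψv g, hkk g, hχv (g ^ k)]
  rfl

/-- **Claim A**: with derived subgroup of order `p`, the hypothesis forces a cyclic centre. -/
theorem GC.isCyclic_center [Finite G] {p : ℕ} [hp : Fact p.Prime] (h : GC G) (hP : IsPGroup p G)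
    (hcard : Nat.card (commutator G) = p) : IsCyclic (Subgroup.center G) := by
  by_contra hnc
  let _ : CommGroup (Subgroup.center G) :=
    { (inferInstance : Group (Subgroup.center G)) with
      mul_comm := fun a b => Subtype.ext ((Subgroup.mem_center_iff.mp b.2) a.1) }
  have hZ : IsPGroup p (Subgroup.center G) := hP.to_subgroup _
  have hlt := Cfsg.Agent.Lib.Helper97.lt_card_tors_of_not_isCyclic hZ hnc
  have hex : ∃ x : Subgroup.center G, x ^ p = 1 ∧ (x : G) ∉ commutator G := by
    by_contra hcon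
    push Not at hcon
    have hle : Nat.card (Cfsg.Agent.Lib.Helper97.tors (Subgroup.center G) p) ≤
        Nat.card (commutator G) := by
      apply Nat.card_le_card_of_injective
        (fun x : Cfsg.Agent.Lib.Helper97.tors (Subgroup.center G) p =>
          (⟨((x : Subgroup.center G) : G),
            hcon x.1 ((Cfsg.Agent.Lib.Helper97.mem_tors p _).mp x.2)⟩ : commutator G))
      intro a b hab
      have := congrArg Subtype.val hab
      exact Subtype.ext (Subtype.ext this)
    omega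
  obtain ⟨x, hxp, hxc⟩ := hex
  have hx1 : (x : G) ≠ 1 := fun h1 => hxc (h1 ▸ one_mem _)
  have hx0p : (x : G) ^ p = 1 := by
    have := congrArg Subtype.val hxp
    simpa using this
  have hord : orderOf (x : G) = p := orderOf_eq_prime hx0p hx1
  have hMcen : Subgroup.zpowers (x : G) ≤ Subgroup.center G :=
    (Subgroup.zpowers_le).mpr x.2
  have : (Subgroup.zpowers (x : G)).Normal := normal_of_le_center' hMcen
  have hMcard : Nat.card (Subgroup.zpowers (x : G)) = p := by rw [Nat.card_zpowers, hord]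
  have hnot : ¬ commutator G ≤ Subgroup.zpowers (x : G) := by
    intro hle
    have : commutator G = Subgroup.zpowers (x : G) :=
      Subgroup.eq_of_le_of_card_ge hle (by rw [hMcard, hcard])
    exact hxc (this ▸ Subgroup.mem_zpowers (x : G))
  have := h.le_commutator _ hnot
  exact hxc (this (Subgroup.mem_zpowers (x : G)))

/-- lifting a generator of the (cyclic) centre of a quotient. -/
theorem exists_lift_generator [Finite G] (N : Subgroup G) [N.Normal]
    (hcyc : IsCyclic (Subgroup.center (G ⧸ N))) :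
    ∃ t : G, (QuotientGroup.mk t : G ⧸ N) ∈ Subgroup.center (G ⧸ N) ∧
      ∀ u : G, (QuotientGroup.mk u : G ⧸ N) ∈ Subgroup.center (G ⧸ N) →
        ∃ a : ℕ, ∃ n ∈ N, u = t ^ a * n := by
  obtain ⟨tq, htq⟩ := hcyc.exists_generator
  obtain ⟨t, ht⟩ := QuotientGroup.mk_surjective (tq : G ⧸ N)
  refine ⟨t, ht ▸ tq.2, ?_⟩
  intro u hu
  have hmem := htq ⟨_, hu⟩
  rw [← mem_powers_iff_mem_zpowers] at hmem
  obtain ⟨a, ha⟩ := (Submonoid.mem_powers_iff _ _).mp hmem
  have h1 : ((t ^ a : G) : G ⧸ N) = (u : G ⧸ N) := by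
    have h2 := congrArg Subtype.val ha
    simp only [SubgroupClass.coe_pow] at h2
    rw [QuotientGroup.mk_pow, ht]
    exact h2
  exact ⟨a, (t ^ a)⁻¹ * u, QuotientGroup.eq.mp h1, by group⟩

theorem mk_mem_center_iff (N : Subgroup G) [N.Normal] (u : G) :
    (QuotientGroup.mk u : G ⧸ N) ∈ Subgroup.center (G ⧸ N) ↔ ∀ g : G, ⁅u, g⁆ ∈ N := by
  rw [Subgroup.mem_center_iff]
  constructor
  · intro h g
    have h1 := h (QuotientGroup.mk g)
    rw [← QuotientGroup.eq_one_iff]
    show (QuotientGroup.mk' N) ⁅u, g⁆ = 1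
    rw [map_commutatorElement, commutatorElement_eq_one_iff_mul_comm]
    exact h1.symm
  · intro h gq
    obtain ⟨g, rfl⟩ := QuotientGroup.mk_surjective gq
    have h1 : (QuotientGroup.mk' N) ⁅u, g⁆ = 1 := (QuotientGroup.eq_one_iff _).mpr (h g)
    rw [map_commutatorElement, commutatorElement_eq_one_iff_mul_comm] at h1
    exact h1.symm

theorem card_quotient_mul_card [Finite G] (N : Subgroup G) [N.Normal] :
    Nat.card (G ⧸ N) * Nat.card N = Nat.card G :=
  (Subgroup.card_eq_card_quotient_mul_card_subgroup N).symm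

theorem card_commutator_quotient [Finite G] (N : Subgroup G) [N.Normal]
    (hN : N ≤ commutator G) :
    Nat.card (commutator (G ⧸ N)) * Nat.card N = Nat.card (commutator G) := by
  have hmap : commutator (G ⧸ N) = (commutator G).map (QuotientGroup.mk' N) := by
    rw [commutator_def, commutator_def, Subgroup.map_commutator, ← MonoidHom.range_eq_map,
      MonoidHom.range_eq_top.mpr (QuotientGroup.mk'_surjective N)]
  have hidx : (commutator (G ⧸ N)).index = (commutator G).index := by
    rw [hmap]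
    exact Subgroup.index_map_eq _ (QuotientGroup.mk'_surjective N)
      (by rw [QuotientGroup.ker_mk']; exact hN)
  have h1 := Subgroup.card_mul_index (commutator (G ⧸ N))
  have h2 := Subgroup.card_mul_index (commutator G)
  have h3 := card_quotient_mul_card N
  have hidx0 : (commutator G).index ≠ 0 := Subgroup.index_ne_zero_of_finite
  rw [hidx] at h1
  apply Nat.eq_of_mul_eq_mul_right (Nat.pos_of_ne_zero hidx0)
  rw [h2, ← h3, ← h1]; ring

/-- a subgroup of order `p²` is contained in any subgroup containing a subgroup of order `p` of it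
and a further element. -/
theorem le_of_card_sq [Finite G] {p : ℕ} (hp : p.Prime) (D N K : Subgroup G)
    (hD : Nat.card D = p ^ 2) (hN : Nat.card N = p) (hND : N ≤ D) (hNK : N ≤ K) {m : G}
    (hmD : m ∈ D) (hmK : m ∈ K) (hmN : m ∉ N) : D ≤ K := by
  have hH : N ≤ K ⊓ D := le_inf hNK hND
  have hdvd : Nat.card (K ⊓ D : Subgroup G) ∣ p ^ 2 := hD ▸ Subgroup.card_dvd_of_le inf_le_right
  obtain ⟨i, hi, hcard⟩ := (Nat.dvd_prime_pow hp).mp hdvd
  have hpd : p ∣ Nat.card (K ⊓ D : Subgroup G) := hN ▸ Subgroup.card_dvd_of_le hH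
  have hne : Nat.card (K ⊓ D : Subgroup G) ≠ p := by
    intro he
    have : N = K ⊓ D := Subgroup.eq_of_le_of_card_ge hH (by rw [he, hN])
    exact hmN (this ▸ ⟨hmK, hmD⟩)
  have hi2 : i = 2 := by
    interval_cases i
    · rw [hcard, pow_zero] at hpd
      exact absurd (Nat.dvd_one.mp hpd) hp.one_lt.ne'
    · rw [pow_one] at hcard
      exact absurd hcard hne
    · rfl
  have : K ⊓ D = D := Subgroup.eq_of_le_of_card_ge inf_le_right (by rw [hcard, hi2, hD])
  exact this ▸ inf_le_left

end Cfsg.Agent.Lib.Helper97.GalP
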