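import Mathlib
import Cfsg.Agent.Lib.Helper97.GalP3

set_option autoImplicit false

namespace Cfsg.Agent.Lib.Helper97.GalP

open Cfsg Cfsg.Agent.Lib.Helper83
open scoped ComplexConjugate commutatorElement

universe u

variable {G : Type u} [Group G]

theorem not_comm_of_card_commutator [Finite G] {p : ℕ} (hp : p.Prime)
    (hcard : Nat.card (commutator G) = p) : ¬ ∀ a b : G, a * b = b * a := by
  intro hab
  have : commutator G = ⊥ := by
    rw [eq_bot_iff, commutator_def, Subgroup.commutator_le]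
    intro a _ b _
    rw [Subgroup.mem_bot, commutatorElement_eq_one_iff_mul_comm]
    exact hab a b
  rw [this, Subgroup.card_bot] at hcard
  exact hp.one_lt.ne hcard

theorem exists_mem_ne_one_of_one_lt_card (H : Subgroup G) (h : 1 < Nat.card H) :
    ∃ c ∈ H, c ≠ 1 := by
  by_contra hcon
  push Not at hcon
  have : H = ⊥ := (Subgroup.eq_bot_iff_forall _).mpr hcon
  rw [this, Subgroup.card_bot] at h
  omega

theorem commutatorElement_mem_commutator (a b : G) : ⁅a, b⁆ ∈ commutator G := by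
  rw [commutator_def]
  exact Subgroup.commutator_mem_commutator (Subgroup.mem_top a) (Subgroup.mem_top b)

/-- the quotient by a subgroup of order `p` of the derived subgroup of order `p²`. -/
theorem GC.quot_pack [Finite G] {p : ℕ} [hp : Fact p.Prime] (h : GC G) (hP : IsPGroup p G)
    (N : Subgroup G) [N.Normal] (hNcard : Nat.card N = p) (hN : N ≤ commutator G)
    (hcard : Nat.card (commutator G) = p ^ 2) :
    Nat.card (commutator (G ⧸ N)) = p ∧ IsCyclic (Subgroup.center (G ⧸ N)) ∧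
    ∃ χ : IrrCharacter G, charDegree (χ : G → ℂ) ≠ 1 ∧
      (∀ n ∈ N, (χ : G → ℂ) n = (χ : G → ℂ) 1) ∧
      charDegree (χ : G → ℂ) ^ 2 * Nat.card (Subgroup.center (G ⧸ N)) * p = Nat.card G := by
  have hc : Nat.card (commutator (G ⧸ N)) = p := by
    have h1 := card_commutator_quotient N hN
    rw [hNcard, hcard, sq] at h1
    exact Nat.eq_of_mul_eq_mul_right hp.out.pos h1
  have hPQ : IsPGroup p (G ⧸ N) := hP.to_quotient N
  have hGCQ := h.quotient N
  have hcyc := hGCQ.isCyclic_center hPQ hc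
  obtain ⟨χq, hχq⟩ := exists_nonlinear_of_not_comm (not_comm_of_card_commutator hp.out hc)
  have hcenQ : commutator (G ⧸ N) ≤ Subgroup.center (G ⧸ N) :=
    le_center_of_card_prime hPQ _ hc
  have hdeg := degree_sq_mul_card_center χq
    (fun g hg => nonlinear_vanish hp.out hcenQ hc χq hχq hg)
  refine ⟨hc, hcyc, (irrQuotientEquiv N χq).1, ?_, (irrQuotientEquiv N χq).2, ?_⟩
  · rw [charDegree_inflate]; exact (apply_one_ne_one_iff χq).mp hχq
  · rw [charDegree_inflate, hdeg, ← hNcard]; exact card_quotient_mul_card N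

/-- the centre of the quotient by a central subgroup of order `p`, when cyclic, is not far
from the centre. -/
theorem card_center_quotient_bounds [Finite G] {p : ℕ} [hp : Fact p.Prime] (N : Subgroup G)
    [N.Normal] (hNcen : N ≤ Subgroup.center G) (hNcard : Nat.card N = p)
    (hcyc : IsCyclic (Subgroup.center (G ⧸ N))) :
    Nat.card (Subgroup.center (G ⧸ N)) ≤ Nat.card (Subgroup.center G) ∧
    Nat.card (Subgroup.center G) ≤ p * Nat.card (Subgroup.center (G ⧸ N)) := by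
  set Z₁ : Subgroup G := (Subgroup.center (G ⧸ N)).comap (QuotientGroup.mk' N) with hZ₁
  have hmemZ₁ : ∀ u : G, u ∈ Z₁ ↔ (QuotientGroup.mk u : G ⧸ N) ∈ Subgroup.center (G ⧸ N) :=
    fun u => Iff.rfl
  have hZ₁card : Nat.card Z₁ = p * Nat.card (Subgroup.center (G ⧸ N)) := by
    have hidx : Z₁.index = (Subgroup.center (G ⧸ N)).index :=
      Subgroup.index_comap_of_surjective _ (QuotientGroup.mk'_surjective N)
    have h1 := Subgroup.card_mul_index Z₁
    have h2 := Subgroup.card_mul_index (Subgroup.center (G ⧸ N))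
    have h3 := card_quotient_mul_card N
    have h0 : (Subgroup.center (G ⧸ N)).index ≠ 0 := Subgroup.index_ne_zero_of_finite
    rw [hidx] at h1
    apply Nat.eq_of_mul_eq_mul_right (Nat.pos_of_ne_zero h0)
    rw [h1, ← h3, ← h2, hNcard]; ring
  have hle : Subgroup.center G ≤ Z₁ := by
    intro z hz
    rw [hmemZ₁, mk_mem_center_iff]
    intro g
    have : ⁅z, g⁆ = 1 := by
      rw [commutatorElement_eq_one_iff_mul_comm]
      exact (Subgroup.mem_center_iff.mp hz g).symm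
    rw [this]; exact one_mem _
  obtain ⟨t, htc, ht⟩ := exists_lift_generator N hcyc
  have htN : ∀ g, ⁅t, g⁆ ∈ N := (mk_mem_center_iff N t).mp htc
  have htp : t ^ p ∈ Subgroup.center G := by
    rw [Subgroup.mem_center_iff]
    intro g
    have h1 : ⁅t ^ p, g⁆ = ⁅t, g⁆ ^ p :=
      commutatorElement_pow_left_of_commute t g
        ((Subgroup.mem_center_iff.mp (hNcen (htN g)) t).symm) p
    have h2 : ⁅t, g⁆ ^ p = 1 := by
      have := pow_card_eq_one_of_mem N (htN g)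
      rwa [hNcard] at this
    rw [h2, commutatorElement_eq_one_iff_mul_comm] at h1
    exact h1.symm
  have hsurj : Nat.card Z₁ ≤ p * Nat.card (Subgroup.center G) := by
    have htZ : t ∈ Z₁ := htc
    let f : Fin p × Subgroup.center G → Z₁ := fun x =>
      ⟨t ^ (x.1 : ℕ) * (x.2 : G), Z₁.mul_mem (Z₁.pow_mem htZ _) (hle x.2.2)⟩
    have hf : Function.Surjective f := by
      rintro ⟨u, hu⟩
      obtain ⟨a, n, hn, rfl⟩ := ht u hu
      refine ⟨(⟨a % p, Nat.mod_lt _ hp.out.pos⟩, ⟨(t ^ p) ^ (a / p) * n,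
        Subgroup.mul_mem _ (Subgroup.pow_mem _ htp _) (hNcen hn)⟩), ?_⟩
      apply Subtype.ext
      show t ^ (a % p) * ((t ^ p) ^ (a / p) * n) = t ^ a * n
      rw [← mul_assoc, ← pow_mul, ← pow_add, Nat.mod_add_div]
    have := Nat.card_le_card_of_surjective f hf
    rwa [Nat.card_prod, Nat.card_fin] at this
  constructor
  · have : p * Nat.card (Subgroup.center (G ⧸ N)) ≤ p * Nat.card (Subgroup.center G) :=
      hZ₁card ▸ hsurj
    exact Nat.le_of_mul_le_mul_left this hp.out.pos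
  · rw [← hZ₁card]; exact Subgroup.card_le_of_le hle

theorem parity_aux {p : ℕ} (hp : p.Prime) {n d₁ d₂ z₁ z₂ z : ℕ}
    (hG₁ : d₁ ^ 2 * z₁ * p = p ^ n) (hG₂ : d₂ ^ 2 * z₂ * p = p ^ n) (hz : z ∣ p ^ n)
    (h1 : z₁ ≤ z) (h1' : z ≤ p * z₁) (h2 : z₂ ≤ z) (h2' : z ≤ p * z₂) : d₁ = d₂ := by
  have hd₁ : d₁ ∣ p ^ n := ⟨d₁ * z₁ * p, by rw [← hG₁]; ring⟩
  have hd₂ : d₂ ∣ p ^ n := ⟨d₂ * z₂ * p, by rw [← hG₂]; ring⟩
  have hz₁ : z₁ ∣ p ^ n := ⟨d₁ ^ 2 * p, by rw [← hG₁]; ring⟩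
  have hz₂ : z₂ ∣ p ^ n := ⟨d₂ ^ 2 * p, by rw [← hG₂]; ring⟩
  obtain ⟨a, -, rfl⟩ := (Nat.dvd_prime_pow hp).mp hd₁
  obtain ⟨b, -, rfl⟩ := (Nat.dvd_prime_pow hp).mp hd₂
  obtain ⟨s₁, -, rfl⟩ := (Nat.dvd_prime_pow hp).mp hz₁
  obtain ⟨s₂, -, rfl⟩ := (Nat.dvd_prime_pow hp).mp hz₂
  obtain ⟨s, -, rfl⟩ := (Nat.dvd_prime_pow hp).mp hz
  have e₁ : 2 * a + s₁ + 1 = n := by
    apply Nat.pow_right_injective hp.two_le
    show p ^ (2 * a + s₁ + 1) = p ^ n
    rw [← hG₁]; ring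
  have e₂ : 2 * b + s₂ + 1 = n := by
    apply Nat.pow_right_injective hp.two_le
    show p ^ (2 * b + s₂ + 1) = p ^ n
    rw [← hG₂]; ring
  have i1 : s₁ ≤ s := (Nat.pow_le_pow_iff_right hp.one_lt).mp h1
  have i1' : s ≤ s₁ + 1 := by
    have : p ^ s ≤ p ^ (s₁ + 1) := by rw [pow_succ, mul_comm]; exact h1'
    exact (Nat.pow_le_pow_iff_right hp.one_lt).mp this
  have i2 : s₂ ≤ s := (Nat.pow_le_pow_iff_right hp.one_lt).mp h2
  have i2' : s ≤ s₂ + 1 := by
    have : p ^ s ≤ p ^ (s₂ + 1) := by rw [pow_succ, mul_comm]; exact h2'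
    exact (Nat.pow_le_pow_iff_right hp.one_lt).mp this
  have : a = b := by omega
  rw [this]

/-- **Case 1a**: central elementary abelian derived subgroup of order `p²`. -/
theorem GC.case1a [Finite G] {p : ℕ} [hp : Fact p.Prime] (h : GC G) (hP : IsPGroup p G)
    (hcard : Nat.card (commutator G) = p ^ 2) (hcen : commutator G ≤ Subgroup.center G)
    (hexp : ∀ x y : G, ⁅x, y⁆ ^ p = 1) : False := by
  let T : Subgroup G :=
    { carrier := {d | d ∈ Subgroup.center G ∧ d ^ p = 1}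
      one_mem' := ⟨one_mem _, one_pow _⟩
      mul_mem' := by
        rintro a b ⟨ha, hap⟩ ⟨hb, hbp⟩
        refine ⟨mul_mem ha hb, ?_⟩
        have hc : Commute a b := Subgroup.mem_center_iff.mp hb a
        rw [hc.mul_pow, hap, hbp, one_mul]
      inv_mem' := by
        rintro a ⟨ha, hap⟩
        exact ⟨inv_mem ha, by rw [inv_pow, hap, inv_one]⟩ }
  have hT : commutator G ≤ T := by
    rw [commutator_def, Subgroup.commutator_le]
    intro a _ b _
    exact ⟨hcen (commutatorElement_mem_commutator a b), hexp a b⟩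
  have hexp' : ∀ d ∈ commutator G, d ^ p = 1 := fun d hd => (hT hd).2
  have hp2 : p < p ^ 2 := by nlinarith [hp.out.two_le]
  obtain ⟨n₀, hn₀, hn₀1⟩ := exists_mem_ne_one_of_one_lt_card (commutator G)
    (by rw [hcard]; exact lt_trans hp.out.one_lt hp2)
  have hNcard : Nat.card (Subgroup.zpowers n₀) = p := by
    rw [Nat.card_zpowers, orderOf_eq_prime (hexp' n₀ hn₀) hn₀1]
  have hNle : Subgroup.zpowers n₀ ≤ commutator G := Subgroup.zpowers_le.mpr hn₀
  obtain ⟨m₀, hm₀, hm₀N⟩ : ∃ m₀ ∈ commutator G, m₀ ∉ Subgroup.zpowers n₀ := by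
    by_contra hcon
    push Not at hcon
    have := Subgroup.card_le_of_le (show commutator G ≤ Subgroup.zpowers n₀ from hcon)
    rw [hcard, hNcard] at this
    omega
  have hm₀1 : m₀ ≠ 1 := fun h1 => hm₀N (h1 ▸ one_mem _)
  have hMcard : Nat.card (Subgroup.zpowers m₀) = p := by
    rw [Nat.card_zpowers, orderOf_eq_prime (hexp' m₀ hm₀) hm₀1]
  have hMle : Subgroup.zpowers m₀ ≤ commutator G := Subgroup.zpowers_le.mpr hm₀
  have hNn : (Subgroup.zpowers n₀).Normal := normal_of_le_center' (hNle.trans hcen)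
  have hMn : (Subgroup.zpowers m₀).Normal := normal_of_le_center' (hMle.trans hcen)
  obtain ⟨-, hcycN, χN, hχNnl, hχNker, hχNdeg⟩ := h.quot_pack hP _ hNcard hNle hcard
  obtain ⟨-, hcycM, χM, hχMnl, hχMker, hχMdeg⟩ := h.quot_pack hP _ hMcard hMle hcard
  obtain ⟨bN1, bN2⟩ := card_center_quotient_bounds _ (hNle.trans hcen) hNcard hcycN
  obtain ⟨bM1, bM2⟩ := card_center_quotient_bounds _ (hMle.trans hcen) hMcard hcycM
  obtain ⟨n, hn⟩ := hP.exists_card_eq
  have hdeg : charDegree (χN : G → ℂ) = charDegree (χM : G → ℂ) :=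
    parity_aux hp.out (by rw [← hn]; exact hχNdeg) (by rw [← hn]; exact hχMdeg)
      (by rw [← hn]; exact Subgroup.card_subgroup_dvd_card _) bN1 bN2 bM1 bM2
  have hker := h.ker_iff χN χM hχNnl hdeg
  have hm₀k : (χN : G → ℂ) m₀ = (χN : G → ℂ) 1 :=
    (hker m₀).mp (hχMker m₀ (Subgroup.mem_zpowers m₀))
  have hχc := IrrCharacter_isCharacter χN
  have hK : commutator G ≤ charKer hχc :=
    le_of_card_sq hp.out (commutator G) (Subgroup.zpowers n₀) (charKer hχc) hcard hNcard hNle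
      (fun x hx => (mem_charKer hχc x).mpr (hχNker x hx)) hm₀
      ((mem_charKer hχc m₀).mpr hm₀k) hm₀N
  have hlin : (χN : G → ℂ) 1 = 1 :=
    irr_linear_of_commutator_le χN (fun x hx => (mem_charKer hχc x).mp (hK hx))
  exact (apply_one_ne_one_iff χN).mpr hχNnl hlin

/-- **Case 1b**: central cyclic derived subgroup of order `p²`. -/
theorem GC.case1b [Finite G] {p : ℕ} [hp : Fact p.Prime] (h : GC G) (hP : IsPGroup p G)
    (hcard : Nat.card (commutator G) = p ^ 2) (hcen : commutator G ≤ Subgroup.center G)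
    (x y : G) (hxy : ⁅x, y⁆ ^ p ≠ 1) : False := by
  have hcG : ⁅x, y⁆ ∈ commutator G := commutatorElement_mem_commutator x y
  have hcp2 : ⁅x, y⁆ ^ (p ^ 2) = 1 := by rw [← hcard]; exact pow_card_eq_one_of_mem _ hcG
  have hn₀p : (⁅x, y⁆ ^ p) ^ p = 1 := by rw [← pow_mul, ← sq]; exact hcp2
  have hn₀ord : orderOf (⁅x, y⁆ ^ p) = p := orderOf_eq_prime hn₀p hxy
  have hn₀G : ⁅x, y⁆ ^ p ∈ commutator G := Subgroup.pow_mem _ hcG p
  have hNcard : Nat.card (Subgroup.zpowers (⁅x, y⁆ ^ p)) = p := by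
    rw [Nat.card_zpowers, hn₀ord]
  have hNle : Subgroup.zpowers (⁅x, y⁆ ^ p) ≤ commutator G := Subgroup.zpowers_le.mpr hn₀G
  have hNcen : Subgroup.zpowers (⁅x, y⁆ ^ p) ≤ Subgroup.center G := hNle.trans hcen
  have hNn : (Subgroup.zpowers (⁅x, y⁆ ^ p)).Normal := normal_of_le_center' hNcen
  have hcord : orderOf ⁅x, y⁆ = p ^ 2 := by
    have hdvd : orderOf ⁅x, y⁆ ∣ p ^ 2 := orderOf_dvd_of_pow_eq_one hcp2
    obtain ⟨i, hi, hio⟩ := (Nat.dvd_prime_pow hp.out).mp hdvd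
    interval_cases i
    · exfalso; apply hxy
      rw [pow_zero, orderOf_eq_one_iff] at hio
      rw [hio, one_pow]
    · exfalso; apply hxy
      rw [pow_one] at hio
      rw [← hio]; exact pow_orderOf_eq_one _
    · exact hio
  have hzc : Subgroup.zpowers ⁅x, y⁆ = commutator G :=
    Subgroup.eq_of_le_of_card_ge (Subgroup.zpowers_le.mpr hcG)
      (by rw [Nat.card_zpowers, hcord, hcard])
  have hpowN : ∀ d ∈ commutator G, d ^ p ∈ Subgroup.zpowers (⁅x, y⁆ ^ p) := by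
    intro d hd
    rw [← hzc] at hd
    obtain ⟨i, rfl⟩ := Subgroup.mem_zpowers_iff.mp hd
    have : (⁅x, y⁆ ^ i) ^ p = (⁅x, y⁆ ^ p) ^ i := by
      rw [← zpow_natCast, ← zpow_mul, mul_comm, zpow_mul, zpow_natCast]
    rw [this]; exact Subgroup.zpow_mem _ (Subgroup.mem_zpowers _) i
  obtain ⟨-, hcyc, -⟩ := h.quot_pack hP _ hNcard hNle hcard
  obtain ⟨t, htc, ht⟩ := exists_lift_generator _ hcyc
  have htN : ∀ g, ⁅t, g⁆ ∈ Subgroup.zpowers (⁅x, y⁆ ^ p) := (mk_mem_center_iff _ t).mp htc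
  have hpowc : ∀ (g w : G) (k : ℕ), ⁅g ^ k, w⁆ = ⁅g, w⁆ ^ k := fun g w k =>
    commutatorElement_pow_left_of_commute g w
      ((Subgroup.mem_center_iff.mp (hcen (commutatorElement_mem_commutator g w)) g).symm) k
  have hu : (QuotientGroup.mk (x ^ p) : G ⧸ Subgroup.zpowers (⁅x, y⁆ ^ p)) ∈
      Subgroup.center (G ⧸ Subgroup.zpowers (⁅x, y⁆ ^ p)) := by
    rw [mk_mem_center_iff]; intro g; rw [hpowc]
    exact hpowN _ (commutatorElement_mem_commutator x g)
  have hv : (QuotientGroup.mk (y ^ p) : G ⧸ Subgroup.zpowers (⁅x, y⁆ ^ p)) ∈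
      Subgroup.center (G ⧸ Subgroup.zpowers (⁅x, y⁆ ^ p)) := by
    rw [mk_mem_center_iff]; intro g; rw [hpowc]
    exact hpowN _ (commutatorElement_mem_commutator y g)
  obtain ⟨a, n, hn, hxa⟩ := ht (x ^ p) hu
  obtain ⟨b, n', hn', hyb⟩ := ht (y ^ p) hv
  have hlift : ∀ (k : ℕ) (m : G), m ∈ Subgroup.zpowers (⁅x, y⁆ ^ p) → ∀ w : G,
      ⁅t ^ k * m, w⁆ = ⁅t, w⁆ ^ k := by
    intro k m hm w
    rw [commutatorElement_mul_central (hNcen hm), hpowc]
  have E1 : ⁅t, y⁆ ^ a = ⁅x, y⁆ ^ p := by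
    rw [← hlift a n hn y, ← hxa, hpowc]
  have hw1 : ⁅t, y⁆ ≠ 1 := by
    intro h1; rw [h1, one_pow] at E1; exact hxy E1.symm
  have hword : orderOf ⁅t, y⁆ = p := orderOf_of_mem_card_prime _ hNcard (htN y) hw1
  have E2 : ⁅t, y⁆ ^ b = 1 := by
    rw [← hlift b n' hn' y, ← hyb, hpowc, commutatorElement_self, one_pow]
  have hpb : p ∣ b := by rw [← hword]; exact orderOf_dvd_of_pow_eq_one E2
  have E3 : ⁅t, x⁆ ^ b = (⁅x, y⁆ ^ p)⁻¹ := by
    rw [← hlift b n' hn' x, ← hyb, hpowc, ← inv_pow, commutatorElement_inv]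
  have E4 : ⁅t, x⁆ ^ b = 1 := by
    obtain ⟨b', rfl⟩ := hpb
    rw [pow_mul]
    have := pow_card_eq_one_of_mem _ (htN x)
    rw [hNcard] at this
    rw [this, one_pow]
  rw [E4] at E3
  exact hxy (inv_eq_one.mp E3.symm)

end Cfsg.Agent.Lib.Helper97.GalP
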