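import Mathlib
import Cfsg.Agent.Lib.Helper97.TwoDegMain
import Cfsg.Agent.Lib.Helper83.CharMisc
import Cfsg.Agent.Lib.Helper83.OneNonlinear

/-!
# Groups with two character degrees: structure (Isaacs 12.5)

Continuing `TwoDegMain`: with `M` the abelian normal Hall subgroup `hallCore G m`, either `M` is
central (then `G` is nilpotent, `m` is a prime power and `G = P × A`), or the centralizer of `M`,
realised as the stabilizer of a suitable linear character of `M`, is an abelian normal subgroup of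
index `m`.
-/

set_option autoImplicit false

namespace Cfsg.Agent.Lib.Helper97

open Cfsg Cfsg.Agent.Lib.Helper85 Cfsg.Agent.Lib.Helper83
open Cfsg.Agent.Lib.Helper04 (OpRes OpRes_normal OpRes_index card_OpRes_coprime)
open scoped ComplexConjugate commutatorElement

universe u

/-- a subgroup `T` centralizing the normal Hall subgroup `M`, with `[T,T] ≤ M`, is commutative. -/
theorem comm_of_central_coprime {G : Type*} [Group G] [Finite G] (M T : Subgroup G) [M.Normal]
    (hcent : ∀ t ∈ T, ∀ x ∈ M, t * x * t⁻¹ = x) (hq : ∀ x ∈ T, ∀ y ∈ T, ⁅x, y⁆ ∈ M)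
    (hcop : (Nat.card M).Coprime M.index) : ∀ x ∈ T, ∀ y ∈ T, x * y = y * x := by
  intro a ha b hb
  have hcM : ⁅a, b⁆ ∈ M := hq a ha b hb
  have hca : Commute ⁅a, b⁆ a := mul_comm_of_conj_eq (hcent a ha _ hcM)
  have hpow := commutatorElement_pow_left_of_commute a b hca M.index
  have han : a ^ M.index ∈ M := Subgroup.pow_index_mem _ a
  have h1 : ⁅a, b⁆ ^ M.index = 1 := by
    rw [← hpow, commutatorElement_eq_one_iff_mul_comm]
    exact mul_comm_of_conj_eq (hcent b hb _ han)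
  have h2 : ⁅a, b⁆ ^ Nat.card M = 1 := by
    have h3 : (⟨⁅a, b⁆, hcM⟩ : M) ^ Nat.card M = 1 := pow_card_eq_one'
    have h4 := congrArg Subtype.val h3
    simpa only [Subgroup.coe_pow, Subgroup.coe_one] using h4
  have h3 : orderOf ⁅a, b⁆ = 1 :=
    Nat.eq_one_of_dvd_coprimes hcop (orderOf_dvd_of_pow_eq_one h2) (orderOf_dvd_of_pow_eq_one h1)
  exact commutatorElement_eq_one_iff_mul_comm.mp (orderOf_eq_one_iff.mp h3)

section Tw

variable {G : Type u} [Group G] (M : Subgroup G) [hM : M.Normal] {A : Type*} [CommGroup A]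

/-- conjugation action on the linear characters of a normal subgroup:
`(tw g lam) x = lam (g x g⁻¹)`. -/
def tw (g : G) (lam : M →* A) : M →* A :=
  lam.comp (MulAut.conjNormal g : MulAut M).toMonoidHom

theorem tw_apply (g : G) (lam : M →* A) (x : M) :
    tw M g lam x = lam ⟨g * x * g⁻¹, hM.conj_mem x x.2 g⟩ := rfl

/-- `tw M g` as an endomorphism of the character group. -/
def twHom (g : G) : (M →* A) →* (M →* A) where
  toFun := tw M g
  map_one' := rfl
  map_mul' _ _ := rfl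

theorem tw_mul_hom (g : G) (a b : M →* A) : tw M g (a * b) = tw M g a * tw M g b := rfl

theorem tw_inv_hom (g : G) (a : M →* A) : tw M g a⁻¹ = (tw M g a)⁻¹ :=
  map_inv (twHom M g) a

theorem tw_pow_hom (g : G) (a : M →* A) (i : ℕ) : tw M g (a ^ i) = (tw M g a) ^ i :=
  map_pow (twHom M g) a i

theorem tw_one (lam : M →* A) : tw M 1 lam = lam := by
  refine MonoidHom.ext fun x => ?_
  rw [tw_apply]
  congr 1
  apply Subtype.ext
  simp

theorem tw_mul_left (g h : G) (lam : M →* A) : tw M (g * h) lam = tw M h (tw M g lam) := by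
  refine MonoidHom.ext fun x => ?_
  rw [tw_apply, tw_apply, tw_apply]
  congr 1
  apply Subtype.ext
  simp [mul_assoc]

theorem tw_of_centralizes (g : G) (hg : ∀ x ∈ M, g * x * g⁻¹ = x) (lam : M →* A) :
    tw M g lam = lam := by
  refine MonoidHom.ext fun x => ?_
  rw [tw_apply]
  congr 1
  exact Subtype.ext (hg x x.2)

/-- key coprimality lemma: a character of the form `(s • κ) κ⁻¹` fixed by `s` is trivial. -/
theorem tw_eq_one_of_fixed [Finite G] (s : G) (n : ℕ)
    (hn : ∀ x ∈ M, s ^ n * x * (s ^ n)⁻¹ = x) (hcop : n.Coprime (Nat.card M))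
    (κ ρ : M →* A) (hρ : ρ = tw M s κ * κ⁻¹) (hfix : tw M s ρ = ρ) : ρ = 1 := by
  have hsκ : tw M s κ = κ * ρ := by
    rw [hρ, mul_comm (tw M s κ) κ⁻¹, mul_inv_cancel_left]
  have hi : ∀ i : ℕ, tw M (s ^ i) κ = κ * ρ ^ i := by
    intro i
    induction i with
    | zero => rw [pow_zero, pow_zero, mul_one, tw_one]
    | succ i ih =>
      rw [pow_succ s i, tw_mul_left, ih, tw_mul_hom, tw_pow_hom, hsκ, hfix, pow_succ ρ i,
        mul_assoc, mul_comm ρ (ρ ^ i)]
  have h1 : ρ ^ n = 1 := by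
    have h2 := hi n
    rw [tw_of_centralizes M (s ^ n) hn κ] at h2
    exact mul_left_cancel (a := κ) (h2.symm.trans (mul_one κ).symm)
  have h2 : ρ ^ Nat.card M = 1 := by
    refine MonoidHom.ext fun x => ?_
    rw [MonoidHom.pow_apply, ← map_pow, pow_card_eq_one', map_one, MonoidHom.one_apply]
  have h3 : orderOf ρ = 1 :=
    Nat.eq_one_of_dvd_coprimes hcop (orderOf_dvd_of_pow_eq_one h1) (orderOf_dvd_of_pow_eq_one h2)
  exact orderOf_eq_one_iff.mp h3

/-- `κ ↦ (g • κ) κ⁻¹` as an endomorphism of the character group. -/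
def dd (g : G) : (M →* A) →* (M →* A) := twHom M g / MonoidHom.id _

theorem dd_apply (g : G) (κ : M →* A) : dd M g κ = tw M g κ * κ⁻¹ := by
  unfold dd
  rw [MonoidHom.div_apply, div_eq_mul_inv]
  rfl

theorem dd_eq_one_iff (g : G) (κ : M →* A) : dd M g κ = 1 ↔ tw M g κ = κ := by
  rw [dd_apply, mul_inv_eq_one]

theorem dd_comm (s t : G) (hst : ∀ κ : M →* A, tw M s (tw M t κ) = tw M t (tw M s κ))
    (κ : M →* A) : dd M s (dd M t κ) = dd M t (dd M s κ) := by
  simp only [dd_apply, tw_mul_hom, tw_inv_hom, hst]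
  simp only [mul_inv_rev, inv_inv, mul_comm, mul_left_comm, mul_assoc]

/-- if `s` fixes `lam` but moves `μ`, and conjugation by `s` commutes with all other
conjugations on characters, there is a character `ν` whose stabilizer lies in that of `lam`
and does not contain `s`. -/
theorem exists_smaller_stab [Finite G] (s : G) (n : ℕ)
    (hn : ∀ x ∈ M, s ^ n * x * (s ^ n)⁻¹ = x) (hcop : n.Coprime (Nat.card M))
    (hcomm : ∀ (t : G) (κ : M →* A), tw M s (tw M t κ) = tw M t (tw M s κ))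
    (lam μ : M →* A) (hslam : tw M s lam = lam) (hμ : tw M s μ ≠ μ) :
    ∃ ν : M →* A, (∀ t : G, tw M t ν = ν → tw M t lam = lam) ∧ tw M s ν ≠ ν := by
  have hμ'moved : tw M s (dd M s μ) ≠ dd M s μ := by
    intro hfix
    have h1 : dd M s μ = 1 :=
      tw_eq_one_of_fixed M s n hn hcop μ (dd M s μ) (dd_apply M s μ) hfix
    exact hμ ((dd_eq_one_iff M s μ).mp h1)
  have hstabν : ∀ t : G, tw M t (lam * dd M s μ) = lam * dd M s μ →
      tw M t lam = lam ∧ tw M t (dd M s μ) = dd M s μ := by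
    intro t ht
    have h1 : dd M t lam * dd M t (dd M s μ) = 1 := by
      rw [← map_mul]
      exact (dd_eq_one_iff M t _).mpr ht
    have hρκ : dd M t lam = dd M s ((dd M t μ)⁻¹) := by
      rw [map_inv, dd_comm M s t (fun κ => hcomm t κ) μ]
      exact eq_inv_of_mul_eq_one_left h1
    have hfix : tw M s (dd M t lam) = dd M t lam := by
      rw [← dd_eq_one_iff, dd_comm M s t (fun κ => hcomm t κ) lam,
        (dd_eq_one_iff M s lam).mpr hslam, map_one]
    have hρ1 : dd M t lam = 1 :=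
      tw_eq_one_of_fixed M s n hn hcop _ _ (hρκ.trans (dd_apply M s _)) hfix
    refine ⟨(dd_eq_one_iff M t lam).mp hρ1, ?_⟩
    rw [hρ1, one_mul] at h1
    exact (dd_eq_one_iff M t _).mp h1
  exact ⟨lam * dd M s μ, fun t ht => (hstabν t ht).1, fun hs => hμ'moved (hstabν s hs).2⟩

omit [CommGroup A] in
theorem mem_conjStab_hom_iff (g : G) (lam : M →* ℂˣ) :
    g ∈ conjStab hM (fun x => ((lam x : ℂˣ) : ℂ)) ↔ tw M g lam = lam := by
  rw [mem_conjStab]
  constructor
  · intro h
    refine MonoidHom.ext fun x => Units.ext ?_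
    rw [tw_apply]
    exact congrFun h x
  · intro h
    funext x
    have h2 := congrArg (fun f : M →* ℂˣ => ((f x : ℂˣ) : ℂ)) h
    simp only [tw_apply] at h2
    exact h2

end Tw

section Struct

variable {G : Type u} [Group G] [Finite G] (M : Subgroup G) [hM : M.Normal] {m : ℕ}

/-- a linear character moved by `g`, when `g` does not centralize the commutative group `M`. -/
theorem exists_hom_moved (hab : ∀ a b : M, a * b = b * a) (g : G)
    (hg : ∃ x ∈ M, g * x * g⁻¹ ≠ x) : ∃ μ : M →* ℂˣ, tw M g μ ≠ μ := by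
  obtain ⟨x, hx, hgx⟩ := hg
  by_contra hall
  push Not at hall
  apply hgx
  have key : (⟨g * x * g⁻¹, hM.conj_mem x hx g⟩ : M) = ⟨x, hx⟩ := by
    apply Cfsg.Agent.Lib.Helper79.eq_of_forall_irr_eq hab
    intro θ
    have hθ1 : (θ : M → ℂ) 1 = 1 := irr_apply_one_of_comm hab θ.2
    have h2 := hall (Cfsg.Agent.Lib.Helper80.linUnitHom (IrrCharacter_isCharacter θ) hθ1)
    have h3 := congrArg (fun f : M →* ℂˣ => ((f ⟨x, hx⟩ : ℂˣ) : ℂ)) h2
    simp only [tw_apply, Cfsg.Agent.Lib.Helper80.linUnitHom_apply] at h3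
    exact h3
  exact congrArg Subtype.val key

/-- the stabilizer of a non-invariant linear character of the commutative normal Hall subgroup
`M` centralizes `M`. -/
theorem TwoDeg.stab_centralizes (h : TwoDeg G m) (hm : 2 ≤ m)
    (hcop : (Nat.card M).Coprime M.index) (hab : ∀ a b : M, a * b = b * a) (lam : M →* ℂˣ)
    (hne : conjStab hM (fun x => ((lam x : ℂˣ) : ℂ)) ≠ ⊤) :
    ∀ s ∈ conjStab hM (fun x => ((lam x : ℂˣ) : ℂ)), ∀ x ∈ M, s * x * s⁻¹ = x := by
  classical
  intro s hs x hx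
  by_contra hsx
  have hcent := h.commutator_centralizes hm M hcop hab
  have hslam : tw M s lam = lam := (mem_conjStab_hom_iff M s lam).mp hs
  obtain ⟨μ, hμ⟩ := exists_hom_moved M hab s ⟨x, hx, hsx⟩
  have hn : ∀ y ∈ M, s ^ M.index * y * (s ^ M.index)⁻¹ = y := by
    intro y hy
    have hsn : s ^ M.index ∈ M := Subgroup.pow_index_mem M s
    have h1 := hab ⟨s ^ M.index, hsn⟩ ⟨y, hy⟩
    have h2 : s ^ M.index * y = y * s ^ M.index := congrArg Subtype.val h1
    rw [h2, mul_inv_cancel_right]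
  have hcopn : M.index.Coprime (Nat.card M) := hcop.symm
  have hcomm : ∀ (t : G) (κ : M →* ℂˣ), tw M s (tw M t κ) = tw M t (tw M s κ) := by
    intro t κ
    rw [← tw_mul_left M t s κ, ← tw_mul_left M s t κ]
    have hc : t * s = (s * t) * ⁅t⁻¹, s⁻¹⁆ := by
      simp only [commutatorElement_def]
      group
    have hcm : ⁅t⁻¹, s⁻¹⁆ ∈ commutator G := by
      rw [commutator_def]
      exact Subgroup.commutator_mem_commutator (Subgroup.mem_top _) (Subgroup.mem_top _)
    rw [hc, tw_mul_left M (s * t) ⁅t⁻¹, s⁻¹⁆ κ, tw_of_centralizes M _ (hcent _ hcm)]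
  obtain ⟨ν, hνstab, hνs⟩ := exists_smaller_stab M s M.index hn hcopn hcomm lam μ hslam hμ
  have hirr : ∀ f : M →* ℂˣ, IsIrrCharacter M (fun x => ((f x : ℂˣ) : ℂ)) :=
    fun f => isIrrCharacter_of_hom f
  have h1v : ∀ f : M →* ℂˣ, (fun x : M => ((f x : ℂˣ) : ℂ)) 1 = 1 := fun f => by simp
  have hidxlam := h.stab_index M hcop _ (hirr lam) (h1v lam)
  have hidxν := h.stab_index M hcop _ (hirr ν) (h1v _)
  have hlamm : (conjStab hM (fun x => ((lam x : ℂˣ) : ℂ))).index = m := by
    rcases hidxlam with h1 | h1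
    · exact absurd (Subgroup.index_eq_one.mp h1) hne
    · exact h1
  have hle : conjStab hM (fun x => ((ν x : ℂˣ) : ℂ)) ≤
      conjStab hM (fun x => ((lam x : ℂˣ) : ℂ)) := by
    intro t ht
    rw [mem_conjStab_hom_iff] at ht ⊢
    exact hνstab t ht
  have hdvd := Subgroup.index_dvd_of_le hle
  have hνm : (conjStab hM (fun x => ((ν x : ℂˣ) : ℂ))).index = m := by
    rcases hidxν with h1 | h1
    · rw [h1, hlamm] at hdvd
      have := Nat.le_of_dvd one_pos hdvd
      omega
    · exact h1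
  have hrel : (conjStab hM (fun x => ((ν x : ℂˣ) : ℂ))).relIndex
      (conjStab hM (fun x => ((lam x : ℂˣ) : ℂ))) = 1 := by
    have h1 := Subgroup.relIndex_mul_index hle
    rw [hlamm, hνm] at h1
    exact Nat.eq_of_mul_eq_mul_right (by omega : 0 < m) (by rw [h1, one_mul])
  have hge := Subgroup.relIndex_eq_one.mp hrel
  have hsν := hge hs
  rw [mem_conjStab_hom_iff] at hsν
  exact hνs hsν

/-- if `θ` is a linear character of `M` with stabilizer `T` of index `m`, extending to `T`, then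
`T/M` is commutative. -/
theorem TwoDeg.quot_comm_of_ext (h : TwoDeg G m) (hm : 2 ≤ m) (T : Subgroup G) (hMT : M ≤ T)
    (θ : M → ℂ) (hθ : IsIrrCharacter M θ)
    (hT : ∀ g : G, g ∈ T ↔ ∀ n : M, Cfsg.Agent.Lib.Helper84.conjFun M g θ n = θ n)
    (hidx : T.index = m) (η : T → ℂ) (hη : IsIrrCharacter T η) (hη1 : η 1 = 1)
    (hηres : ∀ n : M, η ⟨(n : G), hMT n.2⟩ = θ n) :
    ∀ x ∈ T, ∀ y ∈ T, ⁅x, y⁆ ∈ M := by
  classical
  letI : Fintype G := Fintype.ofFinite G
  letI : Fintype M := Fintype.ofFinite _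
  letI : Fintype T := Fintype.ofFinite _
  have hlin : ∀ β : IrrCharacter (T ⧸ M.subgroupOf T),
      charDegree (β : T ⧸ M.subgroupOf T → ℂ) = 1 := by
    intro β
    have hψ : IsIrrCharacter T
        (fun t : T => (β : T ⧸ M.subgroupOf T → ℂ) (QuotientGroup.mk t)) :=
      isIrrCharacter_inflate (M.subgroupOf T) β.2
    have hηψ : IsIrrCharacter T
        (η * fun t : T => (β : T ⧸ M.subgroupOf T → ℂ) (QuotientGroup.mk t)) :=
      isIrrCharacter_mul_linear (isCharacter_of_irr hη) hη1 hψ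
    have hres : Cfsg.Agent.Lib.Helper84.resFun M T hMT
        (η * fun t : T => (β : T ⧸ M.subgroupOf T → ℂ) (QuotientGroup.mk t)) =
        ((β : T ⧸ M.subgroupOf T → ℂ) 1) • θ := by
      funext n
      show η ⟨(n : G), hMT n.2⟩ * (β : T ⧸ M.subgroupOf T → ℂ)
        (QuotientGroup.mk (⟨(n : G), hMT n.2⟩ : T)) = (β : T ⧸ M.subgroupOf T → ℂ) 1 * θ n
      have hmk : (QuotientGroup.mk (⟨(n : G), hMT n.2⟩ : T) : T ⧸ M.subgroupOf T) = 1 :=
        (QuotientGroup.eq_one_iff _).mpr (Subgroup.mem_subgroupOf.mpr n.2)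
      rw [hηres n, hmk, mul_comm]
    have hβ1 : (β : T ⧸ M.subgroupOf T → ℂ) 1 ≠ 0 := by
      have h2 := charDegree_cast (IrrCharacter_isCharacter β)
      have hpos := irr_charDegree_pos β
      rw [← h2]
      exact_mod_cast hpos.ne'
    have h0 : classInner θ θ = 1 := irr_inner_self (⟨θ, hθ⟩ : IrrCharacter M)
    have h1 : classInner (Cfsg.Agent.Lib.Helper84.resFun M T hMT
        (η * fun t : T => (β : T ⧸ M.subgroupOf T → ℂ) (QuotientGroup.mk t))) θ ≠ 0 := by
      rw [hres, classInner_smul_left, h0, mul_one]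
      exact hβ1
    have hirr := Cfsg.Agent.Lib.Helper84.isIrrCharacter_indFun_inertia M T hMT hθ hT hηψ h1
    have hdeg : indFun T (η * fun t : T => (β : T ⧸ M.subgroupOf T → ℂ) (QuotientGroup.mk t)) 1 =
        ((T.index * charDegree (β : T ⧸ M.subgroupOf T → ℂ) : ℕ) : ℂ) := by
      rw [indFun_apply_one, Pi.mul_apply, hη1, one_mul, Nat.cast_mul,
        charDegree_cast (IrrCharacter_isCharacter β)]
      rfl
    have hcd : charDegree (indFun T
        (η * fun t : T => (β : T ⧸ M.subgroupOf T → ℂ) (QuotientGroup.mk t))) =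
        T.index * charDegree (β : T ⧸ M.subgroupOf T → ℂ) := by
      have h2 := charDegree_cast (isCharacter_of_irr hirr)
      rw [hdeg] at h2
      exact_mod_cast h2
    have h3 := h ⟨_, hirr⟩
    change charDegree (indFun T
        (η * fun t : T => (β : T ⧸ M.subgroupOf T → ℂ) (QuotientGroup.mk t))) = 1 ∨
      charDegree (indFun T
        (η * fun t : T => (β : T ⧸ M.subgroupOf T → ℂ) (QuotientGroup.mk t))) = m at h3
    rw [hcd, hidx] at h3
    rcases h3 with h3 | h3
    · exfalso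
      have h4 : m ∣ 1 := Dvd.intro _ h3
      have := Nat.le_of_dvd one_pos h4
      omega
    · exact Nat.eq_of_mul_eq_mul_left (by omega : 0 < m) (by rw [h3, mul_one])
  have hcomm := Cfsg.Agent.Lib.Helper79.comm_of_all_linear hlin
  intro x hx y hy
  have h4 := hcomm (QuotientGroup.mk' (M.subgroupOf T) ⟨x, hx⟩)
    (QuotientGroup.mk' (M.subgroupOf T) ⟨y, hy⟩)
  have h5 : ((⁅(⟨x, hx⟩ : T), ⟨y, hy⟩⁆ : T) : T ⧸ M.subgroupOf T) = 1 := by
    have h6 : ((⁅(⟨x, hx⟩ : T), ⟨y, hy⟩⁆ : T) : T ⧸ M.subgroupOf T) =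
        ⁅QuotientGroup.mk' (M.subgroupOf T) ⟨x, hx⟩,
          QuotientGroup.mk' (M.subgroupOf T) ⟨y, hy⟩⁆ :=
      map_commutatorElement (QuotientGroup.mk' (M.subgroupOf T)) _ _
    rw [h6]
    exact commutatorElement_eq_one_iff_mul_comm.mpr h4
  have h6 := (QuotientGroup.eq_one_iff _).mp h5
  exact Subgroup.mem_subgroupOf.mp h6

/-- **Isaacs 12.5, non-central case**: if the commutative normal Hall subgroup `M` is not central,
there is an abelian normal subgroup of index `m`. -/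
theorem TwoDeg.exists_abelian_normal_index (h : TwoDeg G m) (hm : 2 ≤ m)
    (hcop : (Nat.card M).Coprime M.index) (hab : ∀ a b : M, a * b = b * a)
    (hnc : ∃ g : G, ∃ x ∈ M, g * x * g⁻¹ ≠ x) :
    ∃ A : Subgroup G, A.Normal ∧ (∀ a ∈ A, ∀ b ∈ A, a * b = b * a) ∧ A.index = m := by
  classical
  letI : Fintype G := Fintype.ofFinite G
  obtain ⟨g, hg⟩ := hnc
  obtain ⟨lam, hlam⟩ := exists_hom_moved M hab g hg
  have hθ : IsIrrCharacter M (fun x => ((lam x : ℂˣ) : ℂ)) := isIrrCharacter_of_hom lam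
  have hθ1 : (fun x : M => ((lam x : ℂˣ) : ℂ)) 1 = 1 := by simp
  have hne : conjStab hM (fun x => ((lam x : ℂˣ) : ℂ)) ≠ ⊤ := by
    intro htop
    apply hlam
    rw [← mem_conjStab_hom_iff, htop]
    exact Subgroup.mem_top g
  have hidx : (conjStab hM (fun x => ((lam x : ℂˣ) : ℂ))).index = m := by
    rcases h.stab_index M hcop _ hθ hθ1 with h1 | h1
    · exact absurd (Subgroup.index_eq_one.mp h1) hne
    · exact h1
  have hcentT := h.stab_centralizes M hm hcop hab lam hne
  have hG' := h.commutator_le_stab hm M hcop _ hθ hθ1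
  have hθc := isCharacter_of_irr hθ
  have hMT : M ≤ conjStab hM (fun x => ((lam x : ℂˣ) : ℂ)) :=
    le_conjStab hM (char_isClassFunction hθc)
  have hinv : ∀ g : G, g ∈ conjStab hM (fun x => ((lam x : ℂˣ) : ℂ)) → ∀ n : M,
      (fun x : M => ((lam x : ℂˣ) : ℂ)) ⟨g * n * g⁻¹, hM.conj_mem (n : G) n.2 g⟩ =
        (fun x : M => ((lam x : ℂˣ) : ℂ)) n := by
    intro g hg n
    exact congrFun ((mem_conjStab hM _ g).mp hg) n
  have hrel : M.relIndex (conjStab hM (fun x => ((lam x : ℂˣ) : ℂ))) ∣ M.index :=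
    Subgroup.relIndex_dvd_index_of_le hMT
  have hcop' : (Nat.card M).Coprime (M.relIndex (conjStab hM (fun x => ((lam x : ℂˣ) : ℂ)))) :=
    hcop.coprime_dvd_right hrel
  obtain ⟨η, hη, hηres⟩ :=
    Cfsg.Agent.Lib.Helper80.exists_ext_subgroup_of_coprime M
      (conjStab hM (fun x => ((lam x : ℂˣ) : ℂ))) hMT _ hθ hinv hcop'
  have hT : ∀ g : G, g ∈ conjStab hM (fun x => ((lam x : ℂˣ) : ℂ)) ↔
      ∀ n : M, Cfsg.Agent.Lib.Helper84.conjFun M g (fun x => ((lam x : ℂˣ) : ℂ)) n =
        (fun x : M => ((lam x : ℂˣ) : ℂ)) n := by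
    intro g
    rw [mem_conjStab]
    constructor
    · intro hg n
      exact congrFun hg n
    · intro hg
      funext n
      exact hg n
  have hη1 : η 1 = 1 := by
    have h2 := hηres 1
    rw [map_one, Units.val_one] at h2
    rw [← h2]
    rfl
  have hq := h.quot_comm_of_ext M hm _ hMT _ hθ hT hidx η hη hη1 hηres
  refine ⟨conjStab hM (fun x => ((lam x : ℂˣ) : ℂ)), ?_,
    comm_of_central_coprime M _ hcentT hq hcop, hidx⟩
  constructor
  intro n hn g'
  have h1 : g' * n * g'⁻¹ = ⁅g', n⁆ * n := by simp [commutatorElement_def]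
  rw [h1]
  refine Subgroup.mul_mem _ (hG' _ ?_) hn
  rw [commutator_def]
  exact Subgroup.commutator_mem_commutator (Subgroup.mem_top _) (Subgroup.mem_top _)

end Struct

section Nilp

variable {G : Type u} [Group G] [Finite G] {m : ℕ}

/-- **Isaacs 12.5, nilpotent case**. -/
theorem TwoDeg.nilpotent_structure (h : TwoDeg G m) [hnil : Group.IsNilpotent G]
    (χ₀ : IrrCharacter G) (hχ₀ : charDegree (χ₀ : G → ℂ) = m) (hm : 2 ≤ m) :
    ∃ p e : ℕ, p.Prime ∧ m = p ^ e ∧ ∃ P A : Subgroup G, P.Normal ∧ A.Normal ∧ IsPGroup p P ∧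
      (∀ a ∈ A, ∀ b ∈ A, a * b = b * a) ∧ P ⊓ A = ⊥ ∧ P ⊔ A = ⊤ := by
  classical
  obtain ⟨p, hp, hpm⟩ := Nat.exists_prime_and_dvd (by omega : m ≠ 1)
  haveI : Fact p.Prime := ⟨hp⟩
  obtain ⟨P⟩ : Nonempty (Sylow p G) := inferInstance
  have h03 : Group.IsNilpotent G ↔
      ∀ (p : ℕ) (_hp : Fact p.Prime) (P : Sylow p G), (P : Subgroup G).Normal :=
    (Group.isNilpotent_of_finite_tfae (G := G)).out 0 3
  have hPn : (P : Subgroup G).Normal := h03.mp hnil p inferInstance P
  haveI := hPn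
  have hdeg : ∀ χ : IrrCharacter G, charDegree (χ : G → ℂ) ≠ 1 →
      p ∣ charDegree (χ : G → ℂ) := by
    intro χ h1
    rcases h χ with h2 | h2
    · exact absurd h2 h1
    · rw [h2]
      exact hpm
  have hNcop : (Nat.card (OpRes G p)).Coprime p := card_OpRes_coprime p hdeg
  obtain ⟨k, hk⟩ := OpRes_index (G := G) p
  have hNn : (OpRes G p).Normal := OpRes_normal p
  haveI := hNn
  have hQ : ∀ a b : G ⧸ (P : Subgroup G), a * b = b * a := by
    apply Cfsg.Agent.Lib.Helper79.comm_of_all_linear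
    intro β
    rcases h.quotient (P : Subgroup G) β with h1 | h1
    · exact h1
    · exfalso
      have hd : charDegree (β : G ⧸ (P : Subgroup G) → ℂ) ∣ Nat.card (G ⧸ (P : Subgroup G)) :=
        irr_charDegree_dvd_card β
      rw [h1, ← Subgroup.index_eq_card] at hd
      exact P.not_dvd_index (hpm.trans hd)
  have hinf : (P : Subgroup G) ⊓ OpRes G p = ⊥ := by
    apply Disjoint.eq_bot
    apply Subgroup.disjoint_of_coprime_natCard
    obtain ⟨j, hj⟩ := IsPGroup.iff_card.mp P.isPGroup'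
    rw [hj]
    exact Nat.Coprime.pow_left j hNcop.symm
  have hA : ∀ a ∈ OpRes G p, ∀ b ∈ OpRes G p, a * b = b * a := by
    intro a ha b hb
    have h1 : ⁅a, b⁆ ∈ OpRes G p := by
      rw [commutatorElement_def]
      exact (OpRes G p).mul_mem ((OpRes G p).mul_mem ((OpRes G p).mul_mem ha hb)
        ((OpRes G p).inv_mem ha)) ((OpRes G p).inv_mem hb)
    have h2 : ⁅a, b⁆ ∈ (P : Subgroup G) := by
      rw [← QuotientGroup.eq_one_iff]
      have h4 := hQ (QuotientGroup.mk' (P : Subgroup G) a) (QuotientGroup.mk' (P : Subgroup G) b)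
      have h3 : ((⁅a, b⁆ : G) : G ⧸ (P : Subgroup G)) =
          ⁅QuotientGroup.mk' (P : Subgroup G) a, QuotientGroup.mk' (P : Subgroup G) b⁆ :=
        map_commutatorElement (QuotientGroup.mk' (P : Subgroup G)) a b
      rw [h3]
      exact commutatorElement_eq_one_iff_mul_comm.mpr h4
    have h3 : ⁅a, b⁆ ∈ (P : Subgroup G) ⊓ OpRes G p := ⟨h2, h1⟩
    rw [hinf, Subgroup.mem_bot] at h3
    exact commutatorElement_eq_one_iff_mul_comm.mp h3
  have hdvd : m ∣ p ^ k := by
    have h1 := Cfsg.Agent.Lib.Helper83.ito_charDegree χ₀ (OpRes G p) hA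
    rw [hχ₀, hk] at h1
    exact h1
  obtain ⟨e, -, he⟩ := (Nat.dvd_prime_pow hp).mp hdvd
  refine ⟨p, e, hp, he, (P : Subgroup G), OpRes G p, hPn, hNn, P.isPGroup', hA, hinf, ?_⟩
  rw [← Subgroup.index_eq_one]
  have h1 : ((P : Subgroup G) ⊔ OpRes G p).index ∣ (P : Subgroup G).index :=
    Subgroup.index_dvd_of_le le_sup_left
  have h2 : ((P : Subgroup G) ⊔ OpRes G p).index ∣ (OpRes G p).index :=
    Subgroup.index_dvd_of_le le_sup_right
  rw [hk] at h2
  have h3 : Nat.Coprime (P : Subgroup G).index (p ^ k) :=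
    Nat.Coprime.pow_right k ((Nat.Prime.coprime_iff_not_dvd hp).mpr P.not_dvd_index).symm
  exact Nat.eq_one_of_dvd_coprimes h3 h1 h2

/-- **Isaacs 12.5**. -/
theorem TwoDeg.structure (h : TwoDeg G m) (χ₀ : IrrCharacter G)
    (hχ₀ : charDegree (χ₀ : G → ℂ) = m) (hm : 2 ≤ m) :
    (∃ A : Subgroup G, A.Normal ∧ (∀ a ∈ A, ∀ b ∈ A, a * b = b * a) ∧ A.index = m) ∨
    ∃ p e : ℕ, p.Prime ∧ m = p ^ e ∧ ∃ P A : Subgroup G, P.Normal ∧ A.Normal ∧ IsPGroup p P ∧
      (∀ a ∈ A, ∀ b ∈ A, a * b = b * a) ∧ P ⊓ A = ⊥ ∧ P ⊔ A = ⊤ := by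
  classical
  have hcopm : (Nat.card (hallCore G m)).Coprime m := h.card_hallCore_coprime (by omega)
  have hcop : (Nat.card (hallCore G m)).Coprime (hallCore G m).index :=
    h.card_hallCore_coprime_index
  have hab := h.comm_of_hall (hallCore G m) hcopm
  by_cases hnc : ∃ g : G, ∃ x ∈ hallCore G m, g * x * g⁻¹ ≠ x
  · left
    exact h.exists_abelian_normal_index (hallCore G m) hm hcop hab hnc
  · right
    push Not at hnc
    haveI : Group.IsNilpotent (G ⧸ hallCore G m) := hallCore_quotient_isNilpotent m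
    have hnil : Group.IsNilpotent G := by
      apply Subgroup.isNilpotent_of_ker_le_center (QuotientGroup.mk' (hallCore G m))
      rw [QuotientGroup.ker_mk']
      intro x hx
      rw [Subgroup.mem_center_iff]
      intro g
      exact (mul_comm_of_conj_eq (hnc g x hx)).symm
    exact h.nilpotent_structure χ₀ hχ₀ hm

end Nilp

end Cfsg.Agent.Lib.Helper97
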