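import Mathlib
import Cfsg.Agent.Lib.Helper97.TwoDegStruct
import Cfsg.Agent.Lib.Helper22.BlockRegular
import Cfsg.Agent.Lib.Helper83.LinearCount
import Cfsg.Agent.Lib.Helper83.CharMisc
import Cfsg.Agent.Lib.Helper79.ItoSolvable

/-!
# `p`-groups with character degrees `1` and `p` (Isaacs 12.11, the `p`-group core)

* `TwoDeg.restrict_pgroup`: in a group with `TwoDeg G p`, every irreducible character of a
  `p`-subgroup has degree `1` or `p`, and those of degree `p` are restrictions of irreducible
  characters of `G`.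
* `TwoDeg.conj_central_of_nonabelian`: a nonabelian normal `p`-subgroup `M` has `Z(M) ≤ Z(G)`.
* `TwoDeg.pgroup_main`: a nonabelian `p`-group with `TwoDeg G p` has an abelian normal subgroup of
  index `p` or a centre of index `p ^ 3`.
-/

set_option autoImplicit false

namespace Cfsg.Agent.Lib.Helper97

open Cfsg Cfsg.Agent.Lib.Helper83
open scoped ComplexConjugate commutatorElement

universe u

section Restrict

variable {G : Type u} [Group G] [Finite G]

omit [Finite G] in
/-- the degree of `χ` is the sum of the degrees of the constituents of its restriction. -/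
theorem restrict_degree_sum (M : Subgroup G) [Fintype M] [Fintype (IrrCharacter M)]
    (χ : IrrCharacter G) :
    charDegree (χ : G → ℂ) = ∑ θ : IrrCharacter M,
      irrMult (fun m : M => (χ : G → ℂ) m) θ * charDegree (θ : M → ℂ) := by
  classical
  have hΦ : IsCharacter M (fun m : M => (χ : G → ℂ) m) :=
    isCharacter_restrict M (IrrCharacter_isCharacter χ)
  have hdec := char_eq_sum_irrMult hΦ
  have h2 := congrFun hdec 1
  simp only [Finset.sum_apply, Pi.smul_apply, smul_eq_mul, Subgroup.coe_one] at h2
  have h3 : ∀ φ : IrrCharacter M, (irrMult (fun m : M => (χ : G → ℂ) m) φ : ℂ) * (φ : M → ℂ) 1 =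
      ((irrMult (fun m : M => (χ : G → ℂ) m) φ * charDegree (φ : M → ℂ) : ℕ) : ℂ) := by
    intro φ
    rw [Nat.cast_mul, charDegree_cast (IrrCharacter_isCharacter φ)]
  rw [Finset.sum_congr rfl fun φ _ => h3 φ, ← Nat.cast_sum,
    ← charDegree_cast (IrrCharacter_isCharacter χ)] at h2
  exact_mod_cast h2

/-- **Restriction to `p`-subgroups** of a group whose character degrees are `1` and `p`. -/
theorem TwoDeg.restrict_pgroup {p : ℕ} (hp : p.Prime) (h : TwoDeg G p) (M : Subgroup G)
    (hM : IsPGroup p M) (ψ : IrrCharacter M) :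
    (charDegree (ψ : M → ℂ) = 1 ∨ charDegree (ψ : M → ℂ) = p) ∧
    (charDegree (ψ : M → ℂ) ≠ 1 →
      ∃ χ : IrrCharacter G, ∀ m : M, (χ : G → ℂ) m = (ψ : M → ℂ) m) := by
  classical
  have : Fact p.Prime := ⟨hp⟩
  let _ : Fintype G := Fintype.ofFinite _
  let _ : Fintype M := Fintype.ofFinite _
  let _ : Fintype (IrrCharacter M) := Fintype.ofFinite _
  obtain ⟨χ, hχ⟩ := Cfsg.Agent.Lib.Helper22.exists_irr_over M ψ
  set Φ : M → ℂ := fun m : M => (χ : G → ℂ) m with hΦdef
  have hΦ : IsCharacter M Φ := isCharacter_restrict M (IrrCharacter_isCharacter χ)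
  have hmult : irrMult Φ ψ ≠ 0 := by
    intro h0
    have h1 := irrMult_cast hΦ ψ
    rw [h0, Nat.cast_zero] at h1
    exact hχ h1.symm
  have hsum := restrict_degree_sum M χ
  have hle : irrMult Φ ψ * charDegree (ψ : M → ℂ) ≤ charDegree (χ : G → ℂ) := by
    rw [hsum]
    exact Finset.single_le_sum (f := fun θ : IrrCharacter M =>
      irrMult Φ θ * charDegree (θ : M → ℂ)) (fun _ _ => Nat.zero_le _) (Finset.mem_univ ψ)
  have hdvd : charDegree (ψ : M → ℂ) ∣ Nat.card M := irr_charDegree_dvd_card ψ
  obtain ⟨k, hk⟩ := (IsPGroup.iff_card (p := p) (G := M)).1 hM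
  rw [hk] at hdvd
  obtain ⟨j, -, hj⟩ := (Nat.dvd_prime_pow hp).1 hdvd
  have hχp : charDegree (χ : G → ℂ) ≤ p := by
    rcases h χ with h1 | h1
    · rw [h1]; exact hp.one_lt.le
    · rw [h1]
  have hm1 : 1 ≤ irrMult Φ ψ := Nat.one_le_iff_ne_zero.2 hmult
  have hψle : charDegree (ψ : M → ℂ) ≤ p := by nlinarith
  have hj1 : j ≤ 1 := by
    by_contra hcon
    have h2 : 2 ≤ j := by omega
    have h3 : p ^ 2 ≤ p ^ j := Nat.pow_le_pow_right hp.pos h2
    have h4 : p < p ^ 2 := by
      have := hp.one_lt
      nlinarith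
    omega
  have hcases : charDegree (ψ : M → ℂ) = 1 ∨ charDegree (ψ : M → ℂ) = p := by
    interval_cases j
    · left; simpa using hj
    · right; simpa using hj
  refine ⟨hcases, ?_⟩
  intro hne
  have hψp : charDegree (ψ : M → ℂ) = p := by
    rcases hcases with h1 | h1
    · exact absurd h1 hne
    · exact h1
  refine ⟨χ, ?_⟩
  have hχeq : charDegree (χ : G → ℂ) = p := by
    have : p ≤ charDegree (χ : G → ℂ) := by
      rw [hψp] at hle
      nlinarith
    omega
  have hmψ : irrMult Φ ψ = 1 := by
    rw [hψp, hχeq] at hle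
    have hp0 := hp.pos
    nlinarith
  have hother : ∀ θ : IrrCharacter M, θ ≠ ψ → irrMult Φ θ = 0 := by
    intro θ hθ
    have h6 : ∑ φ ∈ ({θ, ψ} : Finset (IrrCharacter M)),
        irrMult Φ φ * charDegree (φ : M → ℂ) ≤
        ∑ φ : IrrCharacter M, irrMult Φ φ * charDegree (φ : M → ℂ) :=
      Finset.sum_le_sum_of_subset (Finset.subset_univ _)
    rw [Finset.sum_pair hθ, ← hsum, hmψ, hψp, hχeq] at h6
    have hθpos : 0 < charDegree (θ : M → ℂ) := irr_charDegree_pos θ
    by_contra hne0
    have : 1 ≤ irrMult Φ θ := Nat.one_le_iff_ne_zero.2 hne0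
    nlinarith
  have hdec := char_eq_sum_irrMult hΦ
  intro m
  have h7 := congrFun hdec m
  simp only [Finset.sum_apply, Pi.smul_apply, smul_eq_mul] at h7
  rw [Finset.sum_eq_single ψ] at h7
  · rw [hmψ] at h7
    simpa using h7
  · intro θ _ hθ
    rw [hother θ hθ]
    simp
  · intro hcon
    exact absurd (Finset.mem_univ ψ) hcon

/-- `TwoDeg` passes to `p`-subgroups (for a prime `p`). -/
theorem TwoDeg.subgroup_pgroup {p : ℕ} (hp : p.Prime) (h : TwoDeg G p) (M : Subgroup G)
    (hM : IsPGroup p M) : TwoDeg M p := fun ψ => (h.restrict_pgroup hp M hM ψ).1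

end Restrict

section Central

variable {G : Type u} [Group G] [Finite G]

/-- **Key lemma.** In a group whose character degrees are `1` and `p`, the centre of a nonabelian
normal `p`-subgroup `M` is centralized by the whole group. -/
theorem TwoDeg.conj_central_of_nonabelian {p : ℕ} (hp : p.Prime) (h : TwoDeg G p) (M : Subgroup G)
    [hMn : M.Normal] (hM : IsPGroup p M) (hna : ∃ a ∈ M, ∃ b ∈ M, a * b ≠ b * a) (z : G)
    (hz : z ∈ M) (hzc : ∀ m ∈ M, z * m = m * z) (g : G) : g * z * g⁻¹ = z := by
  classical
  have hz' : g * z * g⁻¹ ∈ M := hMn.conj_mem z hz g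
  set zM : M := ⟨z, hz⟩ with hzM
  set wM : M := ⟨g * z * g⁻¹, hz'⟩ with hwM
  have hzMc : zM ∈ Subgroup.center M := by
    rw [Subgroup.mem_center_iff]
    intro m
    apply Subtype.ext
    exact (hzc m m.2).symm
  have hwMc : wM ∈ Subgroup.center M := by
    rw [Subgroup.mem_center_iff]
    intro m
    apply Subtype.ext
    show (m : G) * (g * z * g⁻¹) = g * z * g⁻¹ * m
    have h1 : g⁻¹ * m * g ∈ M := by
      have := hMn.conj_mem m m.2 g⁻¹
      simpa using this
    have h2 := hzc _ h1
    calc (m : G) * (g * z * g⁻¹) = g * ((g⁻¹ * m * g) * z) * g⁻¹ := by group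
      _ = g * (z * (g⁻¹ * m * g)) * g⁻¹ := by rw [h2]
      _ = g * z * g⁻¹ * m := by group
  -- nonlinear characters take the value `ψ 1` at `c = z⁻¹ z^g`
  have hkey : ∀ ψ : IrrCharacter M, charDegree (ψ : M → ℂ) ≠ 1 →
      (ψ : M → ℂ) (zM⁻¹ * wM) = (ψ : M → ℂ) 1 := by
    intro ψ hψ
    obtain ⟨χ, hχ⟩ := (h.restrict_pgroup hp M hM ψ).2 hψ
    have hcl : IsClassFunction G (χ : G → ℂ) :=
      char_isClassFunction (IrrCharacter_isCharacter χ)
    have h1 : (ψ : M → ℂ) wM = (ψ : M → ℂ) zM := by
      rw [← hχ wM, ← hχ zM]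
      exact hcl z g
    have h2 := irr_mul_central ψ hwMc zM⁻¹
    have h3 := irr_mul_central ψ hzMc zM⁻¹
    rw [inv_mul_cancel] at h3
    rw [h2, h1, ← h3]
  have hlin : ∀ ψ : IrrCharacter M, (ψ : M → ℂ) (zM⁻¹ * wM) = (ψ : M → ℂ) 1 := by
    intro ψ
    by_cases hψ : charDegree (ψ : M → ℂ) = 1
    · have hex : ∃ ψ₀ : IrrCharacter M, charDegree (ψ₀ : M → ℂ) ≠ 1 := by
        by_contra hcon
        push Not at hcon
        have hcomm := Cfsg.Agent.Lib.Helper79.comm_of_all_linear hcon
        obtain ⟨a, ha, b, hb, hab⟩ := hna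
        have := hcomm ⟨a, ha⟩ ⟨b, hb⟩
        exact hab (congrArg Subtype.val this)
      obtain ⟨ψ₀, hψ₀⟩ := hex
      have hψ1 : (ψ : M → ℂ) 1 = 1 := by
        have := charDegree_cast (IrrCharacter_isCharacter ψ)
        rw [hψ] at this
        simpa using this.symm
      have hirr : IsIrrCharacter M ((ψ : M → ℂ) * (ψ₀ : M → ℂ)) :=
        isIrrCharacter_mul_linear (IrrCharacter_isCharacter ψ) hψ1 ψ₀.2
      have hdeg : charDegree ((ψ : M → ℂ) * (ψ₀ : M → ℂ)) ≠ 1 := by
        have : charDegree ((ψ : M → ℂ) * (ψ₀ : M → ℂ)) = charDegree (ψ₀ : M → ℂ) := by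
          unfold charDegree
          rw [Pi.mul_apply, hψ1, one_mul]
        rw [this]; exact hψ₀
      have h4 := hkey ⟨_, hirr⟩ hdeg
      have h5 := hkey ψ₀ hψ₀
      simp only [Pi.mul_apply] at h4
      rw [h5, hψ1, one_mul] at h4
      have hne := irr_degree_ne_zero ψ₀
      rw [hψ1]
      exact mul_right_cancel₀ hne (by rw [h4, one_mul])
    · exact hkey ψ hψ
  have hc : zM⁻¹ * wM = 1 := by
    by_contra hne
    obtain ⟨ψ, hψ⟩ := exists_irr_ne_of_ne_one hne
    exact hψ (hlin ψ)
  have h6 : wM = zM := by
    have := congrArg (fun t => zM * t) hc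
    simpa using this
  exact congrArg Subtype.val h6

end Central

section PGroup

variable {G : Type u} [Group G] [Finite G]

omit [Finite G] in
/-- If all commutators with `y` lie in a central subgroup `N` of prime order `p` and `y` is not
central, the centralizer of `y` has index `p`. -/
theorem index_centralizer_eq_prime {p : ℕ} (hp : p.Prime) (N : Subgroup G)
    (hN : N ≤ Subgroup.center G) (hNp : Nat.card N = p) (y : G) (hy : ∀ g : G, ⁅g, y⁆ ∈ N)
    (hyc : y ∉ Subgroup.center G) : (Subgroup.centralizer ({y} : Set G)).index = p := by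
  classical
  let f : G →* N :=
    { toFun := fun g => ⟨⁅g, y⁆, hy g⟩
      map_one' := by apply Subtype.ext; simp
      map_mul' := by
        intro a b
        apply Subtype.ext
        show ⁅a * b, y⁆ = ⁅a, y⁆ * ⁅b, y⁆
        have hc : ⁅b, y⁆ ∈ Subgroup.center G := hN (hy b)
        rw [Subgroup.mem_center_iff] at hc
        have h1 : ⁅a * b, y⁆ = a * ⁅b, y⁆ * a⁻¹ * ⁅a, y⁆ := by
          simp only [commutatorElement_def]; group
        rw [h1, hc a, mul_assoc ⁅b, y⁆ a a⁻¹, mul_inv_cancel, mul_one, hc ⁅a, y⁆] }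
  have hf : ∀ g : G, ((f g : N) : G) = ⁅g, y⁆ := fun _ => rfl
  have hker : f.ker = Subgroup.centralizer ({y} : Set G) := by
    ext g
    rw [MonoidHom.mem_ker, Subgroup.mem_centralizer_iff]
    constructor
    · intro hg x hx
      rw [Set.mem_singleton_iff] at hx
      subst hx
      have h1 : ⁅g, x⁆ = 1 := by rw [← hf g, hg]; rfl
      rw [commutatorElement_eq_one_iff_mul_comm] at h1
      exact h1.symm
    · intro hg
      apply Subtype.ext
      rw [hf g]
      show ⁅g, y⁆ = 1
      rw [commutatorElement_eq_one_iff_mul_comm]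
      exact (hg y rfl).symm
  rw [← hker, Subgroup.index_ker]
  have hdvd : Nat.card f.range ∣ p := by
    rw [← hNp]; exact Subgroup.card_subgroup_dvd_card f.range
  rcases (Nat.dvd_prime hp).1 hdvd with h1 | h1
  · exfalso
    have hbot : f.range = ⊥ := Subgroup.eq_bot_of_card_eq _ h1
    apply hyc
    rw [Subgroup.mem_center_iff]
    intro g
    have hg : f g ∈ f.range := ⟨g, rfl⟩
    rw [hbot, Subgroup.mem_bot] at hg
    have h2 : ⁅g, y⁆ = 1 := by rw [← hf g, hg]; rfl
    exact commutatorElement_eq_one_iff_mul_comm.1 h2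
  · exact h1

/-- In a `p`-group with degrees `1` and `p`, a centralizer of index `p` of a noncentral element is
normal and abelian. -/
theorem TwoDeg.centralizer_normal_abelian {p : ℕ} (hp : p.Prime) (h : TwoDeg G p)
    (hG : IsPGroup p G) (y : G) (hyc : y ∉ Subgroup.center G)
    (hidx : (Subgroup.centralizer ({y} : Set G)).index = p) :
    (Subgroup.centralizer ({y} : Set G)).Normal ∧
      ∀ a ∈ Subgroup.centralizer ({y} : Set G), ∀ b ∈ Subgroup.centralizer ({y} : Set G),
        a * b = b * a := by
  classical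
  have : Fact p.Prime := ⟨hp⟩
  have hnorm : (Subgroup.centralizer ({y} : Set G)).Normal := by
    apply Subgroup.normal_of_index_eq_minFac_card
    rw [hidx]
    obtain ⟨k, hk⟩ := (IsPGroup.iff_card (p := p) (G := G)).1 hG
    have hk0 : k ≠ 0 := by
      rintro rfl
      have h1 := Subgroup.index_dvd_card (Subgroup.centralizer ({y} : Set G))
      rw [hidx, hk, pow_zero] at h1
      exact hp.one_lt.ne' (Nat.dvd_one.1 h1)
    rw [hk, Nat.pow_minFac hk0, hp.minFac_eq]
  refine ⟨hnorm, ?_⟩
  by_contra hcon
  push Not at hcon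
  obtain ⟨a, ha, b, hb, hab⟩ := hcon
  apply hyc
  rw [Subgroup.mem_center_iff]
  intro g
  have hyC : y ∈ Subgroup.centralizer ({y} : Set G) := by
    rw [Subgroup.mem_centralizer_iff]
    intro x hx
    rw [Set.mem_singleton_iff] at hx
    rw [hx]
  have h1 := h.conj_central_of_nonabelian hp (Subgroup.centralizer ({y} : Set G))
    (hG.to_subgroup _) ⟨a, ha, b, hb, hab⟩ y hyC
    (fun m hm => (Subgroup.mem_centralizer_iff.1 hm) y rfl) g
  calc g * y = g * y * g⁻¹ * g := by group
    _ = y * g := by rw [h1]

/-- A nonabelian `p`-group with degrees `1`, `p` and centre of index dividing `p ^ 2` has an abelian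
normal subgroup of index `p`. -/
theorem TwoDeg.exists_abelian_of_center_index {p : ℕ} (hp : p.Prime) (h : TwoDeg G p)
    (hG : IsPGroup p G) (hna : ∃ a b : G, a * b ≠ b * a)
    (hZ : (Subgroup.center G).index ∣ p ^ 2) :
    ∃ A : Subgroup G, A.Normal ∧ (∀ a ∈ A, ∀ b ∈ A, a * b = b * a) ∧ A.index = p := by
  classical
  obtain ⟨a, b, hab⟩ := hna
  have hac : a ∉ Subgroup.center G := fun hc => hab ((Subgroup.mem_center_iff.1 hc b).symm)
  have hZC : Subgroup.center G ≤ Subgroup.centralizer ({a} : Set G) :=
    Subgroup.center_le_centralizer _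
  have haC : a ∈ Subgroup.centralizer ({a} : Set G) := by
    rw [Subgroup.mem_centralizer_iff]
    intro x hx
    rw [Set.mem_singleton_iff] at hx
    rw [hx]
  have hdvd : (Subgroup.centralizer ({a} : Set G)).index ∣ p ^ 2 :=
    (Subgroup.index_dvd_of_le hZC).trans hZ
  obtain ⟨j, hj2, hj⟩ := (Nat.dvd_prime_pow hp).1 hdvd
  have hC1 : (Subgroup.centralizer ({a} : Set G)).index ≠ 1 := by
    intro h1
    rw [Subgroup.index_eq_one] at h1
    have hb : b ∈ Subgroup.centralizer ({a} : Set G) := h1 ▸ Subgroup.mem_top b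
    rw [Subgroup.mem_centralizer_iff] at hb
    exact hab (hb a rfl)
  have hC2 : (Subgroup.centralizer ({a} : Set G)).index ≠ p ^ 2 := by
    intro h2
    have h3 : (Subgroup.center G).index = p ^ 2 :=
      Nat.dvd_antisymm hZ (h2 ▸ Subgroup.index_dvd_of_le hZC)
    have h4 := Subgroup.relIndex_mul_index hZC
    rw [h2, h3] at h4
    have h5 : (Subgroup.center G).relIndex (Subgroup.centralizer ({a} : Set G)) = 1 := by
      have h6 : 0 < p ^ 2 := pow_pos hp.pos 2
      nlinarith
    rw [Subgroup.relIndex_eq_one] at h5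
    exact hac (h5 haC)
  have hidx : (Subgroup.centralizer ({a} : Set G)).index = p := by
    interval_cases j
    · exact absurd (by simpa using hj) hC1
    · simpa using hj
    · exact absurd hj hC2
  obtain ⟨h1, h2⟩ := h.centralizer_normal_abelian hp hG a hac hidx
  exact ⟨_, h1, h2, hidx⟩

/-- A `p`-group with degrees `1`, `p` whose commutators lie in a central subgroup of order `p` has
centre of index dividing `p ^ 2`. -/
theorem TwoDeg.center_index_dvd_sq {p : ℕ} (hp : p.Prime) (h : TwoDeg G p) (hG : IsPGroup p G)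
    (N : Subgroup G) (hN : N ≤ Subgroup.center G) (hNp : Nat.card N = p)
    (hcomm : ∀ a b : G, ⁅a, b⁆ ∈ N) : (Subgroup.center G).index ∣ p ^ 2 := by
  classical
  have : Fact p.Prime := ⟨hp⟩
  by_cases hab : ∀ a b : G, a * b = b * a
  · have h1 : Subgroup.center G = ⊤ := by
      rw [eq_top_iff]
      intro x _
      rw [Subgroup.mem_center_iff]
      intro g
      exact hab g x
    rw [h1, Subgroup.index_top]
    exact one_dvd _
  · push Not at hab
    obtain ⟨a, b, hab⟩ := hab
    have hac : a ∉ Subgroup.center G := fun hc => hab ((Subgroup.mem_center_iff.1 hc b).symm)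
    have hbc : b ∉ Subgroup.center G := fun hc => hab (Subgroup.mem_center_iff.1 hc a)
    have hia := index_centralizer_eq_prime hp N hN hNp a (fun g => hcomm g a) hac
    have hib := index_centralizer_eq_prime hp N hN hNp b (fun g => hcomm g b) hbc
    obtain ⟨-, hCa⟩ := h.centralizer_normal_abelian hp hG a hac hia
    have hcen : Subgroup.center G =
        Subgroup.centralizer ({a} : Set G) ⊓ Subgroup.centralizer ({b} : Set G) := by
      apply le_antisymm
      · exact le_inf (Subgroup.center_le_centralizer _) (Subgroup.center_le_centralizer _)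
      · rintro d ⟨hda, hdb⟩
        have hCad : Subgroup.centralizer ({a} : Set G) ≤ Subgroup.centralizer ({d} : Set G) := by
          intro x hx
          rw [Subgroup.mem_centralizer_iff]
          intro y hy
          rw [Set.mem_singleton_iff] at hy
          subst hy
          exact hCa y hda x hx
        have hbd : b ∈ Subgroup.centralizer ({d} : Set G) := by
          rw [Subgroup.mem_centralizer_iff]
          intro y hy
          rw [Set.mem_singleton_iff] at hy
          subst hy
          exact ((Subgroup.mem_centralizer_iff.1 hdb) b rfl).symm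
        have hdvd : (Subgroup.centralizer ({d} : Set G)).index ∣ p :=
          hia ▸ Subgroup.index_dvd_of_le hCad
        rcases (Nat.dvd_prime hp).1 hdvd with h1 | h1
        · rw [Subgroup.index_eq_one] at h1
          rw [Subgroup.mem_center_iff]
          intro g
          have hg : g ∈ Subgroup.centralizer ({d} : Set G) := h1 ▸ Subgroup.mem_top g
          exact ((Subgroup.mem_centralizer_iff.1 hg) d rfl).symm
        · exfalso
          have h4 := Subgroup.relIndex_mul_index hCad
          rw [h1, hia] at h4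
          have h5 : (Subgroup.centralizer ({a} : Set G)).relIndex
              (Subgroup.centralizer ({d} : Set G)) = 1 := by
            have := hp.pos
            nlinarith
          rw [Subgroup.relIndex_eq_one] at h5
          exact hab ((Subgroup.mem_centralizer_iff.1 (h5 hbd)) a rfl)
    rw [hcen]
    have hle : (Subgroup.centralizer ({a} : Set G) ⊓ Subgroup.centralizer ({b} : Set G)).index ≤
        p * p := by
      have := Subgroup.index_inf_le (H := Subgroup.centralizer ({a} : Set G))
        (K := Subgroup.centralizer ({b} : Set G))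
      rwa [hia, hib] at this
    obtain ⟨k, hk⟩ := (IsPGroup.iff_card (p := p) (G := G)).1 hG
    have hdvd : (Subgroup.centralizer ({a} : Set G) ⊓ Subgroup.centralizer ({b} : Set G)).index ∣
        p ^ k := hk ▸ Subgroup.index_dvd_card _
    obtain ⟨j, -, hj⟩ := (Nat.dvd_prime_pow hp).1 hdvd
    rw [hj]
    apply pow_dvd_pow
    by_contra hcon
    have h3 : 3 ≤ j := by omega
    have h4 : p ^ 3 ≤ p ^ j := Nat.pow_le_pow_right hp.pos h3
    have h5 : p * p < p ^ 3 := by
      have := hp.one_lt
      nlinarith
    rw [hj] at hle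
    omega

end PGroup

section Main

/-- **Isaacs 12.11 for `p`-groups**: a nonabelian `p`-group all of whose irreducible characters
have degree `1` or `p` has an abelian (normal) subgroup of index `p`, or its centre has index
`p ^ 3`. -/
theorem TwoDeg.pgroup_main {p : ℕ} (hp : p.Prime) : ∀ n : ℕ, ∀ (G : Type u) [Group G] [Finite G],
    Nat.card G = n → IsPGroup p G → TwoDeg G p → (∃ a b : G, a * b ≠ b * a) →
    (∃ A : Subgroup G, A.Normal ∧ (∀ a ∈ A, ∀ b ∈ A, a * b = b * a) ∧ A.index = p) ∨
      (Subgroup.center G).index = p ^ 3 := by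
  intro n
  induction n using Nat.strong_induction_on with
  | _ n ih =>
  intro G _ _ hcard hG hTD hna
  classical
  have : Fact p.Prime := ⟨hp⟩
  have hnt : Nontrivial G := by
    obtain ⟨a, b, hab⟩ := hna
    exact ⟨⟨a * b, b * a, hab⟩⟩
  have hcnt : Nontrivial (Subgroup.center G) := hG.center_nontrivial
  have hpc : p ∣ Nat.card (Subgroup.center G) := by
    obtain ⟨k, hk⟩ := (IsPGroup.iff_card (p := p) (G := Subgroup.center G)).1 (hG.to_subgroup _)
    have hk0 : k ≠ 0 := by
      rintro rfl
      rw [pow_zero] at hk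
      have := Finite.one_lt_card (α := Subgroup.center G)
      omega
    rw [hk]; exact dvd_pow_self p hk0
  obtain ⟨zc, hzc⟩ := exists_prime_orderOf_dvd_card' p hpc
  set z : G := (zc : G) with hz
  have hzo : orderOf z = p := by rw [hz, Subgroup.orderOf_coe]; exact hzc
  set N : Subgroup G := Subgroup.zpowers z with hNdef
  have hNc : N ≤ Subgroup.center G := by
    rw [hNdef, Subgroup.zpowers_le]; exact zc.2
  have hNp : Nat.card N = p := by rw [hNdef, Nat.card_zpowers, hzo]
  have hNn : N.Normal := ⟨fun x hx g => by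
    have h1 := hNc hx
    rw [Subgroup.mem_center_iff] at h1
    rw [h1 g, mul_inv_cancel_right]; exact hx⟩
  by_cases hY : ∃ y : G, (∀ g : G, ⁅g, y⁆ ∈ N) ∧ y ∉ Subgroup.center G
  · left
    obtain ⟨y, hy1, hy2⟩ := hY
    have hidx := index_centralizer_eq_prime hp N hNc hNp y hy1 hy2
    obtain ⟨h1, h2⟩ := hTD.centralizer_normal_abelian hp hG y hy2 hidx
    exact ⟨_, h1, h2, hidx⟩
  · push Not at hY
    have hcardQ : Nat.card (G ⧸ N) < n := by
      have h1 := Subgroup.card_eq_card_quotient_mul_card_subgroup N
      rw [hNp, hcard] at h1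
      have h2 : 0 < Nat.card (G ⧸ N) := Nat.card_pos
      have := hp.one_lt
      nlinarith
    have hGQ : IsPGroup p (G ⧸ N) := hG.to_quotient N
    have hTDQ : TwoDeg (G ⧸ N) p := hTD.quotient N
    have hmkcomm : ∀ a b : G, (QuotientGroup.mk' N a) * (QuotientGroup.mk' N b) =
        (QuotientGroup.mk' N b) * (QuotientGroup.mk' N a) → ⁅a, b⁆ ∈ N := by
      intro a b hab
      rw [← QuotientGroup.eq_one_iff]
      have h2 : ((⁅a, b⁆ : G) : G ⧸ N) =
          ⁅(QuotientGroup.mk' N a), (QuotientGroup.mk' N b)⁆ := by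
        rw [← map_commutatorElement]; rfl
      rw [h2, commutatorElement_eq_one_iff_mul_comm]
      exact hab
    have hcomap : Subgroup.center G =
        (Subgroup.center (G ⧸ N)).comap (QuotientGroup.mk' N) := by
      ext y
      rw [Subgroup.mem_comap]
      constructor
      · intro hy
        rw [Subgroup.mem_center_iff]
        intro q
        obtain ⟨g, rfl⟩ := QuotientGroup.mk'_surjective N q
        rw [← map_mul, ← map_mul, (Subgroup.mem_center_iff.1 hy) g]
      · intro hy
        apply hY
        intro g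
        rw [Subgroup.mem_center_iff] at hy
        exact hmkcomm g y (hy (QuotientGroup.mk' N g))
    have hcen : (Subgroup.center G).index = (Subgroup.center (G ⧸ N)).index := by
      rw [hcomap, Subgroup.index_comap_of_surjective _ (QuotientGroup.mk'_surjective N)]
    by_cases hQab : ∀ a b : G ⧸ N, a * b = b * a
    · exfalso
      obtain ⟨a, b, hab⟩ := hna
      have ha : a ∈ Subgroup.center G := by
        rw [hcomap, Subgroup.mem_comap, Subgroup.mem_center_iff]
        intro q
        exact hQab q _
      exact hab ((Subgroup.mem_center_iff.1 ha b).symm)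
    · push Not at hQab
      rcases ih _ hcardQ (G ⧸ N) rfl hGQ hTDQ hQab with ⟨Abar, hAn, hAab, hAidx⟩ | h3
      · set M : Subgroup G := Abar.comap (QuotientGroup.mk' N) with hMdef
        have hMn : M.Normal := hAn.comap _
        have hMidx : M.index = p := by
          rw [hMdef, Subgroup.index_comap_of_surjective _ (QuotientGroup.mk'_surjective N), hAidx]
        have hMcomm : ∀ a ∈ M, ∀ b ∈ M, ⁅a, b⁆ ∈ N := by
          intro a ha b hb
          exact hmkcomm a b (hAab _ ha _ hb)
        by_cases hMab : ∀ a ∈ M, ∀ b ∈ M, a * b = b * a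
        · left; exact ⟨M, hMn, hMab, hMidx⟩
        · push Not at hMab
          have hMp : IsPGroup p M := hG.to_subgroup M
          have hNM : N ≤ M := by
            intro x hx
            rw [hMdef, Subgroup.mem_comap]
            have h1 : (QuotientGroup.mk' N x) = 1 := (QuotientGroup.eq_one_iff x).2 hx
            rw [h1]; exact Abar.one_mem
          have hD : (Subgroup.center M).index ∣ p ^ 2 := by
            apply TwoDeg.center_index_dvd_sq hp (hTD.subgroup_pgroup hp M hMp) hMp
              (N.subgroupOf M)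
            · intro x hx
              rw [Subgroup.mem_center_iff]
              intro m
              apply Subtype.ext
              have h1 := hNc (Subgroup.mem_subgroupOf.1 hx)
              exact (Subgroup.mem_center_iff.1 h1) m
            · rw [Nat.card_congr (Subgroup.subgroupOfEquivOfLe hNM).toEquiv, hNp]
            · intro a b
              rw [Subgroup.mem_subgroupOf]
              exact hMcomm a a.2 b b.2
          have hZM : (Subgroup.center M).map M.subtype ≤ Subgroup.center G := by
            rintro _ ⟨x, hx, rfl⟩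
            rw [Subgroup.mem_center_iff]
            intro g
            have h1 := hTD.conj_central_of_nonabelian hp M hMp hMab (x : G) x.2 (fun m hm => by
              have h2 := (Subgroup.mem_center_iff.1 hx) ⟨m, hm⟩
              exact (congrArg Subtype.val h2).symm) g
            show g * (x : G) = (x : G) * g
            calc g * (x : G) = g * x * g⁻¹ * g := by group
              _ = x * g := by rw [h1]
          have hidx3 : (Subgroup.center G).index ∣ p ^ 3 := by
            have h1 := Subgroup.index_dvd_of_le hZM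
            rw [Subgroup.index_map_subtype, hMidx] at h1
            exact h1.trans (by rw [pow_succ]; exact Nat.mul_dvd_mul_right hD p)
          obtain ⟨j, hj3, hj⟩ := (Nat.dvd_prime_pow hp).1 hidx3
          by_cases hj3' : j = 3
          · right; rw [hj, hj3']
          · left
            apply hTD.exists_abelian_of_center_index hp hG hna
            rw [hj]; exact pow_dvd_pow p (by omega)
      · right; rw [hcen, h3]

end Main

section CenterBound

variable {G : Type u} [Group G] [Finite G]

/-- `χ(1)² |Z(G)| ≤ |G|` for an irreducible character `χ`. -/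
theorem irr_degree_sq_mul_card_center_le (χ : IrrCharacter G) :
    charDegree (χ : G → ℂ) ^ 2 * Nat.card (Subgroup.center G) ≤ Nat.card G := by
  classical
  let _ : Fintype G := Fintype.ofFinite _
  have h1 := irr_inner_self χ
  unfold classInner at h1
  have hne : (Nat.card G : ℂ) ≠ 0 := by
    have : 0 < Nat.card G := Nat.card_pos
    exact_mod_cast this.ne'
  have h2 : ∑ g : G, (χ : G → ℂ) g * conj ((χ : G → ℂ) g) = (Nat.card G : ℂ) := by
    have h3 := congrArg (fun t => (Nat.card G : ℂ) * t) h1
    simp only [mul_one] at h3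
    rw [← mul_assoc, mul_inv_cancel₀ hne, one_mul] at h3
    exact h3
  have hsum : (∑ g : G, Complex.normSq ((χ : G → ℂ) g)) = (Nat.card G : ℝ) := by
    have h3 : ∀ g : G, (χ : G → ℂ) g * conj ((χ : G → ℂ) g) =
        ((Complex.normSq ((χ : G → ℂ) g) : ℝ) : ℂ) := fun g => Complex.mul_conj _
    rw [Finset.sum_congr rfl (fun g _ => h3 g), ← Complex.ofReal_sum] at h2
    exact_mod_cast h2
  have hle : ∑ g ∈ Finset.univ.filter (fun g : G => g ∈ Subgroup.center G),
      Complex.normSq ((χ : G → ℂ) g) ≤ ∑ g : G, Complex.normSq ((χ : G → ℂ) g) :=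
    Finset.sum_le_sum_of_subset_of_nonneg (Finset.filter_subset _ _)
      (fun _ _ _ => Complex.normSq_nonneg _)
  have hZ : ∑ g ∈ Finset.univ.filter (fun g : G => g ∈ Subgroup.center G),
      Complex.normSq ((χ : G → ℂ) g) =
      (Nat.card (Subgroup.center G) : ℝ) * (charDegree (χ : G → ℂ) : ℝ) ^ 2 := by
    rw [Finset.sum_congr rfl (fun g hg => irr_central_normSq χ (Finset.mem_filter.1 hg).2),
      Finset.sum_const, nsmul_eq_mul]
    congr 2
    rw [Nat.card_eq_fintype_card, Fintype.card_subtype]
  rw [hZ, hsum] at hle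
  have h4 : ((charDegree (χ : G → ℂ) ^ 2 * Nat.card (Subgroup.center G) : ℕ) : ℝ) ≤
      (Nat.card G : ℝ) := by
    push_cast
    linarith
  exact_mod_cast h4

end CenterBound

section Prime

variable {G : Type u} [Group G] [Finite G]

/-- **Isaacs 12.11, the hard direction.** A nonabelian group with character degrees `1` and `p`
has an abelian normal subgroup of index `p` or centre of index `p ^ 3`. -/
theorem TwoDeg.prime_structure {p : ℕ} (hp : p.Prime) (h : TwoDeg G p) (χ₀ : IrrCharacter G)
    (hχ₀ : charDegree (χ₀ : G → ℂ) = p) (hna : ∃ a b : G, a * b ≠ b * a) :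
    (∃ A : Subgroup G, A.Normal ∧ (∀ a ∈ A, ∀ b ∈ A, a * b = b * a) ∧ A.index = p) ∨
      (Subgroup.center G).index = p ^ 3 := by
  classical
  rcases h.structure χ₀ hχ₀ hp.two_le with hA |
    ⟨p', e, hp', hpe, P, A, hPn, hAn, hPp, hAab, hinf, hsup⟩
  · left; exact hA
  · have he : e ≠ 0 := by
      rintro rfl
      rw [pow_zero] at hpe
      exact hp.one_lt.ne' hpe
    have hpp : p' = p := by
      have h1 : p' ∣ p := by rw [hpe]; exact dvd_pow_self p' he
      exact (Nat.prime_dvd_prime_iff_eq hp' hp).1 h1
    rw [hpp] at hPp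
    have hAc : IsMulCommutative A := ⟨⟨fun a b => Subtype.ext (hAab a a.2 b b.2)⟩⟩
    have hGP : commutator G ≤ P :=
      Subgroup.Normal.commutator_le_of_self_sup_commutative_eq_top hsup hAc
    have hcommP : ∀ a b : G, ⁅a, b⁆ ∈ P := fun a b =>
      hGP (Subgroup.commutator_mem_commutator (Subgroup.mem_top a) (Subgroup.mem_top b))
    have hkey : ∀ a b : G, ⁅a, b⁆ ∈ A → a * b = b * a := by
      intro a b hab
      have h1 : ⁅a, b⁆ ∈ P ⊓ A := ⟨hcommP a b, hab⟩
      rw [hinf, Subgroup.mem_bot] at h1
      exact commutatorElement_eq_one_iff_mul_comm.1 h1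
    have hmk : ∀ a b : G, (QuotientGroup.mk' A a) * (QuotientGroup.mk' A b) =
        (QuotientGroup.mk' A b) * (QuotientGroup.mk' A a) → a * b = b * a := by
      intro a b hab
      apply hkey
      rw [← QuotientGroup.eq_one_iff]
      have h2 : ((⁅a, b⁆ : G) : G ⧸ A) =
          ⁅(QuotientGroup.mk' A a), (QuotientGroup.mk' A b)⁆ := by
        rw [← map_commutatorElement]; rfl
      rw [h2, commutatorElement_eq_one_iff_mul_comm]
      exact hab
    have hQp : IsPGroup p (G ⧸ A) := by
      intro q
      obtain ⟨g, rfl⟩ := QuotientGroup.mk'_surjective A q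
      have hg : g ∈ (↑(P ⊔ A) : Set G) := by rw [hsup]; exact Set.mem_univ g
      rw [Subgroup.mul_normal] at hg
      obtain ⟨x, hx, a, ha, rfl⟩ := Set.mem_mul.1 hg
      obtain ⟨k, hk⟩ := hPp ⟨x, hx⟩
      refine ⟨k, ?_⟩
      have h0 : QuotientGroup.mk' A a = 1 := (QuotientGroup.eq_one_iff a).2 ha
      have h1 : QuotientGroup.mk' A (x * a) = QuotientGroup.mk' A x := by
        rw [map_mul, h0, mul_one]
      rw [h1, ← map_pow]
      have h2 : x ^ p ^ k = 1 := by
        have := congrArg Subtype.val hk
        simpa using this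
      rw [h2, map_one]
    have hQna : ∃ a b : G ⧸ A, a * b ≠ b * a := by
      obtain ⟨a, b, hab⟩ := hna
      exact ⟨QuotientGroup.mk' A a, QuotientGroup.mk' A b, fun hc => hab (hmk a b hc)⟩
    rcases TwoDeg.pgroup_main hp _ (G ⧸ A) rfl hQp (h.quotient A) hQna with
      ⟨B, hBn, hBab, hBidx⟩ | h3
    · left
      refine ⟨B.comap (QuotientGroup.mk' A), hBn.comap _, ?_, ?_⟩
      · intro a ha b hb
        exact hmk a b (hBab _ ha _ hb)
      · rw [Subgroup.index_comap_of_surjective _ (QuotientGroup.mk'_surjective A), hBidx]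
    · right
      have hcomap : Subgroup.center G =
          (Subgroup.center (G ⧸ A)).comap (QuotientGroup.mk' A) := by
        ext y
        rw [Subgroup.mem_comap]
        constructor
        · intro hy
          rw [Subgroup.mem_center_iff]
          intro q
          obtain ⟨g, rfl⟩ := QuotientGroup.mk'_surjective A q
          rw [← map_mul, ← map_mul, (Subgroup.mem_center_iff.1 hy) g]
        · intro hy
          rw [Subgroup.mem_center_iff] at hy ⊢
          intro g
          exact hmk g y (hy _)
      rw [hcomap, Subgroup.index_comap_of_surjective _ (QuotientGroup.mk'_surjective A), h3]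

end Prime

end Cfsg.Agent.Lib.Helper97
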