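import Mathlib
import Cfsg.Agent.Lib.Helper97.GalP4
import Cfsg.Agent.Lib.Helper97.TwoDegPrime

set_option autoImplicit false

namespace Cfsg.Agent.Lib.Helper97.GalP

open Cfsg Cfsg.Agent.Lib.Helper83
open scoped ComplexConjugate commutatorElement

universe u

/-- A group with an abelian subgroup of prime index: the subgroup is small compared with the
derived subgroup and the centre. -/
theorem card_le_of_abelian_index_prime {Q : Type*} [Group Q] [Finite Q] {p : ℕ} (hp : p.Prime)
    (A : Subgroup Q) (hA : ∀ x ∈ A, ∀ y ∈ A, x * y = y * x) (hidx : A.index = p) :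
    Nat.card A ≤ Nat.card (commutator Q) * Nat.card (Subgroup.center Q) := by
  have hAtop : A ≠ ⊤ := by
    intro h; rw [h, Subgroup.index_top] at hidx; exact hp.one_lt.ne hidx
  obtain ⟨a, ha⟩ : ∃ a, a ∉ A := by
    by_contra hcon; push Not at hcon
    exact hAtop ((Subgroup.eq_top_iff' A).mpr hcon)
  have hK : A ⊓ Subgroup.centralizer ({a} : Set Q) ≤ Subgroup.center Q := by
    rintro z ⟨hzA, hzC⟩
    have hza : z * a = a * z := Subgroup.mem_centralizer_singleton_iff.mp hzC
    have hAH : A ≤ Subgroup.centralizer ({z} : Set Q) :=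
      fun x hx => Subgroup.mem_centralizer_singleton_iff.mpr (hA x hx z hzA)
    have haH : a ∈ Subgroup.centralizer ({z} : Set Q) :=
      Subgroup.mem_centralizer_singleton_iff.mpr hza.symm
    have hmul := Subgroup.relIndex_mul_index hAH
    rw [hidx] at hmul
    have hHidx : (Subgroup.centralizer ({z} : Set Q)).index = 1 := by
      have hdvd : (Subgroup.centralizer ({z} : Set Q)).index ∣ p :=
        ⟨A.relIndex (Subgroup.centralizer ({z} : Set Q)), by rw [← hmul, mul_comm]⟩
      rcases (Nat.dvd_prime hp).mp hdvd with h1 | h1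
      · exact h1
      · exfalso
        rw [h1] at hmul
        have h2 : A.relIndex (Subgroup.centralizer ({z} : Set Q)) = 1 :=
          Nat.eq_of_mul_eq_mul_right hp.pos (by rw [one_mul]; exact hmul)
        exact ha (Subgroup.relIndex_eq_one.mp h2 haH)
    have hHtop : Subgroup.centralizer ({z} : Set Q) = ⊤ := Subgroup.index_eq_one.mp hHidx
    rw [Subgroup.mem_center_iff]
    intro g
    have : g ∈ Subgroup.centralizer ({z} : Set Q) := hHtop ▸ Subgroup.mem_top g
    exact Subgroup.mem_centralizer_singleton_iff.mp this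
  have e1 : Nat.card (A ⊓ Subgroup.centralizer ({a} : Set Q) : Subgroup Q) *
      (A ⊓ Subgroup.centralizer ({a} : Set Q)).relIndex A = Nat.card A := by
    have := Subgroup.relIndex_mul_relIndex ⊥ (A ⊓ Subgroup.centralizer ({a} : Set Q)) A
      bot_le inf_le_left
    rwa [Subgroup.relIndex_bot_left, Subgroup.relIndex_bot_left] at this
  have e2 : (A ⊓ Subgroup.centralizer ({a} : Set Q)).relIndex A =
      (Subgroup.centralizer ({a} : Set Q)).relIndex A := Subgroup.inf_relIndex_left A _
  have e3 : (Subgroup.centralizer ({a} : Set Q)).relIndex A ≤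
      (Subgroup.centralizer ({a} : Set Q)).index := by
    have := Subgroup.relIndex_le_of_le_right (H := Subgroup.centralizer ({a} : Set Q))
      (le_top : A ≤ ⊤)
      (by rw [Subgroup.relIndex_top_right]; exact Subgroup.index_ne_zero_of_finite)
    rwa [Subgroup.relIndex_top_right] at this
  have e4 : (Subgroup.centralizer ({a} : Set Q)).index ≤ Nat.card (commutator Q) := by
    have h1 : Nat.card (Q ⧸ Subgroup.centralizer ({a} : Set Q)) ≤ Nat.card (commutatorSet Q) :=
      Nat.card_le_card_of_injective _ (Subgroup.quotientCentralizerEmbedding a).injective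
    have h2 : Nat.card (commutatorSet Q) ≤ Nat.card (commutator Q) := by
      apply Nat.card_le_card_of_injective (fun x : commutatorSet Q =>
        (⟨x.1, by rw [commutator_eq_closure]; exact Subgroup.subset_closure x.2⟩ : commutator Q))
      intro x y hxy
      have h3 := congrArg (fun w : commutator Q => (w : Q)) hxy
      exact Subtype.ext h3
    exact h1.trans h2
  have e5 : Nat.card (A ⊓ Subgroup.centralizer ({a} : Set Q) : Subgroup Q) ≤
      Nat.card (Subgroup.center Q) := Subgroup.card_le_of_le hK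
  calc Nat.card A = Nat.card (A ⊓ Subgroup.centralizer ({a} : Set Q) : Subgroup Q) *
        (Subgroup.centralizer ({a} : Set Q)).relIndex A := by rw [← e2, e1]
    _ ≤ Nat.card (Subgroup.center Q) * Nat.card (commutator Q) :=
        Nat.mul_le_mul e5 (e3.trans e4)
    _ = _ := mul_comm _ _

variable {G : Type u} [Group G]

/-- three subgroups lemma: a subgroup centralizing the derived subgroup has central derived
subgroup. -/
theorem commutator_mem_center_of_centralizes (C : Subgroup G)
    (hC : ∀ x ∈ C, ∀ d ∈ commutator G, x * d = d * x) :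
    ∀ x ∈ C, ∀ y ∈ C, ⁅x, y⁆ ∈ Subgroup.center G := by
  have h1 : ⁅⁅C, (⊤ : Subgroup G)⁆, C⁆ = ⊥ := by
    rw [Subgroup.commutator_eq_bot_iff_le_centralizer]
    intro d hd
    have hdG : d ∈ commutator G := by
      rw [commutator_def]; exact Subgroup.commutator_mono le_top le_rfl hd
    rw [Subgroup.mem_centralizer_iff]
    intro x hx
    exact hC x hx d hdG
  have h2 : ⁅⁅(⊤ : Subgroup G), C⁆, C⁆ = ⊥ := by
    rw [Subgroup.commutator_eq_bot_iff_le_centralizer]
    intro d hd
    have hdG : d ∈ commutator G := by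
      rw [commutator_def]; exact Subgroup.commutator_mono le_rfl le_top hd
    rw [Subgroup.mem_centralizer_iff]
    intro x hx
    exact hC x hx d hdG
  have h3 := Subgroup.commutator_commutator_eq_bot_of_rotate h1 h2
  rw [Subgroup.commutator_eq_bot_iff_le_centralizer] at h3
  intro x hx y hy
  have h4 := h3 (Subgroup.commutator_mem_commutator hx hy)
  rw [Subgroup.coe_top, Subgroup.centralizer_univ] at h4
  exact h4

/-- **Case 2**: the derived subgroup of order `p²` is not central. -/
theorem GC.case2 [Finite G] {p : ℕ} [hp : Fact p.Prime] (h : GC G) (hP : IsPGroup p G)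
    (hcard : Nat.card (commutator G) = p ^ 2) (N : Subgroup G) [N.Normal]
    (hNcard : Nat.card N = p) (hNle : N ≤ commutator G)
    (hncen : ¬ commutator G ≤ Subgroup.center G) : False := by
  have hNcen : N ≤ Subgroup.center G := le_center_of_card_prime hP N hNcard
  have hZle : Subgroup.center G ≤ commutator G := h.le_commutator _ hncen
  have hZN : Subgroup.center G = N := by
    symm
    apply Subgroup.eq_of_le_of_card_ge hNcen
    have hdvd : Nat.card (Subgroup.center G) ∣ p ^ 2 := hcard ▸ Subgroup.card_dvd_of_le hZle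
    obtain ⟨i, hi, hci⟩ := (Nat.dvd_prime_pow hp.out).mp hdvd
    have hine2 : i ≠ 2 := by
      intro h2
      apply hncen
      have : Subgroup.center G = commutator G :=
        Subgroup.eq_of_le_of_card_ge hZle (by rw [hci, h2, hcard])
      rw [this]
    rw [hci, hNcard]
    have hi1 : i ≤ 1 := by omega
    calc p ^ i ≤ p ^ 1 := Nat.pow_le_pow_right hp.out.pos hi1
      _ = p := pow_one p
  obtain ⟨hc, hcyc, χ₁, hχ₁nl, hχ₁ker, -⟩ := h.quot_pack hP N hNcard hNle hcard
  have hPQ : IsPGroup p (G ⧸ N) := hP.to_quotient N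
  have hcenQ : commutator (G ⧸ N) ≤ Subgroup.center (G ⧸ N) :=
    le_center_of_card_prime hPQ _ hc
  have hcomN : ∀ d ∈ commutator G, ∀ g : G, ⁅g, d⁆ ∈ N := by
    intro d hd g
    have hdQ : (QuotientGroup.mk d : G ⧸ N) ∈ commutator (G ⧸ N) := by
      have hmap : (commutator G).map (QuotientGroup.mk' N) ≤ commutator (G ⧸ N) := by
        rw [commutator_def, commutator_def, Subgroup.map_commutator]
        exact Subgroup.commutator_mono le_top le_top
      exact hmap (Subgroup.mem_map_of_mem _ hd)
    have h1 := (mk_mem_center_iff N d).mp (hcenQ hdQ) g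
    rw [← commutatorElement_inv]
    exact N.inv_mem h1
  obtain ⟨c, hcG, hcZ⟩ : ∃ c ∈ commutator G, c ∉ Subgroup.center G := by
    by_contra hcon; push Not at hcon; exact hncen hcon
  have hCidx := index_centralizer_eq_prime hp.out N hNcen hNcard c (hcomN c hcG) hcZ
  have hcN : c ∉ N := fun hcn => hcZ (hNcen hcn)
  have hCcent : ∀ x ∈ Subgroup.centralizer ({c} : Set G), ∀ d ∈ commutator G,
      x * d = d * x := by
    intro x hx d hd
    have hxc : x * c = c * x := Subgroup.mem_centralizer_singleton_iff.mp hx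
    have hle : commutator G ≤ Subgroup.centralizer ({x} : Set G) :=
      le_of_card_sq hp.out (commutator G) N _ hcard hNcard hNle
        (fun n hn => Subgroup.mem_centralizer_singleton_iff.mpr
          ((Subgroup.mem_center_iff.mp (hNcen hn) x).symm))
        hcG (Subgroup.mem_centralizer_singleton_iff.mpr hxc.symm) hcN
    exact (Subgroup.mem_centralizer_singleton_iff.mp (hle hd)).symm
  have hCC := commutator_mem_center_of_centralizes _ hCcent
  have hNC : N ≤ Subgroup.centralizer ({c} : Set G) := fun n hn =>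
    Subgroup.mem_centralizer_singleton_iff.mpr (Subgroup.mem_center_iff.mp (hNcen hn) c).symm
  have hAidx : ((Subgroup.centralizer ({c} : Set G)).map (QuotientGroup.mk' N)).index = p := by
    rw [Subgroup.index_map_eq _ (QuotientGroup.mk'_surjective N)
      (by rw [QuotientGroup.ker_mk']; exact hNC)]
    exact hCidx
  have hAab : ∀ a ∈ (Subgroup.centralizer ({c} : Set G)).map (QuotientGroup.mk' N),
      ∀ b ∈ (Subgroup.centralizer ({c} : Set G)).map (QuotientGroup.mk' N), a * b = b * a := by
    rintro _ ⟨x, hx, rfl⟩ _ ⟨y, hy, rfl⟩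
    rw [← commutatorElement_eq_one_iff_mul_comm, ← map_commutatorElement]
    show ((⁅x, y⁆ : G) : G ⧸ N) = 1
    rw [QuotientGroup.eq_one_iff, ← hZN]
    exact hCC x hx y hy
  have hAcard := card_le_of_abelian_index_prime hp.out _ hAab hAidx
  have hZQ : Nat.card (Subgroup.center (G ⧸ N)) ≤ p := by
    obtain ⟨tq, htq⟩ := hcyc.exists_generator
    have hcardord : Nat.card (Subgroup.center (G ⧸ N)) = orderOf tq :=
      (orderOf_eq_card_of_forall_mem_zpowers htq).symm
    rw [hcardord]
    apply Nat.le_of_dvd hp.out.pos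
    apply orderOf_dvd_of_pow_eq_one
    obtain ⟨t, ht⟩ := QuotientGroup.mk_surjective (tq : G ⧸ N)
    have htc : (QuotientGroup.mk t : G ⧸ N) ∈ Subgroup.center (G ⧸ N) := ht ▸ tq.2
    have htN : ∀ g, ⁅t, g⁆ ∈ N := (mk_mem_center_iff N t).mp htc
    have htp : t ^ p ∈ N := by
      rw [← hZN, Subgroup.mem_center_iff]
      intro g
      have h1 : ⁅t ^ p, g⁆ = ⁅t, g⁆ ^ p :=
        commutatorElement_pow_left_of_commute t g
          ((Subgroup.mem_center_iff.mp (hNcen (htN g)) t).symm) p
      have h2 : ⁅t, g⁆ ^ p = 1 := by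
        have := pow_card_eq_one_of_mem N (htN g); rwa [hNcard] at this
      rw [h2, commutatorElement_eq_one_iff_mul_comm] at h1
      exact h1.symm
    apply Subtype.ext
    show ((tq ^ p : Subgroup.center (G ⧸ N)) : G ⧸ N) = 1
    rw [SubgroupClass.coe_pow, ← ht, ← QuotientGroup.mk_pow]
    exact (QuotientGroup.eq_one_iff _).mpr htp
  have hGcard : Nat.card G ≤ p ^ 4 := by
    have h1 := Subgroup.card_mul_index
      ((Subgroup.centralizer ({c} : Set G)).map (QuotientGroup.mk' N))
    rw [hAidx] at h1
    have h2 := card_quotient_mul_card N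
    rw [hNcard] at h2
    have h3 : Nat.card ((Subgroup.centralizer ({c} : Set G)).map (QuotientGroup.mk' N)) ≤
        p * p := by
      calc _ ≤ Nat.card (commutator (G ⧸ N)) * Nat.card (Subgroup.center (G ⧸ N)) := hAcard
        _ ≤ p * p := by rw [hc]; exact Nat.mul_le_mul_left p hZQ
    calc Nat.card G
        = Nat.card ((Subgroup.centralizer ({c} : Set G)).map (QuotientGroup.mk' N)) * p * p := by
          rw [h1, h2]
      _ ≤ p * p * p * p := Nat.mul_le_mul_right p (Nat.mul_le_mul_right p h3)
      _ = p ^ 4 := by ring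
  obtain ⟨n₀, hn₀N, hn₀1⟩ := exists_mem_ne_one_of_one_lt_card N
    (by rw [hNcard]; exact hp.out.one_lt)
  obtain ⟨ψ, hψ⟩ := exists_irr_ne_of_ne_one hn₀1
  have hψnl : charDegree (ψ : G → ℂ) ≠ 1 := by
    rw [← apply_one_ne_one_iff]
    intro h1
    apply hψ
    exact (irr_linear_iff_commutator_le ψ).mp h1 n₀ (hNle hn₀N)
  have hdegp : ∀ φ : IrrCharacter G, charDegree (φ : G → ℂ) ≠ 1 →
      charDegree (φ : G → ℂ) = p := by
    intro φ hφ
    have h1 := irr_degree_sq_mul_card_center_le φ
    rw [hZN, hNcard] at h1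
    obtain ⟨n, hn⟩ := hP.exists_card_eq
    have hdvd : charDegree (φ : G → ℂ) ∣ p ^ n := hn ▸ irr_charDegree_dvd_card φ
    obtain ⟨j, -, hj⟩ := (Nat.dvd_prime_pow hp.out).mp hdvd
    rw [hj] at h1 hφ ⊢
    have h2 : p ^ (2 * j + 1) ≤ p ^ 4 := by
      calc p ^ (2 * j + 1) = (p ^ j) ^ 2 * p := by ring
        _ ≤ Nat.card G := h1
        _ ≤ p ^ 4 := hGcard
    have h3 : 2 * j + 1 ≤ 4 := (Nat.pow_le_pow_iff_right hp.out.one_lt).mp h2
    have hj0 : j ≠ 0 := by rintro rfl; exact hφ (pow_zero p)
    have hj1 : j = 1 := by omega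
    rw [hj1, pow_one]
  have hdeg : charDegree (χ₁ : G → ℂ) = charDegree (ψ : G → ℂ) := by
    rw [hdegp χ₁ hχ₁nl, hdegp ψ hψnl]
  exact hψ ((h.ker_iff χ₁ ψ hχ₁nl hdeg n₀).mpr (hχ₁ker n₀ hn₀N))

/-- **(⇒), derived subgroup**: the hypothesis forces a derived subgroup of order `p`. -/
theorem GC.card_commutator {p : ℕ} [hp : Fact p.Prime] :
    ∀ n : ℕ, ∀ (P : Type u) [Group P] [Finite P], Nat.card P = n → IsPGroup p P →
      (¬ ∀ a b : P, a * b = b * a) → GC P → Nat.card (commutator P) = p := by
  intro n
  induction n using Nat.strong_induction_on with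
  | _ n ih =>
    intro P _ _ hn hP hna hGC
    have hnebot : commutator P ≠ ⊥ := by
      intro hb
      apply hna
      intro a b
      rw [← commutatorElement_eq_one_iff_mul_comm, ← Subgroup.mem_bot, ← hb]
      exact commutatorElement_mem_commutator a b
    obtain ⟨x, hxD, hxZ, hx1⟩ :=
      Cfsg.Agent.Lib.Helper38.normal_inf_center_ne_bot p hP (commutator P) hnebot
    obtain ⟨m, hm⟩ := Cfsg.Agent.Lib.Helper38.exists_pow_orderOf_eq_prime p x hx1
      (IsPGroup.iff_orderOf.mp hP x)
    have hNcard : Nat.card (Subgroup.zpowers (x ^ m)) = p := by rw [Nat.card_zpowers, hm]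
    have hNle : Subgroup.zpowers (x ^ m) ≤ commutator P :=
      Subgroup.zpowers_le.mpr (Subgroup.pow_mem _ hxD m)
    have hNcen : Subgroup.zpowers (x ^ m) ≤ Subgroup.center P :=
      Subgroup.zpowers_le.mpr (Subgroup.pow_mem _ hxZ m)
    have hNn : (Subgroup.zpowers (x ^ m)).Normal := normal_of_le_center' hNcen
    by_cases hab : ∀ a b : P ⧸ Subgroup.zpowers (x ^ m), a * b = b * a
    · have hle : commutator P ≤ Subgroup.zpowers (x ^ m) := by
        rw [commutator_def, Subgroup.commutator_le]
        intro a _ b _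
        rw [← QuotientGroup.eq_one_iff]
        show (QuotientGroup.mk' (Subgroup.zpowers (x ^ m))) ⁅a, b⁆ = 1
        rw [map_commutatorElement, commutatorElement_eq_one_iff_mul_comm]
        exact hab _ _
      have : Subgroup.zpowers (x ^ m) = commutator P := le_antisymm hNle hle
      rw [← this]; exact hNcard
    · have hlt : Nat.card (P ⧸ Subgroup.zpowers (x ^ m)) < n := by
        have h1 := card_quotient_mul_card (Subgroup.zpowers (x ^ m))
        rw [hNcard, hn] at h1
        have hpos : 0 < Nat.card (P ⧸ Subgroup.zpowers (x ^ m)) := Nat.card_pos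
        nlinarith [hp.out.two_le]
      have hQ := ih _ hlt (P ⧸ Subgroup.zpowers (x ^ m)) rfl
        (hP.to_quotient _) hab (hGC.quotient _)
      have hcard : Nat.card (commutator P) = p ^ 2 := by
        have h1 := card_commutator_quotient (Subgroup.zpowers (x ^ m)) hNle
        rw [hQ, hNcard] at h1
        rw [← h1, sq]
      exfalso
      by_cases hcen : commutator P ≤ Subgroup.center P
      · by_cases hexp : ∀ a b : P, ⁅a, b⁆ ^ p = 1
        · exact hGC.case1a hP hcard hcen hexp
        · push Not at hexp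
          obtain ⟨a, b, hab'⟩ := hexp
          exact hGC.case1b hP hcard hcen a b hab'
      · exact hGC.case2 hP hcard _ hNcard hNle hcen

/-- **(⇒)**. -/
theorem GC.main [Finite G] {p : ℕ} [hp : Fact p.Prime] (hP : IsPGroup p G)
    (hna : ¬ ∀ a b : G, a * b = b * a) (h : GC G) :
    IsCyclic (Subgroup.center G) ∧ Nat.card (commutator G) = p := by
  have hc := GC.card_commutator (p := p) _ G rfl hP hna h
  exact ⟨h.isCyclic_center hP hc, hc⟩

end Cfsg.Agent.Lib.Helper97.GalP
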