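import Mathlib

set_option autoImplicit false

namespace Cfsg.Agent.Lib.Helper97

open scoped commutatorElement

variable {G : Type*} [Group G]

lemma comm_mem_of_mem_left (N : Subgroup G) [hN : N.Normal] {x : G} (hx : x ∈ N) (y : G) :
    ⁅x, y⁆ ∈ N := by
  rw [commutatorElement_def]
  have h : x * y * x⁻¹ * y⁻¹ = x * (y * x⁻¹ * y⁻¹) := by group
  rw [h]
  exact N.mul_mem hx (hN.conj_mem _ (N.inv_mem hx) y)

lemma comm_mem_of_mem_right (N : Subgroup G) [hN : N.Normal] (x : G) {y : G} (hy : y ∈ N) :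
    ⁅x, y⁆ ∈ N := by
  rw [commutatorElement_def]
  exact N.mul_mem (hN.conj_mem _ hy x) (N.inv_mem hy)

lemma comm_ne_one_of_not_commute {x y : G} (h : x * y ≠ y * x) : ⁅x, y⁆ ≠ 1 := by
  intro h1
  apply h
  rw [commutatorElement_def] at h1
  have : x * y = (x * y * x⁻¹ * y⁻¹) * (y * x) := by group
  rw [this, h1, one_mul]

lemma conj_eq_comm_mul (x b : G) : x * b * x⁻¹ = ⁅x, b⁆ * b := by
  rw [commutatorElement_def]; group

/-- In a finite solvable group, every non-identity element reaches a non-identity element of an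
abelian normal subgroup after at most two commutations. -/
theorem exists_abelian_normal_comm [Finite G] [hsol : Group.IsSolvable G] (g : G) :
    ∃ A : Subgroup G, A.Normal ∧ (∀ a ∈ A, ∀ b ∈ A, a * b = b * a) ∧
      ∃ h₁ h₂ : G, g ∈ A ∨ (⁅g, h₁⁆ ≠ 1 ∧ ⁅g, h₁⁆ ∈ A) ∨
        (⁅⁅g, h₁⁆, h₂⁆ ≠ 1 ∧ ⁅⁅g, h₁⁆, h₂⁆ ∈ A) := by
  classical
  -- a maximal abelian normal subgroup
  let P : Subgroup G → Prop := fun A => A.Normal ∧ ∀ a ∈ A, ∀ b ∈ A, a * b = b * a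
  have hP0 : P ⊥ := ⟨inferInstance, by
    intro a ha b hb
    rw [Subgroup.mem_bot] at ha hb
    rw [ha, hb]⟩
  obtain ⟨A, -, hAmax⟩ := Finite.exists_le_maximal (p := P) hP0
  have hAn : A.Normal := hAmax.prop.1
  have hAc : ∀ a ∈ A, ∀ b ∈ A, a * b = b * a := hAmax.prop.2
  refine ⟨A, hAn, hAc, ?_⟩
  set C := Subgroup.centralizer (A : Set G) with hC
  have hCn : C.Normal := Subgroup.normal_centralizer
  have hAC : A ≤ C := by
    intro a ha
    rw [hC, Subgroup.mem_centralizer_iff]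
    intro b hb
    exact hAc b hb a ha
  by_cases hgC : g ∈ C
  swap
  · rw [hC, Subgroup.mem_centralizer_iff] at hgC
    push Not at hgC
    obtain ⟨a, ha, hne⟩ := hgC
    exact ⟨a, 1, Or.inr (Or.inl ⟨comm_ne_one_of_not_commute (Ne.symm hne),
      comm_mem_of_mem_right A g ha⟩)⟩
  -- now g ∈ C
  let Q : Subgroup G → Prop := fun B => B.Normal ∧ A ≤ B ∧ B ≤ C ∧ ∀ x ∈ B, ∀ y ∈ B, ⁅x, y⁆ ∈ A
  have hQA : Q A := ⟨hAn, le_rfl, hAC, fun x hx y _ => comm_mem_of_mem_left A hx y⟩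
  obtain ⟨B, hAB', hBmax⟩ := Finite.exists_le_maximal (p := Q) hQA
  have hBn : B.Normal := hBmax.prop.1
  have hAB : A ≤ B := hBmax.prop.2.1
  have hBC : B ≤ C := hBmax.prop.2.2.1
  have hBB : ∀ x ∈ B, ∀ y ∈ B, ⁅x, y⁆ ∈ A := hBmax.prop.2.2.2
  -- centre of B is A
  have hZ : ∀ z ∈ B, (∀ b ∈ B, z * b = b * z) → z ∈ A := by
    intro z hzB hz
    let Z : Subgroup G := B ⊓ Subgroup.centralizer (B : Set G)
    have hPZ : P Z := by
      refine ⟨inferInstance, ?_⟩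
      intro a ha b hb
      have h1 : a ∈ Subgroup.centralizer (B : Set G) := (Subgroup.mem_inf.mp ha).2
      rw [Subgroup.mem_centralizer_iff] at h1
      exact (h1 b (Subgroup.mem_inf.mp hb).1).symm
    have hAZ : A ≤ Z := by
      intro a ha
      refine Subgroup.mem_inf.mpr ⟨hAB ha, ?_⟩
      rw [Subgroup.mem_centralizer_iff]
      intro b hb
      have h1 : b ∈ C := hBC hb
      rw [hC, Subgroup.mem_centralizer_iff] at h1
      exact (h1 a ha).symm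
    have hZA : Z ≤ A := hAmax.le_of_ge hPZ hAZ
    apply hZA
    refine Subgroup.mem_inf.mpr ⟨hzB, ?_⟩
    rw [Subgroup.mem_centralizer_iff]
    intro b hb
    exact (hz b hb).symm
  -- the centraliser of B/A inside C
  let X : Subgroup G :=
    { carrier := {x | x ∈ C ∧ ∀ b ∈ B, ⁅x, b⁆ ∈ A}
      mul_mem' := by
        rintro x y ⟨hxC, hx⟩ ⟨hyC, hy⟩
        refine ⟨C.mul_mem hxC hyC, fun b hb => ?_⟩
        have h : ⁅x * y, b⁆ = (x * ⁅y, b⁆ * x⁻¹) * ⁅x, b⁆ := by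
          simp only [commutatorElement_def]; group
        rw [h]
        exact A.mul_mem (hAn.conj_mem _ (hy b hb) x) (hx b hb)
      one_mem' := by
        refine ⟨C.one_mem, fun b _ => ?_⟩
        have h : ⁅(1 : G), b⁆ = 1 := by simp [commutatorElement_def]
        rw [h]
        exact A.one_mem
      inv_mem' := by
        rintro x ⟨hxC, hx⟩
        refine ⟨C.inv_mem hxC, fun b hb => ?_⟩
        have h : ⁅x⁻¹, b⁆ = x⁻¹ * (⁅x, b⁆)⁻¹ * x⁻¹⁻¹ := by
          simp only [commutatorElement_def]; group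
        rw [h]
        exact hAn.conj_mem _ (A.inv_mem (hx b hb)) x⁻¹ }
  have hXmem : ∀ x, x ∈ X ↔ (x ∈ C ∧ ∀ b ∈ B, ⁅x, b⁆ ∈ A) := fun x => Iff.rfl
  have hXn : X.Normal := by
    refine ⟨fun x hx h => ?_⟩
    rw [hXmem] at hx ⊢
    refine ⟨hCn.conj_mem _ hx.1 h, fun b hb => ?_⟩
    have hb' : h⁻¹ * b * h⁻¹⁻¹ ∈ B := hBn.conj_mem _ hb h⁻¹
    have h1 : ⁅h * x * h⁻¹, b⁆ = h * ⁅x, h⁻¹ * b * h⁻¹⁻¹⁆ * h⁻¹ := by
      simp only [commutatorElement_def]; group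
    rw [h1]
    exact hAn.conj_mem _ (hx.2 _ hb') h
  have hXC : X ≤ C := fun x hx => hx.1
  have hBX : B ≤ X := fun b hb => ⟨hBC hb, fun b' hb' => hBB b hb b' hb'⟩
  have hXB : X ≤ B := by
    by_contra hcon
    obtain ⟨k, hk⟩ := (Group.isSolvable_def G).mp hsol
    let p : ℕ → Prop := fun i => derivedSeries G i ⊓ X ≤ B
    have hpk : p k := by
      show derivedSeries G k ⊓ X ≤ B
      rw [hk]; simp
    have hex : ∃ i, p i := ⟨k, hpk⟩
    have hp0 : ¬ p 0 := by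
      intro h0
      apply hcon
      have : derivedSeries G 0 ⊓ X ≤ B := h0
      rw [derivedSeries_zero, top_inf_eq] at this
      exact this
    have hfind_ne : Nat.find hex ≠ 0 := by
      intro h0
      exact hp0 (h0 ▸ Nat.find_spec hex)
    obtain ⟨j, hj⟩ := Nat.exists_eq_succ_of_ne_zero hfind_ne
    have hpj1 : p (j + 1) := by
      have := Nat.find_spec hex
      rwa [hj] at this
    have hpj : ¬ p j := Nat.find_min hex (by omega)
    set D := derivedSeries G j with hD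
    have hDn : D.Normal := derivedSeries_normal G j
    let Y : Subgroup G := (D ⊓ X) ⊔ B
    have hDXn : (D ⊓ X).Normal := inferInstance
    have hYn : Y.Normal := inferInstance
    have hBY : B ≤ Y := le_sup_right
    have hYX : Y ≤ X := sup_le inf_le_right hBX
    have hQY : Q Y := by
      refine ⟨hYn, hAB.trans hBY, hYX.trans hXC, ?_⟩
      intro y₁ hy₁ y₂ hy₂
      have hy₁X := hYX hy₁
      have hy₂X := hYX hy₂
      -- the commutator lies in B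
      have hzB : ⁅y₁, y₂⁆ ∈ B := by
        obtain ⟨d₁, hd₁, b₁, hb₁, rfl⟩ := Subgroup.mem_sup_of_normal_right.mp hy₁
        obtain ⟨d₂, hd₂, b₂, hb₂, rfl⟩ := Subgroup.mem_sup_of_normal_right.mp hy₂
        rw [← QuotientGroup.eq_one_iff (N := B)]
        have e1 : ((b₁ : G) : G ⧸ B) = 1 := (QuotientGroup.eq_one_iff b₁).mpr hb₁
        have e2 : ((b₂ : G) : G ⧸ B) = 1 := (QuotientGroup.eq_one_iff b₂).mpr hb₂
        have hdd : ⁅d₁, d₂⁆ ∈ B := by
          apply hpj1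
          refine ⟨?_, ?_⟩
          · rw [derivedSeries_succ]
            exact Subgroup.commutator_mem_commutator hd₁.1 hd₂.1
          · rw [commutatorElement_def]
            exact X.mul_mem (X.mul_mem (X.mul_mem hd₁.2 hd₂.2) (X.inv_mem hd₁.2)) (X.inv_mem hd₂.2)
        have e3 : ((⁅d₁, d₂⁆ : G) : G ⧸ B) = 1 := (QuotientGroup.eq_one_iff _).mpr hdd
        have : ((⁅d₁ * b₁, d₂ * b₂⁆ : G) : G ⧸ B) = ((⁅d₁, d₂⁆ : G) : G ⧸ B) := by
          simp only [commutatorElement_def, QuotientGroup.mk_mul, QuotientGroup.mk_inv, e1, e2,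
            mul_one]
        rw [this, e3]
      -- and centralises B
      refine hZ _ hzB ?_
      have key : ∀ b ∈ B, y₁ * (y₂ * b * y₂⁻¹) * y₁⁻¹ = y₂ * (y₁ * b * y₁⁻¹) * y₂⁻¹ := by
        intro b hb
        have ha₁ : ⁅y₁, b⁆ ∈ A := hy₁X.2 b hb
        have ha₂ : ⁅y₂, b⁆ ∈ A := hy₂X.2 b hb
        have hc₁ : ∀ a ∈ A, y₁ * a * y₁⁻¹ = a := by
          intro a ha
          have := hy₁X.1
          rw [hC, Subgroup.mem_centralizer_iff] at this
          rw [← this a ha]; group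
        have hc₂ : ∀ a ∈ A, y₂ * a * y₂⁻¹ = a := by
          intro a ha
          have := hy₂X.1
          rw [hC, Subgroup.mem_centralizer_iff] at this
          rw [← this a ha]; group
        calc y₁ * (y₂ * b * y₂⁻¹) * y₁⁻¹ = y₁ * (⁅y₂, b⁆ * b) * y₁⁻¹ := by
              rw [conj_eq_comm_mul y₂ b]
          _ = (y₁ * ⁅y₂, b⁆ * y₁⁻¹) * (y₁ * b * y₁⁻¹) := by group
          _ = ⁅y₂, b⁆ * (⁅y₁, b⁆ * b) := by rw [hc₁ _ ha₂, conj_eq_comm_mul y₁ b]
          _ = ⁅y₁, b⁆ * (⁅y₂, b⁆ * b) := by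
              rw [← mul_assoc, ← mul_assoc, hAc _ ha₂ _ ha₁]
          _ = (y₂ * ⁅y₁, b⁆ * y₂⁻¹) * (y₂ * b * y₂⁻¹) := by
              rw [hc₂ _ ha₁, conj_eq_comm_mul y₂ b]
          _ = y₂ * (⁅y₁, b⁆ * b) * y₂⁻¹ := by group
          _ = y₂ * (y₁ * b * y₁⁻¹) * y₂⁻¹ := by rw [conj_eq_comm_mul y₁ b]
      intro b hb
      have hb' : (y₂ * y₁)⁻¹ * b * (y₂ * y₁)⁻¹⁻¹ ∈ B := hBn.conj_mem _ hb _
      have h1 := key _ hb'
      have h2 : y₂ * (y₁ * ((y₂ * y₁)⁻¹ * b * (y₂ * y₁)⁻¹⁻¹) * y₁⁻¹) * y₂⁻¹ = b := by group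
      rw [h2] at h1
      -- h1 : y₁ * (y₂ * b' * y₂⁻¹) * y₁⁻¹ = b
      have h3 : ⁅y₁, y₂⁆ * b * (⁅y₁, y₂⁆)⁻¹ = b := by
        refine Eq.trans ?_ h1
        simp only [commutatorElement_def]; group
      calc ⁅y₁, y₂⁆ * b = (⁅y₁, y₂⁆ * b * (⁅y₁, y₂⁆)⁻¹) * ⁅y₁, y₂⁆ := by group
        _ = b * ⁅y₁, y₂⁆ := by rw [h3]
    have hYB : Y ≤ B := hBmax.le_of_ge hQY hBY
    exact hpj (le_sup_left.trans hYB)
  -- final case distinction
  by_cases hgA : g ∈ A
  · exact ⟨1, 1, Or.inl hgA⟩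
  by_cases hgB : g ∈ B
  · have : ∃ b ∈ B, g * b ≠ b * g := by
      by_contra hcon
      push Not at hcon
      exact hgA (hZ g hgB hcon)
    obtain ⟨b, hb, hne⟩ := this
    exact ⟨b, 1, Or.inr (Or.inl ⟨comm_ne_one_of_not_commute hne, hBB g hgB b hb⟩)⟩
  · have hgX : g ∉ X := fun h => hgB (hXB h)
    rw [hXmem] at hgX
    push Not at hgX
    obtain ⟨b, hb, hnA⟩ := hgX hgC
    have hg₁B : ⁅g, b⁆ ∈ B := comm_mem_of_mem_right B g hb
    have : ∃ b₂ ∈ B, ⁅g, b⁆ * b₂ ≠ b₂ * ⁅g, b⁆ := by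
      by_contra hcon
      push Not at hcon
      exact hnA (hZ _ hg₁B hcon)
    obtain ⟨b₂, hb₂, hne⟩ := this
    exact ⟨b, b₂, Or.inr (Or.inr ⟨comm_ne_one_of_not_commute hne, hBB _ hg₁B b₂ hb₂⟩)⟩

end Cfsg.Agent.Lib.Helper97
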