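import Mathlib

set_option autoImplicit false

/-! Two commuting automorphisms `a`, `b` of order dividing `p` of a finite abelian `p'`-group such that
all `a * b ^ j` are fixed-point-free: then `b = 1`. -/

namespace Cfsg.Agent.Lib.Helper97

open scoped BigOperators

section zp

variable {M : Type*} [Monoid M] {p : ℕ}

/-- `x ^ z` for `z : ZMod p` -/
def zp (x : M) (z : ZMod p) : M := x ^ z.val

theorem zp_add [NeZero p] {x : M} (hx : x ^ p = 1) (m n : ZMod p) :
    zp x (m + n) = zp x m * zp x n := by
  unfold zp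
  rw [ZMod.val_add, ← pow_add, ← pow_eq_pow_mod _ hx]

theorem zp_mul [NeZero p] {x : M} (hx : x ^ p = 1) (m n : ZMod p) :
    zp x (m * n) = (zp x m) ^ n.val := by
  unfold zp
  rw [ZMod.val_mul, ← pow_mul, ← pow_eq_pow_mod _ hx]

theorem zp_zero (x : M) [NeZero p] : zp x (0 : ZMod p) = 1 := by
  unfold zp
  rw [ZMod.val_zero, pow_zero]

theorem zp_one (x : M) [Fact (1 < p)] : zp x (1 : ZMod p) = x := by
  unfold zp
  rw [ZMod.val_one, pow_one]

end zp

theorem fpf_pair_trivial {V : Type*} [CommGroup V] [Finite V] {p : ℕ} [hp : Fact p.Prime]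
    (hV : (Nat.card V).Coprime p) (a b : MulAut V) (hab : Commute a b) (ha : a ^ p = 1)
    (hb : b ^ p = 1) (hfpf : ∀ j : ℕ, ∀ v : V, (a * b ^ j) v = v → v = 1) :
    ∀ v : V, b v = v := by
  classical
  have : NeZero p := ⟨hp.out.ne_zero⟩
  have : Fact (1 < p) := ⟨hp.out.one_lt⟩
  have hcz : ∀ m n : ZMod p, Commute (zp a m) (zp b n) := fun m n => by
    unfold zp; exact hab.pow_pow _ _
  -- norm along `a * b ^ c`
  have hT : ∀ (c : ZMod p) (v : V), ∏ k : ZMod p, (zp a k * zp b (c * k)) v = 1 := by
    intro c v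
    apply hfpf c.val
    rw [map_prod]
    have h1 : ∀ k : ZMod p, (a * b ^ c.val) ((zp a k * zp b (c * k)) v)
        = (zp a (k + 1) * zp b (c * (k + 1))) v := by
      intro k
      have e : a * b ^ c.val * (zp a k * zp b (c * k)) = zp a (k + 1) * zp b (c * (k + 1)) := by
        rw [mul_add, mul_one, zp_add ha, zp_add hb, zp_one]
        have hbc : b ^ c.val = zp b c := rfl
        rw [hbc]
        have h2 : Commute (zp b c) (zp a k) := (hcz k c).symm
        have h3 : Commute (zp b c) (zp b (c * k)) := by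
          unfold zp; exact (Commute.refl b).pow_pow _ _
        calc a * zp b c * (zp a k * zp b (c * k))
            = a * (zp b c * zp a k) * zp b (c * k) := by simp only [mul_assoc]
          _ = a * (zp a k * zp b c) * zp b (c * k) := by rw [h2.eq]
          _ = (a * zp a k) * (zp b c * zp b (c * k)) := by simp only [mul_assoc]
          _ = (zp a k * a) * (zp b (c * k) * zp b c) := by
            rw [h3.eq]
            have : Commute a (zp a k) := by unfold zp; exact (Commute.refl a).pow_right _
            rw [this.eq]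
      rw [← e]; rfl
    rw [Finset.prod_congr rfl (fun k _ => h1 k)]
    exact Fintype.prod_equiv (Equiv.addRight (1 : ZMod p)) _ _ (fun k => rfl)
  -- norm along `a`
  have hA : ∀ w : V, ∏ k : ZMod p, (zp a k) w = 1 := by
    intro w
    have := hT 0 w
    simpa [zp_zero] using this
  intro v
  set w := ∏ c : ZMod p, (zp b c) v with hw
  have hbw : b w = w := by
    rw [hw, map_prod]
    have h1 : ∀ c : ZMod p, b ((zp b c) v) = (zp b (c + 1)) v := by
      intro c
      rw [zp_add hb, zp_one]
      have : Commute (zp b c) b := by unfold zp; exact (Commute.refl b).pow_left _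
      rw [this.eq]; rfl
    rw [Finset.prod_congr rfl (fun k _ => h1 k)]
    exact Fintype.prod_equiv (Equiv.addRight (1 : ZMod p)) _ _ (fun k => rfl)
  -- the double product
  have hdouble : ∏ c : ZMod p, ∏ k : ZMod p, (zp a k * zp b (c * k)) v = 1 :=
    Finset.prod_eq_one (fun c _ => hT c v)
  rw [Finset.prod_comm] at hdouble
  have hk : ∀ k : ZMod p, ∏ c : ZMod p, (zp a k * zp b (c * k)) v
      = if k = 0 then v ^ p else (zp a k) w := by
    intro k
    split_ifs with h0
    · subst h0
      simp only [mul_zero, zp_zero, mul_one, MulAut.one_apply, Finset.prod_const, Finset.card_univ,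
        ZMod.card]
    · have h1 : ∀ c : ZMod p, (zp a k * zp b (c * k)) v = (zp a k) ((zp b (c * k)) v) :=
        fun c => rfl
      rw [Finset.prod_congr rfl (fun c _ => h1 c), ← map_prod, hw]
      congr 1
      exact Fintype.prod_equiv (Equiv.mulRight₀ k h0) _ _ (fun c => rfl)
  rw [Finset.prod_congr rfl (fun k _ => hk k)] at hdouble
  rw [← Finset.mul_prod_erase Finset.univ _ (Finset.mem_univ (0 : ZMod p))] at hdouble
  simp only [if_true] at hdouble
  have herase : ∏ k ∈ Finset.univ.erase (0 : ZMod p), (if k = 0 then v ^ p else (zp a k) w)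
      = ∏ k ∈ Finset.univ.erase (0 : ZMod p), (zp a k) w := by
    apply Finset.prod_congr rfl
    intro k hk0
    rw [if_neg (Finset.ne_of_mem_erase hk0)]
  rw [herase] at hdouble
  have hAw := hA w
  rw [← Finset.mul_prod_erase Finset.univ _ (Finset.mem_univ (0 : ZMod p)), zp_zero,
    MulAut.one_apply] at hAw
  have hvw : v ^ p = w := by
    have h1 : ∏ k ∈ Finset.univ.erase (0 : ZMod p), (zp a k) w = w⁻¹ :=
      eq_inv_of_mul_eq_one_right hAw
    rw [h1] at hdouble
    exact mul_inv_eq_one.mp hdouble
  have hbv : (b v) ^ p = v ^ p := by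
    rw [← map_pow, hvw, hbw]
  have hu : (b v * v⁻¹) ^ p = 1 := by
    rw [mul_pow, inv_pow, hbv, mul_inv_cancel]
  have h1 : orderOf (b v * v⁻¹) ∣ p := orderOf_dvd_of_pow_eq_one hu
  have h2 : orderOf (b v * v⁻¹) ∣ Nat.card V := orderOf_dvd_natCard _
  have h3 : orderOf (b v * v⁻¹) = 1 := Nat.eq_one_of_dvd_coprimes hV h2 h1
  rw [orderOf_eq_one_iff] at h3
  exact mul_inv_eq_one.mp h3

end Cfsg.Agent.Lib.Helper97
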