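import Mathlib
import Cfsg.Prelude.Def_Transfer
import Cfsg.Prelude.Def_Solvable
import Cfsg.Agent.Lib.Helper97.HpLemmaZ
import Cfsg.Agent.Lib.Helper97.ThompsonPN
import Cfsg.Agent.Lib.Helper97.OddPGroup
import Cfsg.Agent.Lib.Helper04.ThompsonNorm

set_option autoImplicit false
set_option linter.unusedSectionVars false
set_option linter.unusedVariables false

/-! `H_p`-pairs: a normal subgroup `G` of index `p` in `Γ` such that every element of `Γ` outside `G`
has order `p` (Hughes--Thompson, Kegel). Basic lemmas. -/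

namespace Cfsg.Agent.Lib.Helper97

open scoped IsMulCommutative

structure HpPair {Γ : Type*} [Group Γ] (p : ℕ) (G : Subgroup Γ) : Prop where
  normal : G.Normal
  index : G.index = p
  pow : ∀ g : Γ, g ∉ G → g ^ p = 1

/-- if `x ^ p = 1` and `p ∤ i` then `x` is a power of `x ^ i` -/
theorem exists_pow_pow_eq {Γ : Type*} [Group Γ] {p : ℕ} [hp : Fact p.Prime] {x : Γ}
    (hx : x ^ p = 1) {i : ℕ} (hi : ¬ p ∣ i) : ∃ m : ℕ, (x ^ i) ^ m = x := by
  have hcop : Nat.Coprime i p := ((Nat.Prime.coprime_iff_not_dvd hp.out).mpr hi).symm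
  obtain ⟨m, -, hm⟩ := Nat.exists_mul_mod_eq_one_of_coprime hcop hp.out.one_lt
  refine ⟨m, ?_⟩
  rw [← pow_mul, pow_eq_pow_mod _ hx, hm, pow_one]

section basics

variable {Γ : Type*} [Group Γ] {p : ℕ} [hp : Fact p.Prime] {G : Subgroup Γ}

theorem HpPair.ne_top (h : HpPair p G) : G ≠ ⊤ := by
  intro h'
  have := h.index
  rw [h', Subgroup.index_top] at this
  exact hp.out.one_lt.ne this

theorem HpPair.exists_not_mem (h : HpPair p G) : ∃ x : Γ, x ∉ G := by
  by_contra hcon
  push Not at hcon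
  exact h.ne_top (eq_top_iff.mpr (fun x _ => hcon x))

theorem HpPair.orderOf_eq (h : HpPair p G) {x : Γ} (hx : x ∉ G) : orderOf x = p :=
  orderOf_eq_prime (h.pow x hx) (fun h1 => hx (h1 ▸ G.one_mem))

/-- an element outside `G` commutes with no nontrivial `p'`-element of `G` -/
theorem HpPair.eq_one_of_commute (h : HpPair p G) {x v : Γ} (hx : x ∉ G) (hv : v ∈ G)
    (hc : x * v = v * x) (hvo : (orderOf v).Coprime p) : v = 1 := by
  have hxv : x * v ∉ G := fun h' => hx (by
    have := G.mul_mem h' (G.inv_mem hv)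
    simpa using this)
  have h1 := h.pow _ hxv
  have h2 := h.pow _ hx
  rw [(show Commute x v from hc).mul_pow, h2, one_mul] at h1
  have h3 := orderOf_dvd_of_pow_eq_one h1
  have h4 : orderOf v = 1 := Nat.eq_one_of_dvd_coprimes hvo (dvd_refl _) h3
  exact orderOf_eq_one_iff.mp h4

/-- elements of order prime to `p` lie in `G` -/
theorem HpPair.mem_of_coprime (h : HpPair p G) {g : Γ} (hg : (orderOf g).Coprime p) : g ∈ G := by
  by_contra hgG
  have h1 := orderOf_dvd_of_pow_eq_one (h.pow g hgG)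
  have h4 : orderOf g = 1 := Nat.eq_one_of_dvd_coprimes hg (dvd_refl _) h1
  rw [orderOf_eq_one_iff] at h4
  exact hgG (h4 ▸ G.one_mem)

theorem HpPair.sylow_le (h : HpPair p G) {q : ℕ} [hq : Fact q.Prime] (hqp : q ≠ p)
    (S : Sylow q Γ) : (S : Subgroup Γ) ≤ G := by
  intro s hs
  apply h.mem_of_coprime
  obtain ⟨k, hk⟩ := (IsPGroup.iff_orderOf.mp S.2) ⟨s, hs⟩
  rw [Subgroup.orderOf_mk] at hk
  rw [hk]
  exact Nat.Coprime.pow_left k ((Nat.coprime_primes hq.out hp.out).mpr hqp)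

/-- nontrivial powers of an element outside `G` are outside `G` -/
theorem HpPair.zpowers_not_mem (h : HpPair p G) {x : Γ} (hx : x ∉ G) {y : Γ}
    (hy : y ∈ Subgroup.zpowers x) (hy1 : y ≠ 1) : y ∉ G := by
  intro hyG
  have hfin : IsOfFinOrder x := isOfFinOrder_iff_pow_eq_one.mpr ⟨p, hp.out.pos, h.pow x hx⟩
  obtain ⟨i, rfl⟩ := (Submonoid.mem_powers_iff _ _).mp
    ((hfin.mem_powers_iff_mem_zpowers).mpr hy)
  have hi : ¬ p ∣ i := by
    intro hdvd
    obtain ⟨j, rfl⟩ := hdvd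
    apply hy1
    rw [pow_mul, h.pow x hx, one_pow]
  obtain ⟨m, hm⟩ := exists_pow_pow_eq (h.pow x hx) hi
  exact hx (hm ▸ G.pow_mem hyG m)

theorem HpPair.exists_normalizer_not_mem [Finite Γ] (h : HpPair p G) {q : ℕ} [Fact q.Prime]
    (hqp : q ≠ p) (S : Sylow q Γ) :
    ∃ x ∈ Subgroup.normalizer ((S : Subgroup Γ) : Set Γ), x ∉ G := by
  have hSG := h.sylow_le hqp S
  have := h.normal
  have h1 := Sylow.normalizer_sup_eq_top (S.subtype hSG)
  rw [Sylow.coe_subtype, Subgroup.map_subgroupOf_eq_of_le hSG] at h1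
  by_contra hcon
  push Not at hcon
  have h2 : Subgroup.normalizer ((S : Subgroup Γ) : Set Γ) ≤ G := fun x hx => hcon x hx
  rw [sup_eq_right.mpr h2] at h1
  exact h.ne_top h1

theorem HpPair.sup_eq_top (h : HpPair p G) (Γ' : Subgroup Γ) {x : Γ} (hx : x ∈ Γ')
    (hxG : x ∉ G) : Γ' ⊔ G = ⊤ := by
  have hle : G ≤ Γ' ⊔ G := le_sup_right
  have h1 := Subgroup.relIndex_mul_index hle
  rw [h.index] at h1
  have h2 : (Γ' ⊔ G).index ∣ p := Dvd.intro_left _ h1
  rcases (Nat.dvd_prime hp.out).mp h2 with h3 | h3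
  · exact Subgroup.index_eq_one.mp h3
  · exfalso
    rw [h3] at h1
    have h4 : G.relIndex (Γ' ⊔ G) = 1 := by
      have : G.relIndex (Γ' ⊔ G) * p = 1 * p := by rw [h1, one_mul]
      exact Nat.eq_of_mul_eq_mul_right hp.out.pos this
    rw [Subgroup.relIndex_eq_one] at h4
    exact hxG (h4 (Subgroup.mem_sup_left hx))

theorem HpPair.subgroupOf (h : HpPair p G) (Γ' : Subgroup Γ) {x : Γ} (hx : x ∈ Γ')
    (hxG : x ∉ G) : HpPair p (G.subgroupOf Γ') := by
  have := h.normal
  refine ⟨inferInstance, ?_, ?_⟩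
  · show G.relIndex Γ' = p
    rw [← Subgroup.relIndex_sup_right Γ' G, h.sup_eq_top Γ' hx hxG, Subgroup.relIndex_top_right,
      h.index]
  · rintro ⟨g, hg⟩ hgG
    have : g ∉ G := fun h' => hgG (Subgroup.mem_subgroupOf.mpr h')
    exact Subtype.ext (by simpa using h.pow g this)

theorem HpPair.quotient (h : HpPair p G) (N : Subgroup Γ) [N.Normal] (hN : N ≤ G) :
    HpPair p (G.map (QuotientGroup.mk' N)) := by
  have := h.normal
  refine ⟨Subgroup.Normal.map h.normal _ (QuotientGroup.mk'_surjective N), ?_, ?_⟩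
  · rw [Subgroup.index_map_eq G (QuotientGroup.mk'_surjective N)
      (by rw [QuotientGroup.ker_mk']; exact hN), h.index]
  · intro g hg
    obtain ⟨g, rfl⟩ := QuotientGroup.mk'_surjective N g
    have : g ∉ G := fun h' => hg (Subgroup.mem_map_of_mem _ h')
    rw [← map_pow, h.pow g this, map_one]

end basics

/-- A subgroup containing every element of prime power order of `G` contains `G`. -/
theorem le_of_prime_pow_mem {Γ : Type*} [Group Γ] [Finite Γ] (G T : Subgroup Γ)
    (hT : ∀ g ∈ G, ∀ q : ℕ, q.Prime → ∀ k : ℕ, orderOf g = q ^ k → g ∈ T) : G ≤ T := by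
  have key : ∀ (q : ℕ) [Fact q.Prime] (S' : Sylow q G), (S' : Subgroup G) ≤ T.subgroupOf G := by
    intro q _ S' s hs
    rw [Subgroup.mem_subgroupOf]
    obtain ⟨k, hk⟩ := (IsPGroup.iff_orderOf.mp S'.2) ⟨s, hs⟩
    rw [Subgroup.orderOf_mk] at hk
    exact hT s s.2 q Fact.out k (by rw [Subgroup.orderOf_coe]; exact hk)
  have htop : T.subgroupOf G = ⊤ := by
    rw [← Subgroup.index_eq_one]
    by_contra hne
    obtain ⟨q, hq, hdvd⟩ := Nat.exists_prime_and_dvd hne
    have : Fact q.Prime := ⟨hq⟩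
    obtain ⟨S'⟩ := (Sylow.nonempty : Nonempty (Sylow q G))
    have h1 := Subgroup.index_dvd_of_le (key q S')
    exact S'.not_dvd_index (dvd_trans hdvd h1)
  intro g hg
  have : (⟨g, hg⟩ : G) ∈ T.subgroupOf G := by rw [htop]; trivial
  exact Subgroup.mem_subgroupOf.mp this

/-- the product of the conjugates of `v` under the powers of `x` -/
theorem conjNormal_prod_range {Γ : Type*} [Group Γ] (N : Subgroup Γ) [N.Normal]
    [IsMulCommutative N] (x : Γ) (v : N) (k : ℕ) :
    ((∏ i ∈ Finset.range k, MulAut.conjNormal (x ^ i) v : N) : Γ)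
      = ((v : Γ) * x) ^ k * (x ^ k)⁻¹ := by
  induction k with
  | zero => simp
  | succ k ih =>
    rw [Finset.prod_range_succ, Subgroup.coe_mul, ih, MulAut.conjNormal_apply,
      pow_succ ((v : Γ) * x) k, pow_succ x k]
    group

theorem conjNormal_prod_zpowers {Γ : Type*} [Group Γ] (N : Subgroup Γ) [N.Normal]
    [IsMulCommutative N] (x : Γ) [Fintype (Subgroup.zpowers x)] (v : N) (hx : IsOfFinOrder x)
    (hvx : ((v : Γ) * x) ^ orderOf x = 1) :
    ∏ y : Subgroup.zpowers x, MulAut.conjNormal (y : Γ) v = 1 := by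
  rw [← Fintype.prod_equiv (finEquivZPowers hx) (fun i => MulAut.conjNormal (x ^ (i : ℕ)) v)
    (fun y => MulAut.conjNormal (y : Γ) v) (fun i => by rw [finEquivZPowers_apply])]
  rw [Fin.prod_univ_eq_prod_range (fun i => MulAut.conjNormal (x ^ i) v) (orderOf x)]
  apply Subtype.ext
  rw [conjNormal_prod_range, hvx, pow_orderOf_eq_one, inv_one, mul_one, Subgroup.coe_one]

end Cfsg.Agent.Lib.Helper97
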