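import Mathlib
import Cfsg.Agent.Lib.Helper97.HpPair

set_option autoImplicit false
set_option linter.unusedSectionVars false
set_option linter.unusedVariables false

/-! `H_p`-pairs: centralizing lemmas. -/

namespace Cfsg.Agent.Lib.Helper97

open scoped IsMulCommutative

section

variable {Γ : Type*} [Group Γ] [Finite Γ] {p : ℕ} [hp : Fact p.Prime] {G : Subgroup Γ}

/-- A Sylow `q`-subgroup (`q ≠ p`) centralizes every abelian normal `r`-subgroup (`r ≠ q`) inside
`G`. -/
theorem HpPair.sylow_centralizes (h : HpPair p G) {q r : ℕ} [hq : Fact q.Prime] [hr : Fact r.Prime]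
    (hqp : q ≠ p) (hqr : q ≠ r) (S : Sylow q Γ) (N : Subgroup Γ) [N.Normal] [IsMulCommutative N]
    (hNG : N ≤ G) (hNr : IsPGroup r N) :
    ∀ s ∈ (S : Subgroup Γ), ∀ n ∈ N, s * n = n * s := by
  classical
  obtain ⟨x, hxS, hxG⟩ := h.exists_normalizer_not_mem hqp S
  have hxp : x ^ p = 1 := h.pow x hxG
  have hxo : orderOf x = p := h.orderOf_eq hxG
  have hfin : IsOfFinOrder x := isOfFinOrder_iff_pow_eq_one.mpr ⟨p, hp.out.pos, hxp⟩
  have : Fintype (S : Subgroup Γ) := Fintype.ofFinite _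
  have : Fintype (Subgroup.zpowers x) := Fintype.ofFinite _
  have hHN : ∀ h' ∈ Subgroup.zpowers x, ∀ k ∈ (S : Subgroup Γ),
      h' * k * h'⁻¹ ∈ (S : Subgroup Γ) := by
    intro h' hh' k hk
    have hn : h' ∈ Subgroup.normalizer ((S : Subgroup Γ) : Set Γ) :=
      (Subgroup.zpowers_le.mpr hxS) hh'
    exact (Subgroup.mem_normalizer_iff.mp hn k).mp hk
  have hfpf : ∀ k ∈ (S : Subgroup Γ), ∀ h' ∈ Subgroup.zpowers x, h' ≠ 1 →
      k * h' = h' * k → k = 1 := by
    intro k hk h' hh' hne hc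
    have hh'G : h' ∉ G := h.zpowers_not_mem hxG hh' hne
    apply h.eq_one_of_commute hh'G (h.sylow_le hqp S hk) hc.symm
    obtain ⟨j, hj⟩ := (IsPGroup.iff_orderOf.mp S.2) ⟨k, hk⟩
    rw [Subgroup.orderOf_mk] at hj
    rw [hj]
    exact Nat.Coprime.pow_left j ((Nat.coprime_primes hq.out hp.out).mpr hqp)
  have hnorm : ∀ v : N, ∏ h' : Subgroup.zpowers x, (MulAut.conjNormal : Γ →* MulAut N) h' v = 1 := by
    intro v
    apply conjNormal_prod_zpowers N x v hfin
    rw [hxo]
    apply h.pow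
    intro h'
    apply hxG
    have := G.mul_mem (G.inv_mem (hNG v.2)) h'
    simpa using this
  have key := Cfsg.Agent.Lib.Helper04.prod_eq_pow_card (MulAut.conjNormal : Γ →* MulAut N)
    (S : Subgroup Γ) (Subgroup.zpowers x) hHN hfpf hnorm
  intro s hs n hn
  set v : N := ⟨n, hn⟩ with hv
  set m := Fintype.card (S : Subgroup Γ) with hm
  have hfix : (MulAut.conjNormal s : MulAut N) (v ^ m) = v ^ m := by
    rw [← key v, map_prod]
    have h1 : ∀ k : (S : Subgroup Γ), (MulAut.conjNormal s : MulAut N) ((MulAut.conjNormal (k : Γ)) v)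
        = (MulAut.conjNormal (((⟨s, hs⟩ : (S : Subgroup Γ)) * k : (S : Subgroup Γ)) : Γ)) v := by
      intro k
      rw [Subgroup.coe_mul, map_mul]; rfl
    rw [Finset.prod_congr rfl (fun k _ => h1 k)]
    exact Fintype.prod_equiv (Equiv.mulLeft (⟨s, hs⟩ : (S : Subgroup Γ))) _ _ (fun k => rfl)
  set u : N := (MulAut.conjNormal s : MulAut N) v * v⁻¹ with hu
  have hum : u ^ m = 1 := by
    rw [hu, mul_pow, inv_pow, ← map_pow, hfix, mul_inv_cancel]
  have hmq : ∃ j, m = q ^ j := by
    obtain ⟨j, hj⟩ := IsPGroup.iff_card.mp S.2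
    exact ⟨j, by rw [hm, ← Nat.card_eq_fintype_card, hj]⟩
  obtain ⟨j, hj⟩ := hmq
  obtain ⟨i, hi⟩ := (IsPGroup.iff_orderOf.mp hNr) u
  have h1 : orderOf u ∣ q ^ j := hj ▸ orderOf_dvd_of_pow_eq_one hum
  have h2 : orderOf u = 1 := by
    apply Nat.eq_one_of_dvd_coprimes _ h1 (dvd_refl _)
    rw [hi]
    exact Nat.Coprime.pow _ _ ((Nat.coprime_primes hq.out hr.out).mpr hqr)
  rw [orderOf_eq_one_iff] at h2
  have h3 : (MulAut.conjNormal s : MulAut N) v = v := mul_inv_eq_one.mp h2
  have h4 := congrArg Subtype.val h3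
  rw [MulAut.conjNormal_apply] at h4
  calc s * n = s * n * s⁻¹ * s := by group
    _ = n * s := by rw [h4]

/-- The intersection of a Sylow `p`-subgroup with `G` centralizes every abelian normal `r`-subgroup
(`r ≠ p`) inside `G`. -/
theorem HpPair.sylow_p_centralizes (h : HpPair p G) {r : ℕ} [hr : Fact r.Prime]
    (hrp : r ≠ p) (P : Sylow p Γ) (N : Subgroup Γ) [N.Normal] [IsMulCommutative N]
    (hNG : N ≤ G) (hNr : IsPGroup r N) :
    ∀ g ∈ (P : Subgroup Γ), g ∈ G → ∀ n ∈ N, g * n = n * g := by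
  classical
  have hGn := h.normal
  -- an element of `P` outside `G`
  have hPG : ¬ (P : Subgroup Γ) ≤ G := by
    intro hle
    have h1 := Subgroup.index_dvd_of_le hle
    rw [h.index] at h1
    exact P.not_dvd_index h1
  obtain ⟨x, hxP, hxG⟩ := SetLike.not_le_iff_exists.mp hPG
  set ρ : Γ →* MulAut N := MulAut.conjNormal with hρ
  have hcopN : (Nat.card N).Coprime p := by
    obtain ⟨i, hi⟩ := IsPGroup.iff_card.mp hNr
    rw [hi]
    exact Nat.Coprime.pow_left i ((Nat.coprime_primes hr.out hp.out).mpr hrp)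
  -- fixed point freeness
  have hfix : ∀ y : Γ, y ∉ G → ∀ v : N, ρ y v = v → v = 1 := by
    intro y hy v hv
    have h4 := congrArg Subtype.val hv
    rw [hρ, MulAut.conjNormal_apply] at h4
    have hc : y * (v : Γ) = (v : Γ) * y := by
      calc y * (v : Γ) = y * v * y⁻¹ * y := by group
        _ = v * y := by rw [h4]
    have h5 : (v : Γ) = 1 := by
      apply h.eq_one_of_commute hy (hNG v.2) hc
      have h6 : orderOf (v : Γ) ∣ Nat.card N := by
        rw [Subgroup.orderOf_coe]; exact orderOf_dvd_natCard v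
      exact Nat.Coprime.coprime_dvd_left h6 hcopN
    exact Subtype.ext h5
  -- the images
  set A := (P : Subgroup Γ).map ρ with hA
  set A₀ := ((P : Subgroup Γ) ⊓ G).map ρ with hA₀
  have hA₀A : A₀ ≤ A := Subgroup.map_mono inf_le_left
  have hAp : IsPGroup p A := P.2.map ρ
  have hnorm : (A₀.subgroupOf A).Normal := by
    rw [Subgroup.normal_subgroupOf_iff_le_normalizer hA₀A]
    refine le_trans ?_ (Subgroup.le_normalizer_map ρ)
    apply Subgroup.map_mono
    intro g hg
    rw [Subgroup.mem_normalizer_iff]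
    intro y
    constructor
    · intro hy
      exact ⟨(P : Subgroup Γ).mul_mem ((P : Subgroup Γ).mul_mem hg hy.1)
        ((P : Subgroup Γ).inv_mem hg), hGn.conj_mem y hy.2 g⟩
    · intro hy
      have e : y = g⁻¹ * (g * y * g⁻¹) * g⁻¹⁻¹ := by group
      rw [e]
      exact ⟨(P : Subgroup Γ).mul_mem ((P : Subgroup Γ).mul_mem ((P : Subgroup Γ).inv_mem hg) hy.1)
        ((P : Subgroup Γ).inv_mem ((P : Subgroup Γ).inv_mem hg)), hGn.conj_mem _ hy.2 g⁻¹⟩
  have hbot : A₀ = ⊥ := by
    by_contra hne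
    have hne' : A₀.subgroupOf A ≠ ⊥ := by
      intro h0
      apply hne
      rw [Subgroup.subgroupOf_eq_bot] at h0
      rw [eq_bot_iff]
      intro y hy
      exact h0.le_bot ⟨hy, hA₀A hy⟩
    have : Finite A := inferInstance
    obtain ⟨z, hz0, hzc, hzo⟩ := exists_central_orderOf_eq_prime hAp (A₀.subgroupOf A) hne'
    set b : MulAut N := (z : MulAut N) with hb
    have hbo : orderOf b = p := by rw [hb, Subgroup.orderOf_coe]; exact hzo
    have hbp : b ^ p = 1 := by rw [← hbo]; exact pow_orderOf_eq_one b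
    obtain ⟨g, hg, hgb⟩ := Subgroup.mem_map.mp (Subgroup.mem_subgroupOf.mp hz0)
    set a : MulAut N := ρ x with ha
    have haA : a ∈ A := Subgroup.mem_map_of_mem ρ hxP
    have hab : Commute a b := by
      have h1 := Subgroup.mem_center_iff.mp hzc ⟨a, haA⟩
      have h2 := congrArg Subtype.val h1
      exact h2
    have hap : a ^ p = 1 := by rw [ha, ← map_pow, h.pow x hxG, map_one]
    have hfpf : ∀ j : ℕ, ∀ v : N, (a * b ^ j) v = v → v = 1 := by
      intro j v hv
      have e : a * b ^ j = ρ (x * g ^ j) := by rw [map_mul, map_pow, hgb]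
      rw [e] at hv
      apply hfix (x * g ^ j) _ v hv
      intro h'
      apply hxG
      have := G.mul_mem h' (G.inv_mem (G.pow_mem hg.2 j))
      simpa using this
    have htriv := fpf_pair_trivial hcopN a b hab hap hbp hfpf
    have hb1 : b = 1 := by
      ext v
      rw [htriv v]; rfl
    rw [hb1, orderOf_one] at hbo
    exact hp.out.one_lt.ne hbo
  intro g hgP hgG n hn
  have h1 : ρ g ∈ A₀ := Subgroup.mem_map_of_mem ρ ⟨hgP, hgG⟩
  rw [hbot, Subgroup.mem_bot] at h1
  have h2 : ρ g ⟨n, hn⟩ = ⟨n, hn⟩ := by rw [h1]; rfl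
  have h4 := congrArg Subtype.val h2
  rw [hρ, MulAut.conjNormal_apply] at h4
  calc g * n = g * n * g⁻¹ * g := by group
    _ = n * g := by rw [h4]

end

end Cfsg.Agent.Lib.Helper97
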