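import Mathlib
import Cfsg.Agent.Lib.Helper97.HpPair2

set_option autoImplicit false
set_option linter.unusedSectionVars false
set_option linter.unusedVariables false

/-! `H_p`-pairs: the case of an abelian minimal normal subgroup; nilpotent groups have normal
`q`-complements. -/

namespace Cfsg.Agent.Lib.Helper97

open scoped IsMulCommutative
open Cfsg

/-- A finite nilpotent group has a normal `q`-complement for every prime `q`. -/
theorem pn_of_isNilpotent {K : Type*} [Group K] [Finite K] [hK : Group.IsNilpotent K] (q : ℕ)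
    [hq : Fact q.Prime] : HasNormalPComplement q K := by
  classical
  by_cases hdvd : q ∣ Nat.card K
  · obtain ⟨e⟩ := ((Group.isNilpotent_of_finite_tfae (G := K)).out 0 4).mp hK
    have hmem : q ∈ (Nat.card K).primeFactors :=
      Nat.mem_primeFactors.mpr ⟨hq.out, hdvd, Nat.card_pos.ne'⟩
    let pq : (Nat.card K).primeFactors := ⟨q, hmem⟩
    obtain ⟨Q⟩ := (Sylow.nonempty : Nonempty (Sylow q K))
    let ψ : K →* (Q : Subgroup K) :=
      (Pi.evalMonoidHom (fun P : Sylow q K => ((P : Subgroup K) : Type _)) Q).comp
        ((Pi.evalMonoidHom (fun p : (Nat.card K).primeFactors =>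
          ((P : Sylow (p : ℕ) K) → ((P : Subgroup K) : Type _))) pq).comp e.symm.toMonoidHom)
    have hsurj : Function.Surjective ψ := by
      intro y
      refine ⟨e (Pi.mulSingle pq (Pi.mulSingle Q y)), ?_⟩
      show (e.symm (e (Pi.mulSingle pq (Pi.mulSingle Q y)))) pq Q = y
      rw [MulEquiv.symm_apply_apply, Pi.mulSingle_eq_same, Pi.mulSingle_eq_same]
    have hidx : ψ.ker.index = Nat.card (Q : Subgroup K) := by
      rw [Subgroup.index_ker, MonoidHom.range_eq_top.mpr hsurj, Subgroup.card_top]
    obtain ⟨k, hk⟩ := IsPGroup.iff_card.mp Q.2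
    refine pn_iff.mpr ⟨ψ.ker, inferInstance, ?_, k, by rw [hidx, hk]⟩
    have h1 := Subgroup.card_mul_index ψ.ker
    rw [hidx, Sylow.card_eq_multiplicity] at h1
    have h2 : Nat.card ψ.ker = Nat.card K / q ^ (Nat.card K).factorization q :=
      (Nat.div_eq_of_eq_mul_left (pow_pos hq.out.pos _) h1.symm).symm
    rw [h2]
    exact (Nat.coprime_ordCompl hq.out Nat.card_pos.ne').symm
  · exact pn_of_coprime_card ((Nat.Prime.coprime_iff_not_dvd hq.out).mpr hdvd).symm

/-- If `φ` maps `G` onto a nilpotent group with kernel an `r`-group, the Sylow `r`-subgroups of `G`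
are normal. -/
theorem sylow_normal_of_surjective_nilpotent {G K : Type*} [Group G] [Group K] [Finite G]
    (φ : G →* K) (hφ : Function.Surjective φ) [hK : Group.IsNilpotent K] {r : ℕ} [Fact r.Prime]
    (hker : IsPGroup r φ.ker) (R : Sylow r G) : (R : Subgroup G).Normal := by
  have : Finite K := Finite.of_surjective φ hφ
  have h0 : ∀ (p : ℕ), Fact (Nat.Prime p) → ∀ (P : Sylow p K), (P : Subgroup K).Normal :=
    ((Group.isNilpotent_of_finite_tfae (G := K)).out 0 3).mp hK
  have h1 : ((R.mapSurjective hφ : Sylow r K) : Subgroup K).Normal := h0 r inferInstance _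
  rw [Sylow.coe_mapSurjective] at h1
  have h2 := h1.comap φ
  rw [Subgroup.comap_map_eq] at h2
  have h3 : (R : Subgroup G) ⊔ φ.ker = R :=
    R.is_maximal' (IsPGroup.to_sup_of_normal_right R.2 hker) le_sup_left
  rwa [h3] at h2

theorem isNilpotent_of_injective {A B : Type*} [Group A] [Group B] (f : A →* B)
    (hf : Function.Injective f) [Group.IsNilpotent B] : Group.IsNilpotent A :=
  Subgroup.isNilpotent_of_ker_le_center f (by rw [(MonoidHom.ker_eq_bot_iff f).mpr hf]; exact bot_le)

section

variable {Γ : Type*} [Group Γ] [Finite Γ] {p : ℕ} [hp : Fact p.Prime] {G : Subgroup Γ}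

/-- The case of a minimal normal subgroup which is an `r`-group. -/
theorem HpPair.caseA (h : HpPair p G) (N : Subgroup Γ) [hNn : N.Normal] (hNG : N ≤ G)
    (hNbot : N ≠ ⊥)
    (hmin : ∀ M : Subgroup Γ, M.Normal → M ≤ N → M ≠ ⊥ → N ≤ M)
    {r : ℕ} [hr : Fact r.Prime] (hNr : IsPGroup r N)
    (hquot : Group.IsNilpotent (G.map (QuotientGroup.mk' N))) : Group.IsNilpotent G := by
  classical
  have hGn := h.normal
  -- `N` is abelian
  have hNab : N ≤ Subgroup.centralizer (N : Set Γ) := by
    have hnt : Nontrivial N := (Subgroup.nontrivial_iff_ne_bot N).mpr hNbot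
    have hc : Nontrivial (Subgroup.center N) := hNr.center_nontrivial
    obtain ⟨z, hz⟩ := exists_ne (1 : Subgroup.center N)
    have hzN : ((z : N) : Γ) ∈ N ⊓ Subgroup.centralizer (N : Set Γ) := by
      rw [Subgroup.mem_inf]
      refine ⟨(z : N).2, ?_⟩
      rw [Subgroup.mem_centralizer_iff]
      intro n hn
      have := Subgroup.mem_center_iff.mp z.2 ⟨n, hn⟩
      exact congrArg Subtype.val this
    have hne : N ⊓ Subgroup.centralizer (N : Set Γ) ≠ ⊥ := by
      intro h0
      rw [h0, Subgroup.mem_bot] at hzN
      apply hz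
      ext
      exact hzN
    exact le_trans (hmin _ inferInstance inf_le_left hne) inf_le_right
  have : IsMulCommutative N := ⟨⟨fun a b => by
    have := (Subgroup.mem_centralizer_iff.mp (hNab b.2)) a a.2
    exact Subtype.ext this⟩⟩
  -- the quotient map
  set φ : G →* G.map (QuotientGroup.mk' N) := (QuotientGroup.mk' N).subgroupMap G with hφ
  have hφs : Function.Surjective φ := (QuotientGroup.mk' N).subgroupMap_surjective G
  have hkerN : ∀ x : G, x ∈ φ.ker → (x : Γ) ∈ N := by
    intro x hx
    rw [MonoidHom.mem_ker] at hx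
    have h1 := congrArg Subtype.val hx
    rw [hφ, MonoidHom.subgroupMap_apply_coe] at h1
    simpa using h1
  have hker : IsPGroup r φ.ker := by
    intro x
    obtain ⟨k, hk⟩ := hNr ⟨(x : G), hkerN x x.2⟩
    refine ⟨k, ?_⟩
    have h1 := congrArg Subtype.val hk
    apply Subtype.ext
    apply Subtype.ext
    simpa using h1
  have hsyl : ∀ R' : Sylow r G, (R' : Subgroup G).Normal :=
    fun R' => sylow_normal_of_surjective_nilpotent φ hφs hker R'
  -- every element of prime power order of `G` centralizes `N`
  have hcent : G ≤ Subgroup.centralizer (N : Set Γ) := by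
    apply le_of_prime_pow_mem
    intro g hg q hq k hk
    have : Fact q.Prime := ⟨hq⟩
    rw [Subgroup.mem_centralizer_iff]
    have hzq : IsPGroup q (Subgroup.zpowers g) := by
      apply IsPGroup.of_card (n := k)
      rw [Nat.card_zpowers, hk]
    by_cases hqr : q = r
    · subst hqr
      -- a Sylow subgroup of `G` containing `g`
      have hzq' : IsPGroup q (Subgroup.zpowers (⟨g, hg⟩ : G)) := by
        apply IsPGroup.of_card (n := k)
        rw [Nat.card_zpowers, ← hk, ← Subgroup.orderOf_coe]
      obtain ⟨R', hR'⟩ := hzq'.exists_le_sylow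
      have hR'n := hsyl R'
      have hR'c : (R' : Subgroup G).Characteristic := Sylow.characteristic_of_normal R' hR'n
      set R := (R' : Subgroup G).map G.subtype with hR
      have hRn : R.Normal := ConjAct.normal_of_characteristic_of_normal
      have hgR : g ∈ R := ⟨⟨g, hg⟩, hR' (Subgroup.mem_zpowers _), rfl⟩
      have hN' : IsPGroup q (N.subgroupOf G) := by
        intro x
        obtain ⟨j, hj⟩ := hNr ⟨(x : G), x.2⟩
        refine ⟨j, ?_⟩
        have h1 := congrArg Subtype.val hj
        apply Subtype.ext
        apply Subtype.ext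
        simpa using h1
      have hN'R' : N.subgroupOf G ≤ R' := by
        have h3 : (R' : Subgroup G) ⊔ N.subgroupOf G = R' :=
          R'.is_maximal' (IsPGroup.to_sup_of_normal_right R'.2 hN') le_sup_left
        rw [← h3]; exact le_sup_right
      have hNR : N ≤ R := by
        intro n hn
        exact ⟨⟨n, hNG hn⟩, hN'R' (Subgroup.mem_subgroupOf.mpr hn), rfl⟩
      have hRq : IsPGroup q R := R'.2.map G.subtype
      have hNRbot : N.subgroupOf R ≠ ⊥ := by
        intro h0
        rw [Subgroup.subgroupOf_eq_bot] at h0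
        apply hNbot
        rw [eq_bot_iff]
        intro y hy
        exact h0.le_bot ⟨hy, hNR hy⟩
      obtain ⟨z, hzN, hzc, hzo⟩ := exists_central_orderOf_eq_prime hRq (N.subgroupOf R) hNRbot
      have hzmem : (z : Γ) ∈ N ⊓ Subgroup.centralizer (R : Set Γ) := by
        rw [Subgroup.mem_inf]
        refine ⟨Subgroup.mem_subgroupOf.mp hzN, ?_⟩
        rw [Subgroup.mem_centralizer_iff]
        intro y hy
        have := Subgroup.mem_center_iff.mp hzc ⟨y, hy⟩
        exact congrArg Subtype.val this
      have hne : N ⊓ Subgroup.centralizer (R : Set Γ) ≠ ⊥ := by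
        intro h0
        rw [h0, Subgroup.mem_bot] at hzmem
        have h1 : z = 1 := Subtype.ext hzmem
        rw [h1, orderOf_one] at hzo
        exact hr.out.one_lt.ne hzo
      have hNcR : N ≤ Subgroup.centralizer (R : Set Γ) :=
        le_trans (hmin _ inferInstance inf_le_left hne) inf_le_right
      intro n hn
      exact ((Subgroup.mem_centralizer_iff.mp (hNcR hn)) g hgR).symm
    · by_cases hqp : q = p
      · subst hqp
        obtain ⟨P, hP⟩ := hzq.exists_le_sylow
        intro n hn
        exact (h.sylow_p_centralizes (Ne.symm hqr) P N hNG hNr g (hP (Subgroup.mem_zpowers g))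
          hg n hn).symm
      · obtain ⟨S, hS⟩ := hzq.exists_le_sylow
        intro n hn
        exact (h.sylow_centralizes hqp hqr S N hNG hNr g (hS (Subgroup.mem_zpowers g)) n hn).symm
  -- conclusion
  have hkc : φ.ker ≤ Subgroup.center G := by
    intro x hx
    rw [Subgroup.mem_center_iff]
    intro y
    have h1 := (Subgroup.mem_centralizer_iff.mp (hcent y.2)) (x : Γ) (hkerN x hx)
    exact Subtype.ext h1.symm
  exact Subgroup.isNilpotent_of_ker_le_center φ hkc

end

end Cfsg.Agent.Lib.Helper97
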