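import Mathlib
import Cfsg.Agent.Lib.Helper97.HpPair3
import Cfsg.Agent.Lib.Helper04.BurnsidePQ
import Cfsg.Agent.Lib.Helper02.ThompsonJ

set_option autoImplicit false
set_option linter.unusedSectionVars false
set_option linter.unusedVariables false

/-! `H_p`-pairs: the nonabelian minimal normal subgroup case and the main theorem (Kegel), relative to
Thompson's normal `p`-complement theorem. -/

namespace Cfsg.Agent.Lib.Helper97

open scoped IsMulCommutative
open Cfsg

universe u

/-- the "if" direction of Thompson's normal `p`-complement theorem (S0108), as a hypothesis -/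
def ThompsonHyp : Prop :=
  ∀ (G : Type u) [Group G] [Finite G] (q : ℕ) [Fact q.Prime], q ≠ 2 → ∀ Q : Sylow q G,
    HasNormalPComplement q (Subgroup.normalizer (thompsonSubgroupOf q (Q : Subgroup G) : Set G)) →
    HasNormalPComplement q
      (Subgroup.centralizer (((Q : Subgroup G) ⊓ Subgroup.centralizer (Q : Set G)) : Set G)) →
    HasNormalPComplement q G

theorem minimal_normal_nilpotent_contra {Γ : Type*} [Group Γ] [Finite Γ] (N : Subgroup Γ)
    [hNn : N.Normal] (hNbot : N ≠ ⊥)
    (hmin : ∀ M : Subgroup Γ, M.Normal → M ≤ N → M ≠ ⊥ → N ≤ M)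
    (hNnotp : ∀ r : ℕ, r.Prime → ¬ IsPGroup r N) (hnil : Group.IsNilpotent N) : False := by
  have hcard : Nat.card N ≠ 1 := fun h1 => hNbot (Subgroup.card_eq_one.mp h1)
  obtain ⟨r, hr, hdvd⟩ := Nat.exists_prime_and_dvd hcard
  have : Fact r.Prime := ⟨hr⟩
  obtain ⟨R'⟩ := (Sylow.nonempty : Nonempty (Sylow r N))
  have h0 : ∀ (p : ℕ), Fact (Nat.Prime p) → ∀ (P : Sylow p N), (P : Subgroup N).Normal :=
    ((Group.isNilpotent_of_finite_tfae (G := N)).out 0 3).mp hnil
  have hR'n : (R' : Subgroup N).Normal := h0 r inferInstance R'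
  have hR'c : (R' : Subgroup N).Characteristic := Sylow.characteristic_of_normal R' hR'n
  set R := (R' : Subgroup N).map N.subtype with hR
  have hRn : R.Normal := ConjAct.normal_of_characteristic_of_normal
  have hRN : R ≤ N := Subgroup.map_subtype_le _
  have hRbot : R ≠ ⊥ := by
    intro h0
    rw [hR, Subgroup.map_eq_bot_iff_of_injective _ N.subtype_injective] at h0
    exact R'.ne_bot_of_dvd_card hdvd h0
  have hNR := hmin R hRn hRN hRbot
  apply hNnotp r hr
  intro n
  obtain ⟨y, hy, hyn⟩ := hNR n.2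
  obtain ⟨k, hk⟩ := R'.2 ⟨y, hy⟩
  refine ⟨k, ?_⟩
  have hyn' : y = n := Subtype.ext hyn
  subst hyn'
  have := congrArg Subtype.val hk
  simpa using this

section

variable {Γ : Type u} [Group Γ] [Finite Γ] {p : ℕ} [hp : Fact p.Prime] {G : Subgroup Γ}

theorem HpPair.caseB (h : HpPair p G) (hT : ThompsonHyp.{u}) (N : Subgroup Γ) [hNn : N.Normal]
    (hNG : N ≤ G) (hNbot : N ≠ ⊥)
    (hmin : ∀ M : Subgroup Γ, M.Normal → M ≤ N → M ≠ ⊥ → N ≤ M)
    (hNnotp : ∀ r : ℕ, r.Prime → ¬ IsPGroup r N)
    (IHs : ∀ Γ' : Subgroup Γ, Γ' ≠ ⊤ → (∃ x ∈ Γ', x ∉ G) →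
      Group.IsNilpotent (G.subgroupOf Γ')) : False := by
  classical
  have hGn := h.normal
  have hNeqG : N = G := by
    by_contra hne
    obtain ⟨x, hxG⟩ := h.exists_not_mem
    have hΓ' : N ⊔ Subgroup.zpowers x ≠ ⊤ := by
      intro htop
      apply hne
      apply le_antisymm hNG
      intro g hg
      have hg' : g ∈ N ⊔ Subgroup.zpowers x := by rw [htop]; trivial
      obtain ⟨n, hn, y, hy, rfl⟩ := Subgroup.mem_sup_of_normal_left.mp hg'
      have hyG : y ∈ G := by
        have := G.mul_mem (G.inv_mem (hNG hn)) hg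
        simpa using this
      have hy1 : y = 1 := by
        by_contra hy1
        exact h.zpowers_not_mem hxG hy hy1 hyG
      rw [hy1, mul_one]; exact hn
    have hnil := IHs _ hΓ' ⟨x, Subgroup.mem_sup_right (Subgroup.mem_zpowers x), hxG⟩
    have hNΓ' : N ≤ N ⊔ Subgroup.zpowers x := le_sup_left
    let f : N →* G.subgroupOf (N ⊔ Subgroup.zpowers x) :=
      (Subgroup.inclusion hNΓ').codRestrict (G.subgroupOf (N ⊔ Subgroup.zpowers x)) (fun n => by
        rw [Subgroup.mem_subgroupOf]; exact hNG n.2)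
    have hf : Function.Injective f := by
      intro a b hab
      have := congrArg Subtype.val (congrArg Subtype.val hab)
      exact Subtype.ext this
    have : Group.IsNilpotent N := isNilpotent_of_injective f hf
    exact minimal_normal_nilpotent_contra N hNbot hmin hNnotp this
  have hGbot : G ≠ ⊥ := hNeqG ▸ hNbot
  have hminG : ∀ M : Subgroup Γ, M.Normal → M ≤ G → M ≠ ⊥ → G ≤ M := hNeqG ▸ hmin
  have hGnotp : ∀ r : ℕ, r.Prime → ¬ IsPGroup r G := hNeqG ▸ hNnotp
  -- the primes dividing `|G|`
  have hprimes : ∀ q : ℕ, q.Prime → q ∣ Nat.card G → q = p ∨ q = 2 := by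
    intro q hq hdvd
    by_contra hcon
    push Not at hcon
    obtain ⟨hqp, hq2⟩ := hcon
    have : Fact q.Prime := ⟨hq⟩
    obtain ⟨S⟩ := (Sylow.nonempty : Nonempty (Sylow q Γ))
    have hSG := h.sylow_le hqp S
    have hSbot : (S : Subgroup Γ) ≠ ⊥ :=
      S.ne_bot_of_dvd_card (dvd_trans hdvd (Subgroup.card_subgroup_dvd_card G))
    obtain ⟨x, hxS, hxG⟩ := h.exists_normalizer_not_mem hqp S
    have hkill : ∀ M : Subgroup Γ, M.Normal → M ≤ S → M ≠ ⊥ → False := by
      intro M hMn hMS hMbot
      have := hminG M hMn (le_trans hMS hSG) hMbot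
      exact hGnotp q hq (S.2.to_le (le_trans this hMS))
    set S' : Sylow q G := S.subtype hSG with hS'
    have hS'map : (S' : Subgroup G).map G.subtype = S := by
      rw [Sylow.coe_subtype, Subgroup.map_subgroupOf_eq_of_le hSG]
    have hinj : Set.InjOn G.subtype ((S' : Subgroup G) : Set G) :=
      fun a _ b _ hab => Subtype.ext hab
    -- the Thompson subgroup
    set J := thompsonSubgroupOf q (S : Subgroup Γ) with hJ
    have hJmap : (thompsonSubgroupOf q (S' : Subgroup G)).map G.subtype = J := by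
      rw [← Cfsg.Agent.Lib.Helper02.thompsonOf_map G.subtype (S' : Subgroup G) hinj, hS'map]
    have hJS : J ≤ S := Cfsg.Agent.Lib.Helper02.thompsonOf_le _
    have hJbot : J ≠ ⊥ := Cfsg.Agent.Lib.Helper02.thompsonOf_ne_bot S.2 hSbot
    have hxJ : x ∈ Subgroup.normalizer (J : Set Γ) :=
      Cfsg.Agent.Lib.Helper02.normalizer_le_normalizer_thompsonOf _ hxS
    have hΓ₁ : Subgroup.normalizer (J : Set Γ) ≠ ⊤ := by
      intro htop
      exact hkill J (Subgroup.normalizer_eq_top_iff.mp htop) hJS hJbot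
    have hnil₁ := IHs _ hΓ₁ ⟨x, hxJ, hxG⟩
    -- the centre
    set Z := Cfsg.Agent.Lib.Helper02.ZC (S : Subgroup Γ) with hZ
    have hZmap : (Cfsg.Agent.Lib.Helper02.ZC (S' : Subgroup G)).map G.subtype = Z := by
      rw [← Cfsg.Agent.Lib.Helper02.ZC_map G.subtype (S' : Subgroup G) hinj, hS'map]
    have hZS : Z ≤ S := inf_le_left
    have hZbot : Z ≠ ⊥ := Cfsg.Agent.Lib.Helper02.ZC_ne_bot S.2 hSbot
    have hxZ : x ∈ Subgroup.normalizer (Z : Set Γ) :=
      Cfsg.Agent.Lib.Helper02.normalizer_le_normalizer_ZC _ hxS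
    have hΓ₂ : Subgroup.normalizer (Z : Set Γ) ≠ ⊤ := by
      intro htop
      exact hkill Z (Subgroup.normalizer_eq_top_iff.mp htop) hZS hZbot
    have hnil₂ := IHs _ hΓ₂ ⟨x, hxZ, hxG⟩
    -- the two local subgroups
    have H1 : HasNormalPComplement q
        (Subgroup.normalizer (thompsonSubgroupOf q (S' : Subgroup G) : Set G)) := by
      have hmem : ∀ a : Subgroup.normalizer (thompsonSubgroupOf q (S' : Subgroup G) : Set G),
          ((a : G) : Γ) ∈ Subgroup.normalizer (J : Set Γ) := by
        intro a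
        have := Subgroup.le_normalizer_map G.subtype (Subgroup.mem_map_of_mem G.subtype a.2)
        rwa [hJmap] at this
      let f : Subgroup.normalizer (thompsonSubgroupOf q (S' : Subgroup G) : Set G) →*
          G.subgroupOf (Subgroup.normalizer (J : Set Γ)) :=
        { toFun := fun a => ⟨⟨((a : G) : Γ), hmem a⟩, Subgroup.mem_subgroupOf.mpr (a : G).2⟩
          map_one' := rfl
          map_mul' := fun a b => rfl }
      have hf : Function.Injective f := by
        intro a b hab
        have := congrArg Subtype.val (congrArg Subtype.val hab)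
        exact Subtype.ext (Subtype.ext this)
      have := hnil₁
      have : Group.IsNilpotent
          (Subgroup.normalizer (thompsonSubgroupOf q (S' : Subgroup G) : Set G)) :=
        isNilpotent_of_injective f hf
      exact pn_of_isNilpotent q
    have H2 : HasNormalPComplement q (Subgroup.centralizer
        (((S' : Subgroup G) ⊓ Subgroup.centralizer ((S' : Subgroup G) : Set G)) : Set G)) := by
      have hmem : ∀ a : Subgroup.centralizer
          (((S' : Subgroup G) ⊓ Subgroup.centralizer ((S' : Subgroup G) : Set G)) : Set G),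
          ((a : G) : Γ) ∈ Subgroup.normalizer (Z : Set Γ) := by
        intro a
        have ha : (a : G) ∈ Subgroup.normalizer
            ((Cfsg.Agent.Lib.Helper02.ZC (S' : Subgroup G) : Subgroup G) : Set G) :=
          Subgroup.centralizer_le_normalizer _ a.2
        have := Subgroup.le_normalizer_map G.subtype (Subgroup.mem_map_of_mem G.subtype ha)
        rwa [hZmap] at this
      let f : Subgroup.centralizer
          (((S' : Subgroup G) ⊓ Subgroup.centralizer ((S' : Subgroup G) : Set G)) : Set G) →*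
          G.subgroupOf (Subgroup.normalizer (Z : Set Γ)) :=
        { toFun := fun a => ⟨⟨((a : G) : Γ), hmem a⟩, Subgroup.mem_subgroupOf.mpr (a : G).2⟩
          map_one' := rfl
          map_mul' := fun a b => rfl }
      have hf : Function.Injective f := by
        intro a b hab
        have := congrArg Subtype.val (congrArg Subtype.val hab)
        exact Subtype.ext (Subtype.ext this)
      have := hnil₂
      have : Group.IsNilpotent (Subgroup.centralizer
          (((S' : Subgroup G) ⊓ Subgroup.centralizer ((S' : Subgroup G) : Set G)) : Set G)) :=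
        isNilpotent_of_injective f hf
      exact pn_of_isNilpotent q
    have H := hT G q hq2 S' H1 H2
    obtain ⟨K, hKn, hKcop, k, hKidx⟩ := pn_iff.mp H
    have hKtn : (K.map G.subtype).Normal := by
      refine ⟨fun y hy γ => ?_⟩
      obtain ⟨a, haK, rfl⟩ := hy
      have hmemG : γ * (a : Γ) * γ⁻¹ ∈ G := hGn.conj_mem _ a.2 γ
      refine ⟨⟨_, hmemG⟩, ?_, rfl⟩
      apply mem_of_coprime_of_index_pow K hKidx
      have h1 : orderOf (⟨γ * (a : Γ) * γ⁻¹, hmemG⟩ : G) = orderOf a := by
        rw [← Subgroup.orderOf_coe, ← Subgroup.orderOf_coe]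
        show orderOf (γ * (a : Γ) * γ⁻¹) = orderOf (a : Γ)
        have : γ * (a : Γ) * γ⁻¹ = MulAut.conj γ (a : Γ) := by simp
        rw [this]
        exact MulEquiv.orderOf_eq (MulAut.conj γ) (a : Γ)
      rw [h1]
      have h2 : orderOf a ∣ Nat.card K := by
        have := orderOf_dvd_natCard (⟨a, haK⟩ : K)
        rwa [Subgroup.orderOf_mk] at this
      exact Nat.Coprime.coprime_dvd_left h2 hKcop
    by_cases hKbot : K.map G.subtype = ⊥
    · have hK0 : K = ⊥ := (Subgroup.map_eq_bot_iff_of_injective _ G.subtype_injective).mp hKbot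
      rw [hK0, Subgroup.index_bot] at hKidx
      exact hGnotp q hq (IsPGroup.of_card hKidx)
    · have hle := hminG _ hKtn (Subgroup.map_subtype_le K) hKbot
      have hKtop : K = ⊤ := by
        rw [eq_top_iff]
        intro a _
        obtain ⟨b, hb, hba⟩ := hle a.2
        have hba' : b = a := Subtype.ext hba
        exact hba' ▸ hb
      rw [hKtop, Subgroup.card_top] at hKcop
      exact (Nat.Prime.coprime_iff_not_dvd hq).mp hKcop.symm hdvd
  -- `|G| = 2 ^ a * p ^ b`
  have hcardG : ∃ a b : ℕ, Nat.card G = 2 ^ a * p ^ b := by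
    have hn0 : Nat.card G ≠ 0 := Nat.card_pos.ne'
    obtain ⟨a, m, hm, hnm⟩ := Nat.exists_eq_two_pow_mul_odd hn0
    have hm0 : m ≠ 0 := by
      rintro rfl
      simp at hm
    obtain ⟨b, m', hm', hmm'⟩ := Nat.exists_eq_pow_mul_and_not_dvd hm0 p hp.out.ne_one
    have hm'1 : m' = 1 := by
      by_contra hne
      obtain ⟨q, hq, hqd⟩ := Nat.exists_prime_and_dvd hne
      have hqm : q ∣ m := hmm' ▸ Dvd.dvd.mul_left hqd _
      have hqn : q ∣ Nat.card G := hnm ▸ Dvd.dvd.mul_left hqm _
      rcases hprimes q hq hqn with rfl | rfl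
      · exact hm' hqd
      · exact (Nat.not_even_iff_odd.mpr hm) (even_iff_two_dvd.mpr hqm)
    exact ⟨a, b, by rw [hnm, hmm', hm'1, mul_one]⟩
  obtain ⟨a, b, hab⟩ := hcardG
  have hsol : Group.IsSolvable G :=
    Cfsg.Agent.Lib.Helper04.burnside_paqb 2 p a b Nat.prime_two hp.out hab
  have hnt : Nontrivial G := (Subgroup.nontrivial_iff_ne_bot G).mpr hGbot
  have hlt := Group.IsSolvable.commutator_lt_top_of_nontrivial G
  have hDn : ((commutator G).map G.subtype).Normal := ConjAct.normal_of_characteristic_of_normal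
  have hDbot : (commutator G).map G.subtype = ⊥ := by
    by_contra hne
    have hle := hminG _ hDn (Subgroup.map_subtype_le _) hne
    apply hlt.ne
    rw [eq_top_iff]
    intro a _
    obtain ⟨b, hb, hba⟩ := hle a.2
    have hba' : b = a := Subtype.ext hba
    exact hba' ▸ hb
  have hc0 : commutator G = ⊥ :=
    (Subgroup.map_eq_bot_iff_of_injective _ G.subtype_injective).mp hDbot
  have hnil : Group.IsNilpotent G := by
    have hcomm : ∀ a b : G, a * b = b * a := by
      intro a b
      have : a * b * a⁻¹ * b⁻¹ ∈ commutator G :=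
        Subgroup.commutator_mem_commutator (Subgroup.mem_top a) (Subgroup.mem_top b)
      rw [hc0, Subgroup.mem_bot] at this
      calc a * b = (a * b * a⁻¹ * b⁻¹) * (b * a) := by group
        _ = b * a := by rw [this, one_mul]
    rw [Group.isNilpotent_iff]
    refine ⟨1, ?_⟩
    rw [Subgroup.upperCentralSeries_one, eq_top_iff]
    intro a _
    rw [Subgroup.mem_center_iff]
    intro g
    exact hcomm g a
  exact minimal_normal_nilpotent_contra G hGbot hminG hGnotp hnil

end

theorem hpPair_isNilpotent_aux (p : ℕ) [hp : Fact p.Prime] (hT : ThompsonHyp.{u}) :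
    ∀ n : ℕ, ∀ (Γ : Type u) [Group Γ] [Finite Γ] (G : Subgroup Γ), Nat.card Γ = n →
      HpPair p G → Group.IsNilpotent G := by
  intro n
  induction n using Nat.strong_induction_on with
  | _ n ih =>
    intro Γ _ _ G hcard h
    by_cases hG : G = ⊥
    · subst hG
      infer_instance
    have hGn := h.normal
    let Pr : Subgroup Γ → Prop := fun N => N.Normal ∧ N ≤ G ∧ N ≠ ⊥
    have hP0 : Pr G := ⟨hGn, le_refl _, hG⟩
    obtain ⟨N, hNle, hNmin⟩ := Finite.exists_le_minimal hP0
    obtain ⟨hNn, hNG, hNbot⟩ := hNmin.prop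
    have hmin : ∀ M : Subgroup Γ, M.Normal → M ≤ N → M ≠ ⊥ → N ≤ M := by
      intro M hMn hMN hMbot
      exact hNmin.le_of_le ⟨hMn, le_trans hMN hNG, hMbot⟩ hMN
    have IHs : ∀ Γ' : Subgroup Γ, Γ' ≠ ⊤ → (∃ x ∈ Γ', x ∉ G) →
        Group.IsNilpotent (G.subgroupOf Γ') := by
      intro Γ' hne ⟨x, hx, hxG⟩
      have hlt : Nat.card Γ' < n := by
        rw [← hcard]
        have h1 := Subgroup.card_mul_index Γ'
        have h2 : Γ'.index ≠ 1 := fun h' => hne (Subgroup.index_eq_one.mp h')
        have h3 : Γ'.index ≠ 0 := Subgroup.index_ne_zero_of_finite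
        have h4 : 0 < Nat.card Γ' := Nat.card_pos
        have h5 : 2 ≤ Γ'.index := by omega
        nlinarith
      exact ih (Nat.card Γ') hlt Γ' (G.subgroupOf Γ') rfl (h.subgroupOf Γ' hx hxG)
    by_cases hr : ∃ r : ℕ, r.Prime ∧ IsPGroup r N
    · obtain ⟨r, hr, hNr⟩ := hr
      have : Fact r.Prime := ⟨hr⟩
      have hlt : Nat.card (Γ ⧸ N) < n := by
        rw [← hcard]
        have h1 := Subgroup.card_eq_card_quotient_mul_card_subgroup N
        have h2 : Nat.card N ≠ 1 := fun h' => hNbot (Subgroup.card_eq_one.mp h')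
        have h3 : 0 < Nat.card N := Nat.card_pos
        have h4 : 0 < Nat.card (Γ ⧸ N) := Nat.card_pos
        have h5 : 2 ≤ Nat.card N := by omega
        nlinarith
      have IHq := ih (Nat.card (Γ ⧸ N)) hlt (Γ ⧸ N) (G.map (QuotientGroup.mk' N)) rfl
        (h.quotient N hNG)
      exact h.caseA N hNG hNbot hmin hNr IHq
    · push Not at hr
      exact (h.caseB hT N hNG hNbot hmin hr IHs).elim

/-- Kegel's theorem for `H_p`-pairs, relative to Thompson's normal `p`-complement theorem. -/
theorem HpPair.isNilpotent {Γ : Type u} [Group Γ] [Finite Γ] {p : ℕ} [Fact p.Prime]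
    {G : Subgroup Γ} (hT : ThompsonHyp.{u}) (h : HpPair p G) : Group.IsNilpotent G :=
  hpPair_isNilpotent_aux p hT _ Γ G rfl h

end Cfsg.Agent.Lib.Helper97
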