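import Mathlib
import Cfsg.Agent.Lib.Helper97.HpPair4

set_option autoImplicit false
set_option linter.unusedSectionVars false
set_option linter.unusedVariables false

/-! Kegel's theorem: a finite group with a splitting automorphism of prime order is nilpotent
(relative to Thompson's normal `p`-complement theorem), via the semidirect product. -/

namespace Cfsg.Agent.Lib.Helper97

open Cfsg

universe u

/-- uniform version of `exists_pow_pow_eq` -/
theorem exists_pow_pow_eq_unif {Γ : Type*} [Group Γ] {p : ℕ} [hp : Fact p.Prime]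
    {i : ℕ} (hi : ¬ p ∣ i) : ∃ m : ℕ, ∀ x : Γ, x ^ p = 1 → (x ^ i) ^ m = x := by
  have hcop : Nat.Coprime i p := ((Nat.Prime.coprime_iff_not_dvd hp.out).mpr hi).symm
  obtain ⟨m, -, hm⟩ := Nat.exists_mul_mod_eq_one_of_coprime hcop hp.out.one_lt
  refine ⟨m, fun x hx => ?_⟩
  rw [← pow_mul, pow_eq_pow_mod _ hx, hm, pow_one]

section

variable {N A : Type*} [Group N] [Group A] (φ : A →* MulAut N)

theorem semidirect_pow (x : N) (a : A) (k : ℕ) :
    ((⟨x, a⟩ : N ⋊[φ] A) ^ k) =
      ⟨((List.range k).map (fun j : ℕ => ((φ a) ^ j) x)).prod, a ^ k⟩ := by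
  induction k with
  | zero =>
    rw [pow_zero]
    refine SemidirectProduct.ext ?_ ?_
    · simp
    · simp
  | succ k ih =>
    rw [pow_succ, ih, List.range_succ, List.map_append, List.prod_append]
    refine SemidirectProduct.ext ?_ ?_
    · rw [SemidirectProduct.mul_left]
      show _ * (φ (a ^ k)) x = _ * _
      rw [map_pow]
      simp
    · rw [SemidirectProduct.mul_right]
      show a ^ k * a = a ^ (k + 1)
      rw [pow_succ]

end

theorem isNilpotent_of_splitting {G : Type u} [Group G] [Finite G] (hT : ThompsonHyp.{u})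
    (α : MulAut G) (hp : (orderOf α).Prime)
    (hsplit : ∀ x : G, (((List.range (orderOf α)).map (fun i : ℕ => (α ^ i) x)).prod = 1)) :
    Group.IsNilpotent G := by
  classical
  set p := orderOf α with hpdef
  have : Fact p.Prime := ⟨hp⟩
  let A : Subgroup (MulAut G) := Subgroup.zpowers α
  let φ : A →* MulAut G := A.subtype
  let gen : A := ⟨α, Subgroup.mem_zpowers α⟩
  have hfinα : IsOfFinOrder α := orderOf_pos_iff.mp hp.pos
  have hgenp : gen ^ p = 1 := Subtype.ext (pow_orderOf_eq_one α)
  have hAfin : Finite A := by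
    have : Nat.card A = p := Nat.card_zpowers α
    exact Nat.finite_of_card_ne_zero (by rw [this]; exact hp.ne_zero)
  have hΓfin : Finite (G ⋊[φ] A) := Finite.of_equiv _ SemidirectProduct.equivProd.symm
  -- claim 1
  have claim1 : ∀ x : G, ((⟨x, gen⟩ : G ⋊[φ] A) ^ p) = 1 := by
    intro x
    rw [semidirect_pow, hgenp]
    ext
    · exact hsplit x
    · rfl
  -- claim 2
  have claim2 : ∀ i : ℕ, ¬ p ∣ i → ∀ w : G, ((⟨w, gen ^ i⟩ : G ⋊[φ] A) ^ p) = 1 := by
    intro i hi w
    obtain ⟨m, hm⟩ := exists_pow_pow_eq_unif (Γ := G ⋊[φ] A) (p := p) hi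
    let F : G → G := fun x => ((⟨x, gen⟩ : G ⋊[φ] A) ^ i).left
    have hF : ∀ x, ((⟨x, gen⟩ : G ⋊[φ] A) ^ i) = ⟨F x, gen ^ i⟩ := by
      intro x
      ext
      · rfl
      · rw [semidirect_pow]
    have hFinj : Function.Injective F := by
      intro x x' hxx'
      have h1 : ((⟨x, gen⟩ : G ⋊[φ] A) ^ i) = ((⟨x', gen⟩ : G ⋊[φ] A) ^ i) := by
        rw [hF, hF, hxx']
      have h2 := hm _ (claim1 x)
      have h3 := hm _ (claim1 x')
      rw [h1, h3] at h2
      exact (congrArg SemidirectProduct.left h2).symm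
    obtain ⟨x, hx⟩ := Finite.surjective_of_injective hFinj w
    rw [← hx, ← hF, ← pow_mul, mul_comm, pow_mul, claim1, one_pow]
  -- the pair
  have hpair : HpPair p (SemidirectProduct.rightHom : G ⋊[φ] A →* A).ker := by
    refine ⟨inferInstance, ?_, ?_⟩
    · rw [Subgroup.index_ker, MonoidHom.range_eq_top.mpr SemidirectProduct.rightHom_surjective,
        Subgroup.card_top]
      exact Nat.card_zpowers α
    · intro g hg
      have hmem : (g.right : MulAut G) ∈ Subgroup.zpowers α := g.right.2
      rw [← hfinα.mem_powers_iff_mem_zpowers, Submonoid.mem_powers_iff] at hmem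
      obtain ⟨k, hk⟩ := hmem
      have hgk : g.right = gen ^ k := Subtype.ext (by rw [← hk]; rfl)
      have hpk : ¬ p ∣ k := by
        intro hdvd
        apply hg
        rw [MonoidHom.mem_ker]
        show g.right = 1
        obtain ⟨c, rfl⟩ := hdvd
        rw [hgk, pow_mul, hgenp, one_pow]
      have : g = ⟨g.left, gen ^ k⟩ := SemidirectProduct.ext rfl hgk
      rw [this]
      exact claim2 k hpk g.left
  have hnil := hpair.isNilpotent hT
  let f : G →* (SemidirectProduct.rightHom : G ⋊[φ] A →* A).ker :=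
    (SemidirectProduct.inl : G →* G ⋊[φ] A).codRestrict _ (fun n => by
      rw [MonoidHom.mem_ker]; exact SemidirectProduct.rightHom_inl n)
  have hf : Function.Injective f := by
    intro a b hab
    have := congrArg Subtype.val hab
    exact SemidirectProduct.inl_injective this
  exact isNilpotent_of_injective f hf

end Cfsg.Agent.Lib.Helper97
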