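import Mathlib
import Cfsg.Agent.Lib.Helper97.HpPair4

set_option autoImplicit false
set_option linter.unusedSectionVars false
set_option linter.unusedVariables false

/-! The Hughes--Thompson--Kegel theorem: if `G` is not a `p`-group and `H_p(G)` is proper, then
`H_p(G)` is nilpotent of index `p` (relative to Thompson's normal `p`-complement theorem). -/

namespace Cfsg.Agent.Lib.Helper97

open scoped IsMulCommutative
open Cfsg

universe u

theorem hughes_normal {G : Type*} [Group G] (p : ℕ) :
    (Subgroup.closure {g : G | g ^ p ≠ 1}).Normal := by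
  refine ⟨fun n hn g => ?_⟩
  have hle : (Subgroup.closure {g : G | g ^ p ≠ 1}).map (MulAut.conj g).toMonoidHom ≤
      Subgroup.closure {g : G | g ^ p ≠ 1} := by
    rw [MonoidHom.map_closure, Subgroup.closure_le]
    rintro _ ⟨y, hy, rfl⟩
    apply Subgroup.subset_closure
    show (g * y * g⁻¹) ^ p ≠ 1
    rw [conj_pow]
    intro h
    apply hy
    have : y ^ p = g⁻¹ * (g * y ^ p * g⁻¹) * g := by group
    rw [this, h]; group
  exact hle ⟨n, hn, by simp⟩

theorem hughes_pow {G : Type*} [Group G] (p : ℕ) (g : G)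
    (hg : g ∉ Subgroup.closure {g : G | g ^ p ≠ 1}) : g ^ p = 1 := by
  by_contra h
  exact hg (Subgroup.subset_closure h)

section

variable {G : Type u} [Group G] [Finite G] {p : ℕ} [hp : Fact p.Prime]

theorem hpPair_sup_zpowers (H : Subgroup G) [hHn : H.Normal] (hpow : ∀ g : G, g ∉ H → g ^ p = 1)
    {x : G} (hx : x ∉ H) : HpPair p (H.subgroupOf (H ⊔ Subgroup.zpowers x)) := by
  refine ⟨inferInstance, ?_, ?_⟩
  · show H.relIndex (H ⊔ Subgroup.zpowers x) = p
    rw [Subgroup.relIndex_sup_left]
    have h1 : H.relIndex (Subgroup.zpowers x) ∣ Nat.card (Subgroup.zpowers x) :=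
      Subgroup.relIndex_dvd_card _ _
    have hxo : orderOf x = p := orderOf_eq_prime (hpow x hx) (fun h => hx (h ▸ H.one_mem))
    rw [Nat.card_zpowers, hxo] at h1
    rcases (Nat.dvd_prime hp.out).mp h1 with h | h
    · exfalso
      apply hx
      exact (Subgroup.relIndex_eq_one.mp h) (Subgroup.mem_zpowers x)
    · exact h
  · intro g hg
    apply Subtype.ext
    rw [Subgroup.coe_pow]
    apply hpow
    intro h'
    exact hg (Subgroup.mem_subgroupOf.mpr h')

theorem hughes_isNilpotent (hT : ThompsonHyp.{u}) (H : Subgroup G) [hHn : H.Normal] (hH : H ≠ ⊤)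
    (hpow : ∀ g : G, g ∉ H → g ^ p = 1) : Group.IsNilpotent H := by
  have hex : ∃ x : G, x ∉ H := by
    by_contra hcon
    push Not at hcon
    exact hH (eq_top_iff.mpr (fun x _ => hcon x))
  obtain ⟨x, hx⟩ := hex
  have hpair := hpPair_sup_zpowers H hpow hx
  have hnil := hpair.isNilpotent hT
  have hle : H ≤ H ⊔ Subgroup.zpowers x := le_sup_left
  let f : H →* H.subgroupOf (H ⊔ Subgroup.zpowers x) := (Subgroup.subgroupOfEquivOfLe hle).symm
  exact isNilpotent_of_injective f (Subgroup.subgroupOfEquivOfLe hle).symm.injective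

theorem hughes_index (H : Subgroup G) [hHn : H.Normal] (hH : H ≠ ⊤)
    (hpow : ∀ g : G, g ∉ H → g ^ p = 1) (hG : ¬ IsPGroup p G) (hnil : Group.IsNilpotent H) :
    H.index = p := by
  classical
  by_contra hidx
  -- `G ⧸ H` is a `p`-group
  have hQ : IsPGroup p (G ⧸ H) := by
    intro q
    obtain ⟨g, rfl⟩ := QuotientGroup.mk_surjective q
    refine ⟨1, ?_⟩
    rw [pow_one, ← QuotientGroup.mk_pow]
    by_cases hg : g ∈ H
    · exact (QuotientGroup.eq_one_iff _).mpr (H.pow_mem hg p)
    · rw [hpow g hg]; rfl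
  obtain ⟨k, hk⟩ := IsPGroup.iff_card.mp hQ
  have hidxk : H.index = p ^ k := by rw [Subgroup.index_eq_card, hk]
  have hk0 : k ≠ 0 := by
    rintro rfl
    rw [pow_zero] at hidxk
    exact hH (Subgroup.index_eq_one.mp hidxk)
  -- a prime `r ≠ p`
  obtain ⟨r, hr, hrG, hrp⟩ : ∃ r : ℕ, r.Prime ∧ r ∣ Nat.card G ∧ r ≠ p := by
    by_contra hcon
    push Not at hcon
    apply hG
    have := Nat.eq_prime_pow_of_unique_prime_dvd (Nat.card_pos.ne')
      (fun {d} hd hdvd => hcon d hd hdvd)
    exact IsPGroup.of_card this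
  have hrH : r ∣ Nat.card H := by
    have := Subgroup.card_mul_index H
    rw [hidxk] at this
    rw [← this] at hrG
    rcases (Nat.Prime.dvd_mul hr).mp hrG with h | h
    · exact h
    · exact absurd ((Nat.prime_dvd_prime_iff_eq hr hp.out).mp (hr.dvd_of_dvd_pow h)) hrp
  have : Fact r.Prime := ⟨hr⟩
  obtain ⟨R'⟩ := (Sylow.nonempty : Nonempty (Sylow r H))
  have h0 : ∀ (q : ℕ), Fact (Nat.Prime q) → ∀ (Q : Sylow q H), (Q : Subgroup H).Normal :=
    ((Group.isNilpotent_of_finite_tfae (G := H)).out 0 3).mp hnil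
  have hR'n : (R' : Subgroup H).Normal := h0 r inferInstance R'
  have hR'c : (R' : Subgroup H).Characteristic := Sylow.characteristic_of_normal R' hR'n
  set R := (R' : Subgroup H).map H.subtype with hR
  have hRn : R.Normal := ConjAct.normal_of_characteristic_of_normal
  have hRH : R ≤ H := Subgroup.map_subtype_le _
  have hRbot : R ≠ ⊥ := by
    intro h0
    rw [hR, Subgroup.map_eq_bot_iff_of_injective _ H.subtype_injective] at h0
    exact R'.ne_bot_of_dvd_card hrH h0
  have hRr : IsPGroup r R := R'.2.map _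
  -- `V = Z(R)`
  set V := (Subgroup.center R).map R.subtype with hV
  have hVn : V.Normal := ConjAct.normal_of_characteristic_of_normal
  have hVR : V ≤ R := Subgroup.map_subtype_le _
  have hVH : V ≤ H := le_trans hVR hRH
  have hVr : IsPGroup r V := hRr.to_le hVR
  have hVbot : V ≠ ⊥ := by
    intro h0
    rw [hV, Subgroup.map_eq_bot_iff_of_injective _ R.subtype_injective] at h0
    have : Nontrivial R := (Subgroup.nontrivial_iff_ne_bot R).mpr hRbot
    have := hRr.center_nontrivial
    exact (Subgroup.nontrivial_iff_ne_bot _).mp this h0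
  have hVc : IsMulCommutative V := inferInstance
  set ρ : G →* MulAut V := MulAut.conjNormal with hρ
  have hcopV : (Nat.card V).Coprime p := by
    obtain ⟨i, hi⟩ := IsPGroup.iff_card.mp hVr
    rw [hi]
    exact Nat.Coprime.pow_left i ((Nat.coprime_primes hr hp.out).mpr hrp)
  -- fixed point freeness
  have hfix : ∀ y : G, y ∉ H → ∀ v : V, ρ y v = v → v = 1 := by
    intro y hy v hv
    have h4 := congrArg Subtype.val hv
    rw [hρ, MulAut.conjNormal_apply] at h4
    have hc : Commute y (v : G) := by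
      show y * (v : G) = (v : G) * y
      calc y * (v : G) = y * v * y⁻¹ * y := by group
        _ = v * y := by rw [h4]
    have hyv : y * (v : G) ∉ H := fun h' => hy (by
      have := H.mul_mem h' (H.inv_mem (hVH v.2))
      simpa using this)
    have h1 := hpow _ hyv
    rw [hc.mul_pow, hpow y hy, one_mul] at h1
    have h3 := orderOf_dvd_of_pow_eq_one h1
    have h6 : orderOf (v : G) ∣ Nat.card V := by
      rw [Subgroup.orderOf_coe]; exact orderOf_dvd_natCard v
    have h7 : orderOf (v : G) = 1 :=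
      Nat.eq_one_of_dvd_coprimes hcopV h6 h3
    exact Subtype.ext (orderOf_eq_one_iff.mp h7)
  obtain ⟨P⟩ := (Sylow.nonempty : Nonempty (Sylow p G))
  have hPH : ¬ (P : Subgroup G) ≤ H := by
    intro hle
    have h1 := Subgroup.index_dvd_of_le hle
    rw [hidxk] at h1
    exact P.not_dvd_index (dvd_trans (dvd_pow_self p hk0) h1)
  obtain ⟨x0, hx0P, hx0H⟩ := SetLike.not_le_iff_exists.mp hPH
  set A := (P : Subgroup G).map ρ with hA
  have hAp : IsPGroup p A := P.2.map ρ
  have hAne : (⊤ : Subgroup A) ≠ ⊥ := by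
    intro h0
    have h1 : (⟨ρ x0, Subgroup.mem_map_of_mem ρ hx0P⟩ : A) ∈ (⊥ : Subgroup A) := by
      rw [← h0]; trivial
    rw [Subgroup.mem_bot] at h1
    have h2 : ρ x0 = 1 := congrArg Subtype.val h1
    obtain ⟨v, hv1⟩ := (Subgroup.ne_bot_iff_exists_ne_one).mp hVbot
    apply hv1
    apply hfix x0 hx0H
    rw [h2]; rfl
  have : Finite A := inferInstance
  obtain ⟨z, -, hzc, hzo⟩ := exists_central_orderOf_eq_prime hAp (⊤ : Subgroup A) hAne
  set b : MulAut V := (z : MulAut V) with hb
  have hbo : orderOf b = p := by rw [hb, Subgroup.orderOf_coe]; exact hzo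
  have hbp : b ^ p = 1 := by rw [← hbo]; exact pow_orderOf_eq_one b
  obtain ⟨y, hyP, hyb⟩ := Subgroup.mem_map.mp z.2
  -- an element of `P` outside `H ⊔ ⟨y⟩`
  have hx : ∃ x ∈ (P : Subgroup G), x ∉ H ⊔ Subgroup.zpowers y := by
    by_contra hcon
    push Not at hcon
    have hPL : (P : Subgroup G) ≤ H ⊔ Subgroup.zpowers y := hcon
    have hL1 : (H ⊔ Subgroup.zpowers y).index = 1 := by
      have h1 : (H ⊔ Subgroup.zpowers y).index ∣ (P : Subgroup G).index :=
        Subgroup.index_dvd_of_le hPL
      have h2 : (H ⊔ Subgroup.zpowers y).index ∣ H.index := Subgroup.index_dvd_of_le le_sup_left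
      rw [hidxk] at h2
      obtain ⟨m, -, hm⟩ := (Nat.dvd_prime_pow hp.out).mp h2
      rcases m with _ | m
      · simpa using hm
      · exfalso
        apply P.not_dvd_index
        refine dvd_trans ?_ h1
        rw [hm]
        exact dvd_pow_self p (Nat.succ_ne_zero m)
    have hLtop := Subgroup.index_eq_one.mp hL1
    have h3 : H.index = H.relIndex (Subgroup.zpowers y) := by
      rw [← Subgroup.relIndex_top_right H, ← hLtop, Subgroup.relIndex_sup_left]
    have h4 : H.relIndex (Subgroup.zpowers y) ∣ Nat.card (Subgroup.zpowers y) :=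
      Subgroup.relIndex_dvd_card _ _
    by_cases hyH : y ∈ H
    · have h5 : H.relIndex (Subgroup.zpowers y) = 1 :=
        Subgroup.relIndex_eq_one.mpr ((Subgroup.zpowers_le).mpr hyH)
      rw [h5] at h3
      exact hH (Subgroup.index_eq_one.mp h3)
    · have hyo : orderOf y = p := orderOf_eq_prime (hpow y hyH) (fun h => hyH (h ▸ H.one_mem))
      rw [Nat.card_zpowers, hyo, ← h3] at h4
      rcases (Nat.dvd_prime hp.out).mp h4 with h | h
      · exact hH (Subgroup.index_eq_one.mp h)
      · exact hidx h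
  obtain ⟨x, hxP, hxL⟩ := hx
  have hxH : x ∉ H := fun h => hxL (Subgroup.mem_sup_left h)
  set a : MulAut V := ρ x with ha
  have haA : a ∈ A := Subgroup.mem_map_of_mem ρ hxP
  have hab : Commute a b := by
    have h1 := Subgroup.mem_center_iff.mp hzc ⟨a, haA⟩
    have h2 := congrArg Subtype.val h1
    exact h2
  have hap : a ^ p = 1 := by rw [ha, ← map_pow, hpow x hxH, map_one]
  have hfpf : ∀ j : ℕ, ∀ v : V, (a * b ^ j) v = v → v = 1 := by
    intro j v hv
    have e : a * b ^ j = ρ (x * y ^ j) := by rw [map_mul, map_pow, hyb]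
    rw [e] at hv
    apply hfix (x * y ^ j) _ v hv
    intro h'
    apply hxL
    have e2 : x = (x * y ^ j) * (y ^ j)⁻¹ := by group
    rw [e2]
    exact Subgroup.mul_mem_sup h'
      ((Subgroup.zpowers y).inv_mem ((Subgroup.zpowers y).pow_mem (Subgroup.mem_zpowers y) j))
  have htriv := fpf_pair_trivial hcopV a b hab hap hbp hfpf
  have hb1 : b = 1 := by
    ext v
    rw [htriv v]; rfl
  rw [hb1, orderOf_one] at hbo
  exact hp.out.one_lt.ne hbo

theorem hughes_main (hT : ThompsonHyp.{u}) (H : Subgroup G) [hHn : H.Normal] (hH : H ≠ ⊤)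
    (hpow : ∀ g : G, g ∉ H → g ^ p = 1) (hG : ¬ IsPGroup p G) :
    Group.IsNilpotent H ∧ H.index = p :=
  ⟨hughes_isNilpotent hT H hH hpow, hughes_index H hH hpow hG (hughes_isNilpotent hT H hH hpow)⟩

end

end Cfsg.Agent.Lib.Helper97
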