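import Mathlib
import Cfsg.Prelude.Def_Transfer
import Cfsg.Agent.Lib.Helper07.SL2Sylow

/-!
# K-S2861-B: the normalizer of a Sylow `p`-subgroup `U` of `SL₂(q)` (`q` a power of `p`) is proper,
and `U` is its only nontrivial normal elementary abelian `p`-subgroup.
-/

set_option autoImplicit false
open Matrix

namespace Cfsg.Agent.Lib.Helper97.L2861
open Cfsg.Agent.Lib.Helper07
open scoped Pointwise

/-- the statement of K-S2861-B for a subgroup `U` of an arbitrary group -/
def Stmt {G : Type*} [Group G] (p : ℕ) (U : Subgroup G) : Prop :=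
  Subgroup.normalizer (U : Set G) ≠ ⊤ ∧
    ∀ W : Subgroup G, W ≤ Subgroup.normalizer (U : Set G) →
      (∀ b ∈ Subgroup.normalizer (U : Set G), ∀ w ∈ W, b * w * b⁻¹ ∈ W) →
      Cfsg.IsElementaryAbelian p W → W ≠ ⊥ → W = U

section transport
variable {G : Type*} [Group G]

theorem mem_conj_smul {U : Subgroup G} {g x : G} : x ∈ MulAut.conj g • U ↔ g⁻¹ * x * g ∈ U := by
  rw [Subgroup.mem_pointwise_smul_iff_inv_smul_mem, ← map_inv, MulAut.smul_def, MulAut.conj_apply,
    inv_inv]

theorem conj_smul_eq_of_mem_normalizer {H : Subgroup G} {h : G}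
    (hh : h ∈ Subgroup.normalizer (H : Set G)) : MulAut.conj h • H = H := by
  ext x
  rw [mem_conj_smul]
  have h' := Subgroup.inv_mem _ hh
  rw [Subgroup.mem_normalizer_iff] at h'
  rw [h' x, inv_inv]

theorem mem_normalizer_conj_smul {U : Subgroup G} {g x : G} :
    x ∈ Subgroup.normalizer ((MulAut.conj g • U : Subgroup G) : Set G) ↔
      g⁻¹ * x * g ∈ Subgroup.normalizer (U : Set G) := by
  rw [Subgroup.mem_normalizer_iff, Subgroup.mem_normalizer_iff]
  constructor
  · intro h z
    have := h (g * z * g⁻¹)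
    rw [mem_conj_smul, mem_conj_smul] at this
    have e1 : g⁻¹ * (g * z * g⁻¹) * g = z := by group
    have e2 : g⁻¹ * (x * (g * z * g⁻¹) * x⁻¹) * g = g⁻¹ * x * g * z * (g⁻¹ * x * g)⁻¹ := by group
    rw [e1, e2] at this
    exact this
  · intro h y
    have := h (g⁻¹ * y * g)
    rw [mem_conj_smul, mem_conj_smul]
    have e2 : g⁻¹ * (x * y * x⁻¹) * g = g⁻¹ * x * g * (g⁻¹ * y * g) * (g⁻¹ * x * g)⁻¹ := by group
    rw [e2]
    exact this

theorem Stmt.conj {p : ℕ} {U : Subgroup G} (g : G) (h : Stmt p U) : Stmt p (MulAut.conj g • U) := by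
  obtain ⟨h1, h2⟩ := h
  refine ⟨?_, ?_⟩
  · intro htop
    apply h1
    rw [eq_top_iff]
    intro x _
    have : g * x * g⁻¹ ∈ Subgroup.normalizer ((MulAut.conj g • U : Subgroup G) : Set G) := by
      rw [htop]; trivial
    rw [mem_normalizer_conj_smul] at this
    have e : g⁻¹ * (g * x * g⁻¹) * g = x := by group
    rwa [e] at this
  · intro W hWN hWn hWe hW1
    -- W₀ = g⁻¹ W g
    have key := h2 (W.comap (MulAut.conj g).toMonoidHom) ?_ ?_ ?_ ?_
    · ext x
      rw [mem_conj_smul, ← key, Subgroup.mem_comap]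
      simp only [MulEquiv.coe_toMonoidHom, MulAut.conj_apply]
      have e : g * (g⁻¹ * x * g) * g⁻¹ = x := by group
      rw [e]
    · intro y hy
      rw [Subgroup.mem_comap] at hy
      simp only [MulEquiv.coe_toMonoidHom, MulAut.conj_apply] at hy
      have := hWN hy
      rw [mem_normalizer_conj_smul] at this
      have e : g⁻¹ * (g * y * g⁻¹) * g = y := by group
      rwa [e] at this
    · intro b hb w hw
      rw [Subgroup.mem_comap] at hw ⊢
      simp only [MulEquiv.coe_toMonoidHom, MulAut.conj_apply] at hw ⊢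
      have hb' : g * b * g⁻¹ ∈ Subgroup.normalizer ((MulAut.conj g • U : Subgroup G) : Set G) := by
        rw [mem_normalizer_conj_smul]
        have e : g⁻¹ * (g * b * g⁻¹) * g = b := by group
        rwa [e]
      have := hWn _ hb' _ hw
      have e : g * b * g⁻¹ * (g * w * g⁻¹) * (g * b * g⁻¹)⁻¹ = g * (b * w * b⁻¹) * g⁻¹ := by group
      rwa [e] at this
    · obtain ⟨hc, he⟩ := hWe
      refine ⟨⟨⟨?_⟩⟩, ?_⟩
      · rintro ⟨x, hx⟩ ⟨y, hy⟩
        rw [Subgroup.mem_comap] at hx hy
        simp only [MulEquiv.coe_toMonoidHom, MulAut.conj_apply] at hx hy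
        have hxy := hc.is_comm.comm ⟨_, hx⟩ ⟨_, hy⟩
        have hxy' : g * x * g⁻¹ * (g * y * g⁻¹) = g * y * g⁻¹ * (g * x * g⁻¹) :=
          congrArg Subtype.val hxy
        apply Subtype.ext
        show x * y = y * x
        have e1 : x * y = g⁻¹ * (g * x * g⁻¹ * (g * y * g⁻¹)) * g := by group
        have e2 : y * x = g⁻¹ * (g * y * g⁻¹ * (g * x * g⁻¹)) * g := by group
        rw [e1, e2, hxy']
      · intro a ha
        rw [Subgroup.mem_comap] at ha
        simp only [MulEquiv.coe_toMonoidHom, MulAut.conj_apply] at ha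
        have := he _ ha
        rw [conj_pow] at this
        have e : a ^ p = g⁻¹ * (g * a ^ p * g⁻¹) * g := by group
        rw [e, this]; group
    · intro hbot
      apply hW1
      rw [eq_bot_iff]
      intro w hw
      have : g⁻¹ * w * g ∈ W.comap (MulAut.conj g).toMonoidHom := by
        rw [Subgroup.mem_comap]
        simp only [MulEquiv.coe_toMonoidHom, MulAut.conj_apply]
        have e : g * (g⁻¹ * w * g) * g⁻¹ = w := by group
        rwa [e]
      rw [hbot, Subgroup.mem_bot] at this
      rw [Subgroup.mem_bot]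
      have e : w = g * (g⁻¹ * w * g) * g⁻¹ := by group
      rw [e, this]; group

end transport

section base
variable {F : Type*} [Field F]

theorem pow_upper (M : Matrix (Fin 2) (Fin 2) F) (h : M 1 0 = 0) (n : ℕ) :
    (M ^ n) 1 0 = 0 ∧ (M ^ n) 0 0 = (M 0 0) ^ n := by
  induction n with
  | zero => simp
  | succ n ih =>
    rw [pow_succ]
    constructor
    · rw [Matrix.mul_apply, Fin.sum_univ_two, ih.1, h]; ring
    · rw [Matrix.mul_apply, Fin.sum_univ_two, ih.2, h, pow_succ]; ring

/-- the diagonal matrix `diag(l, l⁻¹)` -/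
def dgSL (l : F) (hl : l ≠ 0) : SpecialLinearGroup (Fin 2) F :=
  ⟨!![l, 0; 0, l⁻¹], by simp [det_fin_two, hl]⟩

theorem dgSL_mem_borel (l : F) (hl : l ≠ 0) : dgSL l hl ∈ (borelSL : Subgroup (SpecialLinearGroup (Fin 2) F)) := by
  rw [mem_borelSL]; simp [dgSL]

theorem dgSL_conj (l : F) (hl : l ≠ 0) (x : F) :
    dgSL l hl * upSL x * (dgSL l hl)⁻¹ = upSL (l ^ 2 * x) := by
  have key : dgSL l hl * upSL x = upSL (l ^ 2 * x) * dgSL l hl := by
    apply Subtype.ext
    simp only [Matrix.SpecialLinearGroup.coe_mul, upSL_val]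
    have h10 : (dgSL l hl).val 1 0 = 0 := by simp [dgSL]
    have h11 : (dgSL l hl).val 1 1 ≠ 0 := by simp [dgSL, hl]
    rw [upT_conj h10 h11 x]
    congr 2
    simp [dgSL]
    field_simp
  rw [key, mul_inv_cancel_right]

variable [Fintype F]

theorem normalizer_USL :
    Subgroup.normalizer ((USL : Subgroup (SpecialLinearGroup (Fin 2) F)) :
      Set (SpecialLinearGroup (Fin 2) F)) = borelSL := by
  apply le_antisymm
  · intro h hh
    by_contra hnb
    have key := USL_sup_conj_eq_top hnb
    rw [conj_smul_eq_of_mem_normalizer hh, sup_idem] at key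
    have hc : Nat.card (USL : Subgroup (SpecialLinearGroup (Fin 2) F)) =
        Nat.card (SpecialLinearGroup (Fin 2) F) := by
      rw [key, Subgroup.card_top]
    rw [card_USL, card_SL_two'] at hc
    have h2 : 2 ≤ Fintype.card F := Fintype.one_lt_card
    have h3 : 3 ≤ Fintype.card F ^ 2 - 1 := by
      have : 4 ≤ Fintype.card F ^ 2 := by nlinarith
      omega
    nlinarith
  · exact borelSL_le_normalizer

theorem base (p : ℕ) [Fact p.Prime] [CharP F p] :
    Stmt p (USL : Subgroup (SpecialLinearGroup (Fin 2) F)) := by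
  refine ⟨?_, ?_⟩
  · rw [normalizer_USL]
    intro htop
    have : loSL (1 : F) ∈ (borelSL : Subgroup (SpecialLinearGroup (Fin 2) F)) := by
      rw [htop]; trivial
    rw [mem_borelSL] at this
    simp [loT] at this
  · rw [normalizer_USL]
    intro W hWN hWn hWe hW1
    obtain ⟨-, he⟩ := hWe
    -- (a) W ≤ USL
    have hWU : ∀ w ∈ W, ∃ x : F, upSL x = w := by
      intro w hw
      have h10 : w.val 1 0 = 0 := mem_borelSL.1 (hWN hw)
      have hp := he w hw
      have hp' : (w.val) ^ p = 1 := by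
        have := congrArg Subtype.val hp
        simpa using this
      have h00 : (w.val 0 0) ^ p = 1 := by
        rw [← (pow_upper w.val h10 p).2, hp']; simp
      have ha : w.val 0 0 = 1 := by
        apply frobenius_inj F p
        simp [frobenius_def, h00]
      have hdet : w.val.det = 1 := w.2
      rw [det_fin_two, h10, mul_zero, sub_zero, ha, one_mul] at hdet
      refine ⟨w.val 0 1, ?_⟩
      apply Subtype.ext
      ext i j
      fin_cases i <;> fin_cases j <;> simp [upT, ha, h10, hdet]
    -- nonzero element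
    have hup0 : upSL (0 : F) = 1 := Subtype.ext (by simp [upT_zero])
    have hupadd : ∀ x y : F, upSL (x + y) = upSL x * upSL y := fun x y =>
      Subtype.ext (by simp [upT_add])
    obtain ⟨x₀, hx₀W, hx₀⟩ : ∃ x₀ : F, upSL x₀ ∈ W ∧ x₀ ≠ 0 := by
      obtain ⟨⟨w, hw⟩, hw1⟩ := (Subgroup.ne_bot_iff_exists_ne_one.1 hW1)
      obtain ⟨x, rfl⟩ := hWU w hw
      refine ⟨x, hw, ?_⟩
      rintro rfl
      apply hw1
      exact Subtype.ext hup0
    have hadd : ∀ x y : F, upSL x ∈ W → upSL y ∈ W → upSL (x + y) ∈ W := by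
      intro x y hx hy
      rw [hupadd]; exact W.mul_mem hx hy
    have hneg : ∀ x : F, upSL x ∈ W → upSL (-x) ∈ W := by
      intro x hx
      have : upSL (-x) = (upSL x)⁻¹ := by
        apply eq_inv_of_mul_eq_one_right
        rw [← hupadd, add_neg_cancel, hup0]
      rw [this]; exact W.inv_mem hx
    have hsq : ∀ l x : F, upSL x ∈ W → upSL (l ^ 2 * x) ∈ W := by
      intro l x hx
      by_cases hl : l = 0
      · subst hl
        rw [zero_pow (by norm_num), zero_mul, hup0]; exact W.one_mem
      · rw [← dgSL_conj l hl x]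
        exact hWn _ (dgSL_mem_borel l hl) _ hx
    have hall : ∀ r x : F, upSL x ∈ W → upSL (r * x) ∈ W := by
      intro r x hx
      rcases eq_or_ne p 2 with rfl | hp2
      · obtain ⟨s, hs⟩ := FiniteField.isSquare_of_char_two (ringChar.eq F 2) r
        rw [hs, ← pow_two]
        exact hsq s x hx
      · have h2 : (2 : F) ≠ 0 := by
          intro h
          have h' : ((2 : ℕ) : F) = 0 := by exact_mod_cast h
          rw [CharP.cast_eq_zero_iff F p] at h'
          exact hp2 ((Nat.prime_dvd_prime_iff_eq Fact.out Nat.prime_two).1 h')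
        have e : r * x = ((r + 1) / 2) ^ 2 * x + -(((r - 1) / 2) ^ 2 * x) := by
          field_simp
          ring
        rw [e]
        exact hadd _ _ (hsq _ x hx) (hneg _ (hsq _ x hx))
    apply le_antisymm
    · intro w hw
      exact mem_USL.2 (hWU w hw)
    · intro w hw
      obtain ⟨y, rfl⟩ := mem_USL.1 hw
      have e : y = (y / x₀) * x₀ := by field_simp
      rw [e]
      exact hall _ _ hx₀W

end base

section main
variable {F : Type*} [Field F] [Fintype F]

/-- **K-S2861-B** -/
theorem sl2_normalizer_unique (p : ℕ) [Fact p.Prime]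
    (U : Subgroup (Matrix.SpecialLinearGroup (Fin 2) F)) (hUp : IsPGroup p U)
    (hU : Nat.card U = Fintype.card F) :
    Subgroup.normalizer (U : Set (Matrix.SpecialLinearGroup (Fin 2) F)) ≠ ⊤ ∧
    ∀ W : Subgroup (Matrix.SpecialLinearGroup (Fin 2) F),
      W ≤ Subgroup.normalizer (U : Set (Matrix.SpecialLinearGroup (Fin 2) F)) →
      (∀ b ∈ Subgroup.normalizer (U : Set (Matrix.SpecialLinearGroup (Fin 2) F)), ∀ w ∈ W,
        b * w * b⁻¹ ∈ W) →
      Cfsg.IsElementaryAbelian p W → W ≠ ⊥ → W = U := by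
  have hpp : p.Prime := Fact.out
  -- Step 1: characteristic p
  have hq2 : 2 ≤ Fintype.card F := Fintype.one_lt_card
  have hpq : p ∣ Fintype.card F := by
    obtain ⟨k, hk⟩ := hUp.exists_card_eq
    rw [hU] at hk
    rw [hk]
    rcases Nat.eq_zero_or_pos k with rfl | hkpos
    · rw [hk, pow_zero] at hq2; omega
    · exact dvd_pow_self p hkpos.ne'
  have hchar : CharP F p := by
    obtain ⟨n, hr, hn⟩ := FiniteField.card F (ringChar F)
    rw [hn] at hpq
    have : p = ringChar F := (Nat.prime_dvd_prime_iff_eq hpp hr).1 (hpp.dvd_of_dvd_pow hpq)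
    rw [this]
    exact ringChar.charP F
  -- Step 2: U is conjugate to USL
  obtain ⟨Q, hUQ⟩ := hUp.exists_le_sylow
  obtain ⟨g, rfl⟩ := MulAction.exists_smul_eq (SpecialLinearGroup (Fin 2) F) (sylUSL p) Q
  have hcardQ : Nat.card ((g • sylUSL (F := F) p : Sylow p (SpecialLinearGroup (Fin 2) F)) :
      Subgroup (SpecialLinearGroup (Fin 2) F)) = Fintype.card F := by
    rw [Sylow.coe_subgroup_smul, sylUSL_coe,
      ← Nat.card_congr (Subgroup.equivSMul (MulAut.conj g) USL).toEquiv, card_USL]
  have hUeq : U = MulAut.conj g • (USL : Subgroup (SpecialLinearGroup (Fin 2) F)) := by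
    have := Subgroup.eq_of_le_of_card_ge hUQ (by rw [hcardQ, hU])
    rw [this, Sylow.coe_subgroup_smul, sylUSL_coe]
  rw [hUeq]
  exact (base (F := F) p).conj g

end main

end Cfsg.Agent.Lib.Helper97.L2861
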