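import Mathlib
import Cfsg.Agent.Lib.Helper97.OddPGroup

set_option autoImplicit false

/-! A `p`-group with an element whose centralizer has order at most `p ^ 2` has maximal class. -/

namespace Cfsg.Agent.Lib.Helper97

open scoped commutatorElement

/-- The centralizer of the image of `a` in `X / Z(X)` is no larger than the centralizer of `a`. -/
theorem card_centralizer_quotient_center_le {X : Type*} [Group X] [Finite X] (a : X) :
    Nat.card (Subgroup.centralizer
      {(QuotientGroup.mk' (Subgroup.center X) a : X ⧸ Subgroup.center X)}) ≤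
      Nat.card (Subgroup.centralizer {a}) := by
  classical
  set Z := Subgroup.center X with hZ
  set π := QuotientGroup.mk' Z with hπ
  set Cb := Subgroup.centralizer {π a} with hCb
  set N₁ := Cb.comap π with hN₁
  have hmem : ∀ x, x ∈ N₁ ↔ ⁅x, a⁆ ∈ Z := by
    intro x
    rw [hN₁, Subgroup.mem_comap, hCb, Subgroup.mem_centralizer_singleton_iff,
      ← QuotientGroup.eq_one_iff]
    show _ ↔ π ⁅x, a⁆ = 1
    rw [map_commutatorElement, commutatorElement_eq_one_iff_mul_comm]
  have hcent : ∀ z ∈ Z, ∀ g : X, g * z = z * g := fun z hz g => Subgroup.mem_center_iff.mp hz g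
  let θ : N₁ →* X := MonoidHom.mk' (fun x => ⁅(x : X), a⁆) (by
    intro x y
    simp only [Subgroup.coe_mul]
    have hy := (hmem y).mp y.2
    have hx := (hmem x).mp x.2
    have h1 : ⁅(x : X) * (y : X), a⁆ = (x : X) * ⁅(y : X), a⁆ * (x : X)⁻¹ * ⁅(x : X), a⁆ := by
      simp only [commutatorElement_def]; group
    rw [h1, hcent _ hy (x : X), mul_assoc (⁅(y : X), a⁆), mul_inv_cancel, mul_one]
    exact (hcent _ hy _).symm)
  have hrange : θ.range ≤ Z := by
    rintro _ ⟨x, rfl⟩
    exact (hmem x).mp x.2
  have hker : Nat.card θ.ker ≤ Nat.card (Subgroup.centralizer {a}) := by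
    let f : θ.ker → Subgroup.centralizer {a} := fun x => ⟨x.1.1, by
      rw [Subgroup.mem_centralizer_singleton_iff]
      have h1 : ⁅(x.1 : X), a⁆ = 1 := MonoidHom.mem_ker.mp x.2
      exact commutatorElement_eq_one_iff_mul_comm.mp h1⟩
    apply Nat.card_le_card_of_injective f
    intro x y hxy
    apply Subtype.ext
    apply Subtype.ext
    exact congrArg (fun t : Subgroup.centralizer {a} => (t : X)) hxy
  have h1 : Nat.card θ.ker * Nat.card θ.range = Nat.card N₁ := by
    rw [← Subgroup.index_ker, Subgroup.card_mul_index]
  have h2 : Nat.card N₁ = Nat.card Cb * Nat.card Z := by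
    rw [hN₁, hπ, card_comap_mk']
  have h3 : Nat.card θ.range ≤ Nat.card Z := Subgroup.card_le_of_le hrange
  have hZpos : 0 < Nat.card Z := Nat.card_pos
  have h4 : Nat.card Cb * Nat.card Z ≤ Nat.card (Subgroup.centralizer {a}) * Nat.card Z := by
    rw [← h2, ← h1]
    exact Nat.mul_le_mul hker h3
  exact Nat.le_of_mul_le_mul_right h4 hZpos

universe u

theorem nilpotencyClass_of_small_centralizer_aux (p : ℕ) [hp : Fact p.Prime] :
    ∀ (n : ℕ) (X : Type u) [Group X] [Finite X], Nat.card X = p ^ (n + 2) →
      (∃ a : X, Nat.card (Subgroup.centralizer {a}) ≤ p ^ 2) →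
      Group.nilpotencyClass X = n + 1 := by
  intro n
  induction n with
  | zero =>
    intro X _ _ hX _
    have hXp : IsPGroup p X := IsPGroup.of_card hX
    have : Group.IsNilpotent X := hXp.isNilpotent
    have hcomm : IsMulCommutative X := IsPGroup.isMulCommutative_of_card_eq_prime_sq hX
    have : Nontrivial X := by
      rw [← Finite.one_lt_card_iff_nontrivial, hX]
      exact Nat.one_lt_pow (by omega) hp.out.one_lt
    rw [Group.nilpotencyClass_eq_quotient_center_plus_one]
    have : Subsingleton (X ⧸ Subgroup.center X) := by
      rw [Subgroup.center_eq_top]; exact QuotientGroup.subsingleton_quotient_top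
    rw [Group.nilpotencyClass_zero_iff_subsingleton.mpr this]
  | succ n ih =>
    intro X _ _ hX ⟨a, ha⟩
    have hXp : IsPGroup p X := IsPGroup.of_card hX
    have : Group.IsNilpotent X := hXp.isNilpotent
    have : Nontrivial X := by
      rw [← Finite.one_lt_card_iff_nontrivial, hX]
      exact Nat.one_lt_pow (by omega) hp.out.one_lt
    set Z := Subgroup.center X with hZdef
    have hZle : Z ≤ Subgroup.centralizer {a} := Subgroup.center_le_centralizer _
    have hZnt : Nontrivial Z := hXp.center_nontrivial
    have hZcard : Nat.card Z = p := by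
      obtain ⟨k, hk⟩ := IsPGroup.iff_card.mp (hXp.to_subgroup Z)
      have hk1 : k ≠ 0 := by
        intro h0
        rw [h0, pow_zero] at hk
        exact absurd hk (ne_of_gt Finite.one_lt_card)
      have hk2 : k < 2 := by
        by_contra hcon
        push Not at hcon
        have h1 : p ^ 2 ≤ Nat.card Z := hk ▸ Nat.pow_le_pow_right hp.out.pos hcon
        have h2 : Z = Subgroup.centralizer {a} :=
          Subgroup.eq_of_le_of_card_ge hZle (le_trans ha h1)
        have h3 : a ∈ Z := by
          rw [h2]; exact Subgroup.mem_centralizer_singleton_iff.mpr rfl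
        have h4 : Subgroup.centralizer {a} = ⊤ := by
          rw [eq_top_iff]
          intro x _
          rw [Subgroup.mem_centralizer_singleton_iff]
          exact (Subgroup.mem_center_iff.mp h3 x)
        rw [h4, Subgroup.card_top, hX] at ha
        have := Nat.pow_lt_pow_right hp.out.one_lt (show 2 < n + 1 + 2 by omega)
        omega
      have : k = 1 := by omega
      rw [hk, this, pow_one]
    have hXq : Nat.card (X ⧸ Z) = p ^ (n + 2) := by
      have h1 := Subgroup.card_eq_card_quotient_mul_card_subgroup Z
      rw [hX, hZcard] at h1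
      have h2 : p ^ (n + 1 + 2) = p ^ (n + 2) * p := by ring
      rw [h2] at h1
      exact (Nat.eq_of_mul_eq_mul_right hp.out.pos h1).symm
    have hq := ih (X ⧸ Z) hXq
      ⟨QuotientGroup.mk' Z a, le_trans (card_centralizer_quotient_center_le a) ha⟩
    rw [Group.nilpotencyClass_eq_quotient_center_plus_one, hq]

/-- A `p`-group of order `p ^ n` with a self-centralizing subgroup of order `p ^ 2` has
nilpotency class `n - 1`. -/
theorem nilpotencyClass_of_self_centralizing {X : Type*} [Group X] [Finite X] {p : ℕ}
    [hp : Fact p.Prime] (n : ℕ) (hX : Nat.card X = p ^ n) (A : Subgroup X)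
    (hA : Nat.card A = p ^ 2) (hC : Subgroup.centralizer (A : Set X) = A) :
    Group.nilpotencyClass X = n - 1 := by
  have hXp : IsPGroup p X := IsPGroup.of_card hX
  have h2n : 2 ≤ n := by
    have := Subgroup.card_subgroup_dvd_card A
    rw [hA, hX] at this
    exact (Nat.pow_dvd_pow_iff_le_right hp.out.one_lt).mp this
  obtain ⟨m, rfl⟩ : ∃ m, n = m + 2 := ⟨n - 2, by omega⟩
  have : Nontrivial X := by
    rw [← Finite.one_lt_card_iff_nontrivial, hX]
    exact Nat.one_lt_pow (by omega) hp.out.one_lt
  have hZA : Subgroup.center X ≤ A := by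
    have := Subgroup.center_le_centralizer (A : Set X)
    rwa [hC] at this
  have key : ∃ a : X, Nat.card (Subgroup.centralizer {a}) ≤ p ^ 2 := by
    by_cases hAZ : A ≤ Subgroup.center X
    · have hAtop : A = ⊤ := by
        rw [eq_top_iff]
        intro x _
        have : x ∈ Subgroup.centralizer (A : Set X) := by
          rw [Subgroup.mem_centralizer_iff]
          intro b hb
          exact (Subgroup.mem_center_iff.mp (hAZ hb) x).symm
        rwa [hC] at this
      refine ⟨1, ?_⟩
      calc Nat.card (Subgroup.centralizer {(1 : X)}) ≤ Nat.card X :=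
            Subgroup.card_le_card_group _
        _ = Nat.card A := by rw [hAtop, Subgroup.card_top]
        _ = p ^ 2 := hA
    · obtain ⟨a, haA, haZ⟩ := SetLike.not_le_iff_exists.mp hAZ
      refine ⟨a, ?_⟩
      have hle : Subgroup.centralizer {a} ≤ A := by
        intro x hx
        have hx' : x * a = a * x := Subgroup.mem_centralizer_singleton_iff.mp hx
        set B := A ⊓ Subgroup.centralizer {x} with hB
        have hZB : Subgroup.center X ≤ B :=
          le_inf hZA (Subgroup.center_le_centralizer _)
        have haB : a ∈ B :=
          ⟨haA, Subgroup.mem_centralizer_singleton_iff.mpr hx'.symm⟩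
        have hBA : B = A := by
          apply Subgroup.eq_of_le_of_card_ge inf_le_left
          have hBdvd : Nat.card B ∣ p ^ 2 := hA ▸ Subgroup.card_dvd_of_le inf_le_left
          obtain ⟨k, hk2, hk⟩ := (Nat.dvd_prime_pow hp.out).mp hBdvd
          have hk' : k = 2 := by
            by_contra hne
            have hk1 : k ≤ 1 := by omega
            have hZnt : Nontrivial (Subgroup.center X) := hXp.center_nontrivial
            obtain ⟨j, hj⟩ := IsPGroup.iff_card.mp (hXp.to_subgroup (Subgroup.center X))
            have hj1 : j ≠ 0 := by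
              intro h0
              rw [h0, pow_zero] at hj
              exact absurd hj (ne_of_gt Finite.one_lt_card)
            have h1 : Nat.card B ≤ Nat.card (Subgroup.center X) := by
              rw [hk, hj]
              exact Nat.pow_le_pow_right hp.out.pos (by omega)
            have h2 : Subgroup.center X = B := Subgroup.eq_of_le_of_card_ge hZB h1
            exact haZ (h2 ▸ haB)
          rw [hA, hk, hk']
        have hxc : x ∈ Subgroup.centralizer (A : Set X) := by
          rw [Subgroup.mem_centralizer_iff]
          intro b hb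
          have hbB : b ∈ B := hBA ▸ hb
          exact (Subgroup.mem_centralizer_singleton_iff.mp hbB.2)
        rwa [hC] at hxc
      calc Nat.card (Subgroup.centralizer {a}) ≤ Nat.card A := Subgroup.card_le_of_le hle
        _ = p ^ 2 := hA
  have := nilpotencyClass_of_small_centralizer_aux p m X hX key
  rw [this]
  omega

end Cfsg.Agent.Lib.Helper97
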