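import Mathlib

/-! Pack K-N3 (S4004), leaf C4c `normalizer_zpowers_le` (parallel hand, helper97).
Route: `T = N(<c>) \ <c>` consists of elements of order `r`; for `y` in `T` the norm
`prod_{i<r} y^i v y^-i` is trivial; multiply over `T`, reindex `y -> y^i` (a permutation of `T`)
and use that `c`-invariant products in `V` are trivial: `v ^ |T| = 1`, `|T| = |N| - r'`. -/

set_option autoImplicit false
set_option maxHeartbeats 1000000

namespace Cfsg.Agent.Lib.Helper97.N3

open scoped Classical

theorem normalizer_zpowers_le {G : Type*} [Group G] [Finite G] (r r' : ℕ) (hr : r.Prime) [Fact r'.Prime] (hrr : r ≠ r')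
    (hord : ∀ g : G, orderOf g = 1 ∨ orderOf g = r ∨ orderOf g = r')
    (V : Subgroup G) (hVn : V.Normal) (hV : V ≠ ⊥) (hVr : IsPGroup r V) (hVc : ∀ a ∈ V, ∀ b ∈ V, a * b = b * a)
    (hQ : ∀ Q : Sylow r' G, Nat.card Q = r') (c : G) (hc : orderOf c = r') :
    Subgroup.normalizer ((Subgroup.zpowers c : Subgroup G) : Set G) ≤ Subgroup.zpowers c := by
  have hr' : r'.Prime := Fact.out
  have : Fintype G := Fintype.ofFinite G
  set K : Subgroup G := Subgroup.zpowers c with hK
  set N : Subgroup G := Subgroup.normalizer (K : Set G) with hN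
  have hKN : K ≤ N := Subgroup.le_normalizer
  have hcK : c ∈ K := Subgroup.mem_zpowers c
  have hKcard : Nat.card K = r' := by rw [hK, Nat.card_zpowers, hc]
  -- Step A
  have stepA : ∀ y ∈ N, y ∉ K → orderOf y = r := by
    intro y hyN hyK
    rcases hord y with h1 | h1 | h1
    · exact absurd (by rw [orderOf_eq_one_iff.1 h1]; exact K.one_mem) hyK
    · exact h1
    · exfalso
      have hKp : IsPGroup r' K := IsPGroup.of_card (n := 1) (by rw [hKcard, pow_one])
      have hyp : IsPGroup r' (Subgroup.zpowers y) :=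
        IsPGroup.of_card (n := 1) (by rw [Nat.card_zpowers, h1, pow_one])
      have hle : Subgroup.zpowers y ≤ Subgroup.normalizer (K : Set G) := by
        rw [Subgroup.zpowers_le]; exact hyN
      have hsup := IsPGroup.to_sup_of_normal_right' hyp hKp hle
      obtain ⟨Q, hQle⟩ := hsup.exists_le_sylow
      have hKQ : K ≤ (Q : Subgroup G) := le_trans le_sup_right hQle
      have hKeq : K = (Q : Subgroup G) := Subgroup.eq_of_le_of_card_ge hKQ (by rw [hKcard, hQ Q])
      apply hyK
      rw [hKeq]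
      exact hQle (Subgroup.mem_sup_left (Subgroup.mem_zpowers y))
  -- orders in V
  have hVord : ∀ v ∈ V, v ≠ 1 → orderOf v = r := by
    intro v hv hv1
    obtain ⟨k, hk⟩ := hVr ⟨v, hv⟩
    have hk' : v ^ (r ^ k) = 1 := by
      have := congrArg Subtype.val hk; simpa using this
    have hdvd : orderOf v ∣ r ^ k := orderOf_dvd_of_pow_eq_one hk'
    rcases hord v with h1 | h1 | h1
    · exact absurd (orderOf_eq_one_iff.1 h1) hv1
    · exact h1
    · exfalso
      rw [h1] at hdvd
      have := (Nat.prime_dvd_prime_iff_eq hr' hr).1 (hr'.dvd_of_dvd_pow hdvd)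
      exact hrr this.symm
  -- Step B
  have stepB : ∀ v ∈ V, c * v = v * c → v = 1 := by
    intro v hv hcomm
    by_contra hv1
    have hov := hVord v hv hv1
    have hcop : Nat.Coprime (orderOf c) (orderOf v) := by
      rw [hc, hov]; exact (Nat.coprime_primes hr' hr).2 (Ne.symm hrr)
    have hmul := Commute.orderOf_mul_eq_mul_orderOf_of_coprime (show Commute c v from hcomm) hcop
    rw [hc, hov] at hmul
    have h2 := hr'.two_le
    have h3 := hr.two_le
    rcases hord (c * v) with h1 | h1 | h1 <;> rw [h1] at hmul <;> nlinarith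
  intro x hxN
  by_contra hxK
  obtain ⟨v, hv, hv1⟩ : ∃ v ∈ V, v ≠ 1 := by
    by_contra hcon
    push Not at hcon
    exact hV ((Subgroup.eq_bot_iff_forall V).2 hcon)
  letI cg : CommGroup ↥V :=
    { (inferInstance : Group ↥V) with mul_comm := fun a b => Subtype.ext (hVc a a.2 b b.2) }
  let f : G → ↥V := fun h => ⟨h * v * h⁻¹, hVn.conj_mem v hv h⟩
  have hfval : ∀ h, ((f h : ↥V) : G) = h * v * h⁻¹ := fun h => rfl
  have hcoe_mul : ∀ a b : ↥V, ((a * b : ↥V) : G) = (a : G) * (b : G) := fun a b => rfl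
  have hcoe_one : ((1 : ↥V) : G) = 1 := rfl
  -- conjugating a product
  have conj_prod : ∀ s : Finset G,
      (c * ((∏ h ∈ s, f h : ↥V) : G) * c⁻¹) = ((∏ h ∈ s, f (c * h) : ↥V) : G) := by
    intro s
    induction s using Finset.induction_on with
    | empty => simp [hcoe_one]
    | insert a s ha ih =>
      rw [Finset.prod_insert ha, Finset.prod_insert ha, hcoe_mul, hcoe_mul, ← ih, hfval, hfval]
      group
  have inv_prod : ∀ s : Finset G, (∀ h, c * h ∈ s ↔ h ∈ s) → (∏ h ∈ s, f h : ↥V) = 1 := by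
    intro s hs
    have hbij : (∏ h ∈ s, f (c * h) : ↥V) = ∏ h ∈ s, f h := by
      apply Finset.prod_nbij' (fun h => c * h) (fun h => c⁻¹ * h)
      · intro a ha; exact (hs a).2 ha
      · intro a ha
        apply (hs _).1
        simpa using ha
      · intro a _; simp
      · intro a _; simp
      · intro a _; rfl
    have h1 := conj_prod s
    rw [hbij] at h1
    set P : ↥V := ∏ h ∈ s, f h with hP
    have hPc : c * (P : G) = (P : G) * c := by
      calc c * (P : G) = (c * (P : G) * c⁻¹) * c := by group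
        _ = (P : G) * c := by rw [h1]
    exact Subtype.ext (stepB _ P.2 hPc)
  -- norm identity
  have norm_id : ∀ (y : G) (n : ℕ),
      (v * y) ^ n = ((∏ i ∈ Finset.range n, f (y ^ i) : ↥V) : G) * y ^ n := by
    intro y n
    induction n with
    | zero => simp [hcoe_one]
    | succ n ih =>
      rw [pow_succ, ih, Finset.prod_range_succ, hcoe_mul, hfval, pow_succ]
      group
  have star : ∀ y ∈ N, y ∉ K → (∏ i ∈ Finset.range r, f (y ^ i) : ↥V) = 1 := by
    intro y hyN hyK
    have hy := stepA y hyN hyK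
    have hyr : y ^ r = 1 := by rw [← hy]; exact pow_orderOf_eq_one y
    have h1 := norm_id y r
    rw [hyr, mul_one] at h1
    set P : ↥V := ∏ i ∈ Finset.range r, f (y ^ i) with hP
    have hPV : (v * y) ^ r ∈ V := by rw [h1]; exact P.2
    have hone : (v * y) ^ r = 1 := by
      rcases hord (v * y) with h2 | h2 | h2
      · rw [orderOf_eq_one_iff.1 h2, one_pow]
      · rw [← h2]; exact pow_orderOf_eq_one _
      · by_contra hne
        have h3 := hVord _ hPV hne
        have hd : orderOf ((v * y) ^ r) ∣ orderOf (v * y) := orderOf_pow_dvd r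
        rw [h3, h2] at hd
        exact hrr ((Nat.prime_dvd_prime_iff_eq hr hr').1 hd)
    apply Subtype.ext
    rw [← h1, hone]; rfl
  -- the finite sets
  set Nfin : Finset G := Finset.univ.filter (fun y => y ∈ N) with hNfin
  set Kfin : Finset G := Finset.univ.filter (fun y => y ∈ K) with hKfin
  set Tfin : Finset G := Finset.univ.filter (fun y => y ∈ N ∧ y ∉ K) with hTfin
  have hPN : (∏ h ∈ Nfin, f h : ↥V) = 1 := by
    apply inv_prod
    intro h
    simp only [hNfin, Finset.mem_filter, Finset.mem_univ, true_and]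
    exact N.mul_mem_cancel_left (hKN hcK)
  have hPK : (∏ h ∈ Kfin, f h : ↥V) = 1 := by
    apply inv_prod
    intro h
    simp only [hKfin, Finset.mem_filter, Finset.mem_univ, true_and]
    exact K.mul_mem_cancel_left hcK
  have hKf : Nfin.filter (fun y => y ∈ K) = Kfin := by
    ext y
    simp only [hNfin, hKfin, Finset.mem_filter, Finset.mem_univ, true_and]
    exact ⟨fun h => h.2, fun h => ⟨hKN h, h⟩⟩
  have hTf : Nfin.filter (fun y => ¬ y ∈ K) = Tfin := by
    ext y
    simp only [hNfin, hTfin, Finset.mem_filter, Finset.mem_univ, true_and]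
  have hPT : (∏ h ∈ Tfin, f h : ↥V) = 1 := by
    have h := Finset.prod_filter_mul_prod_filter_not Nfin (fun y => y ∈ K) (fun h => f h)
    rw [hKf, hTf, hPK, hPN, one_mul] at h
    exact h
  have perm : ∀ a b : ℕ, a * b % r = 1 → ∀ y, (y ∈ N ∧ y ∉ K) →
      ((y ^ a ∈ N ∧ y ^ a ∉ K) ∧ (y ^ a) ^ b = y) := by
    intro a b hab y hy
    obtain ⟨hyN, hyK⟩ := hy
    have hyo := stepA y hyN hyK
    have hback : (y ^ a) ^ b = y := by
      rw [← pow_mul, ← pow_mod_orderOf, hyo, hab, pow_one]
    refine ⟨⟨N.pow_mem hyN a, fun hK' => hyK ?_⟩, hback⟩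
    rw [← hback]; exact K.pow_mem hK' b
  have hTmem : ∀ y, y ∈ Tfin ↔ (y ∈ N ∧ y ∉ K) := by
    intro y
    simp only [hTfin, Finset.mem_filter, Finset.mem_univ, true_and]
  have hprod1 : (∏ y ∈ Tfin, ∏ i ∈ Finset.range r, f (y ^ i) : ↥V) = 1 :=
    Finset.prod_eq_one (fun y hy => star y ((hTmem y).1 hy).1 ((hTmem y).1 hy).2)
  obtain ⟨r0, hr0⟩ : ∃ r0, r = r0 + 1 := ⟨r - 1, by have := hr.two_le; omega⟩
  have hsplit : ∀ y, (∏ i ∈ Finset.range r, f (y ^ i) : ↥V)
      = (∏ i ∈ Finset.range r0, f (y ^ (i + 1))) * f 1 := by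
    intro y; rw [hr0, Finset.prod_range_succ', pow_zero]
  rw [Finset.prod_congr rfl (fun y _ => hsplit y), Finset.prod_mul_distrib, Finset.prod_const,
    Finset.prod_comm] at hprod1
  have hinner : ∀ i ∈ Finset.range r0, (∏ y ∈ Tfin, f (y ^ (i + 1)) : ↥V) = 1 := by
    intro i hi
    have hi' : i + 1 < r := by have := Finset.mem_range.1 hi; omega
    have hcop : Nat.Coprime (i + 1) r :=
      Nat.Coprime.symm ((Nat.Prime.coprime_iff_not_dvd hr).2
        (fun hd => by have := Nat.le_of_dvd (Nat.succ_pos i) hd; omega))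
    obtain ⟨j, _, hj⟩ := Nat.exists_mul_mod_eq_one_of_coprime hcop hr.one_lt
    have hj' : j * (i + 1) % r = 1 := by rw [mul_comm]; exact hj
    rw [← hPT]
    apply Finset.prod_nbij' (fun y => y ^ (i + 1)) (fun y => y ^ j)
    · intro y hy; exact (hTmem _).2 (perm _ _ hj y ((hTmem y).1 hy)).1
    · intro y hy; exact (hTmem _).2 (perm _ _ hj' y ((hTmem y).1 hy)).1
    · intro y hy; exact (perm _ _ hj y ((hTmem y).1 hy)).2
    · intro y hy; exact (perm _ _ hj' y ((hTmem y).1 hy)).2
    · intro y _; rfl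
  rw [Finset.prod_eq_one hinner, one_mul] at hprod1
  have hvT : v ^ Tfin.card = 1 := by
    have h := congrArg Subtype.val hprod1
    have hpow : ∀ n : ℕ, (((f 1 : ↥V) ^ n : ↥V) : G) = v ^ n := by
      intro n
      induction n with
      | zero => rw [pow_zero, pow_zero]; rfl
      | succ n ih => rw [pow_succ, hcoe_mul, ih, hfval, pow_succ]; group
    rw [hpow] at h
    exact h
  have hvr : v ^ r = 1 := by rw [← hVord v hv hv1]; exact pow_orderOf_eq_one v
  have hNcard : Nat.card N = Nfin.card := by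
    rw [← Nat.card_eq_finsetCard]
    exact Nat.card_congr (Equiv.subtypeEquivRight (fun h => by
      simp only [hNfin, Finset.mem_filter, Finset.mem_univ, true_and]))
  have hKcard' : Nat.card K = Kfin.card := by
    rw [← Nat.card_eq_finsetCard]
    exact Nat.card_congr (Equiv.subtypeEquivRight (fun h => by
      simp only [hKfin, Finset.mem_filter, Finset.mem_univ, true_and]))
  have hcard : Kfin.card + Tfin.card = Nfin.card := by
    have h := Finset.card_filter_add_card_filter_not (s := Nfin) (fun y => y ∈ K)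
    rw [hKf, hTf] at h
    exact h
  have hrN : r ∣ Nat.card N := by
    have h := Subgroup.orderOf_dvd_natCard N hxN
    rwa [stepA x hxN hxK] at h
  have hnd : ¬ r ∣ Tfin.card := by
    intro hd
    have h1 : r ∣ Kfin.card + Tfin.card := by rw [hcard, ← hNcard]; exact hrN
    have h2 : r ∣ Kfin.card := (Nat.dvd_add_left hd).1 h1
    rw [← hKcard', hKcard] at h2
    exact hrr ((Nat.prime_dvd_prime_iff_eq hr hr').1 h2)
  have hcop : Nat.Coprime Tfin.card r :=
    Nat.Coprime.symm ((Nat.Prime.coprime_iff_not_dvd hr).2 hnd)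
  have h1 : orderOf v ∣ Nat.gcd Tfin.card r :=
    Nat.dvd_gcd (orderOf_dvd_of_pow_eq_one hvT) (orderOf_dvd_of_pow_eq_one hvr)
  rw [hcop.gcd_eq_one, Nat.dvd_one, orderOf_eq_one_iff] at h1
  exact hv1 h1

end Cfsg.Agent.Lib.Helper97.N3
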