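import Mathlib
import Cfsg.Agent.Lib.Helper56.NSE3Defs

/-!
# K-NSE3-L09 (399610): one involution and no element of order 4 => 4 does not divide the order
-/

set_option autoImplicit false

namespace Cfsg.Agent.Lib.Helper97.NSE3

open Cfsg.Agent.S3995 (s)
open Cfsg.Agent.Lib.Helper56.NSE3 (Hyp)

variable {G : Type*} [Group G] [Finite G]

/-- L09 -/
theorem two_part (h2 : s G 2 = 1) (h4 : s G 4 = 0) : ¬ 4 ∣ Nat.card G := by
  intro hdvd
  have : Fact (Nat.Prime 2) := ⟨Nat.prime_two⟩
  obtain ⟨K, hK⟩ := Sylow.exists_subgroup_card_pow_prime 2 (show 2 ^ 2 ∣ Nat.card G from hdvd)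
  have hno4 : ∀ g : G, orderOf g ≠ 4 := by
    intro g hg
    exact (Cfsg.Agent.S3995.s_ne_zero_iff 4).2 ⟨g, hg⟩ h4
  have hord : ∀ x : G, x ∈ K → x ≠ 1 → orderOf x = 2 := by
    intro x hxK hx
    have h1 : orderOf (⟨x, hxK⟩ : K) ∣ 4 := by
      rw [show 4 = 2 ^ 2 from rfl, ← hK]
      exact orderOf_dvd_natCard _
    have h3 : orderOf x ∣ 4 := by
      rw [← Subgroup.orderOf_mk x hxK]
      exact h1
    have h4' : orderOf x ≠ 1 := by
      rw [Ne, orderOf_eq_one_iff]
      exact hx
    have h5 := hno4 x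
    have hmem : orderOf x ∈ Nat.divisors 4 := Nat.mem_divisors.2 ⟨h3, by norm_num⟩
    have hd : Nat.divisors 4 = {1, 2, 4} := by decide
    rw [hd] at hmem
    simp only [Finset.mem_insert, Finset.mem_singleton] at hmem
    rcases hmem with h | h | h
    · exact absurd h h4'
    · exact h
    · exact absurd h h5
  -- the unique involution
  have h2' : Nat.card {g : G // orderOf g = 2} = 1 := h2
  obtain ⟨hsub, ⟨t⟩⟩ := Nat.card_eq_one_iff_unique.1 h2'
  have hsubset : (K : Set G) ⊆ {1, t.1} := by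
    intro x hx
    by_cases hx1 : x = 1
    · exact Or.inl hx1
    · right
      have hxo := hord x hx hx1
      have : (⟨x, hxo⟩ : {g : G // orderOf g = 2}) = t := Subsingleton.elim _ _
      exact congrArg Subtype.val this
  have hle : Nat.card K ≤ 2 := by
    have e : Nat.card K = (K : Set G).ncard := rfl
    rw [e]
    calc (K : Set G).ncard ≤ ({1, t.1} : Set G).ncard := Set.ncard_le_ncard hsubset (Set.toFinite _)
      _ ≤ 2 := by
        refine le_trans (Set.ncard_insert_le _ _) ?_
        rw [Set.ncard_singleton]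
  rw [hK] at hle
  norm_num at hle

end Cfsg.Agent.Lib.Helper97.NSE3
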