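import Mathlib
import Cfsg.Agent.Lib.Helper85.Gallagher
import Cfsg.Agent.Lib.Helper85.CliffordCorr
import Cfsg.Agent.Lib.Helper80.DetCoprime
import Cfsg.Agent.Lib.Helper22.BlockRegular
import Cfsg.Agent.Lib.Helper79.ItoSolvable
import Cfsg.Agent.Lib.Helper83.CharMisc
import Cfsg.Agent.Lib.Helper83.Quotient
import Cfsg.Agent.Lib.Helper83.OneNonlinear
import Cfsg.Agent.Lib.Helper83.SecondOrth
import Cfsg.Agent.Lib.Helper21.SylowAux
import Cfsg.Agent.Lib.Helper74.ClassMultiset
import Cfsg.Agent.S4452

/-!
# Groups with a normal `p`-complement and exactly one `p`-singular irreducible character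

* `quotient_comm_of_unique_p_singular`: if `N` is a nontrivial normal `p`-complement and `G` has at
  most one irreducible character of degree divisible by `p`, then `G ⧸ N` is commutative.
-/

set_option autoImplicit false

namespace Cfsg.Agent.Lib.Helper97

open Cfsg Cfsg.Agent.Lib.Helper83 Cfsg.Agent.Lib.Helper85
open scoped ComplexConjugate
open scoped commutatorElement

universe u

section QuotComm

variable {G : Type u} [Group G] [Finite G]

/-- If `N ≠ 1` is a normal subgroup of order prime to its index, the index being a power of `p`,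
and at most one irreducible character of `G` has degree divisible by `p`, then `G ⧸ N` is
commutative. -/
theorem quotient_comm_of_unique_p_singular (p : ℕ) [Fact p.Prime] (N : Subgroup G) [hN : N.Normal]
    (hNbot : N ≠ ⊥) (hcop : (Nat.card N).Coprime N.index) (hidx : ∃ k : ℕ, N.index = p ^ k)
    (huniq : ∀ χ ψ : IrrCharacter G, p ∣ charDegree (χ : G → ℂ) → p ∣ charDegree (ψ : G → ℂ) →
      χ = ψ) : ∀ a b : G ⧸ N, a * b = b * a := by
  classical
  let _ : Fintype G := Fintype.ofFinite _
  let _ : Fintype N := Fintype.ofFinite _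
  by_contra hcon
  have hex : ∃ β : IrrCharacter (G ⧸ N), charDegree (β : G ⧸ N → ℂ) ≠ 1 := by
    by_contra h1
    push Not at h1
    exact hcon (Cfsg.Agent.Lib.Helper79.comm_of_all_linear h1)
  obtain ⟨β, hβ⟩ := hex
  obtain ⟨k, hk⟩ := hidx
  have hp := (Fact.out : p.Prime)
  have hβp : p ∣ charDegree (β : G ⧸ N → ℂ) := by
    have h1 : charDegree (β : G ⧸ N → ℂ) ∣ Nat.card (G ⧸ N) := irr_charDegree_dvd_card β
    rw [← Subgroup.index_eq_card, hk] at h1
    obtain ⟨j, -, hj⟩ := (Nat.dvd_prime_pow hp).1 h1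
    rw [hj]
    have hj0 : j ≠ 0 := by
      rintro rfl
      exact hβ (by simpa using hj)
    exact dvd_pow_self p hj0
  have hβ1 : (β : G ⧸ N → ℂ) 1 ≠ 0 := irr_degree_ne_zero β
  have hχ₀irr : IsIrrCharacter G (fun g : G => (β : G ⧸ N → ℂ) (QuotientGroup.mk g)) :=
    isIrrCharacter_inflate N β.2
  set χ₀ : IrrCharacter G := ⟨_, hχ₀irr⟩ with hχ₀
  have hχ₀deg : charDegree (χ₀ : G → ℂ) = charDegree (β : G ⧸ N → ℂ) := rfl
  have hχ₀N : ∀ n : N, (χ₀ : G → ℂ) n = (β : G ⧸ N → ℂ) 1 := by
    intro n
    show (β : G ⧸ N → ℂ) (QuotientGroup.mk (n : G)) = _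
    rw [(QuotientGroup.eq_one_iff (n : G)).2 n.2]
  obtain ⟨z, hz⟩ : ∃ z : N, z ≠ 1 := by
    by_contra h1
    push Not at h1
    apply hNbot
    rw [Subgroup.eq_bot_iff_forall]
    intro x hx
    exact congrArg Subtype.val (h1 ⟨x, hx⟩)
  obtain ⟨θ, hθz⟩ := exists_irr_ne_of_ne_one hz
  have hθtriv : θ ≠ trivChar N := by
    intro h
    apply hθz
    rw [h, trivChar_apply, trivChar_apply]
  -- a `p`-singular character does not lie over `θ`
  have hbad : ∀ ξ : IrrCharacter G, p ∣ charDegree (ξ : G → ℂ) →
      classInner (fun n : N => (ξ : G → ℂ) n) (θ : N → ℂ) = 0 := by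
    intro ξ hξ
    have h1 := huniq ξ χ₀ hξ (hχ₀deg ▸ hβp)
    rw [h1]
    have h2 : (fun n : N => (χ₀ : G → ℂ) n) =
        ((β : G ⧸ N → ℂ) 1) • ((trivChar N : IrrCharacter N) : N → ℂ) := by
      funext n
      rw [hχ₀N n, Pi.smul_apply, trivChar_apply, smul_eq_mul, mul_one]
    rw [h2, classInner_smul_left, irr_inner_ne (Ne.symm hθtriv), mul_zero]
  by_cases hinv : ∀ (g : G) (n : N),
      (θ : N → ℂ) ⟨g * n * g⁻¹, hN.conj_mem (n : G) n.2 g⟩ = (θ : N → ℂ) n
  · obtain ⟨θh, hθh, hθhN⟩ := Cfsg.Agent.Lib.Helper80.exists_ext_of_coprime N θ.1 θ.2 hinv hcop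
    have hθhfun : (fun h : N => θh h) = θ.1 := funext hθhN
    have hθhN' : IsIrrCharacter N (fun h : N => θh h) := by
      rw [hθhfun]; exact θ.2
    have hξ := (gallagher N hθh hθhN').1 β
    set ξ : IrrCharacter G := ⟨_, hξ⟩ with hξdef
    have hξdeg : p ∣ charDegree (ξ : G → ℂ) := by
      have h1 : ((charDegree (ξ : G → ℂ) : ℕ) : ℂ) =
          ((charDegree (β : G ⧸ N → ℂ) * charDegree θh : ℕ) : ℂ) := by
        rw [charDegree_cast (IrrCharacter_isCharacter ξ), Nat.cast_mul,
          charDegree_cast (IrrCharacter_isCharacter β), charDegree_cast (isCharacter_of_irr hθh)]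
        rfl
      have h2 : charDegree (ξ : G → ℂ) = charDegree (β : G ⧸ N → ℂ) * charDegree θh := by
        exact_mod_cast h1
      rw [h2]
      exact Dvd.dvd.mul_right hβp _
    have h3 := hbad ξ hξdeg
    have h4 : (fun n : N => (ξ : G → ℂ) n) = ((β : G ⧸ N → ℂ) 1) • (θ : N → ℂ) := by
      funext n
      show (β : G ⧸ N → ℂ) (QuotientGroup.mk (n : G)) * θh n = _
      rw [(QuotientGroup.eq_one_iff (n : G)).2 n.2, hθhN n, Pi.smul_apply, smul_eq_mul]
    rw [h4, classInner_smul_left, irr_inner_self, mul_one] at h3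
    exact hβ1 h3
  · push Not at hinv
    obtain ⟨g, n, hgn⟩ := hinv
    obtain ⟨χ, hχ⟩ := Cfsg.Agent.Lib.Helper22.exists_irr_over N θ
    obtain ⟨ψ, hψ, -, hind⟩ := exists_irr_conjStab hN χ.2 θ.2 hχ
    have hgT : g ∉ conjStab hN (θ : N → ℂ) := by
      intro hg
      rw [mem_conjStab] at hg
      apply hgn
      have := congrFun hg n
      rw [conjFun_apply] at this
      exact this
    have hNT : N ≤ conjStab hN (θ : N → ℂ) :=
      le_conjStab hN (char_isClassFunction (IrrCharacter_isCharacter θ))
    have hTidx : p ∣ (conjStab hN (θ : N → ℂ)).index := by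
      have h1 : (conjStab hN (θ : N → ℂ)).index ∣ p ^ k := hk ▸ Subgroup.index_dvd_of_le hNT
      obtain ⟨j, -, hj⟩ := (Nat.dvd_prime_pow hp).1 h1
      rw [hj]
      have hj0 : j ≠ 0 := by
        rintro rfl
        rw [pow_zero, Subgroup.index_eq_one] at hj
        exact hgT (hj ▸ Subgroup.mem_top g)
      exact dvd_pow_self p hj0
    have hχdeg : p ∣ charDegree (χ : G → ℂ) := by
      have h1 : ((charDegree (χ : G → ℂ) : ℕ) : ℂ) =
          (((conjStab hN (θ : N → ℂ)).index * charDegree ψ : ℕ) : ℂ) := by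
        rw [charDegree_cast (IrrCharacter_isCharacter χ), Nat.cast_mul,
          charDegree_cast (isCharacter_of_irr hψ), hind, indFun_apply_one]
      have h2 : charDegree (χ : G → ℂ) = (conjStab hN (θ : N → ℂ)).index * charDegree ψ := by
        exact_mod_cast h1
      rw [h2]
      exact Dvd.dvd.mul_right hTidx _
    exact hχ (hbad χ hχdeg)

end QuotComm

section Classes

variable {G : Type u} [Group G] [Finite G]

omit [Finite G] in
/-- If the class of `g` has size prime to `p`, some conjugate of `g` centralizes the Sylow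
`p`-subgroup `P`. -/
theorem exists_conj_mem_centralizer_of_not_dvd (p : ℕ) [Fact p.Prime] (P : Sylow p G) (g : G)
    (h : ¬ p ∣ (Subgroup.centralizer ({g} : Set G)).index) :
    ∃ x : G, x * g * x⁻¹ ∈ Subgroup.centralizer ((P : Subgroup G) : Set G) := by
  classical
  let act : MulAction (P : Subgroup G) {y : G // IsConj g y} :=
    { smul := fun u y => ⟨(u : G) * y * (u : G)⁻¹, y.2.trans (isConj_iff.2 ⟨(u : G), rfl⟩)⟩
      one_smul := by
        intro y
        apply Subtype.ext
        show ((1 : (P : Subgroup G)) : G) * y * ((1 : (P : Subgroup G)) : G)⁻¹ = y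
        simp
      mul_smul := by
        intro u v y
        apply Subtype.ext
        show ((u * v : (P : Subgroup G)) : G) * y * ((u * v : (P : Subgroup G)) : G)⁻¹ =
          (u : G) * ((v : G) * y * (v : G)⁻¹) * (u : G)⁻¹
        simp only [Subgroup.coe_mul]
        group }
  have hcard : ¬ p ∣ Nat.card {y : G // IsConj g y} := by
    rw [← Cfsg.Agent.Lib.Helper74.index_centralizer_eq_card_conj]
    exact h
  obtain ⟨y, hy⟩ := P.2.nonempty_fixed_point_of_prime_not_dvd_card {y : G // IsConj g y} hcard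
  obtain ⟨x, hx⟩ := isConj_iff.1 y.2
  refine ⟨x, ?_⟩
  rw [hx, Subgroup.mem_centralizer_iff]
  intro u hu
  have h1 := hy ⟨u, hu⟩
  have h2 : u * (y : G) * u⁻¹ = (y : G) := congrArg Subtype.val h1
  calc u * (y : G) = u * (y : G) * u⁻¹ * u := by group
    _ = (y : G) * u := by rw [h2]

/-- **Fusion in the centralizer of a Sylow subgroup**: two elements of `C_G(P)` conjugate in `G`
are conjugate by an element of `N_G(P)`. -/
theorem exists_mem_normalizer_conj (p : ℕ) [Fact p.Prime] (P : Sylow p G) (h h' x : G)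
    (hh : h ∈ Subgroup.centralizer ((P : Subgroup G) : Set G))
    (hh' : h' ∈ Subgroup.centralizer ((P : Subgroup G) : Set G)) (hx : x * h * x⁻¹ = h') :
    ∃ n ∈ Subgroup.normalizer ((P : Subgroup G) : Set G), n * h * n⁻¹ = h' := by
  classical
  have hPC : (P : Subgroup G) ≤ Subgroup.centralizer ({h'} : Set G) := by
    intro u hu
    rw [Subgroup.mem_centralizer_iff]
    intro y hy
    rw [Set.mem_singleton_iff] at hy
    subst hy
    exact ((Subgroup.mem_centralizer_iff.1 hh') u hu).symm
  have hS : ((P.subtype hPC : Sylow p (Subgroup.centralizer ({h'} : Set G))) :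
      Subgroup (Subgroup.centralizer ({h'} : Set G))).map
      (Subgroup.centralizer ({h'} : Set G)).subtype = (P : Subgroup G) := by
    rw [Sylow.coe_subtype]
    exact Subgroup.map_subgroupOf_eq_of_le hPC
  let Q : Subgroup G := (P : Subgroup G).map (MulAut.conj x).toMonoidHom
  have hQ : IsPGroup p Q := P.2.map _
  have hQC : Q ≤ Subgroup.centralizer ({h'} : Set G) := by
    rintro _ ⟨u, hu, rfl⟩
    rw [Subgroup.mem_centralizer_iff]
    intro y hy
    rw [Set.mem_singleton_iff] at hy
    subst hy
    have h1 : u * h = h * u := (Subgroup.mem_centralizer_iff.1 hh) u hu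
    simp only [MulEquiv.coe_toMonoidHom, MulAut.conj_apply]
    rw [← hx]
    calc x * h * x⁻¹ * (x * u * x⁻¹) = x * (h * u) * x⁻¹ := by group
      _ = x * (u * h) * x⁻¹ := by rw [h1]
      _ = x * u * x⁻¹ * (x * h * x⁻¹) := by group
  obtain ⟨c, hc, hconj⟩ :=
    Cfsg.Agent.Lib.Helper21.exists_conj_mem_of_sylow_subgroup (P.subtype hPC) hS hQ hQC
  refine ⟨c⁻¹ * x, ?_, ?_⟩
  · apply Subgroup.mem_normalizer_fintype
    intro u hu
    have h1 := hconj (x * u * x⁻¹) ⟨u, hu, by simp⟩
    have e : c⁻¹ * x * u * (c⁻¹ * x)⁻¹ = c⁻¹ * (x * u * x⁻¹) * c := by group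
    rw [e]
    exact h1
  · have hch : h' * c = c * h' := (Subgroup.mem_centralizer_iff.1 hc) h' rfl
    calc c⁻¹ * x * h * (c⁻¹ * x)⁻¹ = c⁻¹ * (x * h * x⁻¹) * c := by group
      _ = c⁻¹ * (h' * c) := by rw [hx]; group
      _ = h' := by rw [hch]; group

/-- If `N_G(P) ≤ C_G(P)` for a Sylow `p`-subgroup `P`, the conjugacy classes of `G` of size prime
to `p` are in bijection with the conjugacy classes of `C_G(P)`. -/
theorem card_pprime_classes_eq (p : ℕ) [Fact p.Prime] (P : Sylow p G)
    (hNC : Subgroup.normalizer ((P : Subgroup G) : Set G) ≤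
      Subgroup.centralizer ((P : Subgroup G) : Set G)) :
    Nat.card {C : ConjClasses G // ¬ p ∣ Nat.card C.carrier} =
      Nat.card (ConjClasses (Subgroup.centralizer ((P : Subgroup G) : Set G))) := by
  classical
  have hmem : ∀ h : Subgroup.centralizer ((P : Subgroup G) : Set G),
      ¬ p ∣ Nat.card (ConjClasses.mk (h : G)).carrier := by
    intro h
    rw [← Cfsg.Agent.Lib.Helper74.cm_idx_eq_card_carrier]
    have hPC : (P : Subgroup G) ≤ Subgroup.centralizer ({(h : G)} : Set G) := by
      intro u hu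
      rw [Subgroup.mem_centralizer_iff]
      intro y hy
      rw [Set.mem_singleton_iff] at hy
      subst hy
      exact ((Subgroup.mem_centralizer_iff.1 h.2) u hu).symm
    intro hdvd
    exact P.not_dvd_index (hdvd.trans (Subgroup.index_dvd_of_le hPC))
  have hmap : ∀ c : ConjClasses (Subgroup.centralizer ((P : Subgroup G) : Set G)),
      ¬ p ∣ Nat.card (ConjClasses.map
        (Subgroup.centralizer ((P : Subgroup G) : Set G)).subtype c).carrier := by
    intro c
    induction c using Quotient.inductionOn with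
    | _ h => exact hmem h
  let f : ConjClasses (Subgroup.centralizer ((P : Subgroup G) : Set G)) →
      {C : ConjClasses G // ¬ p ∣ Nat.card C.carrier} := fun c =>
    ⟨ConjClasses.map (Subgroup.centralizer ((P : Subgroup G) : Set G)).subtype c, hmap c⟩
  have hf : Function.Bijective f := by
    constructor
    · intro c₁ c₂ h12
      induction c₁ using Quotient.inductionOn with
      | _ h₁ =>
      induction c₂ using Quotient.inductionOn with
      | _ h₂ =>
      have h1 : ConjClasses.mk (h₁ : G) = ConjClasses.mk (h₂ : G) := congrArg Subtype.val h12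
      rw [ConjClasses.mk_eq_mk_iff_isConj, isConj_iff] at h1
      obtain ⟨x, hx⟩ := h1
      obtain ⟨n, hn, hnh⟩ := exists_mem_normalizer_conj p P h₁ h₂ x h₁.2 h₂.2 hx
      show ConjClasses.mk h₁ = ConjClasses.mk h₂
      rw [ConjClasses.mk_eq_mk_iff_isConj, isConj_iff]
      exact ⟨⟨n, hNC hn⟩, Subtype.ext hnh⟩
    · rintro ⟨C, hC⟩
      induction C using Quotient.inductionOn with
      | _ g =>
      have h1 : ¬ p ∣ (Subgroup.centralizer ({g} : Set G)).index := by
        rw [Cfsg.Agent.Lib.Helper74.cm_idx_eq_card_carrier]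
        exact hC
      obtain ⟨x, hx⟩ := exists_conj_mem_centralizer_of_not_dvd p P g h1
      refine ⟨ConjClasses.mk ⟨x * g * x⁻¹, hx⟩, ?_⟩
      apply Subtype.ext
      show ConjClasses.mk (x * g * x⁻¹) = ConjClasses.mk g
      rw [ConjClasses.mk_eq_mk_iff_isConj, isConj_comm, isConj_iff]
      exact ⟨x, rfl⟩
  exact (Nat.card_congr (Equiv.ofBijective f hf)).symm

end Classes

section Main

variable {G : Type u} [Group G] [Finite G]

/-- splitting a finite type by a predicate. -/
theorem card_subtype_add_card_subtype_not {α : Type*} [Finite α] (q : α → Prop) :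
    Nat.card {a : α // q a} + Nat.card {a : α // ¬ q a} = Nat.card α := by
  classical
  let _ : Fintype α := Fintype.ofFinite α
  rw [Nat.card_eq_fintype_card, Nat.card_eq_fintype_card, Nat.card_eq_fintype_card,
    Fintype.card_subtype_compl]
  have := Fintype.card_subtype_le q
  omega

/-- **One `p`-singular character gives one `p`-singular class** in a non-nilpotent group with a
normal `p`-complement. -/
theorem card_p_singular_classes_eq_one (p : ℕ) [Fact p.Prime] (hnil : ¬ Group.IsNilpotent G)
    (N : Subgroup G) [hNn : N.Normal] (hN : (Nat.card N).Coprime p)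
    (hidx : ∃ k : ℕ, N.index = p ^ k)
    (hone : Nat.card {χ : IrrCharacter G // p ∣ charDegree (χ : G → ℂ)} = 1) :
    Nat.card {C : ConjClasses G // p ∣ Nat.card C.carrier} = 1 := by
  classical
  have hp := (Fact.out : p.Prime)
  obtain ⟨k, hk⟩ := hidx
  -- `N ≠ 1`
  have hNbot : N ≠ ⊥ := by
    intro h
    apply hnil
    rw [h, Subgroup.index_bot] at hk
    exact (IsPGroup.of_card hk).isNilpotent
  have hcop : (Nat.card N).Coprime N.index := by
    rw [hk]; exact Nat.Coprime.pow_right k hN
  obtain ⟨hsub, ⟨χ₁⟩⟩ := Nat.card_eq_one_iff_unique.1 hone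
  have huniq : ∀ χ ψ : IrrCharacter G, p ∣ charDegree (χ : G → ℂ) →
      p ∣ charDegree (ψ : G → ℂ) → χ = ψ := by
    intro χ ψ h1 h2
    have := hsub.elim ⟨χ, h1⟩ ⟨ψ, h2⟩
    exact congrArg Subtype.val this
  have hQ := quotient_comm_of_unique_p_singular p N hNbot hcop ⟨k, hk⟩ huniq
  have hcommN : ∀ a b : G, ⁅a, b⁆ ∈ N := by
    intro a b
    rw [← QuotientGroup.eq_one_iff]
    have h2 : ((⁅a, b⁆ : G) : G ⧸ N) =
        ⁅(QuotientGroup.mk' N a), (QuotientGroup.mk' N b)⁆ := by
      rw [← map_commutatorElement]; rfl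
    rw [h2, commutatorElement_eq_one_iff_mul_comm]
    exact hQ _ _
  -- a Sylow `p`-subgroup
  obtain ⟨P⟩ : Nonempty (Sylow p G) := inferInstance
  obtain ⟨m, hm⟩ := (IsPGroup.iff_card (p := p) (G := (P : Subgroup G))).1 P.2
  have hcopNP : (Nat.card N).Coprime (Nat.card (P : Subgroup G)) := by
    rw [hm]; exact Nat.Coprime.pow_right m hN
  have hPN : ∀ x : G, x ∈ (P : Subgroup G) → x ∈ N → x = 1 := by
    intro x hxP hxN
    have h1 : Disjoint N (P : Subgroup G) := Subgroup.disjoint_of_coprime_natCard hcopNP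
    have h2 : x ∈ N ⊓ (P : Subgroup G) := ⟨hxN, hxP⟩
    rw [h1.eq_bot, Subgroup.mem_bot] at h2
    exact h2
  have hNC : Subgroup.normalizer ((P : Subgroup G) : Set G) ≤
      Subgroup.centralizer ((P : Subgroup G) : Set G) := by
    intro n hn
    rw [Subgroup.mem_centralizer_iff]
    intro u hu
    have h1 : n * u * n⁻¹ ∈ (P : Subgroup G) := (Subgroup.mem_normalizer_iff.1 hn u).1 hu
    have h2 : ⁅n, u⁆ ∈ (P : Subgroup G) := by
      rw [commutatorElement_def]
      exact (P : Subgroup G).mul_mem h1 ((P : Subgroup G).inv_mem hu)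
    have h3 := hPN _ h2 (hcommN n u)
    exact (commutatorElement_eq_one_iff_mul_comm.1 h3).symm
  have hNCeq : Subgroup.normalizer ((P : Subgroup G) : Set G) =
      Subgroup.centralizer ((P : Subgroup G) : Set G) :=
    le_antisymm hNC (Subgroup.centralizer_le_normalizer _)
  have hPab : ∀ a ∈ (P : Subgroup G), ∀ b ∈ (P : Subgroup G), a * b = b * a := by
    intro a ha b hb
    have h1 := hNC (Subgroup.le_normalizer ha)
    exact ((Subgroup.mem_centralizer_iff.1 h1) b hb).symm
  -- `p` divides `|P|`
  have hm0 : 0 < m := by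
    rcases Nat.eq_zero_or_pos m with h0 | h0
    · exfalso
      have h1 : p ∣ Nat.card G :=
        χ₁.2.trans (irr_charDegree_dvd_card χ₁.1)
      have h2 := P.card_eq_multiplicity
      rw [hm, h0, pow_zero] at h2
      have h3 : (Nat.card G).factorization p = 0 := by
        by_contra h4
        have : 1 < p ^ (Nat.card G).factorization p := Nat.one_lt_pow h4 hp.one_lt
        omega
      have h5 : 0 < (Nat.card G).factorization p :=
        hp.factorization_pos_of_dvd Nat.card_pos.ne' h1
      omega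
    · exact h0
  have hcopiff : ∀ d : ℕ, d.Coprime (Nat.card (P : Subgroup G)) ↔ ¬ p ∣ d := by
    intro d
    rw [hm, Nat.coprime_pow_right_iff hm0, Nat.coprime_comm, hp.coprime_iff_not_dvd]
  -- the McKay count
  have hsup : N ⊔ (P : Subgroup G) = ⊤ := by
    rw [← Subgroup.index_eq_one]
    have h1 : (N ⊔ (P : Subgroup G)).index ∣ p ^ k := hk ▸ Subgroup.index_dvd_of_le le_sup_left
    have h2 : (N ⊔ (P : Subgroup G)).index ∣ (P : Subgroup G).index :=
      Subgroup.index_dvd_of_le le_sup_right
    have h3 : Nat.Coprime (p ^ k) (P : Subgroup G).index :=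
      Nat.Coprime.pow_left k (hp.coprime_iff_not_dvd.2 P.not_dvd_index)
    exact Nat.eq_one_of_dvd_coprimes h3 h1 h2
  have hsolv : Group.IsSolvable (P : Subgroup G) := by
    have : Group.IsNilpotent (P : Subgroup G) := P.2.isNilpotent
    infer_instance
  have hmckay := Cfsg.Agent.S4452.result N (P : Subgroup G) hsup hcopNP hsolv
  -- all characters of the normalizer have `p'`-degree
  have hall : ∀ η : IrrCharacter (Subgroup.normalizer ((P : Subgroup G) : Set G)),
      (charDegree (η : Subgroup.normalizer ((P : Subgroup G) : Set G) → ℂ)).Coprime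
        (Nat.card (P : Subgroup G)) := by
    intro η
    rw [hcopiff]
    have hab : ∀ a ∈ (P : Subgroup G).subgroupOf (Subgroup.normalizer ((P : Subgroup G) : Set G)),
        ∀ b ∈ (P : Subgroup G).subgroupOf (Subgroup.normalizer ((P : Subgroup G) : Set G)),
        a * b = b * a := by
      intro a ha b hb
      apply Subtype.ext
      exact hPab _ (Subgroup.mem_subgroupOf.1 ha) _ (Subgroup.mem_subgroupOf.1 hb)
    have h1 := ito_charDegree η
      ((P : Subgroup G).subgroupOf (Subgroup.normalizer ((P : Subgroup G) : Set G))) hab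
    have h2 : ((P : Subgroup G).subgroupOf
        (Subgroup.normalizer ((P : Subgroup G) : Set G))).index ∣ (P : Subgroup G).index := by
      have := Subgroup.relIndex_mul_index (Subgroup.le_normalizer (H := (P : Subgroup G)))
      exact Dvd.intro _ this
    intro h3
    exact P.not_dvd_index (h3.trans (h1.trans h2))
  have hcardη : Nat.card {η : IrrCharacter (Subgroup.normalizer ((P : Subgroup G) : Set G)) //
      (charDegree (η : Subgroup.normalizer ((P : Subgroup G) : Set G) → ℂ)).Coprime
        (Nat.card (P : Subgroup G))} =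
      Nat.card (IrrCharacter (Subgroup.normalizer ((P : Subgroup G) : Set G))) :=
    Nat.card_congr (Equiv.subtypeUnivEquiv hall)
  have hcardχ : Nat.card {χ : IrrCharacter G //
      (charDegree (χ : G → ℂ)).Coprime (Nat.card (P : Subgroup G))} =
      Nat.card {χ : IrrCharacter G // ¬ p ∣ charDegree (χ : G → ℂ)} :=
    Nat.card_congr (Equiv.subtypeEquivRight fun χ => hcopiff _)
  -- counting
  have h1 := card_subtype_add_card_subtype_not
    (fun χ : IrrCharacter G => p ∣ charDegree (χ : G → ℂ))
  have h2 := card_subtype_add_card_subtype_not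
    (fun C : ConjClasses G => p ∣ Nat.card C.carrier)
  have h3 := card_pprime_classes_eq p P hNC
  have h4 : Nat.card (IrrCharacter G) = Nat.card (ConjClasses G) :=
    @card_irr_eq_card_conjClasses G _ (Fintype.ofFinite _) (Fintype.ofFinite _)
  have h5 : Nat.card (IrrCharacter (Subgroup.normalizer ((P : Subgroup G) : Set G))) =
      Nat.card (ConjClasses (Subgroup.normalizer ((P : Subgroup G) : Set G))) :=
    @card_irr_eq_card_conjClasses _ _ (Fintype.ofFinite _) (Fintype.ofFinite _)
  have h6 : Nat.card (ConjClasses (Subgroup.normalizer ((P : Subgroup G) : Set G))) =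
      Nat.card (ConjClasses (Subgroup.centralizer ((P : Subgroup G) : Set G))) :=
    congrArg (fun S : Subgroup G => Nat.card (ConjClasses S)) hNCeq
  rw [hcardχ, hcardη] at hmckay
  omega

end Main

end Cfsg.Agent.Lib.Helper97
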