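import Mathlib
import Cfsg.Agent.Lib.Helper89.RkTwoDefs
import Cfsg.Agent.Lib.Helper03.FusEss2
import Cfsg.Agent.Lib.Helper89.FusionAut
import Cfsg.Agent.Lib.Helper91.FusionEssentialClass

/-!
# K-S5289-C (helper97): no essential subgroup in a saturated fusion system over `C(p, n)`, `n ≥ 4`

`z` is central, all commutators of `S` lie in `zpowers c`, `c := z ^ p ^ (n - 3)` central of order dividing `p`, so the
`p`-th powers of elements of `S` are central.  For `E` essential, `z ∈ E`, `K := ℧¹(E)` (generated by the `p`-th powers of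
`E`) is characteristic in `E`, central in `S`, and contains `c = (z ^ p ^ (n - 4)) ^ p`, so `1 ≤ K ≤ E` is a chain
stabilised by any `t ∈ N_S(E)`, whence `N_S(E) ≤ E`, `E = S`: contradiction.
-/

set_option autoImplicit false

namespace Cfsg.Agent.Lib.Helper97.RkTwo

open Cfsg Cfsg.FusionSystem Cfsg.Agent.Lib.Helper89

theorem comm_mod_central {G : Type*} [Group G] {x y z c : G}
    (hgen : Subgroup.closure ({x, y, z} : Set G) = ⊤)
    (hxz : x * z = z * x) (hyz : y * z = z * y) (hc : c ∈ Subgroup.zpowers z)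
    (hrel : x⁻¹ * y * x = y * c) :
    (∀ g : G, g * z = z * g) ∧ (∀ g : G, g * c = c * g) ∧
      ∀ a b : G, a⁻¹ * b⁻¹ * a * b ∈ Subgroup.zpowers c := by
  have hz : ∀ g : G, g * z = z * g := by
    intro g
    have hg : g ∈ Subgroup.closure ({x, y, z} : Set G) := by rw [hgen]; trivial
    have hle : Subgroup.closure ({x, y, z} : Set G) ≤ Subgroup.centralizer {z} := by
      rw [Subgroup.closure_le]
      intro a ha
      rw [SetLike.mem_coe, Subgroup.mem_centralizer_iff]
      intro h hh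
      rw [Set.mem_singleton_iff] at hh
      subst hh
      rcases ha with rfl | rfl | rfl
      · exact hxz.symm
      · exact hyz.symm
      · rfl
    exact (Subgroup.mem_centralizer_iff.1 (hle hg) z rfl).symm
  have hcc : ∀ g : G, g * c = c * g := by
    obtain ⟨j, rfl⟩ := hc
    intro g
    have h1 : Commute g z := hz g
    exact (h1.zpow_right j).eq
  refine ⟨hz, hcc, ?_⟩
  have hKn : (Subgroup.zpowers c).Normal := by
    constructor
    intro k hk g
    have h1 : g * k * g⁻¹ = k := by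
      obtain ⟨j, rfl⟩ := hk
      have h2 : Commute g c := hcc g
      rw [(h2.zpow_right j).eq, mul_inv_cancel_right]
    rw [h1]
    exact hk
  let π := QuotientGroup.mk' (Subgroup.zpowers c)
  have hπ : ∀ a b : G, π a = π b ↔ a⁻¹ * b ∈ Subgroup.zpowers c := fun a b => QuotientGroup.eq
  have hxy : π x * π y = π y * π x := by
    rw [← map_mul, ← map_mul, hπ]
    have h1 : y * x = x * (y * c) := by rw [← hrel]; group
    have h2 : (x * y)⁻¹ * (y * x) = c := by rw [h1]; group
    rw [h2]
    exact Subgroup.mem_zpowers c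
  have hxz' : π x * π z = π z * π x := by rw [← map_mul, ← map_mul, hxz]
  have hyz' : π y * π z = π z * π y := by rw [← map_mul, ← map_mul, hyz]
  have hX : ∀ u ∈ π '' ({x, y, z} : Set G), ∀ v ∈ π '' ({x, y, z} : Set G), u * v = v * u := by
    rintro _ ⟨a, ha, rfl⟩ _ ⟨b, hb, rfl⟩
    rcases ha with rfl | rfl | rfl <;> rcases hb with rfl | rfl | rfl
    · rfl
    · exact hxy
    · exact hxz'
    · exact hxy.symm
    · rfl
    · exact hyz'
    · exact hxz'.symm
    · exact hyz'.symm
    · rfl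
  have hgenQ : Subgroup.closure (π '' ({x, y, z} : Set G)) = ⊤ := by
    rw [← MonoidHom.map_closure, hgen]
    exact Subgroup.map_top_of_surjective π (QuotientGroup.mk'_surjective _)
  have h1 : Subgroup.closure (π '' ({x, y, z} : Set G)) ≤
      Subgroup.centralizer (π '' ({x, y, z} : Set G)) := by
    rw [Subgroup.closure_le]
    intro u hu
    rw [SetLike.mem_coe, Subgroup.mem_centralizer_iff]
    intro v hv
    exact hX v hv u hu
  have h2 : Subgroup.closure (π '' ({x, y, z} : Set G)) ≤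
      Subgroup.centralizer (Subgroup.closure (π '' ({x, y, z} : Set G)) : Set _) := by
    rw [Subgroup.closure_le]
    intro u hu
    rw [SetLike.mem_coe, Subgroup.mem_centralizer_iff]
    intro v hv
    exact (Subgroup.mem_centralizer_iff.1 (h1 hv) u hu).symm
  have hcomm : ∀ u v : G ⧸ Subgroup.zpowers c, u * v = v * u := by
    intro u v
    have hu : u ∈ Subgroup.closure (π '' ({x, y, z} : Set G)) := by rw [hgenQ]; trivial
    have hv : v ∈ Subgroup.closure (π '' ({x, y, z} : Set G)) := by rw [hgenQ]; trivial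
    exact (Subgroup.mem_centralizer_iff.1 (h2 hv) u hu)
  intro a b
  have h3 : π (a⁻¹ * b⁻¹ * a * b) = 1 := by
    rw [map_mul, map_mul, map_mul, map_inv, map_inv]
    rw [mul_assoc, hcomm (π a) (π b)]
    group
  exact (QuotientGroup.eq_one_iff _).1 h3

/-- **K-S5289-C** -/
theorem CData_not_isEssential {Ω : Type*} [Group Ω] {S : Subgroup Ω} [Finite S] {p n : ℕ} [Fact p.Prime]
    {x y z : Ω} (D : CData S p n x y z) (hp2 : p ≠ 2) (hS : IsPGroup p S) (F : FusionSystem S)
    (hF : F.IsSaturated p) (E : Subgroup Ω) : ¬ F.IsEssential p E := by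
  intro hE
  have _ := hp2
  have hn := D.hn
  set c : Ω := z ^ p ^ (n - 3) with hc
  -- facts in `↥S`
  let xs : S := ⟨x, D.hxS⟩
  let ys : S := ⟨y, D.hyS⟩
  let zs : S := ⟨z, D.hzS⟩
  let cs : S := zs ^ p ^ (n - 3)
  have hcs : (cs : Ω) = c := rfl
  have hgen : Subgroup.closure ({xs, ys, zs} : Set S) = ⊤ := by
    apply Subgroup.map_injective S.subtype_injective
    rw [MonoidHom.map_closure, ← MonoidHom.range_eq_map, Subgroup.range_subtype]
    have : (S.subtype '' ({xs, ys, zs} : Set S)) = ({x, y, z} : Set Ω) := by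
      simp [Set.image_insert_eq, xs, ys, zs]
    rw [this]
    exact D.gen
  obtain ⟨hzc, hcc, hcomm⟩ := comm_mod_central (x := xs) (y := ys) (z := zs) (c := cs) hgen
    (Subtype.ext D.xz) (Subtype.ext D.yz) (Subgroup.npow_mem_zpowers zs _)
    (Subtype.ext (by
      show x⁻¹ * y * x = y * (z ^ p ^ (n - 3))
      exact D.rel))
  -- facts in `Ω`
  have hzS : ∀ s ∈ S, s * z = z * s := fun s hs => congrArg Subtype.val (hzc ⟨s, hs⟩)
  have hcS : ∀ s ∈ S, s * c = c * s := fun s hs => congrArg Subtype.val (hcc ⟨s, hs⟩)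
  have hcp : c ^ p = 1 := by
    rw [hc, ← pow_mul, ← pow_succ]
    have : n - 3 + 1 = n - 2 := by omega
    rw [this]
    exact D.zp
  have hcommS : ∀ a ∈ S, ∀ b ∈ S, ∃ j : ℤ, a⁻¹ * b⁻¹ * a * b = c ^ j := by
    intro a ha b hb
    obtain ⟨j, hj⟩ := hcomm ⟨a, ha⟩ ⟨b, hb⟩
    refine ⟨j, ?_⟩
    have := congrArg Subtype.val hj
    simpa [hcs] using this.symm
  -- `p`-th powers are central
  have hpow : ∀ t ∈ S, ∀ u ∈ S, t * u ^ p * t⁻¹ = u ^ p := by
    intro t ht u hu
    obtain ⟨j, hj⟩ := hcommS u hu t⁻¹ (S.inv_mem ht)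
    rw [inv_inv] at hj
    have h1 : t * u * t⁻¹ = u * c ^ j := by
      rw [← hj]; group
    have h2 : Commute u (c ^ j) := (show Commute u c from hcS u hu).zpow_right j
    rw [← conj_pow, h1, h2.mul_pow, ← zpow_natCast (c ^ j) p, ← zpow_mul, mul_comm j, zpow_mul,
      zpow_natCast, hcp, one_zpow, mul_one]
  -- the essential subgroup
  have hES : E ≤ S := hE.1.1
  have hzE : z ∈ E := by
    apply Cfsg.Agent.Lib.Helper03.FusEss.centralizerIn_le_of_isEssential F hE
    refine Subgroup.mem_inf.2 ⟨D.hzS, ?_⟩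
    rw [Subgroup.mem_centralizer_iff]
    intro h hh
    exact hzS h (hES hh)
  have hne : E ≠ S := Cfsg.Agent.Lib.Helper91.ne_top_of_isEssential p F hF hE
  obtain ⟨t, htN, htE⟩ := Cfsg.Agent.Lib.Helper89.exists_mem_normalizerIn_not_mem hS hES hne
  have htS : t ∈ S := (Subgroup.mem_inf.1 htN).1
  have htn : t ∈ Subgroup.normalizer (E : Set Ω) := (Subgroup.mem_inf.1 htN).2
  -- the chain
  let KE : Subgroup E := Subgroup.closure {v : E | ∃ u : E, v = u ^ p}
  let K : Subgroup Ω := KE.map E.subtype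
  apply htE
  refine Cfsg.Agent.Lib.Helper03.FusEss.mem_of_stab_two hS F hE K ?_ htS htn ?_ ?_
  · -- invariance
    intro α _ y hy
    obtain ⟨y', hy', hyy'⟩ := hy
    have hy'' : y' = y := Subtype.ext hyy'
    rw [hy''] at hy'
    refine ⟨α y, ?_, rfl⟩
    have hle : KE ≤ KE.comap α.toMonoidHom := by
      rw [Subgroup.closure_le]
      rintro _ ⟨u, rfl⟩
      rw [SetLike.mem_coe, Subgroup.mem_comap]
      apply Subgroup.subset_closure
      exact ⟨α u, by simp⟩
    exact hle hy'
  · -- `t` centralizes `K`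
    rintro _ ⟨y', hy', rfl⟩ _
    have hP : ∀ v ∈ KE, t * ((v : E) : Ω) * t⁻¹ = (v : Ω) := by
      intro v hv
      induction hv using Subgroup.closure_induction with
      | mem v hv =>
        obtain ⟨u, rfl⟩ := hv
        have := hpow t htS (u : Ω) (hES u.2)
        simpa using this
      | one => simp
      | mul a b _ _ iha ihb =>
        have : t * ((a * b : E) : Ω) * t⁻¹ = (t * (a : Ω) * t⁻¹) * (t * (b : Ω) * t⁻¹) := by
          simp only [Subgroup.coe_mul]; group
        rw [this, iha, ihb]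
        rfl
      | inv a _ iha =>
        have : t * ((a⁻¹ : E) : Ω) * t⁻¹ = (t * (a : Ω) * t⁻¹)⁻¹ := by
          simp only [Subgroup.coe_inv]; group
        rw [this, iha]
        rfl
    exact hP y' hy'
  · -- `[E, t] ≤ K`
    intro u hu
    obtain ⟨j, hj⟩ := hcommS u (hES hu) t⁻¹ (S.inv_mem htS)
    rw [inv_inv] at hj
    have h1 : u⁻¹ * (t * u * t⁻¹) = c ^ j := by rw [← hj]; group
    rw [h1]
    apply Subgroup.zpow_mem
    -- `c = w ^ p`
    have hwE : z ^ p ^ (n - 4) ∈ E := E.pow_mem hzE _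
    refine ⟨(⟨z ^ p ^ (n - 4), hwE⟩ : E) ^ p, Subgroup.subset_closure ⟨_, rfl⟩, ?_⟩
    show (z ^ p ^ (n - 4)) ^ p = c
    rw [hc, ← pow_mul, ← pow_succ]
    congr 2
    omega

end Cfsg.Agent.Lib.Helper97.RkTwo
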