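import Mathlib
import Cfsg.Prelude.Def_Characters
import Cfsg.Agent.Lib.Helper84.Clifford
import Cfsg.Agent.Lib.Helper05.BrauerPerm

/-!
# K-S4751-C (helper97): Brauer's permutation lemma on an abelian normal subgroup
-/

set_option autoImplicit false

namespace Cfsg.Agent.Lib.Helper97.S4751

open Cfsg Cfsg.Agent.Lib.Helper84

universe u

/-- **K-S4751-C** (Brauer's permutation lemma on an abelian normal subgroup). -/
theorem card_fixed_irr_eq_card_fixed {G : Type u} [Group G] [Finite G] (N : Subgroup G) [N.Normal]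
    (hcomm : ∀ a b : N, a * b = b * a) (g : G) :
    Nat.card {θ : IrrCharacter N // Cfsg.Agent.Lib.Helper84.conjFun N g (θ : N → ℂ) = (θ : N → ℂ)} =
      Nat.card {x : N // g * (x : G) * g⁻¹ = (x : G)} := by
  classical
  let _i1 : Fintype N := Fintype.ofFinite _
  let _i2 : Fintype (IrrCharacter N) := Fintype.ofFinite _
  let f : N → N := fun n => (MulAut.conjNormal g : MulAut N) n
  have hf : ∀ n : N, ((f n : N) : G) = g * (n : G) * g⁻¹ := fun n => MulAut.conjNormal_apply g n
  have hconj : ∀ a b : N, IsConj a b ↔ a = b := by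
    intro a b
    constructor
    · rintro ⟨c, hc⟩
      have h1 : (c : N) * a = b * (c : N) := hc
      rw [hcomm b c] at h1
      exact mul_left_cancel h1
    · rintro rfl
      exact IsConj.refl a
  have h := Cfsg.Agent.Lib.Helper05.card_fixed_irr_eq_card_fixed_classes (G := N) f
    (by
      intro a b hab
      rw [hconj] at hab
      rw [hab])
    (by
      intro χ
      have h1 := isIrrCharacter_conjFun N g χ.2
      rwa [conjFun_eq_comp] at h1)
  have hL : Nat.card {θ : IrrCharacter N // conjFun N g (θ : N → ℂ) = (θ : N → ℂ)} =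
      Nat.card {χ : IrrCharacter N // (fun n => (χ : N → ℂ) (f n)) = (χ : N → ℂ)} := by
    apply Nat.card_congr
    apply Equiv.subtypeEquivRight
    intro θ
    rw [conjFun_eq_comp]
  rw [hL, h]
  symm
  apply Nat.card_congr
  refine Equiv.ofBijective (fun x => ⟨ConjClasses.mk x.1, ?_⟩) ⟨?_, ?_⟩
  · intro n hn
    have h1 : n = x.1 := (hconj n x.1).1 (ConjClasses.mk_eq_mk_iff_isConj.1 hn)
    have h2 : f n = n := by
      apply Subtype.ext
      rw [hf, h1]
      exact x.2
    rw [h2]
  · intro x y hxy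
    have h1 : ConjClasses.mk x.1 = ConjClasses.mk y.1 := congrArg Subtype.val hxy
    exact Subtype.ext ((hconj x.1 y.1).1 (ConjClasses.mk_eq_mk_iff_isConj.1 h1))
  · rintro ⟨C, hC⟩
    obtain ⟨n, rfl⟩ := ConjClasses.mk_surjective C
    have h1 : f n = n := (hconj _ _).1 (hC n rfl)
    refine ⟨⟨n, ?_⟩, rfl⟩
    rw [← hf, h1]

end Cfsg.Agent.Lib.Helper97.S4751
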