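import Mathlib

set_option autoImplicit false

namespace Cfsg.Agent.Lib.Helper97

open MulAction Pointwise

variable {G : Type*} [Group G]

lemma coatom_subgroupOf_elim {H M : Subgroup G} (h : IsCoatom (H.subgroupOf M)) :
    ¬ M ≤ H ∧ ∀ L : Subgroup G, H ≤ L → L ≤ M → L ≤ H ∨ M ≤ L := by
  refine ⟨fun hle => h.1 (Subgroup.subgroupOf_eq_top.mpr hle), ?_⟩
  intro L hHL hLM
  have h1 : H.subgroupOf M ≤ L.subgroupOf M := by
    intro x hx
    exact hHL hx
  rcases h.le_iff.mp h1 with h2 | h2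
  · right
    exact Subgroup.subgroupOf_eq_top.mp h2
  · left
    have h3 := Subgroup.subgroupOf_inj.mp h2
    intro x hx
    have : x ∈ L ⊓ M := ⟨hx, hLM hx⟩
    rw [h3] at this
    exact this.1

lemma coatom_subgroupOf_intro {H K : Subgroup G} (hHK : H ≤ K) (hne : ¬ K ≤ H)
    (h : ∀ L : Subgroup G, H ≤ L → L ≤ K → L ≤ H ∨ K ≤ L) : IsCoatom (H.subgroupOf K) := by
  refine ⟨fun htop => hne (Subgroup.subgroupOf_eq_top.mp htop), ?_⟩
  intro L' hlt
  let L : Subgroup G := L'.map K.subtype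
  have hLK : L ≤ K := by
    rintro _ ⟨x, _, rfl⟩
    exact x.2
  have hHL : H ≤ L := by
    intro x hx
    exact ⟨⟨x, hHK hx⟩, hlt.le (show (⟨x, hHK hx⟩ : K) ∈ H.subgroupOf K from hx), rfl⟩
  rcases h L hHL hLK with h1 | h1
  · exfalso
    apply hlt.not_ge
    intro x hx
    exact h1 ⟨x, hx, rfl⟩
  · rw [eq_top_iff]
    intro x _
    obtain ⟨y, hy, hxy⟩ := h1 x.2
    have : y = x := Subtype.ext hxy
    rwa [← this]


/-- If every primitive group of degree `n` contains the alternating group, then for a maximal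
subgroup `M` of index `n` every even permutation of the cosets is induced by a group element. -/
lemma lift_even_perm [Finite G] (n : ℕ)
    (hA : ∀ P : Subgroup (Equiv.Perm (Fin n)), MulAction.IsPreprimitive P (Fin n) →
      alternatingGroup (Fin n) ≤ P)
    (M : Subgroup G) [DecidableEq (G ⧸ M)] (hM : IsCoatom M) (hn : M.index = n) :
    ∀ σ : Equiv.Perm (G ⧸ M), (∃ a b c d : G ⧸ M, a ≠ b ∧ c ≠ d ∧ σ = Equiv.swap a b * Equiv.swap c d) →
      ∃ g : G, ∀ x : G ⧸ M, g • x = σ x := by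
  have hfin : Finite (G ⧸ M) := inferInstance
  have hcard : Nat.card (G ⧸ M) = n := by rw [← Subgroup.index_eq_card, hn]
  have hnt : Nontrivial (G ⧸ M) := by
    rw [← Finite.one_lt_card_iff_nontrivial, hcard, ← hn]
    have h1 : M.index ≠ 1 := fun h => hM.1 (Subgroup.index_eq_one.mp h)
    have h0 : M.index ≠ 0 := Subgroup.index_ne_zero_of_finite
    omega
  have hprim : IsPreprimitive G (G ⧸ M) := by
    rw [← isCoatom_stabilizer_iff_preprimitive G ((1 : G) : G ⧸ M), stabilizer_quotient]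
    exact hM
  let e : (G ⧸ M) ≃ Fin n := (Finite.equivFin (G ⧸ M)).trans (finCongr hcard)
  let ψ : G →* Equiv.Perm (Fin n) :=
    (e.permCongrHom.toMonoidHom).comp (MulAction.toPermHom G (G ⧸ M))
  have hψ : ∀ (g : G) (i : Fin n), ψ g i = e (g • e.symm i) := by
    intro g i
    rfl
  let P : Subgroup (Equiv.Perm (Fin n)) := ψ.range
  let φ : G → P := fun g => ⟨ψ g, ⟨g, rfl⟩⟩
  let f : (G ⧸ M) →ₑ[φ] Fin n :=
    { toFun := e
      map_smul' := by
        intro g x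
        show e (g • x) = ψ g (e x)
        rw [hψ, Equiv.symm_apply_apply] }
  have hP : IsPreprimitive P (Fin n) := IsPreprimitive.of_surjective (f := f) e.surjective
  have hAP := hA P hP
  rintro σ ⟨a, b, c, d, hab, hcd, rfl⟩
  have hsign : Equiv.Perm.sign (e.permCongr (Equiv.swap a b * Equiv.swap c d)) = 1 := by
    let _ : Fintype (G ⧸ M) := Fintype.ofFinite _
    rw [Equiv.Perm.sign_permCongr, map_mul, Equiv.Perm.sign_swap hab, Equiv.Perm.sign_swap hcd]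
    rfl
  have hmem : e.permCongr (Equiv.swap a b * Equiv.swap c d) ∈ P :=
    hAP (Equiv.Perm.mem_alternatingGroup.mpr hsign)
  obtain ⟨g, hg⟩ := hmem
  refine ⟨g, fun x => ?_⟩
  have h1 := congrArg (fun τ : Equiv.Perm (Fin n) => τ (e x)) hg
  simp only [hψ, Equiv.symm_apply_apply, Equiv.permCongr_apply] at h1
  exact e.injective h1


/-- second maximality for odd degrees with only alternating and symmetric primitive groups -/
theorem second_maximal_of_odd [Finite G] (n : ℕ) (hodd : Odd n)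
    (hA : ∀ P : Subgroup (Equiv.Perm (Fin n)), MulAction.IsPreprimitive P (Fin n) →
      alternatingGroup (Fin n) ≤ P)
    (M : Subgroup G) (hM : IsCoatom M) (hn : M.index = n) (H : Subgroup G) (hHM : H ≤ M)
    (hmax : IsCoatom (H.subgroupOf M)) (K : Subgroup G) (hK : IsCoatom K) (hHK : H ≤ K) :
    IsCoatom (H.subgroupOf K) := by
  classical
  obtain ⟨hMH, hmaxL⟩ := coatom_subgroupOf_elim hmax
  -- K is not contained in H
  have hKH : ¬ K ≤ H := by
    intro hle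
    have hKM : K ≤ M := hle.trans hHM
    have : K = M := by
      by_contra hne
      exact hM.1 (hK.2 M (lt_of_le_of_ne hKM hne))
    exact hMH (this ▸ hle)
  apply coatom_subgroupOf_intro hHK hKH
  intro L hHL hLK
  by_cases hKM : K = M
  · subst hKM
    exact hmaxL L hHL hLK
  -- K ⊓ M = H
  have hKMH : K ⊓ M ≤ H := by
    rcases hmaxL (K ⊓ M) (le_inf hHK hHM) inf_le_right with h1 | h1
    · exact h1
    · exfalso
      have hMK : M ≤ K := h1.trans inf_le_left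
      apply hKM
      by_contra hne
      exact hK.1 (hM.2 K (lt_of_le_of_ne hMK (Ne.symm hne)))
  by_contra hcon
  push Not at hcon
  obtain ⟨hLH, hKL⟩ := hcon
  -- L is not inside M
  have hLM : ¬ L ≤ M := fun h => hLH ((le_inf hLK h).trans hKMH)
  set α : G ⧸ M := ((1 : G) : G ⧸ M) with hα
  have hstab : ∀ g : G, g • α = α ↔ g ∈ M := by
    intro g
    rw [← mem_stabilizer_iff, stabilizer_quotient]
  let Δ : Set (G ⧸ M) := {x | ∃ l ∈ L, l • α = x}
  have hαΔ : α ∈ Δ := ⟨1, L.one_mem, one_smul _ _⟩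
  have hLΔ : ∀ l ∈ L, ∀ x ∈ Δ, l • x ∈ Δ := by
    rintro l hl _ ⟨l', hl', rfl⟩
    exact ⟨l * l', L.mul_mem hl hl', mul_smul _ _ _⟩
  have hblock : ∀ k ∈ K, (∃ x ∈ Δ, k • x ∈ Δ) → k ∈ L := by
    rintro k hk ⟨_, ⟨l₁, hl₁, rfl⟩, ⟨l₂, hl₂, h12⟩⟩
    have h1 : (l₂⁻¹ * k * l₁) • α = α := by
      rw [mul_smul, mul_smul, ← h12, inv_smul_smul]
    have h2 : l₂⁻¹ * k * l₁ ∈ M := (hstab _).mp h1
    have h3 : l₂⁻¹ * k * l₁ ∈ K :=
      K.mul_mem (K.mul_mem (K.inv_mem (hLK hl₂)) hk) (hLK hl₁)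
    have h4 : l₂⁻¹ * k * l₁ ∈ L := hHL (hKMH ⟨h3, h2⟩)
    have h5 : k = l₂ * (l₂⁻¹ * k * l₁) * l₁⁻¹ := by group
    rw [h5]
    exact L.mul_mem (L.mul_mem hl₂ h4) (L.inv_mem hl₁)
  obtain ⟨k, hkK, hkL⟩ := SetLike.not_le_iff_exists.mp hKL
  have hdisj : ∀ x ∈ Δ, k • x ∉ Δ := fun x hx hkx => hkL (hblock k hkK ⟨x, hx, hkx⟩)
  obtain ⟨l, hlL, hlM⟩ := SetLike.not_le_iff_exists.mp hLM
  have hlα : l • α ≠ α := fun h => hlM ((hstab l).mp h)
  have hlΔ : l • α ∈ Δ := ⟨l, hlL, rfl⟩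
  -- elements fixing α and mapping Δ into Δ lie in H
  have hΔfin : Δ.Finite := Set.toFinite Δ
  have hMΔ : ∀ g : G, g • α = α → (∀ x ∈ Δ, g • x ∈ Δ) → g ∈ H := by
    intro g hgα hgΔ
    have hmemS : ∀ g' : G, (∀ x ∈ Δ, g' • x ∈ Δ) → g' ∈ stabilizer G Δ := by
      intro g' hg'
      rw [mem_stabilizer_set_iff_smul_set_subset hΔfin]
      rintro _ ⟨x, hx, rfl⟩
      exact hg' x hx
    have hHS : H ≤ M ⊓ stabilizer G Δ := by
      intro h hh
      exact ⟨hHM hh, hmemS h (fun x hx => hLΔ h (hHL hh) x hx)⟩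
    have hT : M ⊓ stabilizer G Δ ≤ H := by
      rcases hmaxL (M ⊓ stabilizer G Δ) hHS inf_le_left with h1 | h1
      · exact h1
      · exfalso
        have hMS : M ≤ stabilizer G Δ := h1.trans inf_le_right
        have hLS : L ≤ stabilizer G Δ := by
          intro l' hl'
          exact hmemS l' (fun x hx => hLΔ l' hl' x hx)
        have htop : M ⊔ L = ⊤ := by
          by_contra hne
          have hlt : M < M ⊔ L := lt_of_le_of_ne le_sup_left (fun h => hLM (h ▸ le_sup_right))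
          exact hne (hM.2 _ hlt)
        have hk : k ∈ stabilizer G Δ := by
          have : (⊤ : Subgroup G) ≤ stabilizer G Δ := htop ▸ sup_le hMS hLS
          exact this (Subgroup.mem_top k)
        rw [mem_stabilizer_set_iff_smul_set_subset hΔfin] at hk
        exact hdisj α hαΔ (hk ⟨α, hαΔ, rfl⟩)
    exact hT ⟨(hstab g).mp hgα, hmemS g hgΔ⟩
  -- a point outside Δ ∪ kΔ
  have hz : ∃ z : G ⧸ M, z ∉ Δ ∧ ∀ x ∈ Δ, k • x ≠ z := by
    by_contra hno
    push Not at hno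
    let Δ' : Set (G ⧸ M) := (fun x => k • x) '' Δ
    have hcov : Δ ∪ Δ' = Set.univ := by
      rw [Set.eq_univ_iff_forall]
      intro z
      by_cases hzΔ : z ∈ Δ
      · exact Or.inl hzΔ
      · obtain ⟨x, hx, hxz⟩ := hno z hzΔ
        exact Or.inr ⟨x, hx, hxz⟩
    have hdis : Disjoint Δ Δ' := by
      rw [Set.disjoint_left]
      rintro _ hx ⟨y, hy, rfl⟩
      exact hdisj y hy hx
    have hc1 : (Δ ∪ Δ').ncard = Δ.ncard + Δ'.ncard :=
      Set.ncard_union_eq hdis hΔfin (Set.toFinite Δ')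
    have hc2 : Δ'.ncard = Δ.ncard :=
      Set.ncard_image_of_injective Δ (MulAction.injective k)
    have hc3 : (Set.univ : Set (G ⧸ M)).ncard = n := by
      rw [Set.ncard_univ, ← Subgroup.index_eq_card, hn]
    rw [hcov, hc3, hc2] at hc1
    obtain ⟨m, hm⟩ := hodd
    omega
  obtain ⟨z, hzΔ, hzΔ'⟩ := hz
  set x₀ : G ⧸ M := k • α with hx₀
  set y₀ : G ⧸ M := k • (l • α) with hy₀
  have hxy : x₀ ≠ y₀ := by
    intro h
    apply hlα
    have := MulAction.injective k h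
    exact this.symm
  have hyz : y₀ ≠ z := hzΔ' _ hlΔ
  have hxz : x₀ ≠ z := hzΔ' _ hαΔ
  have hx₀Δ : x₀ ∉ Δ := hdisj α hαΔ
  have hy₀Δ : y₀ ∉ Δ := hdisj _ hlΔ
  obtain ⟨g, hg⟩ := lift_even_perm n hA M hM hn (Equiv.swap x₀ y₀ * Equiv.swap y₀ z)
    ⟨x₀, y₀, y₀, z, hxy, hyz, rfl⟩
  have hgfix : ∀ x ∈ Δ, g • x = x := by
    intro x hx
    rw [hg, Equiv.Perm.mul_apply]
    have h1 : x ≠ x₀ := fun h => hx₀Δ (h ▸ hx)
    have h2 : x ≠ y₀ := fun h => hy₀Δ (h ▸ hx)
    have h3 : x ≠ z := fun h => hzΔ (h ▸ hx)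
    rw [Equiv.swap_apply_of_ne_of_ne h2 h3, Equiv.swap_apply_of_ne_of_ne h1 h2]
  have hgx : g • x₀ = y₀ := by
    rw [hg, Equiv.Perm.mul_apply, Equiv.swap_apply_of_ne_of_ne hxy hxz, Equiv.swap_apply_left]
  have hgy : g • y₀ = z := by
    rw [hg, Equiv.Perm.mul_apply, Equiv.swap_apply_left,
      Equiv.swap_apply_of_ne_of_ne hxz.symm hyz.symm]
  have hgH : g ∈ H := hMΔ g (hgfix α hαΔ) (fun x hx => (hgfix x hx).symm ▸ hx)
  have hgK : g ∈ K := hHK hgH
  have hconj : k⁻¹ * g * k ∈ L := by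
    apply hblock _ (K.mul_mem (K.mul_mem (K.inv_mem hkK) hgK) hkK)
    refine ⟨α, hαΔ, ?_⟩
    rw [mul_smul, mul_smul, ← hx₀, hgx, hy₀, inv_smul_smul]
    exact hlΔ
  have h1 := hLΔ _ hconj _ hlΔ
  rw [mul_smul, mul_smul, ← hy₀, hgy] at h1
  -- k⁻¹ • z ∈ Δ
  exact hzΔ' _ h1 (smul_inv_smul k z)

end Cfsg.Agent.Lib.Helper97
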