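import Mathlib
import Cfsg.Prelude.Def_GeometricClasses
import Cfsg.Agent.Lib.Helper36.SLMaxD2
import Cfsg.Agent.Lib.Helper63.SLMaxD3

/-!
# K-SpMax-D2 and K-SpMax-D3 (helper97): dimension arithmetic on `Fin m ⊕ Fin m → F`
-/

set_option autoImplicit false

namespace Cfsg.Agent.Lib.Helper97.SpMax

open Cfsg Cfsg.Geo
open scoped Matrix Kronecker MatrixGroups

variable {F : Type*} [Field F] [Fintype F] {m : ℕ}

theorem finrank_sum_fun : Module.finrank F (Fin m ⊕ Fin m → F) = 2 * m := by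
  rw [Module.finrank_fintype_fun_eq_card, Fintype.card_sum, Fintype.card_fin, two_mul]

/-- K-SpMax-D2. -/
theorem mul_eq_of_isMDecomposition {t k : ℕ} (D : Fin t → Submodule F (Fin m ⊕ Fin m → F))
    (hD : IsMDecomposition k D) : t * k = 2 * m := by
  have h := Cfsg.Agent.Lib.Helper36.SLMax.finrank_eq_sum_of_indep D hD.indep hD.iSup_eq_top
  rw [finrank_sum_fun] at h
  rw [h]
  simp [hD.finrank_eq]

/-- K-SpMax-D3. -/
theorem dvd_of_isFieldSubalgebra {r : ℕ} (K : Subalgebra F (Matrix (Fin m ⊕ Fin m) (Fin m ⊕ Fin m) F))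
    (hK : IsFieldSubalgebra r K) : r ∣ 2 * m := by
  rcases Nat.eq_zero_or_pos m with hn | hn
  · subst hn
    have hsub : Subsingleton K := ⟨fun a b => Subtype.ext (Subsingleton.elim _ _)⟩
    rw [← hK.finrank_eq, Module.finrank_zero_of_subsingleton]
  · have hne : Nonempty (Fin m ⊕ Fin m) := ⟨Sum.inl ⟨0, hn⟩⟩
    have hnt : Nontrivial K := ⟨⟨0, 1, fun h => zero_ne_one (congrArg Subtype.val h)⟩⟩
    have hfield : IsField K :=
      { exists_pair_ne := ⟨0, 1, zero_ne_one⟩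
        mul_comm := fun x y => Subtype.ext (hK.comm x x.2 y y.2)
        mul_inv_cancel := fun {a} ha => by
          obtain ⟨y, hy, hxy⟩ := hK.inv a a.2 (fun h => ha (Subtype.ext h))
          exact ⟨⟨y, hy⟩, Subtype.ext hxy⟩ }
    letI : Field K := hfield.toField
    have h1 := Cfsg.Agent.Lib.Helper63.SLMax.finrank_dvd_of_algHom (F := F) (L := K)
      (V := Fin m ⊕ Fin m → F)
      ((Matrix.toLinAlgEquiv' : Matrix (Fin m ⊕ Fin m) (Fin m ⊕ Fin m) F ≃ₐ[F]
        Module.End F (Fin m ⊕ Fin m → F)).toAlgHom.comp K.val)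
    rw [hK.finrank_eq, finrank_sum_fun] at h1
    exact h1

end Cfsg.Agent.Lib.Helper97.SpMax
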