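import Mathlib
import Cfsg.Agent.Lib.Helper49.StOpDefs

/-!
# K-StOp-C4 (254819): the longest element: some `w ∈ N` is monomial with permutation `rho m`

Self-contained (does not use the R0 leaves): the two kinds of simple reflections are shown to be
permutation matrices here, and everything else is done on the level of positions
(`pos : OI m → ℕ`, values in `[0, 2m)`).
-/

set_option autoImplicit false
set_option linter.unusedSectionVars false
set_option linter.unusedVariables false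
set_option linter.unusedSimpArgs false

namespace Cfsg.Agent.Lib.Helper97.StOp

open Cfsg Cfsg.Agent.Lib.Helper49.StOp Matrix

variable {m : ℕ} {F : Type*} [Field F]

/-! ### permutation matrices -/

theorem c4_exists_of_perm (σ : Equiv.Perm (OI m))
    (hQ : ∀ u : OI m → F, Cfsg.quadFormPlus m F (u ∘ σ) = Cfsg.quadFormPlus m F u) :
    ∃ g : OG m F, mat g = σ.permMatrix F := by
  refine exists_of_isometry (σ.permMatrix F) (σ⁻¹.permMatrix F) ?_ ?_ ?_
  · rw [← Matrix.permMatrix_mul, inv_mul_cancel, Matrix.permMatrix_one]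
  · rw [← Matrix.permMatrix_mul, mul_inv_cancel, Matrix.permMatrix_one]
  · intro u
    rw [Matrix.permMatrix_mulVec]
    exact hQ u

theorem c4_mat_sShort (i j : Fin m) : mat (sShort m F i j) = sShortMat m F i j := by
  refine mat_ofMat _ (c4_exists_of_perm (swapE m i j) ?_)
  intro u
  unfold Cfsg.quadFormPlus
  exact Equiv.sum_comp (Equiv.swap i j) (fun a => u (Sum.inl a) * u (Sum.inr a))

theorem c4_crossE_inl (i j : Fin m) (hij : i ≠ j) (a : Fin m) :
    crossE m i j (Sum.inl a) =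
      if a = i then Sum.inr j else if a = j then Sum.inr i else Sum.inl a := by
  unfold crossE
  rw [Equiv.Perm.mul_apply, Equiv.swap_apply_def, Equiv.swap_apply_def]
  simp only [eI, fI, Sum.inl.injEq, reduceCtorEq, if_false]
  by_cases h1 : a = i
  · subst h1
    simp [hij]
  · by_cases h2 : a = j
    · subst h2
      simp [h1, hij]
    · simp [h1, h2]

theorem c4_crossE_inr (i j : Fin m) (hij : i ≠ j) (a : Fin m) :
    crossE m i j (Sum.inr a) =
      if a = i then Sum.inl j else if a = j then Sum.inl i else Sum.inr a := by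
  unfold crossE
  rw [Equiv.Perm.mul_apply, Equiv.swap_apply_def, Equiv.swap_apply_def]
  simp only [eI, fI, Sum.inr.injEq, reduceCtorEq, if_false]
  by_cases h1 : a = i
  · subst h1
    simp [hij, Ne.symm hij]
  · by_cases h2 : a = j
    · subst h2
      simp [h1, hij]
    · simp [h1, h2]

theorem c4_mat_sCross (i j : Fin m) (hij : i ≠ j) :
    mat (sCross m F i j) = sCrossMat m F i j := by
  refine mat_ofMat _ (c4_exists_of_perm (crossE m i j) ?_)
  intro u
  unfold Cfsg.quadFormPlus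
  rw [← Equiv.sum_comp (Equiv.swap i j) (fun a => u (Sum.inl a) * u (Sum.inr a))]
  apply Finset.sum_congr rfl
  intro a _
  show u (crossE m i j (Sum.inl a)) * u (crossE m i j (Sum.inr a)) =
    u (Sum.inl (Equiv.swap i j a)) * u (Sum.inr (Equiv.swap i j a))
  rw [c4_crossE_inl i j hij, c4_crossE_inr i j hij]
  by_cases h1 : a = i
  · subst h1
    rw [if_pos rfl, if_pos rfl, Equiv.swap_apply_left, mul_comm]
  · by_cases h2 : a = j
    · subst h2
      rw [if_neg h1, if_neg h1, if_pos rfl, if_pos rfl, Equiv.swap_apply_right, mul_comm]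
    · rw [if_neg h1, if_neg h1, if_neg h2, if_neg h2, Equiv.swap_apply_of_ne_of_ne h1 h2]

/-! ### monomial elements, on the level of positions -/

/-- `g` is monomial: the nonzero entry of row `a` is in the column at position `t (pos a)` -/
def MonR (g : OG m F) (t : ℕ → ℕ) : Prop :=
  ∀ a b : OI m, mat g a b ≠ 0 ↔ pos m b = t (pos m a)

theorem c4_pos_surj (v : ℕ) (hv : v < 2 * m) : ∃ c : OI m, pos m c = v := by
  by_cases h : v < m
  · exact ⟨Sum.inl ⟨v, h⟩, rfl⟩
  · refine ⟨Sum.inr ⟨2 * m - 1 - v, by omega⟩, ?_⟩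
    show 2 * m - 1 - (2 * m - 1 - v) = v
    omega

theorem MonR.mul {g h : OG m F} {t t' : ℕ → ℕ} (hg : MonR g t) (hh : MonR h t')
    (hr : ∀ v, v < 2 * m → t v < 2 * m) : MonR (g * h) (t' ∘ t) := by
  intro a b
  rw [mat_mul, Matrix.mul_apply]
  obtain ⟨c0, hc0⟩ := c4_pos_surj (t (pos m a)) (hr _ (pos_lt m a))
  have hsum : ∑ c, mat g a c * mat h c b = mat g a c0 * mat h c0 b := by
    apply Finset.sum_eq_single c0
    · intro c _ hc
      have : mat g a c = 0 := by
        by_contra hne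
        apply hc
        apply pos_injective m
        rw [hc0]
        exact (hg a c).1 hne
      rw [this, zero_mul]
    · intro h
      exact absurd (Finset.mem_univ _) h
  rw [hsum]
  have h1 : mat g a c0 ≠ 0 := (hg a c0).2 hc0
  rw [mul_ne_zero_iff, and_iff_right h1, hh c0 b, hc0]
  rfl

theorem MonR.congr {g : OG m F} {t t' : ℕ → ℕ} (hg : MonR g t)
    (h : ∀ v, v < 2 * m → t v = t' v) : MonR g t' := by
  intro a b
  rw [hg a b, h _ (pos_lt m a)]

theorem monR_of_perm (g : OG m F) (σ : Equiv.Perm (OI m)) (hg : mat g = σ.permMatrix F)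
    (t : ℕ → ℕ) (ht : ∀ a, pos m (σ a) = t (pos m a)) : MonR g t := by
  intro a b
  have hent : (σ.permMatrix F) a b = if σ a = b then 1 else 0 := by
    unfold Equiv.Perm.permMatrix
    rw [PEquiv.toMatrix_apply, Equiv.toPEquiv_apply]
    simp [Option.mem_def]
  rw [hg, hent, ← ht a]
  by_cases h : σ a = b
  · rw [if_pos h]
    exact iff_of_true one_ne_zero (by rw [h])
  · rw [if_neg h]
    exact iff_of_false (fun hh => hh rfl) (fun hh => h (pos_injective m hh.symm))

variable (m F)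

/-- some product of simple reflections is monomial with position map `t` -/
def PR (t : ℕ → ℕ) : Prop := ∃ g ∈ Subgroup.closure (Sset m F), MonR g t

variable {m F}

theorem PR.mul {t t' : ℕ → ℕ} (h : PR m F t) (h' : PR m F t')
    (hr : ∀ v, v < 2 * m → t v < 2 * m) : PR m F (t' ∘ t) := by
  obtain ⟨g, hg, hgm⟩ := h
  obtain ⟨g', hg', hgm'⟩ := h'
  exact ⟨g * g', mul_mem hg hg', hgm.mul hgm' hr⟩

theorem PR.congr {t t' : ℕ → ℕ} (h : PR m F t) (he : ∀ v, v < 2 * m → t v = t' v) :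
    PR m F t' := by
  obtain ⟨g, hg, hgm⟩ := h
  exact ⟨g, hg, hgm.congr he⟩

/-- position map of `sShort i (i+1)` -/
def tauP (m i : ℕ) (v : ℕ) : ℕ :=
  if v = i then i + 1 else if v = i + 1 then i else
    if v = 2 * m - 1 - i then 2 * m - 2 - i else if v = 2 * m - 2 - i then 2 * m - 1 - i else v

/-- position map of `sCross (m-2) (m-1)` -/
def crossP (m : ℕ) (v : ℕ) : ℕ :=
  if v = m - 2 then m else if v = m then m - 2 else
    if v = m - 1 then m + 1 else if v = m + 1 then m - 1 else v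

theorem c4_pos_inl (a : Fin m) : pos m (Sum.inl a) = a.val := rfl

theorem c4_pos_inr (a : Fin m) : pos m (Sum.inr a) = 2 * m - 1 - a.val := rfl

theorem PR_tau (i : ℕ) (hi : i + 1 < m) : PR m F (tauP m i) := by
  refine ⟨sShort m F ⟨i, by omega⟩ (nxt ⟨i, by omega⟩ hi),
    Subgroup.subset_closure (Or.inl ⟨⟨i, by omega⟩, hi, rfl⟩), ?_⟩
  apply monR_of_perm _ (swapE m ⟨i, by omega⟩ (nxt ⟨i, by omega⟩ hi)) (c4_mat_sShort _ _)
  intro a
  rcases a with a | a
  · show (Equiv.swap (⟨i, by omega⟩ : Fin m) (nxt ⟨i, by omega⟩ hi) a).val = tauP m i a.val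
    rw [Equiv.swap_apply_def, apply_ite Fin.val, apply_ite Fin.val]
    unfold tauP
    have ha := a.2
    simp only [Fin.ext_iff, nxt]
    split_ifs <;> omega
  · show 2 * m - 1 - (Equiv.swap (⟨i, by omega⟩ : Fin m) (nxt ⟨i, by omega⟩ hi) a).val =
      tauP m i (2 * m - 1 - a.val)
    rw [Equiv.swap_apply_def, apply_ite Fin.val, apply_ite Fin.val]
    unfold tauP
    have ha := a.2
    simp only [Fin.ext_iff, nxt]
    split_ifs <;> omega

theorem PR_cross (hm : 2 ≤ m) : PR m F (crossP m) := by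
  refine ⟨sCross m F (prevF hm) (lastF (by omega)),
    Subgroup.subset_closure (Or.inr ⟨hm, rfl⟩), ?_⟩
  apply monR_of_perm _ (crossE m (prevF hm) (lastF (by omega)))
    (c4_mat_sCross _ _ (prevF_ne_lastF hm))
  intro a
  rcases a with a | a
  · rw [c4_crossE_inl _ _ (prevF_ne_lastF hm), apply_ite (pos m), apply_ite (pos m)]
    have ha := a.2
    simp only [c4_pos_inl, c4_pos_inr, Fin.ext_iff, prevF, lastF]
    split_ifs <;> (unfold crossP; split_ifs <;> omega)
  · rw [c4_crossE_inr _ _ (prevF_ne_lastF hm), apply_ite (pos m), apply_ite (pos m)]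
    have ha := a.2
    simp only [c4_pos_inl, c4_pos_inr, Fin.ext_iff, prevF, lastF]
    split_ifs <;> (unfold crossP; split_ifs <;> omega)

/-- position map of `c_j`: flip the pairs `j` and `m - 1` -/
def cP (m j : ℕ) (v : ℕ) : ℕ :=
  if v = j then 2 * m - 1 - j else if v = 2 * m - 1 - j then j else
    if v = m - 1 then m else if v = m then m - 1 else v

/-- position map of `c_j c_{j+1} ⋯ c_{m-2}` -/
def wP (m j : ℕ) (v : ℕ) : ℕ :=
  if (j ≤ v ∧ v + 2 ≤ m) ∨ (m + 1 ≤ v ∧ v + j + 1 ≤ 2 * m) then 2 * m - 1 - v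
  else if (v = m - 1 ∨ v = m) ∧ (m - 1 - j) % 2 = 1 then 2 * m - 1 - v else v

theorem tauP_lt (i : ℕ) (hi : i + 1 < m) (v : ℕ) (hv : v < 2 * m) : tauP m i v < 2 * m := by
  unfold tauP
  split_ifs <;> omega

theorem crossP_lt (hm : 2 ≤ m) (v : ℕ) (hv : v < 2 * m) : crossP m v < 2 * m := by
  unfold crossP
  split_ifs <;> omega

theorem cP_lt (j : ℕ) (hj : j + 1 < m) (v : ℕ) (hv : v < 2 * m) : cP m j v < 2 * m := by
  unfold cP
  split_ifs <;> omega

theorem wP_lt (j : ℕ) (v : ℕ) (hv : v < 2 * m) : wP m j v < 2 * m := by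
  unfold wP
  split_ifs <;> omega

theorem tauP_cases (m i v : ℕ) :
    (v = i ∧ tauP m i v = i + 1) ∨ (v ≠ i ∧ v = i + 1 ∧ tauP m i v = i) ∨
    (v ≠ i ∧ v ≠ i + 1 ∧ v = 2 * m - 1 - i ∧ tauP m i v = 2 * m - 2 - i) ∨
    (v ≠ i ∧ v ≠ i + 1 ∧ v ≠ 2 * m - 1 - i ∧ v = 2 * m - 2 - i ∧ tauP m i v = 2 * m - 1 - i) ∨
    (v ≠ i ∧ v ≠ i + 1 ∧ v ≠ 2 * m - 1 - i ∧ v ≠ 2 * m - 2 - i ∧ tauP m i v = v) := by
  unfold tauP
  split_ifs <;> simp_all

theorem crossP_cases (m v : ℕ) :
    (v = m - 2 ∧ crossP m v = m) ∨ (v ≠ m - 2 ∧ v = m ∧ crossP m v = m - 2) ∨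
    (v ≠ m - 2 ∧ v ≠ m ∧ v = m - 1 ∧ crossP m v = m + 1) ∨
    (v ≠ m - 2 ∧ v ≠ m ∧ v ≠ m - 1 ∧ v = m + 1 ∧ crossP m v = m - 1) ∨
    (v ≠ m - 2 ∧ v ≠ m ∧ v ≠ m - 1 ∧ v ≠ m + 1 ∧ crossP m v = v) := by
  unfold crossP
  split_ifs <;> simp_all

theorem cP_cases (m j v : ℕ) :
    (v = j ∧ cP m j v = 2 * m - 1 - j) ∨ (v ≠ j ∧ v = 2 * m - 1 - j ∧ cP m j v = j) ∨
    (v ≠ j ∧ v ≠ 2 * m - 1 - j ∧ v = m - 1 ∧ cP m j v = m) ∨
    (v ≠ j ∧ v ≠ 2 * m - 1 - j ∧ v ≠ m - 1 ∧ v = m ∧ cP m j v = m - 1) ∨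
    (v ≠ j ∧ v ≠ 2 * m - 1 - j ∧ v ≠ m - 1 ∧ v ≠ m ∧ cP m j v = v) := by
  unfold cP
  split_ifs <;> simp_all

theorem wP_cases (m j v : ℕ) :
    (((j ≤ v ∧ v + 2 ≤ m) ∨ (m + 1 ≤ v ∧ v + j + 1 ≤ 2 * m)) ∧ wP m j v = 2 * m - 1 - v) ∨
    (¬ ((j ≤ v ∧ v + 2 ≤ m) ∨ (m + 1 ≤ v ∧ v + j + 1 ≤ 2 * m)) ∧
      ((v = m - 1 ∨ v = m) ∧ (m - 1 - j) % 2 = 1) ∧ wP m j v = 2 * m - 1 - v) ∨
    (¬ ((j ≤ v ∧ v + 2 ≤ m) ∨ (m + 1 ≤ v ∧ v + j + 1 ≤ 2 * m)) ∧
      ¬ ((v = m - 1 ∨ v = m) ∧ (m - 1 - j) % 2 = 1) ∧ wP m j v = v) := by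
  unfold wP
  split_ifs with h1 h2
  · exact Or.inl ⟨h1, rfl⟩
  · exact Or.inr (Or.inl ⟨h1, h2, rfl⟩)
  · exact Or.inr (Or.inr ⟨h1, h2, rfl⟩)

theorem PR_cP (hm : 2 ≤ m) : ∀ d j : ℕ, j + d + 2 = m → PR m F (cP m j) := by
  intro d
  induction d with
  | zero =>
    intro j hj
    have h1 := PR_tau (F := F) j (by omega : j + 1 < m)
    have h2 := PR_cross (F := F) hm
    apply (h1.mul h2 (tauP_lt j (by omega))).congr
    intro v hv
    show crossP m (tauP m j v) = cP m j v
    rcases tauP_cases m j v with e1 | e1 | e1 | e1 | e1 <;>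
    rcases crossP_cases m (tauP m j v) with e2 | e2 | e2 | e2 | e2 <;>
    (try (exfalso; omega)) <;>
    rcases cP_cases m j v with e4 | e4 | e4 | e4 | e4 <;>
    omega
  | succ d ih =>
    intro j hj
    have hj1 : j + 1 < m := by omega
    have h1 := ih (j + 1) (by omega)
    have h2 := PR_tau (F := F) j hj1
    have h3 := (h2.mul h1 (tauP_lt j hj1)).mul h2
      (fun v hv => cP_lt (j + 1) (by omega) _ (tauP_lt j hj1 v hv))
    apply h3.congr
    intro v hv
    show tauP m j (cP m (j + 1) (tauP m j v)) = cP m j v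
    rcases tauP_cases m j v with e1 | e1 | e1 | e1 | e1 <;>
    rcases cP_cases m (j + 1) (tauP m j v) with e2 | e2 | e2 | e2 | e2 <;>
    (try (exfalso; omega)) <;>
    rcases tauP_cases m j (cP m (j + 1) (tauP m j v)) with e3 | e3 | e3 | e3 | e3 <;>
    (try (exfalso; omega)) <;>
    rcases cP_cases m j v with e4 | e4 | e4 | e4 | e4 <;>
    omega

theorem PR_wP (hm : 2 ≤ m) : ∀ d j : ℕ, j + d + 2 = m → PR m F (wP m j) := by
  intro d
  induction d with
  | zero =>
    intro j hj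
    apply (PR_cP hm 0 j hj).congr
    intro v hv
    rcases cP_cases m j v with e1 | e1 | e1 | e1 | e1 <;>
    rcases wP_cases m j v with e2 | e2 | e2 <;>
    omega
  | succ d ih =>
    intro j hj
    have h1 := ih (j + 1) (by omega)
    have h2 := PR_cP (F := F) hm (d + 1) j hj
    apply (h2.mul h1 (cP_lt j (by omega))).congr
    intro v hv
    show wP m (j + 1) (cP m j v) = wP m j v
    rcases cP_cases m j v with e1 | e1 | e1 | e1 | e1 <;>
    rcases wP_cases m (j + 1) (cP m j v) with e2 | e2 | e2 <;>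
    (try (exfalso; omega)) <;>
    rcases wP_cases m j v with e3 | e3 | e3 <;>
    omega

theorem rho_dualE (a : OI m) : rho m (dualE m a) = dualE m (rho m a) := by
  apply pos_injective m
  have hlt := pos_lt m a
  rw [rho_apply, rho_apply, pos_rhoFun, pos_dualE, pos_dualE, pos_rhoFun]
  split_ifs <;> omega

theorem monWith_one_of_lt (hm : m < 2) : MonWith m F (1 : OG m F) (rho m) := by
  have hrho : ∀ a : OI m, rho m a = a := by
    intro a
    apply pos_injective m
    have hlt := pos_lt m a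
    rw [rho_apply, pos_rhoFun]
    split_ifs <;> omega
  refine ⟨?_, rho_dualE⟩
  intro a b
  rw [mat_one, hrho b]
  by_cases h : a = b
  · rw [h, Matrix.one_apply_eq]
    exact iff_of_true one_ne_zero rfl
  · rw [Matrix.one_apply_ne h]
    exact iff_of_false (fun hh => hh rfl) h

/-- **LEAF C4 (254819).** -/
theorem exists_w0 : ∃ w ∈ Nsub m F, MonWith m F w (rho m) := by
  by_cases hm : m < 2
  · exact ⟨1, one_mem _, monWith_one_of_lt hm⟩
  · have hm2 : 2 ≤ m := by omega
    obtain ⟨w, hw, hwm⟩ := PR_wP (F := F) hm2 (m - 2) 0 (by omega)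
    refine ⟨w, (le_sup_left : Subgroup.closure (Sset m F) ≤ Nsub m F) hw, ?_, rho_dualE⟩
    intro a b
    rw [hwm a b]
    have h1 : a = rho m b ↔ pos m b = pos m (rho m a) := by
      constructor
      · intro h
        rw [h, rho_apply, rho_apply, rhoFun_rhoFun]
      · intro h
        have h2 : b = rho m a := pos_injective m h
        rw [h2, rho_apply, rho_apply, rhoFun_rhoFun]
    rw [h1, rho_apply, pos_rhoFun]
    have hlt := pos_lt m a
    unfold wP
    split_ifs <;> omega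

end Cfsg.Agent.Lib.Helper97.StOp
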