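import Mathlib
import Cfsg.Prelude.Def_Transfer
import Cfsg.Agent.Lib.Helper40.T1904Defs
import Cfsg.Agent.Lib.Helper06.NormalFour

/-!
# K-S1904-1: `SCN_3(X) = ∅` gives the rank condition on normal abelian subgroups
-/

set_option autoImplicit false

namespace Cfsg.Agent.Lib.Helper97.T1904

open Cfsg.Agent.Lib.Helper40.T1904

universe u_1

variable {X : Type u_1} [Group X]

/-- **K1** -/
theorem ctx_of_hyp [Finite X] (hX : IsPGroup 2 X)
    (hscn : ¬ ∃ A : Subgroup X, A.Normal ∧ Subgroup.centralizer (A : Set X) = A ∧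
      ∃ E : Subgroup X, E ≤ A ∧ Cfsg.IsElementaryAbelian 2 E ∧ Nat.card E = 8)
    (A : Subgroup (MulAut X)) (hA : Odd (Nat.card A))
    (hXA : Subgroup.closure {g : X | ∃ φ ∈ A, ∃ x : X, g = x⁻¹ * φ x} = ⊤) : Ctx X A := by
  refine ⟨hX, hA, hXA, ?_⟩
  intro N hNn hNab
  by_contra hgt
  push Not at hgt
  apply hscn
  have : Fact (Nat.Prime 2) := ⟨Nat.prime_two⟩
  -- E₀ = Ω₁(N)
  let E₀ : Subgroup X :=
    { carrier := {t | t ∈ N ∧ t * t = 1}
      one_mem' := ⟨N.one_mem, by simp⟩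
      mul_mem' := by
        rintro s t ⟨hs, hs2⟩ ⟨ht, ht2⟩
        refine ⟨N.mul_mem hs ht, ?_⟩
        have hc : t * s = s * t := hNab t ht s hs
        calc s * t * (s * t) = s * (t * s) * t := by group
          _ = s * (s * t) * t := by rw [hc]
          _ = (s * s) * (t * t) := by group
          _ = 1 := by rw [hs2, ht2, one_mul]
      inv_mem' := by
        rintro s ⟨hs, hs2⟩
        refine ⟨N.inv_mem hs, ?_⟩
        have : s⁻¹ = s := inv_eq_of_mul_eq_one_left hs2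
        rw [this, hs2] }
  have hE₀N : E₀ ≤ N := fun t ht => ht.1
  have hcard : 4 < Nat.card E₀ := hgt
  have hE₀p : IsPGroup 2 E₀ := hX.to_subgroup E₀
  have h8 : 2 ^ 3 ≤ Nat.card E₀ := by
    obtain ⟨k, hk⟩ := hE₀p.exists_card_eq
    rw [hk] at hcard ⊢
    have : 3 ≤ k := by
      by_contra hlt
      push Not at hlt
      have : 2 ^ k ≤ 2 ^ 2 := Nat.pow_le_pow_right (by norm_num) (by omega)
      omega
    exact Nat.pow_le_pow_right (by norm_num) this
  obtain ⟨K, hK⟩ := Sylow.exists_subgroup_card_pow_prime_of_le_card Nat.prime_two hE₀p h8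
  -- E = image of K in X
  set E : Subgroup X := K.map E₀.subtype with hE
  have hEE₀ : E ≤ E₀ := Subgroup.map_subtype_le K
  have hEcard : Nat.card E = 8 := by
    rw [hE, Subgroup.card_map_of_injective E₀.subtype_injective, hK]; norm_num
  have hEea : Cfsg.IsElementaryAbelian 2 E := by
    refine ⟨⟨⟨?_⟩⟩, ?_⟩
    · rintro ⟨a, ha⟩ ⟨b, hb⟩
      exact Subtype.ext (hNab a (hE₀N (hEE₀ ha)) b (hE₀N (hEE₀ hb)))
    · intro a ha
      rw [pow_two]
      exact (hEE₀ ha).2
  -- M maximal normal abelian above N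
  have hNc : IsMulCommutative N := ⟨⟨fun a b => Subtype.ext (hNab a a.2 b b.2)⟩⟩
  obtain ⟨M, hNM, hMmax⟩ := Finite.exists_le_maximal
    (p := fun B : Subgroup X => B.Normal ∧ IsMulCommutative B ∧ N ≤ B) (a := N) ⟨hNn, hNc, le_rfl⟩
  obtain ⟨hMn, hMc, hNM'⟩ := hMmax.prop
  have hcen : Subgroup.centralizer (M : Set X) ≤ M :=
    Cfsg.Agent.Lib.Helper06.centralizer_le_of_max_normal_abelian hX M hMn hMc
      (fun B hBn hBc hMB => (le_antisymm hMB (hMmax.le_of_ge ⟨hBn, hBc, hNM'.trans hMB⟩ hMB)).symm)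
  have hMcen : M ≤ Subgroup.centralizer (M : Set X) := by
    intro m hm
    rw [Subgroup.mem_centralizer_iff]
    intro x hx
    have := hMc.is_comm.comm ⟨x, hx⟩ ⟨m, hm⟩
    exact congrArg Subtype.val this
  exact ⟨M, hMn, le_antisymm hcen hMcen, E, (hEE₀.trans hE₀N).trans hNM', hEea, hEcard⟩

end Cfsg.Agent.Lib.Helper97.T1904
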